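import Mathlib

/-!
# Type `L₃(4)`: the 2-local frame of a pair `(a, L)` (UGT #14882, #14883)

`T ∈ Syl₂(C(a))`, `P = T ∩ L`, `Q = C_T(L / O(L))`, `Z = Z(P)`, `A i` the two elementary abelian subgroups of
order 16 of `P`, `b` the involution of `Z` centralised by `T`.

* `Heis P Z A`: `P` is the Heisenberg group over the field with four elements.
* `Fr T P Q Z A b`: the frame: facts on `P ≤ T / Q ≤ P⟨x, f⟩`.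

Types of `y ∈ T`: `y` centralises `Z` or not, `y` fixes `A false`, `A true` or swaps them.
`x` (polarity): swaps, not central on `Z`; `f` (field): fixes, not central; `g` (graph): swaps, central; otherwise
inner, `y ∈ P Q`.
-/

set_option autoImplicit false

namespace Cfsg.Agent.UGT.L34T2

variable {G : Type*} [Group G]

/-- The Heisenberg group over the field with four elements. -/
structure Heis (P Z : Subgroup G) (A : Bool → Subgroup G) : Prop where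
  cardP : Nat.card P = 64
  cardZ : Nat.card Z = 4
  cardA : ∀ i, Nat.card (A i) = 16
  ZA : ∀ i, Z ≤ A i
  AP : ∀ i, A i ≤ P
  Asq : ∀ i, ∀ u ∈ A i, u * u = 1
  Zcen : ∀ z ∈ Z, ∀ p ∈ P, p * z = z * p
  /-- every involution of `P` is in `A false` or `A true` -/
  inv : ∀ p ∈ P, p * p = 1 → ∃ i, p ∈ A i
  /-- `A false ∩ A true = Z` -/
  inf : ∀ p, p ∈ A false → p ∈ A true → p ∈ Z
  /-- `P = (A false)(A true)` -/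
  sup : ∀ p ∈ P, ∃ u ∈ A false, ∃ v ∈ A true, p = u * v
  com : ∀ p ∈ P, ∀ r ∈ P, p * r * p⁻¹ * r⁻¹ ∈ Z
  sq : ∀ p ∈ P, p * p ∈ Z
  /-- `[p, P] = Z` for `p ∈ P - Z` -/
  surj : ∀ p ∈ P, p ∉ Z → ∀ z ∈ Z, ∃ r ∈ P, p * r * p⁻¹ * r⁻¹ = z
  /-- `C_P(u) = A i` for `u ∈ A i - Z` -/
  cen : ∀ i, ∀ u ∈ A i, u ∉ Z → ∀ p ∈ P, p * u = u * p → p ∈ A i

/-- The 2-local frame. -/
structure Fr (T P Q Z : Subgroup G) (A : Bool → Subgroup G) (b : G) : Prop extends Heis P Z A where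
  two : IsPGroup 2 T
  PT : P ≤ T
  QT : Q ≤ T
  nP : ∀ y ∈ T, ∀ p ∈ P, y * p * y⁻¹ ∈ P
  nQ : ∀ y ∈ T, ∀ q ∈ Q, y * q * y⁻¹ ∈ Q
  disj : ∀ g ∈ P, g ∈ Q → g = 1
  comm : ∀ p ∈ P, ∀ q ∈ Q, p * q = q * p
  bZ : b ∈ Z
  b1 : b ≠ 1
  bT : ∀ y ∈ T, y * b = b * y
  /-- `C_T(P) = Z Q` -/
  cenP : ∀ y ∈ T, (∀ p ∈ P, y * p = p * y) → ∃ z ∈ Z, ∃ q ∈ Q, y = z * q
  /-- `y` fixes or swaps `A false`, `A true` -/
  actA : ∀ y ∈ T, (∀ i, ∀ u ∈ A i, y * u * y⁻¹ ∈ A i) ∨ (∀ i, ∀ u ∈ A i, y * u * y⁻¹ ∈ A (!i))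
  /-- `y` centralises `Z`, or `C_Z(y) = {1, b}` -/
  actZ : ∀ y ∈ T, (∀ z ∈ Z, y * z = z * y) ∨ (∀ z ∈ Z, y * z = z * y → z = 1 ∨ z = b)
  /-- inner elements -/
  inner : ∀ y ∈ T, (∀ i, ∀ u ∈ A i, y * u * y⁻¹ ∈ A i) → (∀ z ∈ Z, y * z = z * y) →
    ∃ p ∈ P, ∃ q ∈ Q, y = p * q
  /-- outer elements act nontrivially on `P / Z` -/
  outer : ∀ y ∈ T, (∀ p ∈ P, y * p * y⁻¹ * p⁻¹ ∈ Z) → ∃ p ∈ P, ∃ q ∈ Q, y = p * q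
  /-- every outer coset `y P` contains an involution modulo `Q` -/
  inv2 : ∀ y ∈ T, (¬ ∃ p ∈ P, ∃ q ∈ Q, y = p * q) → ∃ p ∈ P, (y * p) * (y * p) ∈ Q
  /-- the involutions modulo `Q` of an outer coset `y P` are conjugate under `P` -/
  conj : ∀ y ∈ T, (¬ ∃ p ∈ P, ∃ q ∈ Q, y = p * q) → y * y ∈ Q → ∀ p ∈ P, y⁻¹ * p * y * p = 1 →
    ∃ r ∈ P, r * y * r⁻¹ = y * p
  /-- type `x` or `f`: `|C_P(y)| = 8` -/
  card8 : ∀ y ∈ T, y * y ∈ Q → (¬ ∀ z ∈ Z, y * z = z * y) →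
    Nat.card {p : G // p ∈ P ∧ y * p = p * y} = 8
  /-- type `x` or `f`: `b ∈ C_P(y)'` -/
  der : ∀ y ∈ T, y * y ∈ Q → (¬ ∀ z ∈ Z, y * z = z * y) →
    ∃ c ∈ P, ∃ d ∈ P, y * c = c * y ∧ y * d = d * y ∧ c * d * c⁻¹ * d⁻¹ = b
  /-- type `x`: `b` is the only involution of `C_P(y) = Q₈` -/
  xQ8 : ∀ y ∈ T, y * y ∈ Q → (¬ ∀ z ∈ Z, y * z = z * y) → (∀ i, ∀ u ∈ A i, y * u * y⁻¹ ∈ A (!i)) →
    ∀ p ∈ P, y * p = p * y → p * p = 1 → p = 1 ∨ p = b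
  /-- type `f`: there is a second involution in `C_P(y) = D₈` -/
  fD8 : ∀ y ∈ T, y * y ∈ Q → (¬ ∀ z ∈ Z, y * z = z * y) → (∀ i, ∀ u ∈ A i, y * u * y⁻¹ ∈ A i) →
    ∃ p ∈ P, y * p = p * y ∧ p * p = 1 ∧ p ≠ 1 ∧ p ≠ b
  /-- type `g`: `C_P(y) = Z` -/
  gZ : ∀ y ∈ T, (¬ ∃ p ∈ P, ∃ q ∈ Q, y = p * q) → (∀ z ∈ Z, y * z = z * y) → y * y ∈ Q →
    ∀ p ∈ P, y * p = p * y → p ∈ Z
  /-- an element `w` of type `x`, an involution modulo `Q`, commutes modulo `Q` with an involution modulo `Q` in every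
  outer coset `y P` -/
  comx : ∀ w ∈ T, w * w ∈ Q → (¬ ∀ z ∈ Z, w * z = z * w) → (∀ i, ∀ u ∈ A i, w * u * w⁻¹ ∈ A (!i)) →
    ∀ y ∈ T, (¬ ∃ p ∈ P, ∃ q ∈ Q, y = p * q) →
      ∃ p ∈ P, (y * p) * (y * p) ∈ Q ∧ (y * p) * w * (y * p)⁻¹ * w⁻¹ ∈ Q

end Cfsg.Agent.UGT.L34T2
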