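import Cfsg.Agent.UGT.L34T2.FrE
import Cfsg.Agent.UGT.L34.Sylow
import Cfsg.Agent.UGT.L34T2.Fr

/-!
# `Fr` from `Mod`

`ψ : T → E` with `P ≅ U` and `[P, ker ψ] = 1`: the frame `Fr`.
-/

set_option autoImplicit false

open Subgroup

namespace Cfsg.Agent.UGT.L34T2.FrMod

open Cfsg.Agent.UGT.L34 Cfsg.Agent.SporadicA.FieldFour
open FrE

variable {G : Type*} [Group G] {T : Subgroup G} {ψ : ↥T →* E} {P : Subgroup ↥T}

/-- the preimage in `P` -/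
def up (ψ : ↥T →* E) (P : Subgroup ↥T) (V : Subgroup E) : Subgroup G :=
  (V.comap ψ ⊓ P).map T.subtype

theorem mem_up {V : Subgroup E} {g : G} : g ∈ up ψ P V ↔ ∃ p : ↥T, ψ p ∈ V ∧ p ∈ P ∧ (p : G) = g := by
  constructor
  · rintro ⟨p, ⟨h1, h2⟩, h3⟩
    exact ⟨p, h1, h2, h3⟩
  · rintro ⟨p, h1, h2, h3⟩
    exact ⟨p, ⟨h1, h2⟩, h3⟩

theorem mem_up_coe {V : Subgroup E} {p : ↥T} : (p : G) ∈ up ψ P V ↔ ψ p ∈ V ∧ p ∈ P := by
  rw [mem_up]
  constructor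
  · rintro ⟨q, h1, h2, h3⟩
    rw [← Subtype.ext h3]
    exact ⟨h1, h2⟩
  · rintro ⟨h1, h2⟩
    exact ⟨p, h1, h2, rfl⟩

theorem up_mono {V W : Subgroup E} (h : V ≤ W) : up ψ P V ≤ up ψ P W := by
  intro g hg
  obtain ⟨p, h1, h2, rfl⟩ := mem_up.mp hg
  exact mem_up_coe.mpr ⟨h h1, h2⟩

theorem up_U (M : Mod ψ P) : up ψ P U = P.map T.subtype := by
  ext g
  rw [mem_up]
  constructor
  · rintro ⟨p, -, h2, rfl⟩
    exact ⟨p, h2, rfl⟩
  · rintro ⟨p, h2, rfl⟩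
    exact ⟨p, M.mem p h2, h2, rfl⟩

theorem card_up [Finite G] (M : Mod ψ P) {V : Subgroup E} (hV : V ≤ U) :
    Nat.card (up ψ P V) = Nat.card V := by
  unfold up
  rw [card_map_of_injective T.subtype_injective, card_eq_inf_mul_map ψ]
  have h1 : V.comap ψ ⊓ P ⊓ ψ.ker = ⊥ := by
    rw [eq_bot_iff]
    rintro p ⟨⟨-, h2⟩, h3⟩
    exact M.inj p h2 h3
  have h2 : (V.comap ψ ⊓ P).map ψ = V := by
    ext v
    constructor
    · rintro ⟨p, ⟨h1, -⟩, rfl⟩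
      exact h1
    · intro hv
      obtain ⟨p, hp, rfl⟩ := M.surj v (hV hv)
      exact ⟨p, ⟨hv, hp⟩, rfl⟩
  rw [h1, h2, card_bot, one_mul]

/-- commuting in `P` -/
theorem comm_iff (M : Mod ψ P) {y p : ↥T} (hp : p ∈ P) : y * p = p * y ↔ ψ y * ψ p = ψ p * ψ y := by
  constructor
  · intro h
    rw [← map_mul, h, map_mul]
  · intro h
    have h1 : y * p * y⁻¹ = p := by
      apply M.ext (M.norm y p hp) hp
      rw [map_mul, map_mul, map_inv, h, mul_inv_cancel_right]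
    calc y * p = y * p * y⁻¹ * y := by group
      _ = p * y := by rw [h1]

/-- labels of elements of `T` -/
theorem fix_iff (M : Mod ψ P) {y : ↥T} :
    (∀ i, ∀ u ∈ up ψ P (AA i), (y : G) * u * (y : G)⁻¹ ∈ up ψ P (AA i)) ↔ (ψ y).g = false := by
  constructor
  · intro h
    apply g_of_fix
    intro u hu
    obtain ⟨p, hp, rfl⟩ := M.surj u (AA_le _ hu)
    have h1 := h false p (mem_up_coe.mpr ⟨hu, hp⟩)
    have h2 : ((y * p * y⁻¹ : ↥T) : G) ∈ up ψ P (AA false) := h1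
    have h3 := (mem_up_coe.mp h2).1
    rwa [map_mul, map_mul, map_inv] at h3
  · intro h i u hu
    obtain ⟨p, h1, h2, rfl⟩ := mem_up.mp hu
    have h3 : ((y * p * y⁻¹ : ↥T) : G) ∈ up ψ P (AA i) := by
      rw [mem_up_coe, map_mul, map_mul, map_inv]
      exact ⟨act_fix h i h1, M.norm y p h2⟩
    exact h3

theorem swap_iff (M : Mod ψ P) {y : ↥T} :
    (∀ i, ∀ u ∈ up ψ P (AA i), (y : G) * u * (y : G)⁻¹ ∈ up ψ P (AA (!i))) ↔ (ψ y).g = true := by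
  constructor
  · intro h
    by_contra hg
    have hg : (ψ y).g = false := by revert hg; cases (ψ y).g <;> simp
    obtain ⟨p, hp, hpu⟩ := M.surj (el 0 1 0 false false) (mk_mem_U _ _ _)
    have h1 : ψ p ∈ AA false := by rw [hpu]; exact ⟨mk_mem_U _ _ _, rfl⟩
    have h2 : ((y * p * y⁻¹ : ↥T) : G) ∈ up ψ P (AA true) := h false p (mem_up_coe.mpr ⟨h1, hp⟩)
    have h3 := (mem_up_coe.mp h2).1
    rw [map_mul, map_mul, map_inv] at h3
    have h4 := inf_AA (act_fix hg false h1) h3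
    -- `ψ p ∈ Z`
    have h5 : ψ p ∈ ZU := by
      have h7 : (ψ y)⁻¹ * (ψ y * ψ p * (ψ y)⁻¹) * (ψ y) = ψ p := by group
      have h8 : ∀ {s z : E}, z ∈ ZU → s * z * s⁻¹ ∈ ZU := by
        intro s z hz
        have h9 := (ZU_le false) hz
        have h10 := (ZU_le true) hz
        rcases hs : s.g with _ | _
        · exact inf_AA (act_fix hs false h9) (act_fix hs true h10)
        · exact inf_AA (act_swap hs true h10) (act_swap hs false h9)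
      have h9 := h8 (s := (ψ y)⁻¹) h4
      rwa [inv_inv, h7] at h9
    rw [hpu] at h5
    exact absurd h5.2.2 (by decide)
  · intro h i u hu
    obtain ⟨p, h1, h2, rfl⟩ := mem_up.mp hu
    have h3 : ((y * p * y⁻¹ : ↥T) : G) ∈ up ψ P (AA (!i)) := by
      rw [mem_up_coe, map_mul, map_mul, map_inv]
      exact ⟨act_swap h i h1, M.norm y p h2⟩
    exact h3

theorem cenZ_iff (M : Mod ψ P) {y : ↥T} :
    (∀ z ∈ up ψ P ZU, (y : G) * z = z * y) ↔ (ψ y).f = false := by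
  constructor
  · intro h
    apply f_of_cen
    intro z hz
    obtain ⟨p, hp, rfl⟩ := M.surj z (ZU_le_U hz)
    have h1 := h p (mem_up_coe.mpr ⟨hz, hp⟩)
    have h2 : y * p = p * y := Subtype.ext h1
    rw [← map_mul, h2, map_mul]
  · intro h z hz
    obtain ⟨p, h1, h2, rfl⟩ := mem_up.mp hz
    have h3 := (comm_iff M (y := y) h2).mpr (cent_g (ψ y) (ψ p) h h1)
    exact congrArg Subtype.val h3

/-- `y ∈ P Q` -/
theorem inner_iff (M : Mod ψ P) {y : ↥T} :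
    (∃ p ∈ P.map T.subtype, ∃ q ∈ (ψ.ker).map T.subtype, (y : G) = p * q) ↔ ψ y ∈ U := by
  constructor
  · rintro ⟨_, ⟨p, hp, rfl⟩, _, ⟨q, hq, rfl⟩, h⟩
    have h1 : y = p * q := Subtype.ext h
    rw [h1, map_mul, show ψ q = 1 from hq, mul_one]
    exact M.mem p hp
  · intro h
    obtain ⟨p, hp, q, hq, rfl⟩ := M.split h
    exact ⟨p, ⟨p, hp, rfl⟩, q, ⟨q, hq, rfl⟩, rfl⟩

/-- **`Fr` from `Mod`.** -/
theorem exists_fr [Finite G] (M : Mod ψ P) (hT : IsPGroup 2 ↥T) :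
    ∃ b : ↥T, b ∈ P ∧ ψ b = pb ∧ Fr T (P.map T.subtype) (ψ.ker.map T.subtype) (up ψ P ZU)
      (fun i => up ψ P (AA i)) b := by
  obtain ⟨b, hbP, hb⟩ := M.surj pb pb_mem
  refine ⟨b, hbP, hb, ?_⟩
  have hPU : P.map T.subtype = up ψ P U := (up_U M).symm
  have hmem : ∀ g, g ∈ P.map T.subtype ↔ ∃ p : ↥T, p ∈ P ∧ (p : G) = g := fun g => Iff.rfl
  have hmemc : ∀ p : ↥T, (p : G) ∈ P.map T.subtype ↔ p ∈ P := by
    intro p
    constructor
    · rintro ⟨q, hq, h⟩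
      rwa [← Subtype.ext h]
    · intro h; exact ⟨p, h, rfl⟩
  have hmemk : ∀ p : ↥T, (p : G) ∈ ψ.ker.map T.subtype ↔ ψ p = 1 := by
    intro p
    constructor
    · rintro ⟨q, hq, h⟩
      rw [← Subtype.ext h]; exact hq
    · intro h; exact ⟨p, h, rfl⟩
  -- the Heisenberg group
  have H : Heis (P.map T.subtype) (up ψ P ZU) (fun i => up ψ P (AA i)) := by
    refine ⟨?_, ?_, ?_, ?_, ?_, ?_, ?_, ?_, ?_, ?_, ?_, ?_, ?_, ?_⟩
    · rw [hPU, card_up M le_rfl, card_U]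
    · rw [card_up M ZU_le_U, card_ZU]
    · intro i
      rw [card_up M (AA_le i), card_AA]
    · exact fun i => up_mono (ZU_le i)
    · intro i
      rw [hPU]
      exact up_mono (AA_le i)
    · intro i u hu
      obtain ⟨p, h1, h2, rfl⟩ := mem_up.mp hu
      have h3 : p * p = 1 := M.inj _ (P.mul_mem h2 h2) (by rw [map_mul, AA_sq i h1])
      exact congrArg Subtype.val h3
    · rintro z hz p hp
      obtain ⟨z, h1, h2, rfl⟩ := mem_up.mp hz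
      obtain ⟨p, hp1, rfl⟩ := (hmem _).mp hp
      replace hp : p ∈ P := hp1
      have h3 := (comm_iff M (y := p) h2).mpr (Z_cen h1 (M.mem p hp))
      exact congrArg Subtype.val h3
    · rintro p hp hpp
      obtain ⟨p, hp1, rfl⟩ := (hmem _).mp hp
      replace hp : p ∈ P := hp1
      have h1 : p * p = 1 := Subtype.ext hpp
      rcases inv_U (M.mem p hp) (by rw [← map_mul, h1, map_one]) with h2 | h2
      · exact ⟨false, mem_up_coe.mpr ⟨h2, hp⟩⟩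
      · exact ⟨true, mem_up_coe.mpr ⟨h2, hp⟩⟩
    · intro p h1 h2
      obtain ⟨p, h3, h4, rfl⟩ := mem_up.mp h1
      exact mem_up_coe.mpr ⟨inf_AA h3 (mem_up_coe.mp h2).1, h4⟩
    · intro p hp
      obtain ⟨p, hp1, rfl⟩ := (hmem _).mp hp
      replace hp : p ∈ P := hp1
      obtain ⟨v, hv, w, hw, h1⟩ := sup_AA (M.mem p hp)
      obtain ⟨v, hv', rfl⟩ := M.surj v (AA_le _ hv)
      obtain ⟨w, hw', rfl⟩ := M.surj w (AA_le _ hw)
      refine ⟨v, mem_up_coe.mpr ⟨hv, hv'⟩, w, mem_up_coe.mpr ⟨hw, hw'⟩, ?_⟩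
      have h2 : p = v * w := M.ext hp (P.mul_mem hv' hw') (by rw [h1, map_mul])
      rw [h2]; rfl
    · intro p hp r hr
      obtain ⟨p, hp1, rfl⟩ := (hmem _).mp hp
      replace hp : p ∈ P := hp1
      obtain ⟨r, hr1, rfl⟩ := (hmem _).mp hr
      replace hr : r ∈ P := hr1
      have h1 : ((p * r * p⁻¹ * r⁻¹ : ↥T) : G) ∈ up ψ P ZU := by
        rw [mem_up_coe, map_mul, map_mul, map_mul, map_inv, map_inv]
        exact ⟨com_U (M.mem p hp) (M.mem r hr), P.mul_mem (P.mul_mem (P.mul_mem hp hr) (P.inv_mem hp))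
          (P.inv_mem hr)⟩
      exact h1
    · intro p hp
      obtain ⟨p, hp1, rfl⟩ := (hmem _).mp hp
      replace hp : p ∈ P := hp1
      have h1 : ((p * p : ↥T) : G) ∈ up ψ P ZU := by
        rw [mem_up_coe, map_mul]
        exact ⟨sq_U (M.mem p hp), P.mul_mem hp hp⟩
      exact h1
    · intro p hp hpn z hz
      obtain ⟨p, hp1, rfl⟩ := (hmem _).mp hp
      replace hp : p ∈ P := hp1
      obtain ⟨z, h1, h2, rfl⟩ := mem_up.mp hz
      obtain ⟨v, hv, h3⟩ := surj_U (M.mem p hp) (fun h => hpn (mem_up_coe.mpr ⟨h, hp⟩)) h1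
      obtain ⟨r, hr, rfl⟩ := M.surj v hv
      refine ⟨r, (hmemc r).mpr hr, ?_⟩
      have h4 : p * r * p⁻¹ * r⁻¹ = z := by
        apply M.ext (P.mul_mem (P.mul_mem (P.mul_mem hp hr) (P.inv_mem hp)) (P.inv_mem hr)) h2
        rw [map_mul, map_mul, map_mul, map_inv, map_inv, h3]
      exact congrArg Subtype.val h4
    · intro i u hu hun p hp hc
      obtain ⟨u, h1, h2, rfl⟩ := mem_up.mp hu
      obtain ⟨p, hp1, rfl⟩ := (hmem _).mp hp
      replace hp : p ∈ P := hp1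
      have h3 : p * u = u * p := Subtype.ext hc
      refine mem_up_coe.mpr ⟨cen_AA i h1 (fun h => hun (mem_up_coe.mpr ⟨h, h2⟩)) (M.mem p hp) ?_, hp⟩
      rw [← map_mul, h3, map_mul]
  have hpi : ∀ y : ↥T, (∃ p ∈ P.map T.subtype, ∃ q ∈ ψ.ker.map T.subtype, (y : G) = p * q) ↔ ψ y ∈ U :=
    fun y => inner_iff M
  have hsq : ∀ y : ↥T, (y : G) * y ∈ ψ.ker.map T.subtype ↔ ψ y * ψ y = 1 := by
    intro y
    rw [← map_mul]
    exact hmemk (y * y)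
  refine ⟨H, hT, ?_, ?_, ?_, ?_, ?_, ?_, ?_, ?_, ?_, ?_, ?_, ?_, ?_, ?_, ?_, ?_, ?_, ?_, ?_, ?_, ?_, ?_⟩
  · exact map_subtype_le _
  · exact map_subtype_le _
  · intro y hy p hp
    obtain ⟨p, hp1, rfl⟩ := (hmem _).mp hp
    replace hp : p ∈ P := hp1
    exact ⟨_, M.norm ⟨y, hy⟩ p hp, rfl⟩
  · intro y hy q hq
    obtain ⟨q, hq, rfl⟩ := hq
    refine ⟨⟨y, hy⟩ * q * ⟨y, hy⟩⁻¹, ?_, rfl⟩
    change ψ _ = 1
    rw [map_mul, map_mul, map_inv, show ψ q = 1 from hq]; group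
  · rintro _ ⟨p, hp, rfl⟩ hq
    have h1 := (hmemk p).mp hq
    exact congrArg Subtype.val (M.inj p hp h1)
  · rintro _ ⟨p, hp, rfl⟩ _ ⟨q, hq, rfl⟩
    exact congrArg Subtype.val (M.comm p hp q hq)
  · rw [mem_up_coe, hb]
    exact ⟨⟨⟨rfl, rfl⟩, rfl, rfl⟩, hbP⟩
  · intro h
    have h1 : b = 1 := Subtype.ext h
    rw [h1, map_one] at hb
    exact pb_ne hb.symm
  · intro y hy
    have h3 := (comm_iff M (y := ⟨y, hy⟩) hbP).mpr (by rw [hb]; exact (pb_central _).symm)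
    exact congrArg Subtype.val h3
  · intro y hy h
    have h1 : ψ ⟨y, hy⟩ ∈ ZU := by
      apply cen_U
      intro u hu
      obtain ⟨p, hp, rfl⟩ := M.surj u hu
      have h2 : (⟨y, hy⟩ : ↥T) * p = p * ⟨y, hy⟩ := Subtype.ext (h p ((hmemc p).mpr hp))
      rw [← map_mul, h2, map_mul]
    obtain ⟨p, hp, q, hq, h2⟩ := M.split (ZU_le_U h1)
    refine ⟨p, ?_, q, (hmemk q).mpr hq, congrArg Subtype.val h2⟩
    rw [mem_up_coe]
    refine ⟨?_, hp⟩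
    rw [h2, map_mul, hq, mul_one] at h1
    exact h1
  · intro y hy
    rcases hg : (ψ ⟨y, hy⟩).g with _ | _
    · exact Or.inl ((fix_iff M).mpr hg)
    · exact Or.inr ((swap_iff M).mpr hg)
  · intro y hy
    rcases hf : (ψ ⟨y, hy⟩).f with _ | _
    · exact Or.inl ((cenZ_iff M).mpr hf)
    · right
      intro z hz hc
      obtain ⟨z, h1, h2, rfl⟩ := mem_up.mp hz
      have h3 := (comm_iff M (y := ⟨y, hy⟩) h2).mp (Subtype.ext hc)
      rcases cen_Z hf h1 h3 with h4 | h4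
      · left; exact congrArg Subtype.val (M.inj z h2 h4)
      · right; exact congrArg Subtype.val (M.ext h2 hbP (by rw [h4, hb]))
  · intro y hy h1 h2
    exact (hpi ⟨y, hy⟩).mpr ⟨(cenZ_iff M (y := ⟨y, hy⟩)).mp h2, (fix_iff M (y := ⟨y, hy⟩)).mp h1⟩
  · intro y hy h
    apply (hpi ⟨y, hy⟩).mpr
    apply outer_U
    intro u hu
    obtain ⟨p, hp, rfl⟩ := M.surj u hu
    have h1 : (((⟨y, hy⟩ : ↥T) * p * (⟨y, hy⟩ : ↥T)⁻¹ * p⁻¹ : ↥T) : G) ∈ up ψ P ZU := h p ((hmemc p).mpr hp)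
    have h2 := (mem_up_coe.mp h1).1
    rwa [map_mul, map_mul, map_mul, map_inv, map_inv] at h2
  · intro y hy _
    obtain ⟨u, hu, h1⟩ := inv2_E (ψ ⟨y, hy⟩)
    obtain ⟨p, hp, rfl⟩ := M.surj u hu
    refine ⟨p, (hmemc p).mpr hp, ?_⟩
    have h2 : (((⟨y, hy⟩ : ↥T) * p : ↥T) : G) * ((⟨y, hy⟩ : ↥T) * p : ↥T) ∈ ψ.ker.map T.subtype := by
      rw [hsq, map_mul]; exact h1
    exact h2
  · intro y hy hn hyy p hp hpp
    obtain ⟨p, hp1, rfl⟩ := (hmem _).mp hp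
    replace hp : p ∈ P := hp1
    have h1 : ψ ⟨y, hy⟩ ∉ U := fun h => hn ((hpi ⟨y, hy⟩).mpr h)
    have h2 : ψ ⟨y, hy⟩ * ψ ⟨y, hy⟩ = 1 := (hsq ⟨y, hy⟩).mp hyy
    have h3 : (⟨y, hy⟩ : ↥T)⁻¹ * p * ⟨y, hy⟩ * p = 1 := Subtype.ext hpp
    have h4 : (ψ ⟨y, hy⟩)⁻¹ * ψ p * ψ ⟨y, hy⟩ * ψ p = 1 := by
      rw [← map_inv, ← map_mul, ← map_mul, ← map_mul, h3, map_one]
    obtain ⟨v, hv, h5⟩ := conj_E h1 h2 (M.mem p hp) (by
      calc ψ ⟨y, hy⟩ * ψ p * (ψ ⟨y, hy⟩ * ψ p) =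
          (ψ ⟨y, hy⟩ * ψ ⟨y, hy⟩) * ((ψ ⟨y, hy⟩)⁻¹ * ψ p * ψ ⟨y, hy⟩ * ψ p) := by group
        _ = 1 := by rw [h2, h4, one_mul])
    obtain ⟨r, hr, rfl⟩ := M.surj v hv
    refine ⟨r, (hmemc r).mpr hr, ?_⟩
    have h6 : (⟨y, hy⟩ : ↥T)⁻¹ * r * ⟨y, hy⟩ * r⁻¹ = p := by
      apply M.ext ?_ hp
      · rw [map_mul, map_mul, map_mul, map_inv, map_inv]
        calc (ψ ⟨y, hy⟩)⁻¹ * ψ r * ψ ⟨y, hy⟩ * (ψ r)⁻¹ = (ψ ⟨y, hy⟩)⁻¹ * (ψ r * ψ ⟨y, hy⟩ * (ψ r)⁻¹) := by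
              group
          _ = (ψ ⟨y, hy⟩)⁻¹ * (ψ ⟨y, hy⟩ * ψ p) := by rw [h5]
          _ = ψ p := by group
      · have h7 := M.norm (⟨y, hy⟩ : ↥T)⁻¹ r hr
        rw [inv_inv] at h7
        exact P.mul_mem h7 (P.inv_mem hr)
    have h7 : r * ⟨y, hy⟩ * r⁻¹ = ⟨y, hy⟩ * p := by
      rw [← h6]; group
    exact congrArg Subtype.val h7
  · intro y hy hyy hz
    have h2 : ψ ⟨y, hy⟩ * ψ ⟨y, hy⟩ = 1 := (hsq ⟨y, hy⟩).mp hyy
    have hf : (ψ ⟨y, hy⟩).f = true := by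
      by_contra hf
      have hf : (ψ ⟨y, hy⟩).f = false := by revert hf; cases (ψ ⟨y, hy⟩).f <;> simp
      exact hz ((cenZ_iff M (y := ⟨y, hy⟩)).mpr hf)
    rw [← card8_E hf h2]
    refine Nat.card_congr (Equiv.symm (Equiv.ofBijective
      (fun u => ⟨((Classical.choose (M.surj u.1 u.2.1) : ↥T) : G), ?_, ?_⟩) ⟨?_, ?_⟩))
    · exact (hmemc _).mpr (Classical.choose_spec (M.surj u.1 u.2.1)).1
    · have h3 := Classical.choose_spec (M.surj u.1 u.2.1)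
      have h4 := (comm_iff M (y := ⟨y, hy⟩) h3.1).mpr (by rw [h3.2]; exact u.2.2)
      exact congrArg Subtype.val h4
    · intro u u' h
      have h3 := Classical.choose_spec (M.surj u.1 u.2.1)
      have h4 := Classical.choose_spec (M.surj u'.1 u'.2.1)
      have h5 : ((Classical.choose (M.surj u.1 u.2.1) : ↥T) : G) = Classical.choose (M.surj u'.1 u'.2.1) := by
        have h6 := congrArg (fun z : {p : G // p ∈ P.map T.subtype ∧ y * p = p * y} => z.1) h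
        exact h6
      apply Subtype.ext
      rw [← h3.2, ← h4.2, Subtype.ext h5]
    · rintro ⟨g, hg, hyg⟩
      obtain ⟨p, hp, rfl⟩ := (hmem _).mp hg
      have h3 : (⟨y, hy⟩ : ↥T) * p = p * ⟨y, hy⟩ := Subtype.ext hyg
      refine ⟨⟨ψ p, M.mem p hp, by rw [← map_mul, h3, map_mul]⟩, ?_⟩
      apply Subtype.ext
      have h4 := Classical.choose_spec (M.surj (ψ p) (M.mem p hp))
      change ((Classical.choose (M.surj (ψ p) (M.mem p hp)) : ↥T) : G) = p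
      rw [M.ext h4.1 hp h4.2]
  · intro y hy hyy hz
    have h2 : ψ ⟨y, hy⟩ * ψ ⟨y, hy⟩ = 1 := (hsq ⟨y, hy⟩).mp hyy
    have hf : (ψ ⟨y, hy⟩).f = true := by
      by_contra hf
      have hf : (ψ ⟨y, hy⟩).f = false := by revert hf; cases (ψ ⟨y, hy⟩).f <;> simp
      exact hz ((cenZ_iff M (y := ⟨y, hy⟩)).mpr hf)
    obtain ⟨c, hc, d, hd, h3, h4, h5⟩ := der_E hf h2
    obtain ⟨c, hc', rfl⟩ := M.surj c hc
    obtain ⟨d, hd', rfl⟩ := M.surj d hd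
    refine ⟨c, (hmemc c).mpr hc', d, (hmemc d).mpr hd', ?_, ?_, ?_⟩
    · exact congrArg Subtype.val ((comm_iff M (y := ⟨y, hy⟩) hc').mpr h3)
    · exact congrArg Subtype.val ((comm_iff M (y := ⟨y, hy⟩) hd').mpr h4)
    · have h6 : c * d * c⁻¹ * d⁻¹ = b := by
        apply M.ext (P.mul_mem (P.mul_mem (P.mul_mem hc' hd') (P.inv_mem hc')) (P.inv_mem hd')) hbP
        rw [map_mul, map_mul, map_mul, map_inv, map_inv, h5, hb]
      exact congrArg Subtype.val h6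
  · intro y hy hyy hz hA p hp hyp hpp
    obtain ⟨p, hp1, rfl⟩ := (hmem _).mp hp
    replace hp : p ∈ P := hp1
    have h2 : ψ ⟨y, hy⟩ * ψ ⟨y, hy⟩ = 1 := (hsq ⟨y, hy⟩).mp hyy
    have hf : (ψ ⟨y, hy⟩).f = true := by
      by_contra hf
      have hf : (ψ ⟨y, hy⟩).f = false := by revert hf; cases (ψ ⟨y, hy⟩).f <;> simp
      exact hz ((cenZ_iff M (y := ⟨y, hy⟩)).mpr hf)
    have hg := (swap_iff M (y := ⟨y, hy⟩)).mp hA
    have h3 : p * p = 1 := Subtype.ext hpp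
    rcases xQ8_E hf hg h2 (M.mem p hp) ((comm_iff M (y := ⟨y, hy⟩) hp).mp (Subtype.ext hyp))
      (by rw [← map_mul, h3, map_one]) with h4 | h4
    · left; exact congrArg Subtype.val (M.inj p hp h4)
    · right; exact congrArg Subtype.val (M.ext hp hbP (by rw [h4, hb]))
  · intro y hy hyy hz hA
    have h2 : ψ ⟨y, hy⟩ * ψ ⟨y, hy⟩ = 1 := (hsq ⟨y, hy⟩).mp hyy
    have hf : (ψ ⟨y, hy⟩).f = true := by
      by_contra hf
      have hf : (ψ ⟨y, hy⟩).f = false := by revert hf; cases (ψ ⟨y, hy⟩).f <;> simp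
      exact hz ((cenZ_iff M (y := ⟨y, hy⟩)).mpr hf)
    have hg := (fix_iff M (y := ⟨y, hy⟩)).mp hA
    obtain ⟨u, hu, h3, h4, h5, h6⟩ := fD8_E hf hg h2
    obtain ⟨p, hp, rfl⟩ := M.surj u hu
    refine ⟨p, (hmemc p).mpr hp, congrArg Subtype.val ((comm_iff M (y := ⟨y, hy⟩) hp).mpr h3), ?_, ?_, ?_⟩
    · exact congrArg Subtype.val (M.inj (p * p) (P.mul_mem hp hp) (by rw [map_mul, h4]))
    · intro h
      apply h5
      have h7 : p = 1 := Subtype.ext h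
      rw [h7, map_one]
    · intro h
      apply h6
      have h7 : p = b := Subtype.ext h
      rw [h7, hb]
  · intro y hy hn hz hyy p hp hyp
    obtain ⟨p, hp1, rfl⟩ := (hmem _).mp hp
    replace hp : p ∈ P := hp1
    have h1 : ψ ⟨y, hy⟩ ∉ U := fun h => hn ((hpi ⟨y, hy⟩).mpr h)
    have h2 : ψ ⟨y, hy⟩ * ψ ⟨y, hy⟩ = 1 := (hsq ⟨y, hy⟩).mp hyy
    have hf := (cenZ_iff M (y := ⟨y, hy⟩)).mp hz
    have hg : (ψ ⟨y, hy⟩).g = true := by
      by_contra hg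
      have hg : (ψ ⟨y, hy⟩).g = false := by revert hg; cases (ψ ⟨y, hy⟩).g <;> simp
      exact h1 ⟨hf, hg⟩
    exact mem_up_coe.mpr ⟨gZ_E hf hg h2 (M.mem p hp)
      ((comm_iff M (y := ⟨y, hy⟩) hp).mp (Subtype.ext hyp)), hp⟩
  · intro w hw hww hz hA y hy _
    have h2 : ψ ⟨w, hw⟩ * ψ ⟨w, hw⟩ = 1 := (hsq ⟨w, hw⟩).mp hww
    have hf : (ψ ⟨w, hw⟩).f = true := by
      by_contra hf
      have hf : (ψ ⟨w, hw⟩).f = false := by revert hf; cases (ψ ⟨w, hw⟩).f <;> simp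
      exact hz ((cenZ_iff M (y := ⟨w, hw⟩)).mpr hf)
    have hg := (swap_iff M (y := ⟨w, hw⟩)).mp hA
    obtain ⟨u, hu, h3, h4⟩ := comx_E hf hg h2 (ψ ⟨y, hy⟩)
    obtain ⟨p, hp, rfl⟩ := M.surj u hu
    refine ⟨p, (hmemc p).mpr hp, ?_, ?_⟩
    · have h5 : (((⟨y, hy⟩ : ↥T) * p : ↥T) : G) * ((⟨y, hy⟩ : ↥T) * p : ↥T) ∈ ψ.ker.map T.subtype := by
        rw [hsq, map_mul]; exact h3
      exact h5
    · have h5 : (((⟨y, hy⟩ : ↥T) * p * ⟨w, hw⟩ * ((⟨y, hy⟩ : ↥T) * p)⁻¹ * (⟨w, hw⟩ : ↥T)⁻¹ : ↥T) : G) ∈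
          ψ.ker.map T.subtype := by
        rw [hmemk, map_mul, map_mul, map_mul, map_inv, map_inv, map_mul, h4]
        group
      exact h5

end Cfsg.Agent.UGT.L34T2.FrMod
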