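import Cfsg.Agent.UGT.L34T2.Dbl

/-!
# Type `L₃(4)`, case BIG, step (alpha) (UGT #14882 (4))

In the double frame an involution `w ∈ S - T` is not conjugate to a fully centralised involution `v ∈ T`
by an element `g` with `g C_S(w) g⁻¹ ≤ S`.
-/

set_option autoImplicit false

open Subgroup

namespace Cfsg.Agent.UGT.L34T2.BigAlpha

/-! ### counting -/

theorem card_le_of_type {G : Type*} [Group G] [Finite G] (X N : Subgroup G) {B : Type*} [Finite B]
    (f : G → B) (hf : ∀ x ∈ X, ∀ y ∈ X, f x = f y → x⁻¹ * y ∈ N) :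
    Nat.card X ≤ Nat.card ↥(N ⊓ X) * Nat.card B := by
  have h1 : (N.subgroupOf X).index ≤ Nat.card B := by
    refine Nat.card_le_card_of_injective (fun q : X ⧸ N.subgroupOf X => f (q.out : X)) ?_
    intro q r hqr
    rw [← QuotientGroup.out_eq' q, ← QuotientGroup.out_eq' r]
    rw [QuotientGroup.eq, mem_subgroupOf]
    exact hf _ q.out.2 _ r.out.2 hqr
  have h2 := (N.subgroupOf X).card_mul_index
  have h3 : Nat.card ↥(N.subgroupOf X) = Nat.card ↥(N ⊓ X) := by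
    rw [← Subgroup.inf_subgroupOf_right]
    exact Nat.card_congr (Subgroup.subgroupOfEquivOfLe inf_le_right).toEquiv
  rw [← h2, h3]
  exact Nat.mul_le_mul_left _ h1

variable {G : Type*} [Group G] {S T P Q Z : Subgroup G} {A : Bool → Subgroup G} {K : Subgroup G} {a b t x : G}

/-! ### the Heisenberg group -/

theorem A_comm (h : Heis P Z A) {i : Bool} {u v : G} (hu : u ∈ A i) (hv : v ∈ A i) : u * v = v * u := by
  have h1 := h.Asq i _ (mul_mem hu hv)
  have hu' := h.Asq i _ hu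
  have hv' := h.Asq i _ hv
  calc u * v = u * (u * v * (u * v)) * v := by rw [h1, mul_one]
    _ = (u * u) * (v * u) * (v * v) := by group
    _ = v * u := by rw [hu', hv', one_mul, mul_one]

/-- an element of `P` commuting with two involutions that do not commute lies in `Z` -/
theorem mem_Z_of_comm (h : Heis P Z A) {r s y : G} (hr : r ∈ P) (hs : s ∈ P) (hr2 : r * r = 1) (hs2 : s * s = 1)
    (hrs : r * s ≠ s * r) (hy : y ∈ P) (hyr : y * r = r * y) (hys : y * s = s * y) : y ∈ Z := by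
  obtain ⟨i, hi⟩ := h.inv r hr hr2
  obtain ⟨j, hj⟩ := h.inv s hs hs2
  have hrZ : r ∉ Z := fun hz => hrs (h.Zcen r hz s hs).symm
  have hsZ : s ∉ Z := fun hz => hrs (h.Zcen s hz r hr)
  have h1 := h.cen i r hi hrZ y hy hyr
  have h2 := h.cen j s hj hsZ y hy hys
  have hij : i ≠ j := by
    rintro rfl
    exact hrs (A_comm h hi hj)
  cases i <;> cases j
  · exact absurd rfl hij
  · exact h.inf y h1 h2
  · exact h.inf y h2 h1
  · exact absurd rfl hij

theorem mem_Z_iff (h : Heis P Z A) {y : G} : y ∈ Z ↔ y ∈ A false ∧ y ∈ A true :=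
  ⟨fun hy => ⟨h.ZA _ hy, h.ZA _ hy⟩, fun hy => h.inf y hy.1 hy.2⟩

theorem ZP (h : Heis P Z A) : Z ≤ P := fun _ hz => h.AP false (h.ZA false hz)

/-- an element of `P` centralising `P` lies in `Z` -/
theorem mem_Z_of_central (h : Heis P Z A) {y : G} (hy : y ∈ P) (hc : ∀ p ∈ P, y * p = p * y) : y ∈ Z := by
  by_contra hyZ
  obtain ⟨z, hz, hz1⟩ : ∃ z ∈ Z, z ≠ 1 := by
    by_contra hcon
    push Not at hcon
    have h1 : Z = ⊥ := by
      rw [eq_bot_iff]; intro z hz; rw [mem_bot]; exact hcon z hz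
    have h2 := h.cardZ
    rw [h1, Subgroup.card_bot] at h2
    omega
  obtain ⟨r, hr, e⟩ := h.surj y hy hyZ z hz
  apply hz1
  rw [← e, hc r hr]
  group

theorem sq_of_conj {e f : G} (he : IsConj e f) (h2 : e * e = 1) : f * f = 1 := by
  obtain ⟨c, rfl⟩ := isConj_iff.mp he
  calc c * e * c⁻¹ * (c * e * c⁻¹) = c * (e * e) * c⁻¹ := by group
    _ = 1 := by rw [h2]; group

/-! ### types of the elements of `T` -/

/-- `y` fixes `A false`, `A true` -/
def Fx (A : Bool → Subgroup G) (y : G) : Prop := ∀ i, ∀ u ∈ A i, y * u * y⁻¹ ∈ A i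

/-- `y` swaps `A false`, `A true` -/
def Sw (A : Bool → Subgroup G) (y : G) : Prop := ∀ i, ∀ u ∈ A i, y * u * y⁻¹ ∈ A (!i)

/-- `y` centralises `Z` -/
def Cn (Z : Subgroup G) (y : G) : Prop := ∀ z ∈ Z, y * z = z * y

theorem not_fx_sw (h : Heis P Z A) {y : G} (h1 : Fx A y) (h2 : Sw A y) : False := by
  have h3 : A false ≤ Z := by
    intro u hu
    have h4 := h1 false u hu
    have h5 := h2 false u hu
    -- `y u y⁻¹ ∈ A false ∩ A true = Z`
    have h6 : ∀ v ∈ A false, y * v * y⁻¹ ∈ Z := fun v hv => h.inf _ (h1 false v hv) (h2 false v hv)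
    have h7 : Function.Injective (fun v : ↥(A false) => (⟨y * v * y⁻¹, h6 v v.2⟩ : ↥Z)) := by
      intro v w e
      have := congrArg Subtype.val e
      exact Subtype.ext (mul_left_cancel (mul_right_cancel this))
    have h8 : Finite ↥Z := Nat.finite_of_card_ne_zero (by rw [h.cardZ]; norm_num)
    have h9 := Nat.card_le_card_of_injective _ h7
    rw [h.cardZ, h.cardA] at h9
    omega
  have h4 : Finite ↥Z := Nat.finite_of_card_ne_zero (by rw [h.cardZ]; norm_num)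
  have h5 := Subgroup.card_le_of_le h3
  rw [h.cardZ, h.cardA] at h5
  omega

/-- the elements of `Z` -/
theorem Z_four (h : Heis P Z A) (hb : b ∈ Z) (hb1 : b ≠ 1) {z w : G} (hz : z ∈ Z) (hz1 : z ≠ 1) (hzb : z ≠ b)
    (hw : w ∈ Z) : w = 1 ∨ w = b ∨ w = z ∨ w = z * b := by
  classical
  have h8 : Finite ↥Z := Nat.finite_of_card_ne_zero (by rw [h.cardZ]; norm_num)
  have hsub : (({1, b, z, z * b} : Finset G) : Set G) ⊆ (Z : Set G) := by
    intro v hv
    simp only [Finset.coe_insert, Finset.coe_singleton, Set.mem_insert_iff, Set.mem_singleton_iff] at hv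
    rcases hv with rfl | rfl | rfl | rfl
    · exact one_mem Z
    · exact hb
    · exact hz
    · exact mul_mem hz hb
  have hzz := h.Asq false _ (h.ZA false hz)
  have hc : ({1, b, z, z * b} : Finset G).card = 4 := by
    rw [Finset.card_eq_succ]
    refine ⟨1, {b, z, z * b}, ?_, rfl, Finset.card_eq_three.mpr ⟨b, z, z * b, hzb.symm, ?_, ?_, rfl⟩⟩
    · simp only [Finset.mem_insert, Finset.mem_singleton, not_or]
      refine ⟨hb1.symm, hz1.symm, fun e => hzb ?_⟩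
      calc z = z * 1 := (mul_one z).symm
        _ = z * (z * b) := by rw [e]
        _ = b := by rw [← mul_assoc, hzz, one_mul]
    · intro e
      exact hz1 (by simpa using e)
    · intro e
      exact hb1 (by simpa using e)
  have heq : (({1, b, z, z * b} : Finset G) : Set G) = (Z : Set G) := by
    refine Set.eq_of_subset_of_ncard_le hsub ?_ (Set.toFinite _)
    rw [Set.ncard_coe_finset, hc]
    exact le_of_eq h.cardZ
  have hw' : w ∈ (Z : Set G) := hw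
  rw [← heq] at hw'
  simpa only [Finset.coe_insert, Finset.coe_singleton, Set.mem_insert_iff, Set.mem_singleton_iff] using hw'

section fr

variable (h : Fr T P Q Z A b)

include h

theorem inv_fx {y : G} (hy : y ∈ T) (h1 : Fx A y) : Fx A y⁻¹ := by
  rcases h.actA y⁻¹ (inv_mem hy) with h2 | h2
  · exact h2
  · exfalso
    refine not_fx_sw h.toHeis h1 fun i u hu => ?_
    -- `y u y⁻¹ ∈ A (!i)`: apply `y⁻¹` swaps
    have h3 := h2 i _ (h1 i u hu)
    have e : y⁻¹ * (y * u * y⁻¹) * y⁻¹⁻¹ = u := by group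
    rw [e] at h3
    exact h1 (!i) u h3

theorem inv_sw {y : G} (hy : y ∈ T) (h1 : Sw A y) : Sw A y⁻¹ := by
  rcases h.actA y⁻¹ (inv_mem hy) with h2 | h2
  · exfalso
    have h3 := inv_fx h (inv_mem hy) h2
    rw [inv_inv] at h3
    exact not_fx_sw h.toHeis h3 h1
  · exact h2

theorem nZ {y z : G} (hy : y ∈ T) (hz : z ∈ Z) : y * z * y⁻¹ ∈ Z := by
  rcases h.actA y hy with h1 | h1
  · exact h.inf _ (h1 _ _ (h.ZA _ hz)) (h1 _ _ (h.ZA _ hz))
  · exact h.inf _ (h1 true _ (h.ZA _ hz)) (h1 false _ (h.ZA _ hz))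

theorem conj_z {y z : G} (hy : y ∈ T) (hc : ¬ Cn Z y) (hz : z ∈ Z) (hz1 : z ≠ 1) (hzb : z ≠ b) :
    y * z * y⁻¹ = z * b := by
  rcases Z_four h.toHeis h.bZ h.b1 hz hz1 hzb (nZ h hy hz) with e | e | e | e
  · exfalso
    apply hz1
    calc z = y⁻¹ * (y * z * y⁻¹) * y := by group
      _ = 1 := by rw [e]; group
  · exfalso
    apply hzb
    have h1 := h.bT y hy
    calc z = y⁻¹ * (y * z * y⁻¹) * y := by group
      _ = y⁻¹ * (b * y) := by rw [e]; group
      _ = y⁻¹ * (y * b) := by rw [h1]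
      _ = b := by group
  · exfalso
    rcases h.actZ y hy with h1 | h1
    · exact hc h1
    · rcases h1 z hz (mul_inv_eq_iff_eq_mul.mp e) with h2 | h2
      · exact hz1 h2
      · exact hzb h2
  · exact e

/-- two elements of `T` of the same type are congruent modulo `P Q` -/
theorem same_type {y y' : G} (hy : y ∈ T) (hy' : y' ∈ T) (h1 : Fx A y ↔ Fx A y') (h2 : Cn Z y ↔ Cn Z y') :
    ∃ p ∈ P, ∃ q ∈ Q, y⁻¹ * y' = p * q := by
  refine h.inner _ (mul_mem (inv_mem hy) hy') ?_ ?_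
  · intro i u hu
    have e : y⁻¹ * y' * u * (y⁻¹ * y')⁻¹ = y⁻¹ * (y' * u * y'⁻¹) * y⁻¹⁻¹ := by group
    rw [e]
    rcases h.actA y hy with h3 | h3
    · exact inv_fx h hy h3 i _ (h1.mp h3 i u hu)
    · have h4 : Sw A y' := by
        rcases h.actA y' hy' with h4 | h4
        · exact absurd h3 (fun h5 => not_fx_sw h.toHeis (h1.mpr h4) h5)
        · exact h4
      have h5 := inv_sw h hy h3 (!i) _ (h4 i u hu)
      rwa [Bool.not_not] at h5
  · intro z hz
    by_cases hc : Cn Z y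
    · have e1 := hc z hz
      have e2 := h2.mp hc z hz
      calc y⁻¹ * y' * z = y⁻¹ * (z * y') := by rw [mul_assoc, e2]
        _ = y⁻¹ * (z * y) * (y⁻¹ * y') := by group
        _ = y⁻¹ * (y * z) * (y⁻¹ * y') := by rw [e1]
        _ = z * (y⁻¹ * y') := by group
    · have hc' : ¬ Cn Z y' := fun h3 => hc (h2.mpr h3)
      by_cases hz1 : z = 1
      · rw [hz1]; group
      by_cases hzb : z = b
      · have e := h.bT _ (mul_mem (inv_mem hy) hy')
        rw [hzb, e]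
      · have e1 := conj_z h hy hc hz hz1 hzb
        have e2 := conj_z h hy' hc' hz hz1 hzb
        rw [← e1] at e2
        calc y⁻¹ * y' * z = y⁻¹ * (y' * z * y'⁻¹) * y' := by group
          _ = y⁻¹ * (y * z * y⁻¹) * y' := by rw [e2]
          _ = z * (y⁻¹ * y') := by group

end fr

/-! ### the double frame -/

section dbl

variable (h : Dbl S T P Q Z A K a b t x)

include h

theorem tt : t * t ∈ T := by
  rcases h.ST _ (mul_mem h.tS h.tS) with h1 | h1
  · exact h1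
  · rw [inv_mul_cancel_left] at h1
    exact absurd h1 h.tn

theorem tinv_T {y : G} (hy : y ∈ T) : t⁻¹ * y * t ∈ T := by
  have e : t⁻¹ * y * t = (t * t)⁻¹ * (t * y * t⁻¹) * (t * t) := by group
  rw [e]
  exact mul_mem (mul_mem (inv_mem (tt h)) (h.tT y hy)) (tt h)

theorem inv_nP {y p : G} (hy : y ∈ T) (hp : p ∈ P) : y⁻¹ * p * y ∈ P := by
  have := h.nP y⁻¹ (inv_mem hy) p hp
  rwa [inv_inv] at this

theorem inv_nQ {y q : G} (hy : y ∈ T) (hq : q ∈ Q) : y⁻¹ * q * y ∈ Q := by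
  have := h.nQ y⁻¹ (inv_mem hy) q hq
  rwa [inv_inv] at this

/-- elements of `S - T` -/
theorem exists_y {s : G} (hs : s ∈ S) (hsT : s ∉ T) : ∃ y ∈ T, s = t * y := by
  rcases h.ST s hs with h1 | h1
  · exact absurd h1 hsT
  · exact ⟨t⁻¹ * s, h1, by group⟩

theorem sw_P {s p : G} (hs : s ∈ S) (hsT : s ∉ T) (hp : p ∈ P) : s * p * s⁻¹ ∈ Q := by
  obtain ⟨y, hy, rfl⟩ := exists_y h hs hsT
  have e : t * y * p * (t * y)⁻¹ = t * (y * p * y⁻¹) * t⁻¹ := by group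
  rw [e]
  exact h.tP _ (h.nP y hy p hp)

theorem sw_Q {s q : G} (hs : s ∈ S) (hsT : s ∉ T) (hq : q ∈ Q) : s * q * s⁻¹ ∈ P := by
  obtain ⟨y, hy, rfl⟩ := exists_y h hs hsT
  have e : t * y * q * (t * y)⁻¹ = t * (y * q * y⁻¹) * t⁻¹ := by group
  rw [e]
  exact h.tQ _ (h.nQ y hy q hq)

theorem mul_mem_T {s r : G} (hs : s ∈ S) (hsT : s ∉ T) (hr : r ∈ S) (hrT : r ∉ T) : s * r ∈ T := by
  obtain ⟨y, hy, rfl⟩ := exists_y h hs hsT
  obtain ⟨y', hy', rfl⟩ := exists_y h hr hrT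
  have e : t * y * (t * y') = (t * y * t⁻¹) * (t * t) * y' := by group
  rw [e]
  exact mul_mem (mul_mem (h.tT y hy) (tt h)) hy'

theorem inv_mul_mem_T {s r : G} (hs : s ∈ S) (hsT : s ∉ T) (hr : r ∈ S) (hrT : r ∉ T) : s⁻¹ * r ∈ T :=
  mul_mem_T h (inv_mem hs) (fun hc => hsT (inv_mem_iff.mp hc)) hr hrT

theorem aQ : a ∈ Q := by
  rw [← h.ta]
  exact h.tP _ (ZP h.toHeis h.bZ)

theorem bP : b ∈ P := ZP h.toHeis h.bZ

theorem b2 : b * b = 1 := h.Asq false _ (h.ZA false h.bZ)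

theorem a2 : a * a = 1 := by
  rw [← h.ta]
  calc t * b * t⁻¹ * (t * b * t⁻¹) = t * (b * b) * t⁻¹ := by group
    _ = 1 := by rw [b2 h]; group

theorem a1 : a ≠ 1 := by
  intro e
  have h1 := h.ta
  rw [e] at h1
  apply h.b1
  calc b = t⁻¹ * (t * b * t⁻¹) * t := by group
    _ = 1 := by rw [h1]; group

theorem sw_b {s : G} (hs : s ∈ S) (hsT : s ∉ T) : s * b * s⁻¹ = a := by
  obtain ⟨y, hy, rfl⟩ := exists_y h hs hsT
  have e : t * y * b * (t * y)⁻¹ = t * (y * b * y⁻¹) * t⁻¹ := by group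
  rw [e, h.bT y hy, mul_inv_cancel_right, h.ta]

theorem sw_a {s : G} (hs : s ∈ S) (hsT : s ∉ T) : s * a * s⁻¹ = b := by
  obtain ⟨y, hy, rfl⟩ := exists_y h hs hsT
  have e : t * y * a * (t * y)⁻¹ = t * (y * a * y⁻¹) * t⁻¹ := by group
  rw [e, h.Ta y hy, mul_inv_cancel_right, h.tb]

theorem mem_J {g : G} : g ∈ P ⊔ Q ↔ ∃ p ∈ P, ∃ q ∈ Q, g = p * q := by
  have hn : P ≤ normalizer (Q : Set G) := fun p hp =>
    mem_normalizer_iff.mpr fun q => by
      constructor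
      · intro hq
        rwa [h.comm p hp q hq, mul_inv_cancel_right]
      · intro hq
        have h1 := h.comm p hp _ hq
        have h2 : p * q * p⁻¹ = q := by
          have h3 : p * q = p * q * p⁻¹ * p := by group
          rw [← h1] at h3
          have h4 := mul_left_cancel h3
          exact h4.symm
        rwa [h2] at hq
  rw [← SetLike.mem_coe, coe_mul_of_left_le_normalizer_right _ _ hn, Set.mem_mul]
  constructor
  · rintro ⟨p, hp, q, hq, rfl⟩
    exact ⟨p, hp, q, hq, rfl⟩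
  · rintro ⟨p, hp, q, hq, rfl⟩
    exact ⟨p, hp, q, hq, rfl⟩

theorem JT : P ⊔ Q ≤ T := sup_le h.PT h.QT

theorem uniq {p q p' q' : G} (hp : p ∈ P) (hq : q ∈ Q) (hp' : p' ∈ P) (hq' : q' ∈ Q) (e : p * q = p' * q') :
    p = p' ∧ q = q' := by
  have h1 : p'⁻¹ * p = q' * q⁻¹ := by
    calc p'⁻¹ * p = p'⁻¹ * (p * q) * q⁻¹ := by group
      _ = q' * q⁻¹ := by rw [e]; group
  have h2 := h.disj _ (mul_mem (inv_mem hp') hp) (by rw [h1]; exact mul_mem hq' (inv_mem hq))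
  have h3 : p = p' := (inv_mul_eq_one.mp h2).symm
  refine ⟨h3, ?_⟩
  rw [h3] at e
  exact mul_left_cancel e

theorem nJ {s g : G} (hs : s ∈ S) (hg : g ∈ P ⊔ Q) : s * g * s⁻¹ ∈ P ⊔ Q := by
  obtain ⟨p, hp, q, hq, rfl⟩ := (mem_J h).mp hg
  have e : s * (p * q) * s⁻¹ = (s * p * s⁻¹) * (s * q * s⁻¹) := by group
  rw [e]
  by_cases hsT : s ∈ T
  · exact mul_mem (mem_sup_left (h.nP s hsT p hp)) (mem_sup_right (h.nQ s hsT q hq))
  · exact mul_mem (mem_sup_right (sw_P h hs hsT hp)) (mem_sup_left (sw_Q h hs hsT hq))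

/-- an element of `T` commuting with `p q` commutes with `p` and `q` -/
theorem comm_of {y p q : G} (hy : y ∈ T) (hp : p ∈ P) (hq : q ∈ Q) (e : y * (p * q) = p * q * y) :
    y * p = p * y ∧ y * q = q * y := by
  have h1 : (y * p * y⁻¹) * (y * q * y⁻¹) = p * q := by
    calc (y * p * y⁻¹) * (y * q * y⁻¹) = y * (p * q) * y⁻¹ := by group
      _ = p * q := by rw [e]; group
  obtain ⟨h2, h3⟩ := uniq h (h.nP y hy p hp) (h.nQ y hy q hq) hp hq h1
  exact ⟨mul_inv_eq_iff_eq_mul.mp h2, mul_inv_eq_iff_eq_mul.mp h3⟩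

/-- a swap commuting with `p q` -/
theorem comm_sw {s p q : G} (hs : s ∈ S) (hsT : s ∉ T) (hp : p ∈ P) (hq : q ∈ Q) (e : s * (p * q) = p * q * s) :
    q = s * p * s⁻¹ ∧ p = s * q * s⁻¹ := by
  have h1 : (s * q * s⁻¹) * (s * p * s⁻¹) = p * q := by
    calc (s * q * s⁻¹) * (s * p * s⁻¹) = s * (q * p) * s⁻¹ := by group
      _ = s * (p * q) * s⁻¹ := by rw [h.comm p hp q hq]
      _ = p * q := by rw [e]; group
  obtain ⟨h2, h3⟩ := uniq h (sw_Q h hs hsT hq) (sw_P h hs hsT hp) hp hq h1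
  exact ⟨h3.symm, h2.symm⟩

/-! ### pure and mixed involutions -/

theorem pure_P {p : G} (hp : p ∈ P) (hp2 : p * p = 1) (hp1 : p ≠ 1) : IsConj a p := by
  obtain ⟨k, -, hk⟩ := h.cls p hp hp2 hp1
  refine (isConj_iff.mpr ⟨t, h.tb⟩ : IsConj a b).trans ?_
  exact (isConj_iff.mpr ⟨k, hk⟩ : IsConj p b).symm

theorem exists_kQ {q : G} (hq : q ∈ Q) (hq2 : q * q = 1) (hq1 : q ≠ 1) :
    ∃ k, (∀ p ∈ P, k * p = p * k) ∧ k * q * k⁻¹ = a := by
  have h1 : t⁻¹ * q * t ∈ P := by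
    have h2 := sw_Q h (inv_mem h.tS) (fun hc => h.tn (inv_mem_iff.mp hc)) hq
    rwa [inv_inv] at h2
  have h2 : t⁻¹ * q * t * (t⁻¹ * q * t) = 1 := by
    calc t⁻¹ * q * t * (t⁻¹ * q * t) = t⁻¹ * (q * q) * t := by group
      _ = 1 := by rw [hq2]; group
  have h3 : t⁻¹ * q * t ≠ 1 := by
    intro e
    apply hq1
    calc q = t * (t⁻¹ * q * t) * t⁻¹ := by group
      _ = 1 := by rw [e]; group
  obtain ⟨k, hk, hk2⟩ := h.cls _ h1 h2 h3
  refine ⟨t * k * t⁻¹, fun p hp => ?_, ?_⟩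
  · have h4 : t⁻¹ * p * t ∈ Q := by
      have h5 := sw_P h (inv_mem h.tS) (fun hc => h.tn (inv_mem_iff.mp hc)) hp
      rwa [inv_inv] at h5
    have h5 := h.KQ k hk _ h4
    calc t * k * t⁻¹ * p = t * (k * (t⁻¹ * p * t)) * t⁻¹ := by group
      _ = t * (t⁻¹ * p * t * k) * t⁻¹ := by rw [h5]
      _ = p * (t * k * t⁻¹) := by group
  · calc t * k * t⁻¹ * q * (t * k * t⁻¹)⁻¹ = t * (k * (t⁻¹ * q * t) * k⁻¹) * t⁻¹ := by group
      _ = a := by rw [hk2, h.ta]

theorem pure_Q {q : G} (hq : q ∈ Q) (hq2 : q * q = 1) (hq1 : q ≠ 1) : IsConj a q := by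
  obtain ⟨k, -, hk⟩ := exists_kQ h hq hq2 hq1
  exact (isConj_iff.mpr ⟨k, hk⟩ : IsConj q a).symm

theorem mixed {p q : G} (hp : p ∈ P) (hp2 : p * p = 1) (hp1 : p ≠ 1) (hq : q ∈ Q) (hq2 : q * q = 1) (hq1 : q ≠ 1) :
    IsConj (a * b) (p * q) := by
  obtain ⟨k, hk, hk2⟩ := h.cls p hp hp2 hp1
  obtain ⟨l, hl, hl2⟩ := exists_kQ h hq hq2 hq1
  refine (isConj_iff.mpr ⟨l * k, ?_⟩ : IsConj (p * q) (a * b)).symm
  have h1 := h.KQ k hk q hq
  have h2 := hl b (bP h)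
  calc l * k * (p * q) * (l * k)⁻¹ = l * ((k * p * k⁻¹) * (k * q * k⁻¹)) * l⁻¹ := by group
    _ = l * (b * q) * l⁻¹ := by rw [hk2, h1, mul_inv_cancel_right]
    _ = (l * b * l⁻¹) * (l * q * l⁻¹) := by group
    _ = b * a := by rw [h2, mul_inv_cancel_right, hl2]
    _ = a * b := h.comm b (bP h) a (aQ h)

theorem ab2 : a * b * (a * b) = 1 := by
  have h1 := h.comm b (bP h) a (aQ h)
  calc a * b * (a * b) = a * (b * a) * b := by group
    _ = a * (a * b) * b := by rw [h1]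
    _ = (a * a) * (b * b) := by group
    _ = 1 := by rw [a2 h, b2 h, one_mul]

theorem sq_parts {p q : G} (hp : p ∈ P) (hq : q ∈ Q) (e : p * q * (p * q) = 1) : p * p = 1 ∧ q * q = 1 := by
  have h1 : (p * p) * (q * q) = 1 * 1 := by
    rw [one_mul, ← e]
    calc p * p * (q * q) = p * (p * q) * q := by group
      _ = p * (q * p) * q := by rw [h.comm p hp q hq]
      _ = p * q * (p * q) := by group
  exact uniq h (mul_mem hp hp) (mul_mem hq hq) (one_mem _) (one_mem _) h1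

/-- a mixed involution of `J` -/
theorem mixed_J (hpm : ¬ IsConj a (a * b)) {p q : G} (hp : p ∈ P) (hq : q ∈ Q) (he : IsConj (a * b) (p * q)) :
    p * p = 1 ∧ q * q = 1 ∧ p ≠ 1 ∧ q ≠ 1 := by
  obtain ⟨h1, h2⟩ := sq_parts h hp hq (sq_of_conj he (ab2 h))
  have hne : p * q ≠ 1 := by
    intro e
    rw [e, isConj_one_left] at he
    · have h3 : a * b = 1 * 1 := by rw [he, one_mul]
      have h4 : b * a = 1 * 1 := by rw [h.comm b (bP h) a (aQ h), h3]
      exact h.b1 (uniq h (bP h) (aQ h) (one_mem _) (one_mem _) h4).1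
  refine ⟨h1, h2, ?_, ?_⟩
  · rintro rfl
    rw [one_mul] at he hne
    exact hpm ((pure_Q h hq h2 hne).trans he.symm)
  · rintro rfl
    rw [mul_one] at he hne
    exact hpm ((pure_P h hp h1 hne).trans he.symm)

/-- a pure involution of `J` -/
theorem pure_J (hpm : ¬ IsConj a (a * b)) {p q : G} (hp : p ∈ P) (hq : q ∈ Q) (he : IsConj a (p * q)) :
    p = 1 ∨ q = 1 := by
  by_contra hcon
  push Not at hcon
  obtain ⟨h1, h2⟩ := sq_parts h hp hq (sq_of_conj he (a2 h))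
  exact hpm (he.trans (mixed h hp h1 hcon.1 hq h2 hcon.2).symm)

/-! ### counting -/

theorem card_T4 {H : Type*} [Group H] [Finite H] (φ : H →* G) (X : Subgroup H) (hX : ∀ y ∈ X, φ y ∈ T) :
    Nat.card X ≤ Nat.card ↥((P ⊔ Q).comap φ ⊓ X) * 4 := by
  classical
  have h1 := card_le_of_type X ((P ⊔ Q).comap φ) (fun y => (decide (Fx A (φ y)), decide (Cn Z (φ y)))) (by
    intro y hy y' hy' e
    rw [Prod.mk.injEq, decide_eq_decide, decide_eq_decide] at e
    rw [mem_comap, map_mul, map_inv]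
    exact (mem_J h).mpr (same_type h.toFr (hX y hy) (hX y' hy') e.1 e.2))
  have h2 : Nat.card (Bool × Bool) = 4 := by
    rw [Nat.card_eq_fintype_card, Fintype.card_prod, Fintype.card_bool]
  rwa [h2] at h1

theorem card_T3 {H : Type*} [Group H] [Finite H] (φ : H →* G) (X : Subgroup H) (hX : ∀ y ∈ X, φ y ∈ T)
    (hx : ∀ y ∈ X, Fx A (φ y) ∨ Cn Z (φ y)) : Nat.card X ≤ Nat.card ↥((P ⊔ Q).comap φ ⊓ X) * 3 := by
  classical
  have h1 := card_le_of_type X ((P ⊔ Q).comap φ) (fun y => (if Fx A (φ y) then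
      (if Cn Z (φ y) then 0 else 1) else 2 : Fin 3)) (by
    intro y hy y' hy' e
    rw [mem_comap, map_mul, map_inv]
    refine (mem_J h).mpr (same_type h.toFr (hX y hy) (hX y' hy') ?_ ?_)
    · by_cases c1 : Fx A (φ y) <;> by_cases c2 : Fx A (φ y') <;> by_cases c3 : Cn Z (φ y) <;>
        by_cases c4 : Cn Z (φ y') <;> simp_all
    · have k1 := hx y hy
      have k2 := hx y' hy'
      by_cases c1 : Fx A (φ y) <;> by_cases c2 : Fx A (φ y') <;> by_cases c3 : Cn Z (φ y) <;>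
        by_cases c4 : Cn Z (φ y') <;> simp_all)
  rwa [Nat.card_eq_fintype_card (α := Fin 3), Fintype.card_fin] at h1

theorem card_S2 {H : Type*} [Group H] [Finite H] (φ : H →* G) (X : Subgroup H) (hX : ∀ y ∈ X, φ y ∈ S) :
    Nat.card X ≤ Nat.card ↥(T.comap φ ⊓ X) * 2 := by
  classical
  have h1 := card_le_of_type X (T.comap φ) (fun y => decide (φ y ∈ T)) (by
    intro y hy y' hy' e
    rw [decide_eq_decide] at e
    rw [mem_comap, map_mul, map_inv]
    by_cases hc : φ y ∈ T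
    · exact mul_mem (inv_mem hc) (e.mp hc)
    · exact inv_mul_mem_T h (hX y hy) hc (hX y' hy') (fun h1 => hc (e.mpr h1)))
  rwa [Nat.card_eq_fintype_card (α := Bool), Fintype.card_bool] at h1

theorem card_S8 {H : Type*} [Group H] [Finite H] (φ : H →* G) (X : Subgroup H) (hX : ∀ y ∈ X, φ y ∈ S) :
    Nat.card X ≤ Nat.card ↥((P ⊔ Q).comap φ ⊓ X) * 8 := by
  have h1 := card_S2 h φ X hX
  have h2 := card_T4 h φ (T.comap φ ⊓ X) (fun y hy => hy.1)
  have h3 : (P ⊔ Q).comap φ ⊓ (T.comap φ ⊓ X) ≤ (P ⊔ Q).comap φ ⊓ X :=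
    inf_le_inf le_rfl inf_le_right
  have h4 := Subgroup.card_le_of_le h3
  omega

end dbl

/-! ### the `P`-part -/

open scoped Classical in
/-- the `P`-part of an element of `P Q` -/
noncomputable def pp (P Q : Subgroup G) (g : G) : G :=
  if h : ∃ p, p ∈ P ∧ ∃ q ∈ Q, g = p * q then h.choose else 1

section pp

variable (h : Dbl S T P Q Z A K a b t x)

include h

theorem pp_eq {p q : G} (hp : p ∈ P) (hq : q ∈ Q) : pp P Q (p * q) = p := by
  have h1 : ∃ p', p' ∈ P ∧ ∃ q' ∈ Q, p * q = p' * q' := ⟨p, hp, q, hq, rfl⟩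
  rw [pp, dif_pos h1]
  obtain ⟨h2, q', hq', e⟩ := h1.choose_spec
  exact (uniq h hp hq h2 hq' e).1.symm

theorem pp_spec {g : G} (hg : g ∈ P ⊔ Q) : pp P Q g ∈ P ∧ ∃ q ∈ Q, g = pp P Q g * q := by
  obtain ⟨p, hp, q, hq, rfl⟩ := (mem_J h).mp hg
  rw [pp_eq h hp hq]
  exact ⟨hp, q, hq, rfl⟩

theorem pp_mul {g g' : G} (hg : g ∈ P ⊔ Q) (hg' : g' ∈ P ⊔ Q) : pp P Q (g * g') = pp P Q g * pp P Q g' := by
  obtain ⟨p, hp, q, hq, rfl⟩ := (mem_J h).mp hg
  obtain ⟨p', hp', q', hq', rfl⟩ := (mem_J h).mp hg'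
  have e : p * q * (p' * q') = (p * p') * (q * q') := by
    calc p * q * (p' * q') = p * (q * p') * q' := by group
      _ = p * (p' * q) * q' := by rw [h.comm p' hp' q hq]
      _ = (p * p') * (q * q') := by group
  rw [e, pp_eq h (mul_mem hp hp') (mul_mem hq hq'), pp_eq h hp hq, pp_eq h hp' hq']

theorem pp_inv {g : G} (hg : g ∈ P ⊔ Q) : pp P Q g⁻¹ = (pp P Q g)⁻¹ := by
  obtain ⟨p, hp, q, hq, rfl⟩ := (mem_J h).mp hg
  have e : (p * q)⁻¹ = p⁻¹ * q⁻¹ := by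
    rw [h.comm p hp q hq]; group
  rw [e, pp_eq h (inv_mem hp) (inv_mem hq), pp_eq h hp hq]

/-- elements of `T` commuting with `g` commute with its `P`-part -/
theorem pp_comm {y g : G} (hy : y ∈ T) (hg : g ∈ P ⊔ Q) (e : y * g = g * y) :
    y * pp P Q g = pp P Q g * y := by
  obtain ⟨p, hp, q, hq, rfl⟩ := (mem_J h).mp hg
  rw [pp_eq h hp hq]
  exact (comm_of h hy hp hq e).1

theorem card_le_pp {H : Type*} [Group H] [Finite H] (ψ : H →* G) (Y : Subgroup H) (hY : ∀ y ∈ Y, ψ y ∈ P ⊔ Q)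
    (hinj : ∀ y ∈ Y, pp P Q (ψ y) = 1 → y = 1) (C : Set G) (hfin : C.Finite) (hC : ∀ y ∈ Y, pp P Q (ψ y) ∈ C) :
    Nat.card Y ≤ Nat.card C := by
  have : Finite C := hfin
  refine Nat.card_le_card_of_injective (fun y : Y => (⟨pp P Q (ψ y), hC y y.2⟩ : C)) ?_
  intro y y' e
  have e1 : pp P Q (ψ y) = pp P Q (ψ y') := congrArg Subtype.val e
  have e2 : pp P Q (ψ ((y : H)⁻¹ * y')) = 1 := by
    rw [map_mul, map_inv, pp_mul h (inv_mem (hY y y.2)) (hY y' y'.2), pp_inv h (hY y y.2), e1, inv_mul_cancel]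
  have e3 := hinj _ (mul_mem (inv_mem y.2) y'.2) e2
  exact Subtype.ext (inv_mul_eq_one.mp e3)

theorem surj_pp {H : Type*} [Group H] [Finite H] (ψ : H →* G) (Y : Subgroup H) (hY : ∀ y ∈ Y, ψ y ∈ P ⊔ Q)
    (hinj : ∀ y ∈ Y, pp P Q (ψ y) = 1 → y = 1) {C : G → Prop} (hC : ∀ y ∈ Y, C (pp P Q (ψ y)))
    (hfin : Finite {p // C p}) (hcard : Nat.card Y = Nat.card {p // C p}) :
    ∀ p, C p → ∃ n ∈ Y, pp P Q (ψ n) = p := by
  have hf : Function.Injective (fun y : Y => (⟨pp P Q (ψ y), hC y y.2⟩ : {p // C p})) := by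
    intro y y' e
    have e1 : pp P Q (ψ y) = pp P Q (ψ y') := congrArg Subtype.val e
    have e2 : pp P Q (ψ ((y : H)⁻¹ * y')) = 1 := by
      rw [map_mul, map_inv, pp_mul h (inv_mem (hY y y.2)) (hY y' y'.2), pp_inv h (hY y y.2), e1, inv_mul_cancel]
    have e3 := hinj _ (mul_mem (inv_mem y.2) y'.2) e2
    exact Subtype.ext (inv_mul_eq_one.mp e3)
  have hb := (Nat.bijective_iff_injective_and_card _).mpr ⟨hf, hcard⟩
  intro p hp
  obtain ⟨y, hy⟩ := hb.2 ⟨p, hp⟩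
  exact ⟨y, y.2, congrArg Subtype.val hy⟩

end pp

/-! ### the image of the diagonal group -/

/-- `φ p = g (p p^w) g⁻¹`, `v = g w g⁻¹` -/
structure Phi (S P : Subgroup G) (a b : G) (φ : ↥P →* G) (v : G) : Prop where
  inj : ∀ p, φ p = 1 → p = 1
  mS : ∀ p, φ p ∈ S
  cv : ∀ p, φ p * v = v * φ p
  mix : ∀ p, p * p = 1 → p ≠ 1 → IsConj (a * b) (φ p)
  vmul : ∀ p, p * p = 1 → IsConj v (v * φ p)
  nv : ∀ p, φ p ≠ v
  vT : v ∈ S
  v2 : v * v = 1

section phi

variable (h : Dbl S T P Q Z A K a b t x) {φ : ↥P →* G} {v : G} (F : Phi S P a b φ v)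

include h F

omit h in
theorem v1 : v ≠ 1 := fun e => F.nv 1 (by rw [map_one, e])

/-- `Z₁ ≤ J` -/
theorem φZ_J [Finite G] {z : ↥P} (hz : (z : G) ∈ Z) : φ z ∈ P ⊔ Q := by
  have h1 := card_S8 h φ ⊤ (fun y _ => F.mS y)
  rw [Subgroup.card_top, h.cardP] at h1
  obtain ⟨n, hn, hnZ⟩ : ∃ n : ↥P, φ n ∈ P ⊔ Q ∧ (n : G) ∉ Z := by
    by_contra hcon
    push Not at hcon
    have h2 : (P ⊔ Q).comap φ ⊓ ⊤ ≤ Z.subgroupOf P := fun n hn => mem_subgroupOf.mpr (hcon n hn.1)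
    have h3 := Subgroup.card_le_of_le h2
    have h4 : Nat.card ↥(Z.subgroupOf P) = 4 := by
      rw [Nat.card_congr (Subgroup.subgroupOfEquivOfLe (ZP h.toHeis)).toEquiv, h.cardZ]
    omega
  obtain ⟨r, hr, e⟩ := h.surj n n.2 hnZ z hz
  have h2 : z = n * (⟨r, hr⟩ * n⁻¹ * ⟨r, hr⟩⁻¹) := by
    apply Subtype.ext
    rw [← e]
    simp only [coe_mul, coe_inv]
    group
  rw [h2, map_mul, map_mul, map_mul, map_inv, map_inv]
  exact mul_mem hn (nJ h (F.mS _) (inv_mem hn))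

/-- the involutions of `φ P ∩ J` are mixed -/
theorem parts (hpm : ¬ IsConj a (a * b)) {n : ↥P} {p q : G} (hp : p ∈ P) (hq : q ∈ Q) (e : φ n = p * q)
    (hn2 : n * n = 1) (hn1 : n ≠ 1) : p * p = 1 ∧ q * q = 1 ∧ p ≠ 1 ∧ q ≠ 1 := by
  refine mixed_J h hpm hp hq ?_
  rw [← e]
  exact F.mix n hn2 hn1

/-- `φ n ∈ J` has a trivial component only if `n = 1` -/
theorem eq_one_of_part (hpm : ¬ IsConj a (a * b)) {n : ↥P} {p q : G} (hp : p ∈ P) (hq : q ∈ Q) (e : φ n = p * q)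
    (h1 : p = 1 ∨ q = 1) : n = 1 := by
  by_cases hn : n * n = 1
  · by_contra hn1
    obtain ⟨-, -, h2, h3⟩ := parts h F hpm hp hq e hn hn1
    rcases h1 with h1 | h1
    · exact h2 h1
    · exact h3 h1
  · exfalso
    have h2 : (n * n) * (n * n) = 1 := Subtype.ext (h.Asq false _ (h.ZA false (h.sq n n.2)))
    have h3 : φ (n * n) = (p * p) * (q * q) := by
      rw [map_mul, e]
      calc p * q * (p * q) = p * (q * p) * q := by group
        _ = p * (p * q) * q := by rw [h.comm p hp q hq]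
        _ = p * p * (q * q) := by group
    obtain ⟨-, -, h4, h5⟩ := parts h F hpm (mul_mem hp hp) (mul_mem hq hq) h3 h2 hn
    rcases h1 with h1 | h1
    · exact h4 (by rw [h1, one_mul])
    · exact h5 (by rw [h1, one_mul])

omit F in
theorem exists_z0 : ∃ z ∈ Z, z ≠ 1 ∧ z ≠ b := by
  classical
  by_contra hcon
  push Not at hcon
  have h1 : (Z : Set G) ⊆ (({1, b} : Finset G) : Set G) := by
    intro z hz
    simp only [Finset.coe_insert, Finset.coe_singleton, Set.mem_insert_iff, Set.mem_singleton_iff]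
    by_cases hz1 : z = 1
    · exact Or.inl hz1
    · exact Or.inr (hcon z hz hz1)
  have h2 := Set.ncard_le_ncard h1 (Set.toFinite _)
  have h3 : (({1, b} : Finset G) : Set G).ncard ≤ 2 := by
    rw [Set.ncard_coe_finset]; exact Finset.card_le_two
  have h4 : (Z : Set G).ncard = 4 := h.cardZ
  omega

/-- `v` is not pure -/
theorem not_pure [Finite G] (hpm : ¬ IsConj a (a * b)) (hvJ : v ∈ P ⊔ Q) (hv : IsConj a v) : False := by
  obtain ⟨z0, hz0, hz1, hzb⟩ := exists_z0 h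
  have hvc := v1 F
  have key : ∀ z : ↥P, (z : G) ∈ Z → z ≠ 1 → ∀ p ∈ P, ∀ q ∈ Q, φ z = p * q → p ≠ 1 ∧ q ≠ 1 := by
    intro z hz hz1 p hp q hq e
    have hz2 : z * z = 1 := Subtype.ext (h.Asq false _ (h.ZA false hz))
    have h1 := parts h F hpm hp hq e hz2 hz1
    exact ⟨h1.2.2.1, h1.2.2.2⟩
  have hvm : ∀ z : ↥P, (z : G) ∈ Z → IsConj a (v * φ z) := fun z hz =>
    hv.trans (F.vmul z (Subtype.ext (h.Asq false _ (h.ZA false hz))))
  have hbP := bP h
  have hz0P := ZP h.toHeis hz0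
  set B : ↥P := ⟨b, hbP⟩ with hB
  set Z0 : ↥P := ⟨z0, hz0P⟩ with hZ0
  have hB1 : B ≠ 1 := fun e => h.b1 (congrArg Subtype.val e)
  have hZ1 : Z0 ≠ 1 := fun e => hz1 (congrArg Subtype.val e)
  have hBZ : B * Z0 ≠ 1 := by
    intro e
    have e1 : b * z0 = 1 := congrArg Subtype.val e
    apply hzb
    calc z0 = b⁻¹ * (b * z0) := by group
      _ = b⁻¹ := by rw [e1, mul_one]
      _ = b := inv_eq_of_mul_eq_one_left (b2 h)
  have hBZZ : ((B * Z0 : ↥P) : G) ∈ Z := mul_mem h.bZ hz0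
  obtain ⟨p, hp, q, hq, e⟩ := (mem_J h).mp (φZ_J h F (z := B) h.bZ)
  obtain ⟨p', hp', q', hq', e'⟩ := (mem_J h).mp (φZ_J h F (z := Z0) hz0)
  obtain ⟨k1, k2⟩ := key B h.bZ hB1 p hp q hq e
  obtain ⟨k3, k4⟩ := key Z0 hz0 hZ1 p' hp' q' hq' e'
  have c1 := hvm B h.bZ
  have c2 := hvm Z0 hz0
  have c3 : φ (B * Z0) = (p * p') * (q * q') := by
    rw [map_mul, e, e']
    calc p * q * (p' * q') = p * (q * p') * q' := by group
      _ = p * (p' * q) * q' := by rw [h.comm p' hp' q hq]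
      _ = (p * p') * (q * q') := by group
  obtain ⟨k5, k6⟩ := key _ hBZZ hBZ _ (mul_mem hp hp') _ (mul_mem hq hq') c3
  rw [e] at c1
  rw [e'] at c2
  obtain ⟨r, hr, s, hs, rfl⟩ := (mem_J h).mp hvJ
  have hrs := sq_parts h hr hs F.v2
  rcases pure_J h hpm hr hs hv with hr1 | hs1
  · subst hr1
    rw [one_mul] at c1 c2
    have e1 : s * (p * q) = p * (s * q) := by
      rw [← mul_assoc, ← h.comm p hp s hs, mul_assoc]
    have e2 : s * (p' * q') = p' * (s * q') := by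
      rw [← mul_assoc, ← h.comm p' hp' s hs, mul_assoc]
    rw [e1] at c1
    rw [e2] at c2
    have d1 : s * q = 1 := (pure_J h hpm hp (mul_mem hs hq) c1).resolve_left k1
    have d2 : s * q' = 1 := (pure_J h hpm hp' (mul_mem hs hq') c2).resolve_left k3
    apply k6
    have d3 : q = s⁻¹ := (inv_eq_of_mul_eq_one_right d1).symm
    have d4 : q' = s⁻¹ := (inv_eq_of_mul_eq_one_right d2).symm
    rw [d3, d4, ← mul_inv_rev, hrs.2, inv_one]
  · subst hs1
    rw [mul_one] at c1 c2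
    rw [← mul_assoc] at c1 c2
    have d1 : r * p = 1 := (pure_J h hpm (mul_mem hr hp) hq c1).resolve_right k2
    have d2 : r * p' = 1 := (pure_J h hpm (mul_mem hr hp') hq' c2).resolve_right k4
    apply k5
    have d3 : p = r⁻¹ := (inv_eq_of_mul_eq_one_right d1).symm
    have d4 : p' = r⁻¹ := (inv_eq_of_mul_eq_one_right d2).symm
    rw [d3, d4, ← mul_inv_rev, hrs.1, inv_one]

/-- `v` is not in `T - J` -/
theorem not_outer [Finite G] (hpm : ¬ IsConj a (a * b)) (hvT : v ∈ T) (hvJ : v ∉ P ⊔ Q) : False := by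
  have hni : ¬ ∃ p ∈ P, ∃ q ∈ Q, v = p * q := fun hc => hvJ ((mem_J h).mpr hc)
  have hvQ : v * v ∈ Q := by rw [F.v2]; exact one_mem _
  obtain ⟨N, hN⟩ : ∃ N, N = (P ⊔ Q).comap φ := ⟨_, rfl⟩
  have hNJ : ∀ n ∈ N, φ n ∈ P ⊔ Q := fun n hn => by rw [hN] at hn; exact hn
  have h1 := card_S8 h φ ⊤ (fun y _ => F.mS y)
  rw [Subgroup.card_top, h.cardP, inf_top_eq, ← hN] at h1
  have hinj : ∀ y ∈ N, pp P Q (φ y) = 1 → y = 1 := by
    intro y hy e
    obtain ⟨k1, q, hq, k2⟩ := pp_spec h (hNJ y hy)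
    exact eq_one_of_part h F hpm k1 hq k2 (Or.inl e)
  have hcom : ∀ y ∈ N, v * pp P Q (φ y) = pp P Q (φ y) * v := fun y hy =>
    pp_comm h hvT (hNJ y hy) (F.cv y).symm
  by_cases hc : Cn Z v
  · have h2 := card_le_pp h φ N hNJ hinj (Z : Set G) (Set.toFinite _) (fun y hy =>
      h.gZ v hvT hni hc hvQ _ (pp_spec h (hNJ y hy)).1 (hcom y hy))
    have h3 : Nat.card ↥(Z : Set G) = 4 := h.cardZ
    rw [h3] at h2
    omega
  · have h8 := h.card8 v hvT hvQ hc
    have h2 := card_le_pp h φ N hNJ hinj {p : G | p ∈ P ∧ v * p = p * v} (Set.toFinite _) (fun y hy =>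
      ⟨(pp_spec h (hNJ y hy)).1, hcom y hy⟩)
    have h3 : Nat.card N = 8 := by
      have : Nat.card ↥{p : G | p ∈ P ∧ v * p = p * v} = 8 := h8
      omega
    obtain ⟨c, hcP, d, hdP, e1, e2, e3⟩ := h.der v hvT hvQ hc
    -- surjectivity
    have hsur : ∀ p ∈ P, v * p = p * v → ∃ n ∈ N, pp P Q (φ n) = p := by
      have hf : Function.Injective (fun y : N => (⟨pp P Q (φ y), (pp_spec h (hNJ y y.2)).1, hcom y y.2⟩ :
          {p : G // p ∈ P ∧ v * p = p * v})) := by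
        intro y y' e
        have f1 : pp P Q (φ y) = pp P Q (φ y') := congrArg Subtype.val e
        have f2 : pp P Q (φ ((y : ↥P)⁻¹ * y')) = 1 := by
          rw [map_mul, map_inv, pp_mul h (inv_mem (hNJ y y.2)) (hNJ y' y'.2), pp_inv h (hNJ y y.2), f1,
            inv_mul_cancel]
        have f3 := hinj _ (mul_mem (inv_mem y.2) y'.2) f2
        exact Subtype.ext (inv_mul_eq_one.mp f3)
      have hb := (Nat.bijective_iff_injective_and_card _).mpr ⟨hf, by rw [h3, h8]⟩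
      intro p hp hvp
      obtain ⟨y, hy⟩ := hb.2 ⟨p, hp, hvp⟩
      exact ⟨y, y.2, congrArg Subtype.val hy⟩
    obtain ⟨n, hn, rfl⟩ := hsur c hcP e1
    obtain ⟨m, hm, rfl⟩ := hsur d hdP e2
    have hnm : n * m ≠ m * n := by
      intro e
      apply h.b1
      rw [← e3, ← pp_mul h (hNJ n hn) (hNJ m hm), ← map_mul, e, map_mul, pp_mul h (hNJ m hm) (hNJ n hn)]
      group
    -- `N` is abelian
    obtain ⟨Z', hZ'⟩ : ∃ Z', Z' = Z.subgroupOf P := ⟨_, rfl⟩
    have hZN : Z' ≤ N := by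
      intro z hz
      rw [hZ', mem_subgroupOf] at hz
      rw [hN]
      exact φZ_J h F hz
    have h4 : Nat.card ↥Z' = 4 := by
      rw [hZ', Nat.card_congr (Subgroup.subgroupOfEquivOfLe (ZP h.toHeis)).toEquiv, h.cardZ]
    have h5 : (Z'.subgroupOf N).index = 2 := by
      have h6 := (Z'.subgroupOf N).card_mul_index
      rw [Nat.card_congr (Subgroup.subgroupOfEquivOfLe hZN).toEquiv, h4, h3] at h6
      omega
    have hcen : ∀ z ∈ Z', ∀ y : ↥P, y * z = z * y := fun z hz y => by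
      rw [hZ', mem_subgroupOf] at hz
      exact Subtype.ext (h.Zcen z hz y y.2)
    by_cases hnZ : n ∈ Z'
    · exact hnm (hcen n hnZ m).symm
    by_cases hmZ : m ∈ Z'
    · exact hnm (hcen m hmZ n)
    have h6 := (Subgroup.mul_mem_iff_of_index_two h5 (a := ⟨n, hn⟩⁻¹) (b := ⟨m, hm⟩)).mpr (by
      rw [inv_mem_iff, mem_subgroupOf, mem_subgroupOf]
      exact ⟨fun h7 => absurd h7 hnZ, fun h7 => absurd h7 hmZ⟩)
    rw [mem_subgroupOf] at h6
    have h7 : (n⁻¹ * m) ∈ Z' := h6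
    apply hnm
    have h8 := hcen _ h7 n
    calc n * m = n * (n * (n⁻¹ * m)) := by group
      _ = n * ((n⁻¹ * m) * n) := by rw [h8]
      _ = m * n := by group

/-- a fully centralised mixed involution of `J` is `a b` -/
theorem eq_ab [Finite G] (hpm : ¬ IsConj a (a * b)) (hvJ : v ∈ P ⊔ Q) (hv : IsConj (a * b) v)
    (hfull : ∀ R : Subgroup G, IsPGroup 2 R → (∀ r ∈ R, r * v = v * r) →
      Nat.card R ≤ Nat.card {s : G // s ∈ S ∧ s * v = v * s}) : v = a * b := by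
  obtain ⟨c, hc⟩ := isConj_iff.mp hv
  have hab := h.comm b (bP h) a (aQ h)
  have hS : ∀ s ∈ S, s * (a * b) = a * b * s := by
    intro s hs
    by_cases hsT : s ∈ T
    · calc s * (a * b) = (s * a) * b := by group
        _ = a * (s * b) := by rw [h.Ta s hsT]; group
        _ = a * b * s := by rw [h.bT s hsT]; group
    · have e1 := sw_a h hs hsT
      have e2 := sw_b h hs hsT
      calc s * (a * b) = (s * a * s⁻¹) * (s * b * s⁻¹) * s := by group
        _ = b * a * s := by rw [e1, e2]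
        _ = a * b * s := by rw [hab]
  have h1 := hfull (S.map (MulAut.conj c).toMonoidHom) (h.S2.map _) (by
    rintro _ ⟨s, hs, rfl⟩
    change c * s * c⁻¹ * v = v * (c * s * c⁻¹)
    rw [← hc]
    calc c * s * c⁻¹ * (c * (a * b) * c⁻¹) = c * (s * (a * b)) * c⁻¹ := by group
      _ = c * (a * b * s) * c⁻¹ := by rw [hS s hs]
      _ = c * (a * b) * c⁻¹ * (c * s * c⁻¹) := by group)
  rw [Nat.card_congr (S.equivMapOfInjective _ (MulAut.conj c).injective).symm.toEquiv] at h1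
  have hcen : ∀ s ∈ S, s * v = v * s := by
    have h2 : {s : G | s ∈ S ∧ s * v = v * s} ⊆ (S : Set G) := fun s hs => hs.1
    have h3 : {s : G | s ∈ S ∧ s * v = v * s} = (S : Set G) :=
      Set.eq_of_subset_of_ncard_le h2 h1 (Set.toFinite _)
    intro s hs
    have h4 : s ∈ {s : G | s ∈ S ∧ s * v = v * s} := by rw [h3]; exact hs
    exact h4.2
  obtain ⟨p, hp, q, hq, rfl⟩ := (mem_J h).mp hvJ
  obtain ⟨-, -, hp1, -⟩ := mixed_J h hpm hp hq hv
  have h2 : ∀ y ∈ T, y * p = p * y := fun y hy => (comm_of h hy hp hq (hcen y (h.TS hy))).1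
  have hpZ : p ∈ Z := mem_Z_of_central h.toHeis hp fun r hr => (h2 r (h.PT hr)).symm
  have hpb : p = b := by
    rcases h.actZ x h.xT with h3 | h3
    · exact absurd h3 h.xZ
    · rcases h3 p hpZ (h2 x h.xT) with h4 | h4
      · exact absurd h4 hp1
      · exact h4
  have h3 := (comm_sw h h.tS h.tn hp hq (hcen t h.tS)).1
  rw [h3, hpb, h.ta]
  exact hab

/-- the main step of the mixed case -/
theorem exists_pair [Finite G] (hpm : ¬ IsConj a (a * b)) (hvJ : v ∈ P ⊔ Q) (hv : IsConj (a * b) v) (i : Bool) :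
    ∃ c e : ↥P, (c : G) ∈ A i ∧ (c : G) ∉ Z ∧ φ c ∈ P ⊔ Q ∧ (e : G) ∈ A i ∧ φ e ∉ T := by
  classical
  have hvT := JT h hvJ
  have hvc := v1 F
  have hz : ∀ y ∈ zpowers v, y = 1 ∨ y = v := by
    intro y hy
    obtain ⟨k, rfl⟩ := mem_zpowers_iff.mp hy
    have h2 : v ^ (2 : ℤ) = 1 := by rw [zpow_two, F.v2]
    rcases Int.even_or_odd' k with ⟨m, hm | hm⟩
    · left; rw [hm, zpow_mul, h2, one_zpow]
    · right; rw [hm, zpow_add, zpow_mul, h2, one_zpow, one_mul, zpow_one]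
  have hcz : Nat.card (zpowers v) = 2 := by
    rw [Nat.card_zpowers]
    exact orderOf_eq_prime (by rw [pow_two]; exact F.v2) hvc
  have hcom : ∀ (p : ↥P) (y : zpowers v), Commute (φ p) ((zpowers v).subtype y) := by
    rintro p ⟨y, hy⟩
    rcases hz y hy with rfl | rfl
    · exact Commute.one_right _
    · exact F.cv p
  obtain ⟨ψ, hψ⟩ : ∃ ψ : ↥P × zpowers v →* G, ∀ p y, ψ (p, y) = φ p * y :=
    ⟨φ.noncommCoprod (zpowers v).subtype hcom, fun p y => MonoidHom.noncommCoprod_apply _ _ _ _⟩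
  obtain ⟨X, hX⟩ : ∃ X, X = ((A i).subgroupOf P).prod (⊤ : Subgroup (zpowers v)) := ⟨_, rfl⟩
  have hXm : ∀ y : ↥P × zpowers v, y ∈ X → (y.1 : G) ∈ A i := fun y hy => by
    rw [hX] at hy
    exact mem_subgroupOf.mp hy.1
  have hXm' : ∀ y : ↥P × zpowers v, (y.1 : G) ∈ A i → y ∈ X := fun y hy => by
    rw [hX]
    exact ⟨mem_subgroupOf.mpr hy, mem_top _⟩
  have hcX : Nat.card X = 32 := by
    rw [hX, Nat.card_congr (Subgroup.prodEquiv _ _).toEquiv, Nat.card_prod,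
      Nat.card_congr (Subgroup.subgroupOfEquivOfLe (h.AP i)).toEquiv, h.cardA, Nat.card_congr
      (Subgroup.topEquiv (G := zpowers v)).toEquiv, hcz]
  have hψS : ∀ y, ψ y ∈ S := by
    rintro ⟨p, y, hy⟩
    rw [hψ]
    refine mul_mem (F.mS p) ?_
    rcases hz y hy with rfl | rfl
    · exact one_mem _
    · exact F.vT
  have hmix : ∀ y ∈ X, y ≠ 1 → IsConj (a * b) (ψ y) := by
    rintro ⟨p, y, hy⟩ hyX hne
    have hp : p * p = 1 := Subtype.ext (h.Asq i _ (hXm _ hyX))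
    rw [hψ]
    rcases hz y hy with rfl | rfl
    · rw [mul_one]
      refine F.mix p hp fun e => hne ?_
      rw [e]; rfl
    · change IsConj _ (φ p * _)
      rw [F.cv p]
      exact hv.trans (F.vmul p hp)
  have hsq : ∀ y ∈ X, ψ y * ψ y = 1 := by
    intro y hy
    by_cases hy1 : y = 1
    · rw [hy1, map_one, one_mul]
    · exact sq_of_conj (hmix y hy hy1) (ab2 h)
  have hcomX : ∀ y ∈ X, ∀ y' ∈ X, y * y' = y' * y := by
    rintro ⟨p, y⟩ hy ⟨p', y'⟩ hy'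
    refine Prod.ext (Subtype.ext (A_comm h.toHeis (hXm _ hy) (hXm _ hy'))) (Subtype.ext ?_)
    change (y : G) * y' = y' * y
    rcases hz _ y.2 with e | e <;> rcases hz _ y'.2 with e' | e' <;> simp [e, e']
  have hinj : ∀ y ∈ X, ψ y ∈ P ⊔ Q → pp P Q (ψ y) = 1 → y = 1 := by
    intro y hy hyJ e
    by_contra hy1
    obtain ⟨k1, q, hq, k2⟩ := pp_spec h hyJ
    have k3 := hmix y hy hy1
    rw [k2] at k3
    exact (mixed_J h hpm k1 hq k3).2.2.1 e
  obtain ⟨Y, hY⟩ : ∃ Y, Y = (P ⊔ Q).comap ψ ⊓ X := ⟨_, rfl⟩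
  have hYX : Y ≤ X := by rw [hY]; exact inf_le_right
  have hYJ : ∀ y ∈ Y, ψ y ∈ P ⊔ Q := fun y hy => by rw [hY] at hy; exact hy.1
  have hYi : ∀ y ∈ Y, pp P Q (ψ y) = 1 → y = 1 := fun y hy => hinj y (hYX hy) (hYJ y hy)
  have hpsq : ∀ y ∈ Y, pp P Q (ψ y) * pp P Q (ψ y) = 1 := by
    intro y hy
    obtain ⟨k1, q, hq, k2⟩ := pp_spec h (hYJ y hy)
    have k3 := hsq y (hYX hy)
    have k4 := pp_eq h (one_mem P) (one_mem Q)
    rw [one_mul] at k4
    rw [← pp_mul h (hYJ y hy) (hYJ y hy), k3, k4]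
  obtain ⟨XT, hXT⟩ : ∃ XT, XT = T.comap ψ ⊓ X := ⟨_, rfl⟩
  have hXT1 : 16 ≤ Nat.card XT := by
    have h1 := card_S2 h ψ X (fun y _ => hψS y)
    rw [← hXT] at h1
    omega
  have hYXT : (P ⊔ Q).comap ψ ⊓ XT ≤ Y := by
    rw [hY, hXT]
    exact inf_le_inf le_rfl inf_le_right
  have hYc := Subgroup.card_le_of_le hYXT
  have hTc : ∀ e ∈ XT, ∀ y ∈ Y, ψ e * pp P Q (ψ y) = pp P Q (ψ y) * ψ e := by
    intro e he y hy
    rw [hXT] at he
    refine pp_comm h he.1 (hYJ y hy) ?_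
    rw [← map_mul, ← map_mul, hcomX e he.2 y (hYX hy)]
  -- `XT ≤ J`
  have hTJ : ∀ e ∈ XT, ψ e ∈ P ⊔ Q := by
    intro e he
    by_contra heJ
    have he' := he
    rw [hXT] at he'
    have heT : ψ e ∈ T := he'.1
    have hni : ¬ ∃ p ∈ P, ∃ q ∈ Q, ψ e = p * q := fun hc => heJ ((mem_J h).mpr hc)
    have heQ : ψ e * ψ e ∈ Q := by rw [hsq e he'.2]; exact one_mem _
    by_cases hxt : ∃ f ∈ XT, ¬ (Fx A (ψ f) ∨ Cn Z (ψ f))
    · obtain ⟨f, hf, hfx⟩ := hxt
      push Not at hfx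
      have hf' := hf
      rw [hXT] at hf'
      have hfQ : ψ f * ψ f ∈ Q := by rw [hsq f hf'.2]; exact one_mem _
      have hsw : Sw A (ψ f) := (h.actA _ hf'.1).resolve_left hfx.1
      have h2 := card_le_pp h ψ Y hYJ hYi (({1, b} : Finset G) : Set G) (Set.toFinite _) (fun y hy => by
        simp only [Finset.coe_insert, Finset.coe_singleton, Set.mem_insert_iff, Set.mem_singleton_iff]
        exact h.xQ8 _ hf'.1 hfQ hfx.2 hsw _ (pp_spec h (hYJ y hy)).1 (hTc f hf y hy) (hpsq y hy))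
      have h3 : Nat.card ↥(({1, b} : Finset G) : Set G) ≤ 2 := by
        rw [Nat.card_coe_set_eq, Set.ncard_coe_finset]
        exact Finset.card_le_two
      have h4 := card_T4 h ψ XT (fun y hy => by rw [hXT] at hy; exact hy.1)
      omega
    · push Not at hxt
      have h4 := card_T3 h ψ XT (fun y hy => by rw [hXT] at hy; exact hy.1) (fun y hy => by
        by_cases hc : Fx A (ψ y)
        · exact Or.inl hc
        · exact Or.inr (by_contra fun hcon => (hxt y hy).elim hc hcon))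
      by_cases hc : Cn Z (ψ e)
      · have h2 := card_le_pp h ψ Y hYJ hYi (Z : Set G) (Set.toFinite _) (fun y hy =>
          h.gZ _ heT hni hc heQ _ (pp_spec h (hYJ y hy)).1 (hTc e he y hy))
        have h3 : Nat.card ↥(Z : Set G) = 4 := h.cardZ
        omega
      · have h8 := h.card8 _ heT heQ hc
        have h2 := card_le_pp h ψ Y hYJ hYi {p : G | p ∈ P ∧ ψ e * p = p * ψ e} (Set.toFinite _)
          (fun y hy => ⟨(pp_spec h (hYJ y hy)).1, hTc e he y hy⟩)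
        have h3 : Nat.card ↥{p : G | p ∈ P ∧ ψ e * p = p * ψ e} = 8 := h8
        have h5 : Nat.card Y ∣ 32 := by rw [← hcX]; exact Subgroup.card_dvd_of_le hYX
        have h6 : Nat.card Y = 8 := by
          have h7 : Nat.card Y ≤ 8 := by omega
          have h9 : 6 ≤ Nat.card Y := by omega
          generalize Nat.card Y = k at *
          interval_cases k <;> omega
        have hsur := surj_pp h ψ Y hYJ hYi (C := fun p => p ∈ P ∧ ψ e * p = p * ψ e)
          (fun y hy => ⟨(pp_spec h (hYJ y hy)).1, hTc e he y hy⟩)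
          (Nat.finite_of_card_ne_zero (by rw [h8]; norm_num)) (by rw [h6, h8])
        obtain ⟨c, hcP, d, hdP, e1, e2, e3⟩ := h.der _ heT heQ hc
        obtain ⟨n, hn, rfl⟩ := hsur c ⟨hcP, e1⟩
        obtain ⟨m, hm, rfl⟩ := hsur d ⟨hdP, e2⟩
        apply h.b1
        rw [← e3, ← pp_mul h (hYJ n hn) (hYJ m hm), ← map_mul, hcomX n (hYX hn) m (hYX hm), map_mul,
          pp_mul h (hYJ m hm) (hYJ n hn)]
        group
  -- the element `c`
  obtain ⟨c, hcA, hcZ, hcT⟩ : ∃ c : ↥P, (c : G) ∈ A i ∧ (c : G) ∉ Z ∧ φ c ∈ T := by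
    by_contra hcon
    push Not at hcon
    have h1 := card_S2 h φ ((A i).subgroupOf P) (fun y _ => F.mS y)
    rw [Nat.card_congr (Subgroup.subgroupOfEquivOfLe (h.AP i)).toEquiv, h.cardA] at h1
    have h2 : T.comap φ ⊓ (A i).subgroupOf P ≤ Z.subgroupOf P := by
      rintro y ⟨hy, hyA⟩
      rw [mem_subgroupOf]
      by_contra hyZ
      exact hcon y (mem_subgroupOf.mp hyA) hyZ hy
    have h3 := Subgroup.card_le_of_le h2
    have h4 : Nat.card ↥(Z.subgroupOf P) = 4 := by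
      rw [Nat.card_congr (Subgroup.subgroupOfEquivOfLe (ZP h.toHeis)).toEquiv, h.cardZ]
    omega
  -- the element `e`
  obtain ⟨e, heA, heT⟩ : ∃ e : ↥P, (e : G) ∈ A i ∧ φ e ∉ T := by
    by_contra hcon
    push Not at hcon
    have h1 : X ≤ Y := by
      intro y hyX
      rw [hY]
      refine ⟨mem_comap.mpr (hTJ y ?_), hyX⟩
      rw [hXT]
      refine ⟨mem_comap.mpr ?_, hyX⟩
      obtain ⟨p, y, hy⟩ := y
      rw [hψ]
      refine mul_mem (hcon p (hXm _ hyX)) ?_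
      rcases hz y hy with rfl | rfl
      · exact one_mem _
      · exact hvT
    have h2 : Nat.card Y = 32 := by rw [le_antisymm hYX h1, hcX]
    obtain ⟨y0, hy0, hy0Z⟩ : ∃ y ∈ Y, pp P Q (ψ y) ∉ Z := by
      by_contra hcon2
      push Not at hcon2
      have h3 := card_le_pp h ψ Y hYJ hYi (Z : Set G) (Set.toFinite _) hcon2
      have h4 : Nat.card ↥(Z : Set G) = 4 := h.cardZ
      omega
    obtain ⟨j, hj⟩ := h.inv _ (pp_spec h (hYJ y0 hy0)).1 (hpsq y0 hy0)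
    have h3 := card_le_pp h ψ Y hYJ hYi (A j : Set G) (Set.toFinite _) (fun y hy =>
      h.cen j _ hj hy0Z _ (pp_spec h (hYJ y hy)).1 (by
        rw [← pp_mul h (hYJ y hy) (hYJ y0 hy0), ← pp_mul h (hYJ y0 hy0) (hYJ y hy), ← map_mul, ← map_mul,
          hcomX y (hYX hy) y0 (hYX hy0)]))
    have h4 : Nat.card ↥(A j : Set G) = 16 := h.cardA j
    omega
  refine ⟨c, e, hcA, hcZ, ?_, heA, heT⟩
  have h1 := hTJ (c, 1) (by
    rw [hXT]
    refine ⟨mem_comap.mpr ?_, hXm' _ hcA⟩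
    rw [hψ]
    exact mul_mem hcT (one_mem _))
  rw [hψ] at h1
  simpa using h1

/-- `v` is not mixed -/
theorem not_mixed [Finite G] (hpm : ¬ IsConj a (a * b)) (hvJ : v ∈ P ⊔ Q) (hv : IsConj (a * b) v)
    (hfull : ∀ R : Subgroup G, IsPGroup 2 R → (∀ r ∈ R, r * v = v * r) →
      Nat.card R ≤ Nat.card {s : G // s ∈ S ∧ s * v = v * s}) : False := by
  have hab := eq_ab h F hpm hvJ hv hfull
  obtain ⟨c, e0, hcA, hcZ, hcJ, he0A, he0T⟩ := exists_pair h F hpm hvJ hv false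
  obtain ⟨d, e1, hdA, hdZ, hdJ, he1A, he1T⟩ := exists_pair h F hpm hvJ hv true
  have he0S := F.mS e0
  have he1S := F.mS e1
  obtain ⟨p, hp, q, hq, ec⟩ := (mem_J h).mp hcJ
  obtain ⟨r, hr, s, hs, ed⟩ := (mem_J h).mp hdJ
  have hcd : c * d ≠ d * c := by
    intro e
    exact hdZ (h.inf _ (h.cen false c hcA hcZ d (h.AP _ hdA) (congrArg Subtype.val e).symm) hdA)
  have hc2 : φ c * φ c = 1 := by
    have k : c * c = 1 := Subtype.ext (h.Asq _ _ hcA)
    rw [← map_mul, k, map_one]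
  have hd2 : φ d * φ d = 1 := by
    have k : d * d = 1 := Subtype.ext (h.Asq _ _ hdA)
    rw [← map_mul, k, map_one]
  have hφ : φ c * φ d ≠ φ d * φ c := by
    intro e
    apply hcd
    have h1 : φ (c * d * (d * c)⁻¹) = 1 := by
      rw [map_mul, map_inv, map_mul, map_mul, e, mul_inv_cancel]
    exact mul_inv_eq_one.mp (F.inj _ h1)
  rw [ec] at hc2
  rw [ed] at hd2
  obtain ⟨hp2, hq2⟩ := sq_parts h hp hq hc2
  obtain ⟨hr2, hs2⟩ := sq_parts h hr hs hd2
  have hJZ : ∀ z : ↥P, (z : G) ∈ Z → ∀ α ∈ P, ∀ β ∈ Q, φ z = α * β →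
      α ∈ Z ∧ β = φ e0 * α * (φ e0)⁻¹ := by
    intro z hz α hα β hβ e
    have hze : φ e0 * (α * β) = α * β * φ e0 := by
      rw [← e, ← map_mul, ← map_mul]
      exact congrArg φ (Subtype.ext (h.Zcen z hz e0 e0.2))
    obtain ⟨f1, f2⟩ := comm_sw h he0S he0T hα hβ hze
    refine ⟨?_, f1⟩
    -- commutation with `c`, `d`
    have g1 : (α * β) * (p * q) = (p * q) * (α * β) := by
      rw [← e, ← ec, ← map_mul, ← map_mul]
      exact congrArg φ (Subtype.ext (h.Zcen z hz c c.2).symm)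
    have g2 : (α * β) * (r * s) = (r * s) * (α * β) := by
      rw [← e, ← ed, ← map_mul, ← map_mul]
      exact congrArg φ (Subtype.ext (h.Zcen z hz d d.2).symm)
    have split : ∀ p₁ ∈ P, ∀ q₁ ∈ Q, ∀ p₂ ∈ P, ∀ q₂ ∈ Q, (p₁ * q₁) * (p₂ * q₂) = (p₂ * q₂) * (p₁ * q₁) →
        p₁ * p₂ = p₂ * p₁ ∧ q₁ * q₂ = q₂ * q₁ := by
      intro p₁ hp₁ q₁ hq₁ p₂ hp₂ q₂ hq₂ k
      apply uniq h (mul_mem hp₁ hp₂) (mul_mem hq₁ hq₂) (mul_mem hp₂ hp₁) (mul_mem hq₂ hq₁)
      calc p₁ * p₂ * (q₁ * q₂) = p₁ * (p₂ * q₁) * q₂ := by group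
        _ = p₁ * (q₁ * p₂) * q₂ := by rw [h.comm p₂ hp₂ q₁ hq₁]
        _ = (p₁ * q₁) * (p₂ * q₂) := by group
        _ = (p₂ * q₂) * (p₁ * q₁) := k
        _ = p₂ * (q₂ * p₁) * q₁ := by group
        _ = p₂ * (p₁ * q₂) * q₁ := by rw [h.comm p₁ hp₁ q₂ hq₂]
        _ = p₂ * p₁ * (q₂ * q₁) := by group
    obtain ⟨a1, a2⟩ := split α hα β hβ p hp q hq g1
    obtain ⟨a3, a4⟩ := split α hα β hβ r hr s hs g2
    by_cases hpr : p * r = r * p
    · have hqs : q * s ≠ s * q := by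
        intro k
        apply hφ
        rw [ec, ed]
        calc (p * q) * (r * s) = p * (q * r) * s := by group
          _ = p * (r * q) * s := by rw [h.comm r hr q hq]
          _ = (p * r) * (q * s) := by group
          _ = (r * p) * (s * q) := by rw [hpr, k]
          _ = r * (p * s) * q := by group
          _ = r * (s * p) * q := by rw [h.comm p hp s hs]
          _ = (r * s) * (p * q) := by group
      have m1 := sw_Q h he0S he0T hq
      have m2 := sw_Q h he0S he0T hs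
      refine mem_Z_of_comm h.toHeis m1 m2 ?_ ?_ ?_ hα ?_ ?_
      · calc φ e0 * q * (φ e0)⁻¹ * (φ e0 * q * (φ e0)⁻¹) = φ e0 * (q * q) * (φ e0)⁻¹ := by group
          _ = 1 := by rw [hq2]; group
      · calc φ e0 * s * (φ e0)⁻¹ * (φ e0 * s * (φ e0)⁻¹) = φ e0 * (s * s) * (φ e0)⁻¹ := by group
          _ = 1 := by rw [hs2]; group
      · intro k
        apply hqs
        calc q * s = (φ e0)⁻¹ * (φ e0 * q * (φ e0)⁻¹ * (φ e0 * s * (φ e0)⁻¹)) * φ e0 := by group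
          _ = (φ e0)⁻¹ * (φ e0 * s * (φ e0)⁻¹ * (φ e0 * q * (φ e0)⁻¹)) * φ e0 := by rw [k]
          _ = s * q := by group
      · rw [f2]
        calc φ e0 * β * (φ e0)⁻¹ * (φ e0 * q * (φ e0)⁻¹) = φ e0 * (β * q) * (φ e0)⁻¹ := by group
          _ = φ e0 * (q * β) * (φ e0)⁻¹ := by rw [a2]
          _ = φ e0 * q * (φ e0)⁻¹ * (φ e0 * β * (φ e0)⁻¹) := by group
      · rw [f2]
        calc φ e0 * β * (φ e0)⁻¹ * (φ e0 * s * (φ e0)⁻¹) = φ e0 * (β * s) * (φ e0)⁻¹ := by group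
          _ = φ e0 * (s * β) * (φ e0)⁻¹ := by rw [a4]
          _ = φ e0 * s * (φ e0)⁻¹ * (φ e0 * β * (φ e0)⁻¹) := by group
    · exact mem_Z_of_comm h.toHeis hp hr hp2 hr2 hpr hα a1 a3
  -- surjectivity of `Z → Z`
  have hfin : Finite ↥Z := Nat.finite_of_card_ne_zero (by rw [h.cardZ]; norm_num)
  have hzJ : ∀ z : ↥Z, φ ⟨z, ZP h.toHeis z.2⟩ ∈ P ⊔ Q := fun z => φZ_J h F z.2
  have hf : Function.Injective (fun z : ↥Z => (⟨pp P Q (φ ⟨z, ZP h.toHeis z.2⟩), by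
      obtain ⟨k1, β, hβ, k2⟩ := pp_spec h (hzJ z)
      exact (hJZ _ z.2 _ k1 β hβ k2).1⟩ : ↥Z)) := by
    intro z z' e
    have e1 : pp P Q (φ ⟨z, ZP h.toHeis z.2⟩) = pp P Q (φ ⟨z', ZP h.toHeis z'.2⟩) := congrArg Subtype.val e
    have e2 : pp P Q (φ ((⟨z, ZP h.toHeis z.2⟩ : ↥P)⁻¹ * ⟨z', ZP h.toHeis z'.2⟩)) = 1 := by
      rw [map_mul, map_inv, pp_mul h (inv_mem (hzJ z)) (hzJ z'), pp_inv h (hzJ z), e1, inv_mul_cancel]
    have e3 : φ ((⟨z, ZP h.toHeis z.2⟩ : ↥P)⁻¹ * ⟨z', ZP h.toHeis z'.2⟩) ∈ P ⊔ Q := by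
      rw [map_mul, map_inv]
      exact mul_mem (inv_mem (hzJ z)) (hzJ z')
    obtain ⟨k1, β, hβ, k2⟩ := pp_spec h e3
    have e4 := eq_one_of_part h F hpm k1 hβ k2 (Or.inl e2)
    have e5 := congrArg Subtype.val (inv_mul_eq_one.mp e4)
    exact Subtype.ext e5
  obtain ⟨z, hz⟩ := (Finite.injective_iff_surjective.mp hf) ⟨b, h.bZ⟩
  have hzb : pp P Q (φ ⟨z, ZP h.toHeis z.2⟩) = b := congrArg Subtype.val hz
  obtain ⟨k1, β, hβ, k2⟩ := pp_spec h (hzJ z)
  have k3 := (hJZ _ z.2 _ k1 β hβ k2).2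
  rw [hzb] at k2 k3
  rw [sw_b h he0S he0T] at k3
  apply F.nv ⟨z, ZP h.toHeis z.2⟩
  rw [k2, k3, hab, h.comm b (bP h) a (aQ h)]

/-- the contradiction -/
theorem false_of_phi [Finite G] (hpm : ¬ IsConj a (a * b)) (hvT : v ∈ T)
    (hfull : ∀ R : Subgroup G, IsPGroup 2 R → (∀ r ∈ R, r * v = v * r) →
      Nat.card R ≤ Nat.card {s : G // s ∈ S ∧ s * v = v * s}) : False := by
  by_cases hvJ : v ∈ P ⊔ Q
  · obtain ⟨p, hp, q, hq, e⟩ := (mem_J h).mp hvJ
    have hvc := v1 F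
    have h2 := F.v2
    rw [e] at h2
    obtain ⟨hp2, hq2⟩ := sq_parts h hp hq h2
    by_cases hp1 : p = 1
    · rw [hp1, one_mul] at e
      refine not_pure h F hpm hvJ ?_
      rw [e]
      exact pure_Q h hq hq2 (fun k => hvc (by rw [e, k]))
    · by_cases hq1 : q = 1
      · rw [hq1, mul_one] at e
        refine not_pure h F hpm hvJ ?_
        rw [e]
        exact pure_P h hp hp2 hp1
      · refine not_mixed h F hpm hvJ ?_ hfull
        rw [e]
        exact mixed h hp hp2 hp1 hq hq2 hq1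
  · exact not_outer h F hpm hvT hvJ

end phi

/-- **(alpha)**: an involution `w ∈ S - T` is not conjugate to a fully centralised involution of `T`. -/
theorem alpha [Finite G] (h : Dbl S T P Q Z A K a b t x) (hpm : ¬ IsConj a (a * b)) {w g : G} (hw : w ∈ S)
    (hwT : w ∉ T) (hw2 : w * w = 1) (hvT : g * w * g⁻¹ ∈ T) (hC : ∀ s ∈ S, s * w = w * s → g * s * g⁻¹ ∈ S)
    (hfull : ∀ R : Subgroup G, IsPGroup 2 R → (∀ r ∈ R, r * (g * w * g⁻¹) = g * w * g⁻¹ * r) →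
      Nat.card R ≤ Nat.card {s : G // s ∈ S ∧ s * (g * w * g⁻¹) = g * w * g⁻¹ * s}) : False := by
  have hwi : w⁻¹ = w := inv_eq_of_mul_eq_one_left hw2
  have hcom : ∀ p ∈ P, ∀ r ∈ P, p * (w * r * w⁻¹) = (w * r * w⁻¹) * p := fun p hp r hr =>
    h.comm p hp _ (sw_P h hw hwT hr)
  let D : ↥P →* G :=
    { toFun := fun p => g * (p * (w * p * w⁻¹)) * g⁻¹
      map_one' := by
        change g * (1 * (w * 1 * w⁻¹)) * g⁻¹ = 1
        group
      map_mul' := by
        intro p r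
        change g * (p * r * (w * (p * r) * w⁻¹)) * g⁻¹ = g * (p * (w * p * w⁻¹)) * g⁻¹ * (g * (r * (w * r * w⁻¹)) * g⁻¹)
        calc g * ((p : G) * r * (w * (p * r) * w⁻¹)) * g⁻¹
            = g * (p * (r * (w * p * w⁻¹)) * (w * r * w⁻¹)) * g⁻¹ := by group
          _ = g * (p * ((w * p * w⁻¹) * r) * (w * r * w⁻¹)) * g⁻¹ := by rw [hcom r r.2 p p.2]
          _ = g * (p * (w * p * w⁻¹)) * g⁻¹ * (g * (r * (w * r * w⁻¹)) * g⁻¹) := by group }
  have hD : ∀ p : ↥P, D p = g * (p * (w * p * w⁻¹)) * g⁻¹ := fun _ => rfl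
  have hDw : ∀ p : ↥P, ((p : G) * (w * p * w⁻¹)) * w = w * (p * (w * p * w⁻¹)) := by
    intro p
    calc ((p : G) * (w * p * w⁻¹)) * w = p * (w * p) := by group
      _ = p * (w * p * w⁻¹) * w := by group
      _ = (w * p * w⁻¹) * p * w := by rw [hcom p p.2 p p.2]
      _ = w * (p * (w⁻¹ * p * w)) := by group
      _ = w * (p * (w * p * w⁻¹)) := by rw [hwi]
  have hDS : ∀ p : ↥P, (p : G) * (w * p * w⁻¹) ∈ S := fun p =>
    mul_mem (h.TS (h.PT p.2)) (mul_mem (mul_mem hw (h.TS (h.PT p.2))) (inv_mem hw))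
  refine false_of_phi h (φ := D) (v := g * w * g⁻¹) ?_ hpm hvT hfull
  refine { inj := ?_, mS := ?_, cv := ?_, mix := ?_, vmul := ?_, nv := ?_, vT := h.TS hvT, v2 := ?_ }
  · intro p e
    rw [hD] at e
    have e1 : (p : G) * (w * p * w⁻¹) = 1 * 1 := by
      calc (p : G) * (w * p * w⁻¹) = g⁻¹ * (g * (p * (w * p * w⁻¹)) * g⁻¹) * g := by group
        _ = 1 * 1 := by rw [e]; group
    exact Subtype.ext (uniq h p.2 (sw_P h hw hwT p.2) (one_mem _) (one_mem _) e1).1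
  · intro p
    rw [hD]
    exact hC _ (hDS p) (hDw p)
  · intro p
    rw [hD]
    calc g * (p * (w * p * w⁻¹)) * g⁻¹ * (g * w * g⁻¹) = g * ((p * (w * p * w⁻¹)) * w) * g⁻¹ := by group
      _ = g * (w * (p * (w * p * w⁻¹))) * g⁻¹ := by rw [hDw]
      _ = g * w * g⁻¹ * (g * (p * (w * p * w⁻¹)) * g⁻¹) := by group
  · intro p hp2 hp1
    have e2 : (p : G) * p = 1 := congrArg Subtype.val hp2
    have e1 : (p : G) ≠ 1 := fun e => hp1 (Subtype.ext e)
    refine (mixed h p.2 e2 e1 (sw_P h hw hwT p.2) ?_ ?_).trans (isConj_iff.mpr ⟨g, (hD p).symm⟩)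
    · calc w * p * w⁻¹ * (w * p * w⁻¹) = w * ((p : G) * p) * w⁻¹ := by group
        _ = 1 := by rw [e2]; group
    · intro e
      apply e1
      calc (p : G) = w⁻¹ * (w * p * w⁻¹) * w := by group
        _ = 1 := by rw [e]; group
  · intro p hp2
    have e2 : (p : G) * p = 1 := congrArg Subtype.val hp2
    have e3 : (p : G)⁻¹ = p := inv_eq_of_mul_eq_one_left e2
    refine isConj_iff.mpr ⟨g * p * g⁻¹, ?_⟩
    rw [hD]
    calc g * p * g⁻¹ * (g * w * g⁻¹) * (g * p * g⁻¹)⁻¹ = g * (p * w * (p : G)⁻¹) * g⁻¹ := by group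
      _ = g * (p * w * p) * g⁻¹ := by rw [e3]
      _ = g * ((p * (w * p * w⁻¹)) * w) * g⁻¹ := by group
      _ = g * (w * (p * (w * p * w⁻¹))) * g⁻¹ := by rw [hDw]
      _ = g * w * g⁻¹ * (g * (p * (w * p * w⁻¹)) * g⁻¹) := by group
  · intro p e
    rw [hD] at e
    have e1 : (p : G) * (w * p * w⁻¹) = w := by
      calc (p : G) * (w * p * w⁻¹) = g⁻¹ * (g * (p * (w * p * w⁻¹)) * g⁻¹) * g := by group
        _ = w := by rw [e]; group
    apply hwT
    rw [← e1]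
    exact mul_mem (h.PT p.2) (h.QT (sw_P h hw hwT p.2))
  · calc g * w * g⁻¹ * (g * w * g⁻¹) = g * (w * w) * g⁻¹ := by group
      _ = 1 := by rw [hw2]; group

end Cfsg.Agent.UGT.L34T2.BigAlpha
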