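import Cfsg.Agent.UGT.L34T2.BigBeta

/-!
# Type `L₃(4)`, `T < S`, case BIG: (γ) of UGT #14882 (4)

`gamma`: an involution of `T - P Q` is not conjugate to an element of `P Q`.
-/

set_option autoImplicit false
set_option linter.unusedVariables false
set_option linter.unusedSectionVars false

open Subgroup

namespace Cfsg.Agent.UGT.L34T2.Big

variable {G : Type*} [Group G]

section Dbl

variable {S T P Q Z : Subgroup G} {A : Bool → Subgroup G} {K : Subgroup G} {a b t x : G}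
  (D : Dbl S T P Q Z A K a b t x)
include D

/-- `S` centralises `a b` -/
theorem Sab {s : G} (hs : s ∈ S) : s * (a * b) = a * b * s := by
  have hab : a * b = b * a := (D.comm b (Z_le D.toFr D.bZ) a (a_mem D)).symm
  have h1 : ∀ y ∈ T, y * (a * b) = a * b * y := by
    intro y hy
    rw [← mul_assoc, D.Ta y hy, mul_assoc, D.bT y hy, mul_assoc]
  rcases D.ST s hs with h | h
  · exact h1 s h
  · have h2 := h1 _ h
    have h3 : t * (a * b) * t⁻¹ = a * b := by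
      calc t * (a * b) * t⁻¹ = (t * a * t⁻¹) * (t * b * t⁻¹) := by group
        _ = b * a := by rw [D.ta, D.tb]
        _ = a * b := hab.symm
    calc s * (a * b) = t * (t⁻¹ * s * (a * b)) := by group
      _ = t * (a * b * (t⁻¹ * s)) := by rw [h2]
      _ = t * (a * b) * t⁻¹ * s := by group
      _ = a * b * s := by rw [h3]

/-- the involutions of `P Q` -/
theorem inv_J {y : G} (h : JM P Q y) (hyy : y * y = 1) : ∃ p ∈ P, ∃ q ∈ Q, y = p * q ∧ p * p = 1 ∧ q * q = 1 := by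
  obtain ⟨p, hp, q, hq, rfl⟩ := h
  have h2 : (p * q) * (p * q) = (p * p) * (q * q) := by
    have := D.comm p hp q hq
    calc (p * q) * (p * q) = p * (q * p) * q := by group
      _ = p * (p * q) * q := by rw [this]
      _ = (p * p) * (q * q) := by group
  rw [h2] at hyy
  have h3 : p * p ∈ Q := by
    rw [mul_eq_one_iff_eq_inv.1 hyy]
    exact inv_mem (mul_mem hq hq)
  have h4 := D.disj _ (mul_mem hp hp) h3
  rw [h4, one_mul] at hyy
  exact ⟨p, hp, q, hq, rfl, h4, hyy⟩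

/-- the mixed involutions are conjugate to `a b` -/
theorem mixed {p q : G} (hp : p ∈ P) (hq : q ∈ Q) (hpp : p * p = 1) (hp1 : p ≠ 1) (hqq : q * q = 1) (hq1 : q ≠ 1) :
    ∃ g : G, g * (p * q) * g⁻¹ = a * b := by
  obtain ⟨k, hk, hk'⟩ := D.cls p hp hpp hp1
  have h1 := D.KQ k hk q hq
  obtain ⟨l, hl, hl'⟩ := D.cls _ (D.tQ q hq)
    (by rw [show t * q * t⁻¹ * (t * q * t⁻¹) = t * (q * q) * t⁻¹ by group, hqq]; group)
    (fun h => hq1 (conj_eq_one_iff.1 h))
  have h2 := D.KQ l hl a (a_mem D)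
  refine ⟨l * t * k, ?_⟩
  calc l * t * k * (p * q) * (l * t * k)⁻¹ = l * (t * ((k * p * k⁻¹) * (k * q * k⁻¹)) * t⁻¹) * l⁻¹ := by group
    _ = l * (t * (b * (q * k * k⁻¹)) * t⁻¹) * l⁻¹ := by rw [hk', h1]
    _ = l * ((t * b * t⁻¹) * (t * q * t⁻¹)) * l⁻¹ := by group
    _ = (l * a * l⁻¹) * (l * (t * q * t⁻¹) * l⁻¹) := by rw [D.ta]; group
    _ = a * b := by rw [hl', h2, mul_inv_cancel_right]

/-- `|R| ≤ |S|` -/
theorem card_le [Finite G] {R : Subgroup G} (hR : IsPGroup 2 R) : Nat.card R ≤ Nat.card S := by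
  obtain ⟨h, hh⟩ := D.syl R hR
  exact Nat.card_le_card_of_injective (fun r : R => (⟨h * r * h⁻¹, hh r r.2⟩ : S))
    (fun r s hrs => by
      have h2 : h * (r : G) * h⁻¹ = h * s * h⁻¹ := congrArg Subtype.val hrs
      exact Subtype.ext (mul_left_cancel (mul_right_cancel h2)))

/-- the choice of `g` for `a b` -/
theorem exists_gS [Finite G] {e g : G} (hg : g * e * g⁻¹ = a * b) :
    ∃ g' : G, g' * e * g'⁻¹ = a * b ∧ ∀ y ∈ S, y * e = e * y → g' * y * g'⁻¹ ∈ S := by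
  let C : Subgroup G := centralizer ({a * b} : Set G)
  let R : Subgroup G := (S ⊓ centralizer ({e} : Set G)).map (MulAut.conj g).toMonoidHom
  have hR2 : IsPGroup 2 R := (D.S2.to_le inf_le_left).map _
  have hRC : R ≤ C := by
    rintro r ⟨y, hy, rfl⟩
    have h1 : y * e = e * y := (mem_centralizer_singleton_iff.1 hy.2)
    refine mem_centralizer_singleton_iff.2 ?_
    change g * y * g⁻¹ * (a * b) = a * b * (g * y * g⁻¹)
    rw [← hg]
    calc g * y * g⁻¹ * (g * e * g⁻¹) = g * (y * e) * g⁻¹ := by group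
      _ = g * (e * y) * g⁻¹ := by rw [h1]
      _ = _ := by group
  have hSC : S ≤ C := fun s hs => mem_centralizer_singleton_iff.2 (Sab D hs)
  have hSC2 : IsPGroup 2 (S.subgroupOf C) := D.S2.comap_of_injective C.subtype C.subtype_injective
  obtain ⟨V, hV⟩ := hSC2.exists_le_sylow
  have hV2 : IsPGroup 2 ((V : Subgroup C).map C.subtype) := V.2.map _
  have hle : S ≤ (V : Subgroup C).map C.subtype := by
    intro s hs
    exact ⟨⟨s, hSC hs⟩, hV (show (⟨s, hSC hs⟩ : C) ∈ S.subgroupOf C from hs), rfl⟩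
  have hEq : S = (V : Subgroup C).map C.subtype := by
    refine SetLike.coe_injective (Set.eq_of_subset_of_ncard_le hle ?_ (Set.toFinite _))
    exact card_le D hV2
  have hRC2 : IsPGroup 2 (R.subgroupOf C) := hR2.comap_of_injective C.subtype C.subtype_injective
  obtain ⟨U, hU⟩ := hRC2.exists_le_sylow
  obtain ⟨c, hc⟩ := MulAction.exists_smul_eq C U V
  refine ⟨(c : G) * g, ?_, ?_⟩
  · have h1 : (c : G) * (a * b) = a * b * c := (mem_centralizer_singleton_iff.1 c.2)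
    calc (c : G) * g * e * ((c : G) * g)⁻¹ = c * (g * e * g⁻¹) * (c : G)⁻¹ := by group
      _ = a * b := by rw [hg, h1, mul_inv_cancel_right]
  · intro y hy hye
    have h1 : g * y * g⁻¹ ∈ R := ⟨y, ⟨hy, mem_centralizer_singleton_iff.2 hye⟩, rfl⟩
    have h2 : (⟨g * y * g⁻¹, hRC h1⟩ : C) ∈ (U : Subgroup C) := hU h1
    have h3 : c * ⟨g * y * g⁻¹, hRC h1⟩ * c⁻¹ ∈ (V : Subgroup C) := by
      rw [← hc]
      exact Subgroup.smul_mem_pointwise_smul _ (MulAut.conj c) _ h2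
    rw [hEq]
    refine ⟨_, h3, ?_⟩
    change (c : G) * (g * y * g⁻¹) * (c : G)⁻¹ = _
    group

end Dbl

/-- (γ) -/
theorem gamma [Finite G] {S T P Q Z : Subgroup G} {A : Bool → Subgroup G} {K : Subgroup G} {a b t x : G}
    {X : Subgroup G} {Inn Fix : G → Subgroup G} (D : DblX S T P Q Z A K a b t x X Inn Fix) (hmix : NoMix P Q a)
    (hα : Alpha S T) {y g : G} (hy : y ∈ T) (hJ : ¬ JM P Q y) (hyy : y * y = 1) : ¬ JM P Q (g * y * g⁻¹) := by
  intro hg
  have D' := D.toDbl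
  have hβ := @beta G _ S T P Q Z A K a b t x D' hmix _ hα
  have hy1 : y ≠ 1 := by
    rintro rfl
    exact hJ ⟨1, one_mem _, 1, one_mem _, (one_mul 1).symm⟩
  obtain ⟨p, hp, q, hq, hpq, hpp, hqq⟩ := inv_J D' hg
    (by rw [show g * y * g⁻¹ * (g * y * g⁻¹) = g * (y * y) * g⁻¹ by group, hyy]; group)
  have hpure : ∀ h : G, h * y * h⁻¹ ≠ a := fun h hh => by
    rcases hβ (D'.TS hy) hh with h1 | h1
    · exact hJ ⟨y, h1, 1, one_mem _, (mul_one y).symm⟩
    · exact hJ ⟨1, one_mem _, y, h1, (one_mul y).symm⟩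
  have hp1 : p ≠ 1 := by
    rintro rfl
    rw [one_mul] at hpq
    obtain ⟨h, hh⟩ := pureQ D' hq hqq (fun h => hy1 (by rw [h] at hpq; exact conj_eq_one_iff.1 hpq))
    exact hpure (h * g) (by rw [← hh, ← hpq]; group)
  have hq1 : q ≠ 1 := by
    rintro rfl
    rw [mul_one] at hpq
    obtain ⟨h, hh⟩ := pureP D' hp hpp hp1
    exact hpure (h * g) (by rw [← hh, ← hpq]; group)
  obtain ⟨h, hh⟩ := mixed D' hp hq hpp hp1 hqq hq1
  obtain ⟨k, hk, hkS⟩ := exists_gS D' (e := y) (g := h * g) (by rw [← hh, ← hpq]; group)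
  have haS : a ∈ S := D'.TS (D'.QT (a_mem D'))
  have he1S : k * a * k⁻¹ ∈ S := hkS a haS (D'.Ta y hy).symm
  have he11 : k * a * k⁻¹ * (k * a * k⁻¹) = 1 := by
    rw [show k * a * k⁻¹ * (k * a * k⁻¹) = k * (a * a) * k⁻¹ by group, a_sq D']; group
  have he1n : k * a * k⁻¹ ≠ 1 := fun h => a_ne D' (conj_eq_one_iff.1 h)
  have hyI : y ∉ Inn a := fun h1 => hJ ((D.InnQ a (a_mem D') (a_sq D') (a_ne D') y hy (D'.Ta y hy)).1 h1)
  have habI : a * b ∉ Inn (k * a * k⁻¹) := by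
    intro h1
    apply hyI
    have h2 := D.Innc k⁻¹ _ _ h1
    rwa [← hk, show k⁻¹ * (k * y * k⁻¹) * k⁻¹⁻¹ = y by group, show k⁻¹ * (k * a * k⁻¹) * k⁻¹⁻¹ = a by group] at h2
  have haT : a ∈ T := D'.QT (a_mem D')
  have hbP : b ∈ P := Z_le D'.toFr D'.bZ
  have habT : a * b ∈ T := mul_mem haT (D'.PT hbP)
  have habJ : ∃ p ∈ P, ∃ q ∈ Q, a * b = p * q := ⟨b, hbP, a, a_mem D', (D'.comm b hbP a (a_mem D')).symm⟩
  rcases hβ he1S (e := k * a * k⁻¹) (g := k⁻¹) (by group) with h1 | h1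
  · apply habI
    have h2 : t * (k * a * k⁻¹) * t⁻¹ ∈ Q := D'.tP _ h1
    have h3 : t * (k * a * k⁻¹) * t⁻¹ * (t * (k * a * k⁻¹) * t⁻¹) = 1 := by
      rw [show t * (k * a * k⁻¹) * t⁻¹ * (t * (k * a * k⁻¹) * t⁻¹) = t * (k * a * k⁻¹ * (k * a * k⁻¹)) * t⁻¹ by group,
        he11]
      group
    have h4 : t * (k * a * k⁻¹) * t⁻¹ ≠ 1 := fun h => he1n (conj_eq_one_iff.1 h)
    have h5 := (D.InnQ _ h2 h3 h4 (a * b) habT (Sab D' (D'.TS (D'.QT h2))).symm).2 habJ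
    have h6 := D.Innc t⁻¹ _ _ h5
    have h7 : t⁻¹ * (a * b) * t⁻¹⁻¹ = a * b := by
      have := Sab D' (inv_mem D'.tS)
      rw [this, inv_inv, mul_assoc, inv_mul_cancel, mul_one]
    rwa [h7, show t⁻¹ * (t * (k * a * k⁻¹) * t⁻¹) * t⁻¹⁻¹ = k * a * k⁻¹ by group] at h6
  · exact habI ((D.InnQ _ h1 he11 he1n (a * b) habT (Sab D' he1S).symm).2 habJ)

end Cfsg.Agent.UGT.L34T2.Big
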