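import Cfsg.Agent.UGT.L34T2.FrBase

/-!
# Type `L₃(4)`, frame: `J = P Q`, types, transport
-/

set_option autoImplicit false

open Subgroup

namespace Cfsg.Agent.UGT.L34T2

variable {G : Type*} [Group G]

namespace Heis

variable {P Z : Subgroup G} {A : Bool → Subgroup G}

/-- `Z = {1, b, z, z b}` -/
theorem four (h : Heis P Z A) {b z u : G} (hb : b ∈ Z) (b1 : b ≠ 1) (hz : z ∈ Z) (hz1 : z ≠ 1) (hzb : z ≠ b)
    (hu : u ∈ Z) : u = 1 ∨ u = b ∨ u = z ∨ u = z * b := by
  classical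
  by_contra hcon
  push Not at hcon
  have hbb : b * b = 1 := h.Zsq hb
  have hZf : Finite Z := Nat.finite_of_card_ne_zero (by rw [h.cardZ]; norm_num)
  have hsub : ({1, b, z, z * b, u} : Finset G) ⊆ (Set.toFinite (Z : Set G)).toFinset := by
    intro v hv
    rw [Set.Finite.mem_toFinset]
    simp only [Finset.mem_insert, Finset.mem_singleton] at hv
    rcases hv with rfl | rfl | rfl | rfl | rfl
    · exact Z.one_mem
    · exact hb
    · exact hz
    · exact Z.mul_mem hz hb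
    · exact hu
  have hc := Finset.card_le_card hsub
  have hc2 : ((Set.toFinite (Z : Set G)).toFinset).card = 4 := by
    rw [← Set.ncard_eq_toFinset_card (Z : Set G)]
    exact h.cardZ
  have hc3 : ({1, b, z, z * b, u} : Finset G).card = 5 := by
    have n1 : (1 : G) ≠ b := Ne.symm b1
    have n2 : z * b ≠ 1 := by
      intro e
      apply hzb
      calc z = z * (b * b) := by rw [hbb, mul_one]
        _ = (z * b) * b := by group
        _ = b := by rw [e, one_mul]
    have n3 : z * b ≠ b := by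
      intro e; exact hz1 (mul_eq_right.mp e)
    have n4 : z ≠ z * b := by
      intro e; exact b1 (left_eq_mul.mp e)
    rw [Finset.card_insert_of_notMem, Finset.card_insert_of_notMem, Finset.card_insert_of_notMem,
      Finset.card_insert_of_notMem, Finset.card_singleton]
    · simp only [Finset.mem_singleton]; exact Ne.symm hcon.2.2.2
    · simp only [Finset.mem_insert, Finset.mem_singleton]; push Not
      exact ⟨n4, Ne.symm hcon.2.2.1⟩
    · simp only [Finset.mem_insert, Finset.mem_singleton]; push Not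
      exact ⟨Ne.symm hzb, Ne.symm n3, Ne.symm hcon.2.1⟩
    · simp only [Finset.mem_insert, Finset.mem_singleton]; push Not
      exact ⟨n1, Ne.symm hz1, Ne.symm n2, Ne.symm hcon.1⟩
  omega

end Heis

namespace Fr

variable {T P Q Z : Subgroup G} {A : Bool → Subgroup G} {b : G}

/-- elements of `P Q` -/
theorem mem_J (h : Fr T P Q Z A b) {y : G} : y ∈ P ⊔ Q ↔ ∃ p ∈ P, ∃ q ∈ Q, y = p * q := by
  constructor
  · intro hy
    have hc : ∀ u ∈ P ⊔ Q, ∃ p ∈ P, ∃ q ∈ Q, u = p * q := by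
      intro u hu
      rw [sup_eq_closure] at hu
      induction hu using closure_induction with
      | mem u hu =>
        rcases hu with hu | hu
        · exact ⟨u, hu, 1, Q.one_mem, by group⟩
        · exact ⟨1, P.one_mem, u, hu, by group⟩
      | one => exact ⟨1, P.one_mem, 1, Q.one_mem, by group⟩
      | mul u v _ _ iu iv =>
        obtain ⟨p, hp, q, hq, rfl⟩ := iu
        obtain ⟨p', hp', q', hq', rfl⟩ := iv
        refine ⟨p * p', P.mul_mem hp hp', q * q', Q.mul_mem hq hq', ?_⟩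
        have e := h.comm p' hp' q hq
        calc p * q * (p' * q') = p * (q * p') * q' := by group
          _ = p * (p' * q) * q' := by rw [e]
          _ = _ := by group
      | inv u _ iu =>
        obtain ⟨p, hp, q, hq, rfl⟩ := iu
        refine ⟨p⁻¹, P.inv_mem hp, q⁻¹, Q.inv_mem hq, ?_⟩
        have e := h.comm p hp q hq
        rw [← mul_inv_rev, ← e]
    exact hc y hy
  · rintro ⟨p, hp, q, hq, rfl⟩
    exact mul_mem (mem_sup_left hp) (mem_sup_right hq)

theorem JT (h : Fr T P Q Z A b) : P ⊔ Q ≤ T := sup_le h.PT h.QT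

/-- the decomposition is unique -/
theorem uniq (h : Fr T P Q Z A b) {p p' q q' : G} (hp : p ∈ P) (hp' : p' ∈ P) (hq : q ∈ Q) (hq' : q' ∈ Q)
    (e : p * q = p' * q') : p = p' ∧ q = q' := by
  have h1 : p'⁻¹ * p = q' * q⁻¹ := by
    calc p'⁻¹ * p = p'⁻¹ * (p * q) * q⁻¹ := by group
      _ = p'⁻¹ * (p' * q') * q⁻¹ := by rw [e]
      _ = _ := by group
  have h2 : p'⁻¹ * p = 1 := h.disj _ (P.mul_mem (P.inv_mem hp') hp) (by
    rw [h1]; exact Q.mul_mem hq' (Q.inv_mem hq))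
  have h3 : p = p' := (inv_mul_eq_one.mp h2).symm
  exact ⟨h3, by rw [h3] at e; exact mul_left_cancel e⟩

theorem nJ (h : Fr T P Q Z A b) {y j : G} (hy : y ∈ T) (hj : j ∈ P ⊔ Q) : y * j * y⁻¹ ∈ P ⊔ Q := by
  obtain ⟨p, hp, q, hq, rfl⟩ := h.mem_J.mp hj
  rw [conj_mul]
  exact mul_mem (mem_sup_left (h.nP y hy p hp)) (mem_sup_right (h.nQ y hy q hq))

theorem nJ' (h : Fr T P Q Z A b) {y j : G} (hy : y ∈ T) (hj : j ∈ P ⊔ Q) : y⁻¹ * j * y ∈ P ⊔ Q := by
  have := h.nJ (T.inv_mem hy) hj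
  rwa [inv_inv] at this

/-- `T` normalises `Z` -/
theorem nZ (h : Fr T P Q Z A b) {y z : G} (hy : y ∈ T) (hz : z ∈ Z) : y * z * y⁻¹ ∈ Z := by
  rcases h.actA y hy with h1 | h1
  · exact h.inf _ (h1 false z (h.ZA false hz)) (h1 true z (h.ZA true hz))
  · exact h.inf _ (h1 true z (h.ZA true hz)) (h1 false z (h.ZA false hz))

theorem bb (h : Fr T P Q Z A b) : b * b = 1 := h.Zsq h.bZ

theorem bP (h : Fr T P Q Z A b) : b ∈ P := h.ZP h.bZ

/-- `y` does not fix and swap at the same time -/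
theorem not_fix_swap (h : Fr T P Q Z A b) {y : G}
    (h1 : ∀ i, ∀ u ∈ A i, y * u * y⁻¹ ∈ A i) (h2 : ∀ i, ∀ u ∈ A i, y * u * y⁻¹ ∈ A (!i)) : False := by
  obtain ⟨u, hu, huZ⟩ := h.exists_not_mem false
  have h3 : y * u * y⁻¹ ∈ Z := h.inf _ (h1 false u hu) (h2 false u hu)
  -- `u ∈ y⁻¹ Z y`; use finiteness of `Z`
  have hZf : Finite Z := Nat.finite_of_card_ne_zero (by rw [h.cardZ]; norm_num)
  have h4 : ∀ z ∈ Z, y * z * y⁻¹ ∈ Z := by
    intro z hz
    exact h.inf _ (h1 false z (h.ZA false hz)) (h1 true z (h.ZA true hz))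
  have h5 : cjg y Z = Z := by
    have hle : cjg y Z ≤ Z := by
      intro w hw
      obtain ⟨z, hz, rfl⟩ := exists_of_cjg hw
      exact h4 z hz
    exact SetLike.coe_injective (Set.eq_of_subset_of_ncard_le hle
      (by
        have e : (Z : Set G).ncard = ((cjg y Z : Subgroup G) : Set G).ncard := (card_cjg y Z).symm
        exact e.le) (Set.toFinite _))
  rw [← h5, conj_mem_cjg] at h3
  exact huZ h3

/-- `y²` is inner -/
theorem sq_mem (h : Fr T P Q Z A b) {y : G} (hy : y ∈ T) : y * y ∈ P ⊔ Q := by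
  rw [h.mem_J]
  refine h.inner (y * y) (T.mul_mem hy hy) ?_ ?_
  · intro i u hu
    have e : y * y * u * (y * y)⁻¹ = y * (y * u * y⁻¹) * y⁻¹ := by group
    rw [e]
    rcases h.actA y hy with h1 | h1
    · exact h1 i _ (h1 i u hu)
    · have := h1 (!i) _ (h1 i u hu)
      rwa [Bool.not_not] at this
  · intro z hz
    rcases h.actZ y hy with h1 | h1
    · rw [mul_assoc, h1 z hz, ← mul_assoc, h1 z hz, mul_assoc]
    · -- `y` acts on `Z` as a transvection
      set w := y * z * y⁻¹ with hw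
      have hwZ : w ∈ Z := h.nZ hy hz
      set w2 := y * w * y⁻¹ with hw2
      have hw2Z : w2 ∈ Z := h.nZ hy hwZ
      have e2 : y * y * z = w2 * (y * y) := by rw [hw2, hw]; group
      suffices hs : w2 = z by rw [e2, hs]
      by_cases hzb : z = 1 ∨ z = b
      · have hf : y * z = z * y := by
          rcases hzb with rfl | rfl
          · simp
          · exact h.bT y hy
        have : w = z := by rw [hw, hf]; group
        rw [hw2, this, ← hw, this]
      · push Not at hzb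
        rcases h.four h.bZ h.b1 hz hzb.1 hzb.2 hwZ with e | e | e | e
        · exfalso
          apply hzb.1
          have : y * z * y⁻¹ = 1 := e
          rwa [conj_eq_one_iff] at this
        · exfalso
          apply hzb.2
          have h4 : y * z * y⁻¹ = y * b * y⁻¹ := by
            rw [h.bT y hy, mul_inv_cancel_right]; exact e
          exact mul_left_cancel (mul_right_cancel h4)
        · rw [hw2, e, ← hw, e]
        · rw [hw2, e, conj_mul, ← hw, e, h.bT y hy, mul_inv_cancel_right, mul_assoc, h.bb, mul_one]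

/-- `y` not central on `Z`: `z ↦ z b` -/
theorem act_nc (h : Fr T P Q Z A b) {y z : G} (hy : y ∈ T) (hn : ¬ ∀ z ∈ Z, y * z = z * y) (hz : z ∈ Z)
    (hz1 : z ≠ 1) (hzb : z ≠ b) : y * z * y⁻¹ = z * b := by
  have h1 := (h.actZ y hy).resolve_left hn
  have hne : y * z * y⁻¹ ≠ z := by
    intro e
    have : y * z = z * y := mul_inv_eq_iff_eq_mul.mp e
    rcases h1 z hz this with e | e
    · exact hz1 e
    · exact hzb e
  rcases h.four h.bZ h.b1 hz hz1 hzb (h.nZ hy hz) with e | e | e | e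
  · exact absurd (conj_eq_one_iff.mp e) hz1
  · exfalso
    apply hzb
    have h4 : y * z * y⁻¹ = y * b * y⁻¹ := by
      rw [h.bT y hy, mul_inv_cancel_right]; exact e
    exact mul_left_cancel (mul_right_cancel h4)
  · exact absurd e hne
  · exact e

theorem not_nc (h : Fr T P Q Z A b) {y z : G} (hy : y ∈ T) (hn : ¬ ∀ z ∈ Z, y * z = z * y) (hz : z ∈ Z)
    (e : y * z = z * y) : z = 1 ∨ z = b := (h.actZ y hy).resolve_left hn z hz e

/-- elements of the same type are congruent modulo `J` -/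
theorem of_same (h : Fr T P Q Z A b) {y y' : G} (hy : y ∈ T) (hy' : y' ∈ T)
    (hA : (∀ i, ∀ u ∈ A i, y * u * y⁻¹ ∈ A i) ↔ (∀ i, ∀ u ∈ A i, y' * u * y'⁻¹ ∈ A i))
    (hZ : (∀ z ∈ Z, y * z = z * y) ↔ (∀ z ∈ Z, y' * z = z * y')) : y * y' ∈ P ⊔ Q := by
  rw [h.mem_J]
  refine h.inner _ (T.mul_mem hy hy') ?_ ?_
  · intro i u hu
    have e : y * y' * u * (y * y')⁻¹ = y * (y' * u * y'⁻¹) * y⁻¹ := by group
    rw [e]
    rcases h.actA y hy with h1 | h1
    · exact h1 i _ (hA.mp h1 i u hu)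
    · rcases h.actA y' hy' with h2 | h2
      · exact (h.not_fix_swap (hA.mpr h2) h1).elim
      · have := h1 (!i) _ (h2 i u hu)
        rwa [Bool.not_not] at this
  · intro z hz
    by_cases h1 : ∀ z ∈ Z, y * z = z * y
    · rw [mul_assoc, hZ.mp h1 z hz, ← mul_assoc, h1 z hz, mul_assoc]
    · have h2 : ¬ ∀ z ∈ Z, y' * z = z * y' := fun h => h1 (hZ.mpr h)
      by_cases hzb : z = 1 ∨ z = b
      · rcases hzb with rfl | rfl
        · simp
        · exact h.bT _ (T.mul_mem hy hy')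
      · push Not at hzb
        have e : y * y' * z * (y * y')⁻¹ = z := by
          have e1 : y * y' * z * (y * y')⁻¹ = y * (y' * z * y'⁻¹) * y⁻¹ := by group
          rw [e1, h.act_nc hy' h2 hz hzb.1 hzb.2, conj_mul, h.act_nc hy h1 hz hzb.1 hzb.2, h.bT y hy,
            mul_inv_cancel_right, mul_assoc, h.bb, mul_one]
        calc y * y' * z = (y * y' * z * (y * y')⁻¹) * (y * y') := by group
          _ = z * (y * y') := by rw [e]

theorem of_same' (h : Fr T P Q Z A b) {y y' : G} (hy : y ∈ T) (hy' : y' ∈ T)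
    (hA : (∀ i, ∀ u ∈ A i, y * u * y⁻¹ ∈ A i) ↔ (∀ i, ∀ u ∈ A i, y' * u * y'⁻¹ ∈ A i))
    (hZ : (∀ z ∈ Z, y * z = z * y) ↔ (∀ z ∈ Z, y' * z = z * y')) : y⁻¹ * y' ∈ P ⊔ Q := by
  have h1 := h.of_same hy hy' hA hZ
  have h2 := h.sq_mem hy
  have e : y⁻¹ * y' = (y * y)⁻¹ * (y * y') := by group
  rw [e]
  exact mul_mem (inv_mem h2) h1

/-- `T / J` is abelian -/
theorem comm_mem (h : Fr T P Q Z A b) {y y' : G} (hy : y ∈ T) (hy' : y' ∈ T) : y * y' * y⁻¹ * y'⁻¹ ∈ P ⊔ Q := by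
  have h1 := h.sq_mem (T.mul_mem hy hy')
  have h2 := h.nJ' hy' (inv_mem (h.sq_mem hy))
  have h3 := inv_mem (h.sq_mem hy')
  have e : y * y' * y⁻¹ * y'⁻¹ = (y * y' * (y * y')) * (y'⁻¹ * (y * y)⁻¹ * y') * (y' * y')⁻¹ := by group
  rw [e]
  exact mul_mem (mul_mem h1 h2) h3

/-- `|T / J| ≤ 4` -/
theorem relIndex_le (h : Fr T P Q Z A b) : (P ⊔ Q).relIndex T ≤ 4 := by
  classical
  let φ : (↥T ⧸ (P ⊔ Q).subgroupOf T) → Bool × Bool := fun q =>
    (decide (∀ i, ∀ u ∈ A i, (q.out : G) * u * (q.out : G)⁻¹ ∈ A i),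
      decide (∀ z ∈ Z, (q.out : G) * z = z * (q.out : G)))
  have hφ : Function.Injective φ := by
    intro q q' e
    simp only [φ, Prod.mk.injEq, decide_eq_decide] at e
    have h1 := h.of_same' q.out.2 q'.out.2 e.1 e.2
    rw [← Quotient.out_eq q, ← Quotient.out_eq q']
    refine QuotientGroup.eq.mpr ?_
    rw [mem_subgroupOf]
    exact h1
  have := Nat.card_le_card_of_injective φ hφ
  have e : Nat.card (Bool × Bool) = 4 := by simp
  rw [e] at this
  exact this

theorem card_J (h : Fr T P Q Z A b) : Nat.card (P ⊔ Q : Subgroup G) = 64 * Nat.card Q := by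
  rw [← h.cardP, ← Nat.card_prod]
  refine (Nat.card_congr (Equiv.ofBijective (fun u : P × Q => (⟨u.1 * u.2, h.mem_J.mpr
    ⟨_, u.1.2, _, u.2.2, rfl⟩⟩ : (P ⊔ Q : Subgroup G))) ⟨?_, ?_⟩)).symm
  · rintro ⟨p, q⟩ ⟨p', q'⟩ e
    have e' := Subtype.ext_iff.mp e
    obtain ⟨e1, e2⟩ := h.uniq p.2 p'.2 q.2 q'.2 e'
    exact Prod.ext (Subtype.ext e1) (Subtype.ext e2)
  · rintro ⟨j, hj⟩
    obtain ⟨p, hp, q, hq, rfl⟩ := h.mem_J.mp hj
    exact ⟨(⟨p, hp⟩, ⟨q, hq⟩), rfl⟩

/-- `C_J(y) = C_P(y) C_Q(y)` for `y ∈ T` -/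
theorem cen_J (h : Fr T P Q Z A b) {y p q : G} (hy : y ∈ T) (hp : p ∈ P) (hq : q ∈ Q) :
    y * (p * q) = p * q * y ↔ y * p = p * y ∧ y * q = q * y := by
  constructor
  · intro e
    have e1 : (y * p * y⁻¹) * (y * q * y⁻¹) = p * q := by
      rw [← conj_mul, e]; group
    obtain ⟨e2, e3⟩ := h.uniq (h.nP y hy p hp) hp (h.nQ y hy q hq) hq e1
    exact ⟨mul_inv_eq_iff_eq_mul.mp e2, mul_inv_eq_iff_eq_mul.mp e3⟩
  · rintro ⟨e1, e2⟩
    rw [← mul_assoc, e1, mul_assoc, e2, mul_assoc]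

end Fr

end Cfsg.Agent.UGT.L34T2
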