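import Cfsg.Agent.UGT.L34T2.BigAlpha
import Cfsg.Agent.UGT.L34T2.BigGamma
import Cfsg.Agent.UGT.L34T2.FrJ
import Cfsg.Agent.UGT.Parity
import Mathlib.GroupTheory.Transfer

/-!
# Type `L₃(4)`, case BIG, steps (delta) and (eps) (UGT #14882 (4))

* `alpha_of` : `Alpha S T` from `NoMix`;
* `delta` : no involution of `S - T` lies in `X`;
* `eps` : `S ∩ X ≤ T`.
-/

set_option autoImplicit false

open Subgroup MulAction

namespace Cfsg.Agent.UGT.L34T2.BigDelta

open BigAlpha

variable {G : Type*} [Group G] {S T P Q Z : Subgroup G} {A : Bool → Subgroup G} {K : Subgroup G} {a b t x : G}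
  {X : Subgroup G} {Inn Fix : G → Subgroup G}

theorem not_isConj (h : Dbl S T P Q Z A K a b t x) (hmix : Big.NoMix P Q a) : ¬ IsConj a (a * b) := by
  intro hc
  obtain ⟨c, hc⟩ := isConj_iff.mp hc
  have hab := h.comm b (bP h) a (aQ h)
  refine hmix b (bP h) a (aQ h) (b2 h) h.b1 (a2 h) (a1 h) c⁻¹ ?_
  rw [hab, ← hc]
  group

theorem alpha_of [Finite G] (h : Dbl S T P Q Z A K a b t x) (hmix : Big.NoMix P Q a) : Big.Alpha S T := by
  rintro w v g hw hwT hw2 rfl hvT hC hfull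
  refine alpha h (not_isConj h hmix) hw hwT hw2 hvT hC fun R hR hc => ?_
  refine (hfull R hR hc).trans (le_of_eq ?_)
  refine Nat.card_congr (Equiv.subtypeEquivRight fun s => ?_)
  rw [mem_inf, mem_centralizer_singleton_iff]

/-! ### the sign of `S / T` -/

/-- `T` has index 2 in `S` -/
theorem mul_iff (h : Dbl S T P Q Z A K a b t x) {s r : G} (hs : s ∈ S) (hr : r ∈ S) :
    s * r ∈ T ↔ (s ∈ T ↔ r ∈ T) := by
  by_cases hsT : s ∈ T
  · simp only [hsT, true_iff]
    exact mul_mem_cancel_left hsT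
  · by_cases hrT : r ∈ T
    · simp only [hrT, iff_true]
      exact mul_mem_cancel_right hrT
    · simp only [hsT, hrT, iff_true]
      exact mul_mem_T h hs hsT hr hrT

theorem conj_iff (h : Dbl S T P Q Z A K a b t x) {s r : G} (hs : s ∈ S) (hr : r ∈ S) :
    s⁻¹ * r * s ∈ T ↔ r ∈ T := by
  rw [mul_iff h (mul_mem (inv_mem hs) hr) hs, mul_iff h (inv_mem hs) hr, inv_mem_iff]
  tauto

/-- the parity on `G / S` -/
def ev (S T : Subgroup G) (ω : G ⧸ S) (y : G) : Prop := ω.out⁻¹ * y * ω.out ∈ T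

theorem smul_iff {g y : G} : y • (g : G ⧸ S) = g ↔ g⁻¹ * y * g ∈ S := by
  change ((y * g : G) : G ⧸ S) = (g : G ⧸ S) ↔ _
  rw [eq_comm, QuotientGroup.eq, mul_assoc]

theorem smul_out_iff {ω : G ⧸ S} {y : G} : y • ω = ω ↔ ω.out⁻¹ * y * ω.out ∈ S := by
  conv_lhs => rw [← QuotientGroup.out_eq' ω]
  exact smul_iff

theorem ev_mk (h : Dbl S T P Q Z A K a b t x) {g y : G} (hy : g⁻¹ * y * g ∈ S) :
    ev S T (g : G ⧸ S) y ↔ g⁻¹ * y * g ∈ T := by
  obtain ⟨s, hs⟩ := QuotientGroup.mk_out_eq_mul S g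
  unfold ev
  rw [hs]
  have e : (g * (s : G))⁻¹ * y * (g * s) = (s : G)⁻¹ * (g⁻¹ * y * g) * s := by group
  rw [e]
  exact conj_iff h s.2 hy

theorem isParity (h : Dbl S T P Q Z A K a b t x) : Parity.IsParity (ev S T) where
  mul := by
    intro ω g k hg hk
    rw [smul_out_iff] at hg hk
    unfold ev
    have e : ω.out⁻¹ * (g * k) * ω.out = (ω.out⁻¹ * g * ω.out) * (ω.out⁻¹ * k * ω.out) := by group
    rw [e]
    exact mul_iff h hg hk
  conj := by
    intro ω g k hk
    have hk' := smul_out_iff.mp hk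
    have e1 : g • ω = ((g * ω.out : G) : G ⧸ S) := by
      conv_lhs => rw [← QuotientGroup.out_eq' ω]
      rfl
    have e : (g * ω.out)⁻¹ * (g * k * g⁻¹) * (g * ω.out) = ω.out⁻¹ * k * ω.out := by group
    rw [e1, ev_mk h (by rw [e]; exact hk'), e]
    rfl

/-- `|G : S|` is odd -/
theorem odd_index [Finite G] (h : Dbl S T P Q Z A K a b t x) : Odd (Nat.card (G ⧸ S)) := by
  have hp : Fact (Nat.Prime 2) := ⟨Nat.prime_two⟩
  obtain ⟨R, hR⟩ := h.S2.exists_le_sylow
  have h1 : (R : Subgroup G) = S := by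
    symm
    apply Subgroup.eq_of_le_of_card_ge hR
    obtain ⟨g, hg⟩ := h.syl R R.isPGroup'
    exact Nat.card_le_card_of_injective (fun r : (R : Subgroup G) => (⟨g * r * g⁻¹, hg r r.2⟩ : S)) (by
      intro r r' e
      have e1 : g * (r : G) * g⁻¹ = g * r' * g⁻¹ := congrArg Subtype.val e
      exact Subtype.ext (mul_left_cancel (mul_right_cancel e1)))
  have h2 := R.not_dvd_index
  rw [h1] at h2
  rw [← Nat.not_even_iff_odd, even_iff_two_dvd]
  exact h2

/-- a 2-subgroup of `C(w)` containing `C_S(w)`, of maximal order -/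
theorem exists_R [Finite G] (hS : IsPGroup 2 S) (w : G) : ∃ R : Subgroup G, IsPGroup 2 R ∧
    R ≤ centralizer ({w} : Set G) ∧ S ⊓ centralizer ({w} : Set G) ≤ R ∧
    ∀ R' : Subgroup G, IsPGroup 2 R' → R' ≤ centralizer ({w} : Set G) → Nat.card R' ≤ Nat.card R := by
  have hp : Fact (Nat.Prime 2) := ⟨Nat.prime_two⟩
  obtain ⟨C, hC⟩ : ∃ C, C = centralizer ({w} : Set G) := ⟨_, rfl⟩
  rw [← hC]
  have h1 : IsPGroup 2 (S.subgroupOf C) := hS.comap_of_injective C.subtype C.subtype_injective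
  obtain ⟨R, hR⟩ := h1.exists_le_sylow
  refine ⟨(R : Subgroup C).map C.subtype, R.isPGroup'.map _, map_subtype_le _, ?_, ?_⟩
  · rintro s ⟨hs, hsC⟩
    exact ⟨⟨s, hsC⟩, hR (mem_subgroupOf.mpr hs), rfl⟩
  · intro R' hR' hR'C
    have h2 : IsPGroup 2 (R'.subgroupOf C) := hR'.comap_of_injective C.subtype C.subtype_injective
    obtain ⟨R1, hR1⟩ := h2.exists_le_sylow
    have h3 := Subgroup.card_le_of_le hR1
    rw [Nat.card_congr (Subgroup.subgroupOfEquivOfLe hR'C).toEquiv] at h3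
    rw [card_map_of_injective C.subtype_injective]
    have h4 : Nat.card (R1 : Subgroup C) = Nat.card (R : Subgroup C) := by
      rw [Sylow.card_eq_multiplicity, Sylow.card_eq_multiplicity]
    omega

/-- **(delta)** -/
theorem delta [Finite G] (D : DblX S T P Q Z A K a b t x X Inn Fix) (hα : Big.Alpha S T) {w : G} (hw : w ∈ S)
    (hwT : w ∉ T) (hw2 : w * w = 1) : w ∉ X := by
  intro hwX
  have hp : Fact (Nat.Prime 2) := ⟨Nat.prime_two⟩
  have h := D.toDbl
  obtain ⟨R, hR2, hRC, hSR, hRmax⟩ := exists_R h.S2 w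
  have hwR : w ∈ R := hSR ⟨hw, mem_centralizer_singleton_iff.mpr rfl⟩
  obtain ⟨f, hf⟩ := Parity.exists_hom_fixed (isParity h)
  have h1 := hf w R hw2 hR2 hRC
  have h2 : f w = 1 := by
    have h3 := D.perf (f.comp X.subtype)
    exact congrArg (fun φ : X →* ℤˣ => φ ⟨w, hwX⟩) h3
  have h3 := hR2.card_modEq_card_fixedPoints (G ⧸ S)
  have h4 := odd_index h
  -- some point fixed by `R` has value in `T`
  obtain ⟨ω, hω, hev⟩ : ∃ ω : G ⧸ S, (∀ r ∈ R, r • ω = ω) ∧ ev S T ω w := by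
    by_contra hcon
    push Not at hcon
    have e : fixedPoints ↥R (G ⧸ S) ≃
        {ω : G ⧸ S // (w • ω = ω ∧ ¬ ev S T ω w) ∧ ∀ r ∈ R, r • ω = ω} :=
      { toFun := fun ω => ⟨ω.1, ⟨ω.2 ⟨w, hwR⟩, hcon ω.1 fun r hr => ω.2 ⟨r, hr⟩⟩, fun r hr => ω.2 ⟨r, hr⟩⟩
        invFun := fun ω => ⟨ω.1, fun r => ω.2.2 r r.2⟩
        left_inv := fun _ => rfl
        right_inv := fun _ => rfl }
    rw [Nat.card_congr e] at h3
    have h5 : Odd (Nat.card {ω : G ⧸ S // (w • ω = ω ∧ ¬ ev S T ω w) ∧ ∀ r ∈ R, r • ω = ω}) := by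
      rw [Nat.odd_iff] at h4 ⊢
      rw [← h4]; exact h3.symm
    rw [h2, h5.neg_one_pow] at h1
    exact absurd h1 (by decide)
  have hR' : ∀ r ∈ R, ω.out⁻¹ * r * ω.out ∈ S := fun r hr => smul_out_iff.mp (hω r hr)
  refine hα w (ω.out⁻¹ * w * ω.out) ω.out⁻¹ hw hwT hw2 (by group) hev ?_ ?_
  · intro y hy hyw
    rw [inv_inv]
    exact hR' y (hSR ⟨hy, mem_centralizer_singleton_iff.mpr hyw⟩)
  · intro R1 hR1 hc
    have h5 := hRmax (R1.map (MulAut.conj ω.out).toMonoidHom) (hR1.map _) (by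
      rintro _ ⟨r, hr, rfl⟩
      rw [mem_centralizer_singleton_iff]
      have h6 := hc r hr
      change ω.out * r * ω.out⁻¹ * w = w * (ω.out * r * ω.out⁻¹)
      calc ω.out * r * ω.out⁻¹ * w = ω.out * (r * (ω.out⁻¹ * w * ω.out)) * ω.out⁻¹ := by group
        _ = ω.out * ((ω.out⁻¹ * w * ω.out) * r) * ω.out⁻¹ := by rw [h6]
        _ = w * (ω.out * r * ω.out⁻¹) := by group)
    rw [card_map_of_injective (MulAut.conj ω.out).injective] at h5
    refine h5.trans ?_
    refine Nat.card_le_card_of_injective (fun r : R => (⟨ω.out⁻¹ * r * ω.out, hR' r r.2,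
      mem_centralizer_singleton_iff.mpr ?_⟩ :
      (S ⊓ centralizer ({ω.out⁻¹ * w * ω.out} : Set G) : Subgroup G))) ?_
    · have h6 : (r : G) * w = w * r := mem_centralizer_singleton_iff.mp (hRC r.2)
      calc ω.out⁻¹ * r * ω.out * (ω.out⁻¹ * w * ω.out) = ω.out⁻¹ * (r * w) * ω.out := by group
        _ = ω.out⁻¹ * (w * r) * ω.out := by rw [h6]
        _ = ω.out⁻¹ * w * ω.out * (ω.out⁻¹ * r * ω.out) := by group
    · intro r r' e
      have e1 : ω.out⁻¹ * (r : G) * ω.out = ω.out⁻¹ * r' * ω.out := congrArg Subtype.val e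
      exact Subtype.ext (mul_left_cancel (mul_right_cancel e1))

/-! ### (eps) -/

open scoped Classical in
/-- the sign of `S / T` -/
noncomputable def sg (h : Dbl S T P Q Z A K a b t x) : ↥S →* ℤˣ where
  toFun s := if (s : G) ∈ T then 1 else -1
  map_one' := if_pos (one_mem T)
  map_mul' s r := by
    have h1 := mul_iff h s.2 r.2
    change (if (s : G) * r ∈ T then (1 : ℤˣ) else -1) = _
    by_cases hs : (s : G) ∈ T <;> by_cases hr : (r : G) ∈ T <;> simp_all

theorem sg_pos (h : Dbl S T P Q Z A K a b t x) {s : ↥S} (hs : (s : G) ∈ T) : sg h s = 1 := if_pos hs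

theorem sg_neg (h : Dbl S T P Q Z A K a b t x) {s : ↥S} (hs : (s : G) ∉ T) : sg h s = -1 := if_neg hs

/-- an element of order 4 of `X` with all values on the fixed points outside `T` -/
theorem false_of_four [Finite G] (D : DblX S T P Q Z A K a b t x X Inn Fix) {u : G} (huX : u ∈ X)
    (h4 : u * u * (u * u) = 1) (h2 : ∀ g : G, g⁻¹ * (u * u) * g ∈ S → g⁻¹ * (u * u) * g ∈ T)
    (h1 : ∀ g : G, g⁻¹ * u * g ∈ S → g⁻¹ * u * g ∉ T) : False := by
  classical
  have hp : Fact (Nat.Prime 2) := ⟨Nat.prime_two⟩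
  have h := D.toDbl
  have hfin : Fintype (Quotient (orbitRel (zpowers u) (G ⧸ S))) := Fintype.ofFinite _
  have hV := MonoidHom.transfer_eq_prod_quotient_orbitRel_zpowers_quot (ϕ := sg h) u
  have hV1 : MonoidHom.transfer (sg h) u = 1 := by
    have h3 := D.perf ((MonoidHom.transfer (sg h)).comp X.subtype)
    exact congrArg (fun φ : X →* ℤˣ => φ ⟨u, huX⟩) h3
  rw [hV1] at hV
  have hu4 : u ^ 4 = 1 := by
    rw [← h4, show (4 : ℕ) = 1 + 1 + 1 + 1 from rfl]
    simp only [pow_add, pow_one, mul_assoc]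
  have hval : ∀ q : Quotient (orbitRel (zpowers u) (G ⧸ S)),
      sg h ⟨q.out.out⁻¹ * u ^ Function.minimalPeriod (u • ·) q.out * q.out.out,
        QuotientGroup.out_conj_pow_minimalPeriod_mem S u q.out⟩ =
      if u • q.out = q.out then -1 else 1 := by
    intro q
    obtain ⟨n, hn⟩ : ∃ n, n = Function.minimalPeriod (u • ·) q.out := ⟨_, rfl⟩
    have hmem := QuotientGroup.out_conj_pow_minimalPeriod_mem S u q.out
    have hdvd : n ∣ 4 := by
      rw [hn]
      refine Function.IsPeriodicPt.minimalPeriod_dvd ?_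
      change ((u • ·)^[4]) q.out = q.out
      rw [smul_iterate, hu4]
      exact one_smul _ _
    have hn0 : n ≤ 4 := Nat.le_of_dvd (by norm_num) hdvd
    by_cases hfix : u • q.out = q.out
    · rw [if_pos hfix]
      refine sg_neg h ?_
      have h5 : Function.minimalPeriod (u • ·) q.out = 1 :=
        Function.minimalPeriod_eq_one_iff_isFixedPt.mpr hfix
      change q.out.out⁻¹ * u ^ Function.minimalPeriod (u • ·) q.out * q.out.out ∉ T
      rw [h5] at hmem ⊢
      rw [pow_one] at hmem ⊢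
      exact h1 _ hmem
    · rw [if_neg hfix]
      refine sg_pos h ?_
      change q.out.out⁻¹ * u ^ Function.minimalPeriod (u • ·) q.out * q.out.out ∈ T
      rw [← hn] at hmem ⊢
      have hn1 : n ≠ 1 := by
        intro e
        rw [e] at hn
        exact hfix (Function.minimalPeriod_eq_one_iff_isFixedPt.mp hn.symm)
      have hn2 : n = 2 ∨ n = 4 := by
        interval_cases n <;> omega
      rcases hn2 with e | e
      · rw [e, pow_two] at hmem ⊢
        exact h2 _ hmem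
      · rw [e, hu4]
        have e2 : q.out.out⁻¹ * 1 * q.out.out = (1 : G) := by group
        rw [e2]
        exact one_mem T
  rw [Finset.prod_congr rfl (fun q _ => hval q), Finset.prod_ite, Finset.prod_const_one, mul_one,
    Finset.prod_const] at hV
  -- the number of fixed points is odd
  have hz2 : IsPGroup 2 ↥(zpowers u) := by
    rintro ⟨g, hg⟩
    obtain ⟨k, rfl⟩ := mem_zpowers_iff.mp hg
    refine ⟨2, Subtype.ext ?_⟩
    change (u ^ k) ^ 2 ^ 2 = 1
    rw [← zpow_natCast, ← zpow_mul, mul_comm, zpow_mul]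
    have : u ^ ((2 ^ 2 : ℕ) : ℤ) = 1 := by
      rw [zpow_natCast]; exact hu4
    rw [this, one_zpow]
  have h3 := hz2.card_modEq_card_fixedPoints (G ⧸ S)
  have h5 := odd_index h
  have hfixz : ∀ ω : G ⧸ S, u • ω = ω → ∀ z : zpowers u, z • ω = ω := by
    rintro ω hω ⟨z, hz⟩
    obtain ⟨k, rfl⟩ := mem_zpowers_iff.mp hz
    change u ^ k • ω = ω
    have h6 : u ∈ stabilizer G ω := hω
    exact (stabilizer G ω).zpow_mem h6 k
  have e : fixedPoints ↥(zpowers u) (G ⧸ S) ≃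
      {q // q ∈ Finset.univ.filter (fun q : Quotient (orbitRel (zpowers u) (G ⧸ S)) => u • q.out = q.out)} :=
    { toFun := fun ω => ⟨⟦ω.1⟧, by
        rw [Finset.mem_filter]
        refine ⟨Finset.mem_univ _, ?_⟩
        have h6 : (orbitRel (zpowers u) (G ⧸ S)).r (Quotient.out ⟦ω.1⟧) ω.1 := Quotient.mk_out ω.1
        obtain ⟨z, hz⟩ := h6
        have h7 : z • ω.1 = ω.1 := ω.2 z
        have h8 : (Quotient.out (⟦ω.1⟧ : Quotient (orbitRel (zpowers u) (G ⧸ S)))) = ω.1 := by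
          rw [← hz]; exact h7
        rw [h8]
        exact ω.2 ⟨u, mem_zpowers u⟩⟩
      invFun := fun q => ⟨q.1.out, hfixz _ (Finset.mem_filter.mp q.2).2⟩
      left_inv := by
        rintro ⟨ω, hω⟩
        refine Subtype.ext ?_
        have h6 : (orbitRel (zpowers u) (G ⧸ S)).r (Quotient.out ⟦ω⟧) ω := Quotient.mk_out ω
        obtain ⟨z, hz⟩ := h6
        have h7 : z • ω = ω := hω z
        change (Quotient.out (⟦ω⟧ : Quotient (orbitRel (zpowers u) (G ⧸ S)))) = ω
        rw [← hz]; exact h7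
      right_inv := by
        rintro ⟨q, hq⟩
        exact Subtype.ext (Quotient.out_eq q) }
  have h7 := Nat.card_eq_fintype_card (α := {q // q ∈ Finset.univ.filter
    (fun q : Quotient (orbitRel (zpowers u) (G ⧸ S)) => u • q.out = q.out)})
  rw [Fintype.card_coe] at h7
  rw [Nat.card_congr e, h7] at h3
  have h6 : Odd (Finset.univ.filter (fun q : Quotient (orbitRel (zpowers u) (G ⧸ S)) =>
      u • q.out = q.out)).card := by
    rw [Nat.odd_iff] at h5 ⊢
    rw [← h5]; exact h3.symm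
  rw [h6.neg_one_pow] at hV
  exact absurd hV (by decide)

theorem PX (D : DblX S T P Q Z A K a b t x X Inn Fix) : P ≤ X := D.PK.trans D.KX

theorem QX (D : DblX S T P Q Z A K a b t x X Inn Fix) : Q ≤ X := by
  intro q hq
  have h1 : t * q * t⁻¹ ∈ X := PX D (D.tQ q hq)
  have h2 := D.Xn.conj_mem _ h1 t⁻¹
  have e : t⁻¹ * (t * q * t⁻¹) * t⁻¹⁻¹ = q := by group
  rwa [e] at h2

/-- `u² ∉ J` for `u ∈ X ∩ (S - T)` -/
theorem sq_not_mem [Finite G] (D : DblX S T P Q Z A K a b t x X Inn Fix) (hα : Big.Alpha S T) {u : G}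
    (hu : u ∈ S) (huT : u ∉ T) (huX : u ∈ X) : u * u ∉ P ⊔ Q := by
  intro huJ
  have h := D.toDbl
  obtain ⟨p, hp, q, hq, e⟩ := (mem_J h).mp huJ
  have h1 : u * (p * q) = p * q * u := by rw [← e, mul_assoc]
  obtain ⟨h2, h3⟩ := comm_sw h hu huT hp hq h1
  have hw : u * p⁻¹ ∈ S := mul_mem hu (h.TS (h.PT (inv_mem hp)))
  have hwT : u * p⁻¹ ∉ T := by
    intro hc
    apply huT
    have e2 : u = u * p⁻¹ * p := by group
    rw [e2]
    exact mul_mem hc (h.PT hp)
  refine delta D hα hw hwT ?_ (mul_mem huX (inv_mem (PX D hp)))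
  have e3 : u⁻¹ * p * u = q := by
    rw [h3]; group
  calc u * p⁻¹ * (u * p⁻¹) = (u * u) * (u⁻¹ * p * u)⁻¹ * p⁻¹ := by group
    _ = p * q * q⁻¹ * p⁻¹ := by rw [e, e3]
    _ = 1 := by group

/-- **(eps)** -/
theorem eps [Finite G] (D : DblX S T P Q Z A K a b t x X Inn Fix) (hmix : Big.NoMix P Q a)
    (hα : Big.Alpha S T) : ∀ s ∈ S, s ∈ X → s ∈ T := by
  intro s hs hsX
  by_contra hsT
  have h := D.toDbl
  have hyJ := sq_not_mem D hα hs hsT hsX
  have hyT : s * s ∈ T := mul_mem_T h hs hsT hs hsT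
  obtain ⟨p, hp, hpq⟩ := h.inv2 (s * s) hyT (fun hc => hyJ ((mem_J h).mpr hc))
  have hpX := PX D hp
  -- `u = s p`
  obtain ⟨u, hu⟩ : ∃ u, u = s * p := ⟨_, rfl⟩
  have huS : u ∈ S := by rw [hu]; exact mul_mem hs (h.TS (h.PT hp))
  have huX : u ∈ X := by rw [hu]; exact mul_mem hsX hpX
  have huT : u ∉ T := by
    intro hc
    apply hsT
    have e2 : s = u * p⁻¹ := by rw [hu]; group
    rw [e2]
    exact mul_mem hc (inv_mem (h.PT hp))
  have hq' : s⁻¹ * p * s ∈ Q := by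
    have h1 := sw_P h (inv_mem hs) (fun hc => hsT (inv_mem_iff.mp hc)) hp
    rwa [inv_inv] at h1
  have e1 : u * u = (s * s * p) * (s⁻¹ * p * s) := by
    have h1 := h.comm p hp _ hq'
    calc u * u = (s * s) * ((s⁻¹ * p * s) * p) := by rw [hu]; group
      _ = (s * s) * (p * (s⁻¹ * p * s)) := by rw [h1]
      _ = (s * s * p) * (s⁻¹ * p * s) := by group
  have hspT : s * s * p ∈ T := mul_mem hyT (h.PT hp)
  have h4Q : u * u * (u * u) ∈ Q := by
    have e2 : u * u * (u * u) = (s * s * p * (s * s * p)) *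
        ((s * s * p)⁻¹ * (s⁻¹ * p * s) * (s * s * p)) * (s⁻¹ * p * s) := by
      rw [e1]; group
    rw [e2]
    exact mul_mem (mul_mem hpq (inv_nQ h hspT hq')) hq'
  have h4 : u * u * (u * u) = 1 := by
    refine h.disj _ ?_ h4Q
    have h5 := sw_Q h huS huT h4Q
    have e3 : u * (u * u * (u * u)) * u⁻¹ = u * u * (u * u) := by group
    rwa [e3] at h5
  have hzJ := sq_not_mem D hα huS huT huX
  have hzT : u * u ∈ T := mul_mem_T h huS huT huS huT
  refine false_of_four D huX h4 ?_ ?_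
  · intro g hg
    by_contra hgT
    refine delta D hα hg hgT ?_ ?_
    · calc g⁻¹ * (u * u) * g * (g⁻¹ * (u * u) * g) = g⁻¹ * (u * u * (u * u)) * g := by group
        _ = 1 := by rw [h4]; group
    · have h5 := D.Xn.conj_mem _ (mul_mem huX huX) g⁻¹
      rwa [inv_inv] at h5
  · intro g _ hgT
    have h5 := h.toFr.sq_mem hgT
    have e4 : g⁻¹ * u * g * (g⁻¹ * u * g) = g⁻¹ * (u * u) * g⁻¹⁻¹ := by group
    rw [e4] at h5
    refine Big.gamma D hmix hα (y := u * u) (g := g⁻¹) hzT (fun hc => hzJ ((mem_J h).mpr hc)) h4 ?_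
    exact (mem_J h).mp h5

end Cfsg.Agent.UGT.L34T2.BigDelta
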