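import Cfsg.Agent.UGT.L34T2.FrBase

/-!
# Type `L₃(4)`, `T < S`, case BIG: (zeta), (eta) of UGT #14882

`J = P Q`. Inputs (`BZ`):
* `wc`: `J` is weakly closed in `S`;
* `nJ`: `N(J)` permutes `{P, Q}` (AVERAGING in (3));
* `be`: (beta) and "pure is not conjugate to mixed": `a^G ∩ S ⊆ P ∪ Q`;
* `ep`: (eps) `S ∩ X ≤ T`.

Output: `mem_Q` (zeta): involutions of `Q` are `X`-conjugate inside `S ∩ X` only to involutions of `Q`;
`closed` (eta): `Q` is strongly closed in `S ∩ X` with respect to `X`.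
-/

set_option autoImplicit false

open Subgroup

namespace Cfsg.Agent.UGT.L34T2

variable {G : Type*} [Group G]

/-- The inputs of (zeta). -/
structure BZ (S T P Q X : Subgroup G) (a : G) : Prop where
  wc : ∀ g : G, (∀ y ∈ P ⊔ Q, g * y * g⁻¹ ∈ S) → ∀ y ∈ P ⊔ Q, g * y * g⁻¹ ∈ P ⊔ Q
  nJ : ∀ g : G, (∀ y ∈ P ⊔ Q, g * y * g⁻¹ ∈ P ⊔ Q) →
    (∀ q ∈ Q, g * q * g⁻¹ ∈ Q) ∨ (∀ q ∈ Q, g * q * g⁻¹ ∈ P)
  be : ∀ g : G, g * a * g⁻¹ ∈ S → g * a * g⁻¹ ∈ P ∨ g * a * g⁻¹ ∈ Q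
  ep : ∀ s ∈ S, s ∈ X → s ∈ T

section

variable {S T P Q Z K X : Subgroup G} {A : Bool → Subgroup G} {a b t x : G}

namespace Dbl

theorem JT (h : Dbl S T P Q Z A K a b t x) : P ⊔ Q ≤ T := sup_le h.PT h.QT

theorem JS (h : Dbl S T P Q Z A K a b t x) : P ⊔ Q ≤ S := h.JT.trans h.TS

theorem bP (h : Dbl S T P Q Z A K a b t x) : b ∈ P := h.toHeis.ZP h.bZ

theorem aQ (h : Dbl S T P Q Z A K a b t x) : a ∈ Q := h.ta ▸ h.tP b h.bP

theorem bb (h : Dbl S T P Q Z A K a b t x) : b * b = 1 := h.toHeis.Zsq h.bZ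

theorem aa (h : Dbl S T P Q Z A K a b t x) : a * a = 1 := by
  rw [← h.ta]
  calc t * b * t⁻¹ * (t * b * t⁻¹) = t * (b * b) * t⁻¹ := by group
    _ = 1 := by rw [h.bb]; group

theorem a1 (h : Dbl S T P Q Z A K a b t x) : a ≠ 1 := by
  intro e
  apply h.b1
  have h1 := h.ta
  rw [e] at h1
  calc b = t⁻¹ * (t * b * t⁻¹) * t := by group
    _ = 1 := by rw [h1]; group

theorem ttT (h : Dbl S T P Q Z A K a b t x) : t * t ∈ T := by
  rcases h.ST (t * t) (S.mul_mem h.tS h.tS) with h1 | h1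
  · exact h1
  · rw [inv_mul_cancel_left] at h1
    exact absurd h1 h.tn

/-- `t⁻¹` swaps `P` and `Q` as well -/
theorem tP' (h : Dbl S T P Q Z A K a b t x) {p : G} (hp : p ∈ P) : t⁻¹ * p * t ∈ Q := by
  have h1 := h.nQ _ (T.inv_mem h.ttT) _ (h.tP p hp)
  have h2 : (t * t)⁻¹ * (t * p * t⁻¹) * (t * t)⁻¹⁻¹ = t⁻¹ * p * t := by group
  rwa [h2] at h1

theorem tQ' (h : Dbl S T P Q Z A K a b t x) {q : G} (hq : q ∈ Q) : t⁻¹ * q * t ∈ P := by
  have h1 := h.nP _ (T.inv_mem h.ttT) _ (h.tQ q hq)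
  have h2 : (t * t)⁻¹ * (t * q * t⁻¹) * (t * t)⁻¹⁻¹ = t⁻¹ * q * t := by group
  rwa [h2] at h1

/-- `S` normalises `J = P Q` -/
theorem nJS (h : Dbl S T P Q Z A K a b t x) {s : G} (hs : s ∈ S) :
    ∀ y ∈ P ⊔ Q, s * y * s⁻¹ ∈ P ⊔ Q := by
  have key : (P ⊔ Q) ≤ (P ⊔ Q).comap (MulAut.conj s).toMonoidHom := by
    rcases h.ST s hs with h1 | h1
    · exact sup_le (fun p hp => mem_sup_left (h.nP s h1 p hp)) (fun q hq => mem_sup_right (h.nQ s h1 q hq))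
    · refine sup_le (fun p hp => ?_) (fun q hq => ?_)
      · have h2 := h.tP _ (h.nP _ h1 p hp)
        have h3 : t * (t⁻¹ * s * p * (t⁻¹ * s)⁻¹) * t⁻¹ = s * p * s⁻¹ := by group
        rw [h3] at h2
        exact mem_sup_right h2
      · have h2 := h.tQ _ (h.nQ _ h1 q hq)
        have h3 : t * (t⁻¹ * s * q * (t⁻¹ * s)⁻¹) * t⁻¹ = s * q * s⁻¹ := by group
        rw [h3] at h2
        exact mem_sup_left h2
  exact fun y hy => key hy

/-- the involutions of `Q` are fused to `a` under `t K t⁻¹` -/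
theorem clsQ (h : Dbl S T P Q Z A K a b t x) {q : G} (hq : q ∈ Q) (hqq : q * q = 1) (hq1 : q ≠ 1) :
    ∃ k ∈ K, (t * k * t⁻¹) * q * (t * k * t⁻¹)⁻¹ = a := by
  obtain ⟨k, hk, e⟩ := h.cls (t⁻¹ * q * t) (h.tQ' hq)
    (by
      calc t⁻¹ * q * t * (t⁻¹ * q * t) = t⁻¹ * (q * q) * t := by group
        _ = 1 := by rw [hqq]; group)
    (by
      intro e
      apply hq1
      calc q = t * (t⁻¹ * q * t) * t⁻¹ := by group
        _ = 1 := by rw [e]; group)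
  refine ⟨k, hk, ?_⟩
  calc (t * k * t⁻¹) * q * (t * k * t⁻¹)⁻¹ = t * (k * (t⁻¹ * q * t) * k⁻¹) * t⁻¹ := by group
    _ = a := by rw [e, h.ta]

/-- `b ∉ Q` -/
theorem bnQ (h : Dbl S T P Q Z A K a b t x) : b ∉ Q := fun hb => h.b1 (h.disj b h.bP hb)

end Dbl

end

section

variable {S T P Q Z K X : Subgroup G} {A : Bool → Subgroup G} {a b t x : G} {Inn Fix : G → Subgroup G}

namespace DblX

theorem PX (h : DblX S T P Q Z A K a b t x X Inn Fix) : P ≤ X := h.PK.trans h.KX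

theorem QX (h : DblX S T P Q Z A K a b t x X Inn Fix) : Q ≤ X := by
  intro q hq
  have h1 := h.Xn.conj_mem _ (h.PX (h.toDbl.tQ' hq)) t
  have h2 : t * (t⁻¹ * q * t) * t⁻¹ = q := by group
  rwa [h2] at h1

theorem JX (h : DblX S T P Q Z A K a b t x X Inn Fix) : P ⊔ Q ≤ X := sup_le h.PX h.QX

/-- 2-subgroups of `X` are `X`-conjugate into `S` -/
theorem sylX (h : DblX S T P Q Z A K a b t x X Inn Fix) (R : Subgroup G) (hR : IsPGroup 2 R) :
    ∃ g ∈ X, ∀ r ∈ R, g * r * g⁻¹ ∈ S := by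
  obtain ⟨g, hg⟩ := h.syl R hR
  obtain ⟨y, hy, s, hs, e⟩ := h.XS g⁻¹
  refine ⟨y⁻¹, X.inv_mem hy, fun r hr => ?_⟩
  have h1 := S.mul_mem (S.mul_mem hs (hg r hr)) (S.inv_mem hs)
  have h2 : g = s⁻¹ * y⁻¹ := by rw [← inv_inv g, e, mul_inv_rev]
  have h3 : s * (g * r * g⁻¹) * s⁻¹ = y⁻¹ * r * y⁻¹⁻¹ := by rw [h2]; group
  rwa [h3] at h1

variable [Finite G]

/-- `N_X(J)` normalises `Q` -/
theorem norm_Q (h : DblX S T P Q Z A K a b t x X Inn Fix) (hB : BZ S T P Q X a) {n : G} (hn : n ∈ X)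
    (hnJ : ∀ y ∈ P ⊔ Q, n * y * n⁻¹ ∈ P ⊔ Q) : ∀ q ∈ Q, n * q * n⁻¹ ∈ Q := by
  -- the subgroup of elements normalising `J`
  let NJ : Subgroup G :=
    { carrier := {g | ∀ y ∈ P ⊔ Q, g * y * g⁻¹ ∈ P ⊔ Q}
      one_mem' := by intro y hy; simpa using hy
      mul_mem' := by
        intro g g' hg hg' y hy
        have h1 := hg _ (hg' y hy)
        have h2 : g * (g' * y * g'⁻¹) * g⁻¹ = g * g' * y * (g * g')⁻¹ := by group
        rwa [h2] at h1
      inv_mem' := by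
        intro g hg y hy
        -- finite order
        have h1 : (P ⊔ Q).map (MulAut.conj g).toMonoidHom = P ⊔ Q := by
          apply Subgroup.eq_of_le_of_card_ge
          · rintro _ ⟨z, hz, rfl⟩
            exact hg z hz
          · rw [card_map_of_injective (MulAut.conj g).injective]
        have h2 : y ∈ (P ⊔ Q).map (MulAut.conj g).toMonoidHom := by rw [h1]; exact hy
        obtain ⟨z, hz, e⟩ := h2
        have h3 : g⁻¹ * y * g⁻¹⁻¹ = z := by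
          rw [← e]
          change g⁻¹ * (g * z * g⁻¹) * g⁻¹⁻¹ = z
          group
        rw [h3]
        exact hz }
  have hmem : ∀ g, g ∈ NJ ↔ ∀ y ∈ P ⊔ Q, g * y * g⁻¹ ∈ P ⊔ Q := fun g => Iff.rfl
  -- the subgroup of elements of `NJ` normalising `Q`
  have hQfin : Finite Q := inferInstance
  let N0 : Subgroup G :=
    { carrier := {g | g ∈ NJ ∧ ∀ q ∈ Q, g * q * g⁻¹ ∈ Q}
      one_mem' := ⟨NJ.one_mem, by intro y hy; simpa using hy⟩
      mul_mem' := by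
        rintro g g' ⟨hg, hgQ⟩ ⟨hg', hgQ'⟩
        refine ⟨NJ.mul_mem hg hg', fun y hy => ?_⟩
        have h1 := hgQ _ (hgQ' y hy)
        have h2 : g * (g' * y * g'⁻¹) * g⁻¹ = g * g' * y * (g * g')⁻¹ := by group
        rwa [h2] at h1
      inv_mem' := by
        rintro g ⟨hg, hgQ⟩
        refine ⟨NJ.inv_mem hg, fun y hy => ?_⟩
        have h1 : Q.map (MulAut.conj g).toMonoidHom = Q := by
          apply Subgroup.eq_of_le_of_card_ge
          · rintro _ ⟨z, hz, rfl⟩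
            exact hgQ z hz
          · rw [card_map_of_injective (MulAut.conj g).injective]
        have h2 : y ∈ Q.map (MulAut.conj g).toMonoidHom := by rw [h1]; exact hy
        obtain ⟨z, hz, e⟩ := h2
        have h3 : g⁻¹ * y * g⁻¹⁻¹ = z := by
          rw [← e]
          change g⁻¹ * (g * z * g⁻¹) * g⁻¹⁻¹ = z
          group
        rw [h3]
        exact hz }
  have hmem0 : ∀ g, g ∈ N0 ↔ g ∈ NJ ∧ ∀ q ∈ Q, g * q * g⁻¹ ∈ Q := fun g => Iff.rfl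
  have hTN : ∀ y ∈ T, y ∈ N0 := fun y hy => (hmem0 y).mpr
    ⟨(hmem y).mpr (h.toDbl.nJS (h.TS hy)), h.nQ y hy⟩
  -- swapping elements
  have hsw : ∀ g ∈ NJ, g ∉ N0 → ∀ q ∈ Q, g * q * g⁻¹ ∈ P := by
    intro g hg hg0
    rcases hB.nJ g hg with h1 | h1
    · exact absurd ((hmem0 g).mpr ⟨hg, h1⟩) hg0
    · exact h1
  -- the product of two swapping elements is in `N0`
  have hsw2 : ∀ g ∈ NJ, g ∉ N0 → ∀ g' ∈ NJ, g' ∉ N0 → g * g' ∈ N0 := by
    intro g hg hg0 g' hg' hg0'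
    by_contra hc
    have h1 := hsw _ (NJ.mul_mem hg hg') hc a h.toDbl.aQ
    -- `g' a g'⁻¹ ∈ P`; `g` maps `P` outside `P`
    have h2 := hsw g' hg' hg0' a h.toDbl.aQ
    have h3 : g * (g' * a * g'⁻¹) * g⁻¹ ∈ P := by
      have : g * g' * a * (g * g')⁻¹ = g * (g' * a * g'⁻¹) * g⁻¹ := by group
      rwa [this] at h1
    -- `g Q g⁻¹ = P` by order
    have h4 : Q.map (MulAut.conj g).toMonoidHom = P := by
      apply Subgroup.eq_of_le_of_card_ge
      · rintro _ ⟨z, hz, rfl⟩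
        exact hsw g hg hg0 z hz
      · rw [card_map_of_injective (MulAut.conj g).injective]
        -- `|P| ≤ |Q|`
        have h5 : P.map (MulAut.conj t).toMonoidHom ≤ Q := by
          rintro _ ⟨z, hz, rfl⟩
          exact h.tP z hz
        have h6 := Subgroup.card_le_of_le h5
        rwa [card_map_of_injective (MulAut.conj t).injective] at h6
    have h7 : g * (g' * a * g'⁻¹) * g⁻¹ ∈ Q.map (MulAut.conj g).toMonoidHom := by rw [h4]; exact h3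
    obtain ⟨z, hz, e⟩ := h7
    have h8 : z = g' * a * g'⁻¹ := by
      have : g * z * g⁻¹ = g * (g' * a * g'⁻¹) * g⁻¹ := e
      exact mul_left_cancel (mul_right_cancel this)
    rw [h8] at hz
    have h9 := h.disj _ h2 hz
    apply h.toDbl.a1
    calc a = g'⁻¹ * (g' * a * g'⁻¹) * g' := by group
      _ = 1 := by rw [h9]; group
  by_contra hcon
  have hn0 : n ∉ N0 := fun hh => hcon ((hmem0 n).mp hh).2
  have hnJ' : n ∈ NJ := hnJ
  -- the 2-part of `n`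
  obtain ⟨k, m, hm, hkm⟩ : ∃ k m : ℕ, ¬ 2 ∣ m ∧ orderOf n = 2 ^ k * m := by
    have := Nat.exists_eq_pow_mul_and_not_dvd (n := orderOf n) (orderOf_pos n).ne' 2 (by norm_num)
    obtain ⟨k, m, h1, h2⟩ := this
    exact ⟨k, m, h1, h2⟩
  have hmodd : Odd m := by
    rw [← Nat.not_even_iff_odd]
    intro he
    exact hm he.two_dvd
  have hpow : ∀ j : ℕ, Odd j → n ^ j ∉ N0 ∧ n ^ j ∈ NJ := by
    rintro j ⟨i, rfl⟩
    induction i with
    | zero => simpa using ⟨hn0, hnJ'⟩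
    | succ i ih =>
      have h1 : n ^ (2 * (i + 1) + 1) = n ^ (2 * i + 1) * (n * n) := by
        rw [← pow_two, ← pow_add]; congr 1
      have h2 : n * n ∈ N0 := hsw2 n hnJ' hn0 n hnJ' hn0
      refine ⟨fun h3 => ih.1 ?_, NJ.pow_mem hnJ' _⟩
      rw [h1] at h3
      exact (N0.mul_mem_cancel_right h2).mp h3
  obtain ⟨hw0, hwJ⟩ := hpow m hmodd
  obtain ⟨w, hw⟩ : ∃ w, w = n ^ m := ⟨_, rfl⟩
  rw [← hw] at hw0 hwJ
  have hwX : w ∈ X := hw ▸ X.pow_mem hn m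
  have hw2 : w ^ (2 ^ k) = 1 := by
    rw [hw, ← pow_mul, mul_comm, ← hkm, pow_orderOf_eq_one]
  have hwp : IsPGroup 2 (zpowers w) := by
    rintro ⟨y, i, rfl⟩
    refine ⟨k, Subtype.ext ?_⟩
    change (w ^ i) ^ (2 ^ k) = 1
    rw [← zpow_natCast, ← zpow_mul, mul_comm, zpow_mul, zpow_natCast, hw2, one_zpow]
  have hJ2 : IsPGroup 2 (P ⊔ Q : Subgroup G) := h.two.to_le h.toDbl.JT
  have hwn : zpowers w ≤ normalizer ((P ⊔ Q : Subgroup G) : Set G) := by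
    rw [zpowers_le, mem_normalizer_iff]
    intro y
    constructor
    · intro hy; exact hwJ y hy
    · intro hy
      have h1 := (NJ.inv_mem hwJ) _ hy
      have h2 : w⁻¹ * (w * y * w⁻¹) * w⁻¹⁻¹ = y := by group
      rwa [h2] at h1
  have hR : IsPGroup 2 (zpowers w ⊔ (P ⊔ Q) : Subgroup G) := hwp.to_sup_of_normal_right' hJ2 hwn
  obtain ⟨g, hgX, hg⟩ := h.sylX _ hR
  have hgJ : g ∈ NJ := by
    intro y hy
    exact hB.wc g (fun y hy => hg y (mem_sup_right hy)) y hy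
  have h1 : g * w * g⁻¹ ∈ S := hg w (mem_sup_left (mem_zpowers w))
  have h2 : g * w * g⁻¹ ∈ X := X.mul_mem (X.mul_mem hgX hwX) (X.inv_mem hgX)
  have h3 := hTN _ (hB.ep _ h1 h2)
  -- so `w ∈ N0`
  apply hw0
  by_cases hg0 : g ∈ N0
  · have h4 := N0.mul_mem (N0.mul_mem (N0.inv_mem hg0) h3) hg0
    have h5 : g⁻¹ * (g * w * g⁻¹) * g = w := by group
    rwa [h5] at h4
  · by_contra hw1
    have h4 := hsw2 g hgJ hg0 w hwJ hw1
    have h5 : g⁻¹ ∉ N0 := fun hh => hg0 (by simpa using N0.inv_mem hh)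
    -- `g w ∈ N0`, `g w g⁻¹ ∈ N0`, so `g⁻¹ ∈ N0`
    apply h5
    have h6 : g⁻¹ = (g * w)⁻¹ * (g * w * g⁻¹) := by group
    rw [h6]
    exact N0.mul_mem (N0.inv_mem h4) h3

/-- `a` is not `X`-conjugate to `b` -/
theorem not_conj (h : DblX S T P Q Z A K a b t x X Inn Fix) (hB : BZ S T P Q X a) {g : G} (hg : g ∈ X)
    (e : g * a * g⁻¹ = b) : False := by
  -- 2-subgroups `J`, `g J g⁻¹` of `C_X(b)`
  let C : Subgroup G := X ⊓ centralizer ({b} : Set G)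
  have hJC : P ⊔ Q ≤ C := by
    intro y hy
    exact ⟨h.JX hy, mem_centralizer_singleton_iff.mpr (h.bT y (h.toDbl.JT hy))⟩
  have hJ2 : IsPGroup 2 (P ⊔ Q : Subgroup G) := h.two.to_le h.toDbl.JT
  let J' : Subgroup G := cjg g (P ⊔ Q)
  have hJ'C : J' ≤ C := by
    intro y hy
    obtain ⟨u, hu, rfl⟩ := exists_of_cjg hy
    refine ⟨X.mul_mem (X.mul_mem hg (h.JX hu)) (X.inv_mem hg), mem_centralizer_singleton_iff.mpr ?_⟩
    rw [← e, commute_iff_conj]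
    exact h.Ta u (h.toDbl.JT hu)
  have hJ'2 : IsPGroup 2 J' := hJ2.map _
  have hp : Fact (Nat.Prime 2) := ⟨Nat.prime_two⟩
  obtain ⟨R, hR⟩ := (hJ2.comap_of_injective C.subtype C.subtype_injective).exists_le_sylow
  obtain ⟨R', hR'⟩ := (hJ'2.comap_of_injective C.subtype C.subtype_injective).exists_le_sylow
  obtain ⟨c, hc⟩ := MulAction.exists_smul_eq C R' R
  have hR2 : IsPGroup 2 ((R : Subgroup C).map C.subtype) := R.isPGroup'.map _
  obtain ⟨k, hk⟩ := h.syl _ hR2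
  have h1 : ∀ y ∈ P ⊔ Q, k * y * k⁻¹ ∈ S := by
    intro y hy
    refine hk y ⟨⟨y, hJC hy⟩, hR ?_, rfl⟩
    exact hy
  have h2 : ∀ y ∈ P ⊔ Q, (k * c * g) * y * (k * c * g)⁻¹ ∈ S := by
    intro y hy
    have h3 : g * y * g⁻¹ ∈ J' := conj_mem_cjg.mpr hy
    have h4 : (⟨g * y * g⁻¹, hJ'C h3⟩ : C) ∈ (R' : Subgroup C) := hR' h3
    have h5 : c * ⟨g * y * g⁻¹, hJ'C h3⟩ * c⁻¹ ∈ (R : Subgroup C) := by
      rw [← hc]
      exact ⟨_, h4, rfl⟩
    have h6 := hk _ ⟨_, h5, rfl⟩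
    have h7 : k * (C.subtype (c * ⟨g * y * g⁻¹, hJ'C h3⟩ * c⁻¹)) * k⁻¹ =
        (k * c * g) * y * (k * c * g)⁻¹ := by
      simp only [Subgroup.coe_subtype, Subgroup.coe_mul, InvMemClass.coe_inv]
      group
    rwa [h7] at h6
  have h3 := hB.wc k h1
  have h4 := hB.wc _ h2
  -- `c g` normalises `J`
  have h5 : ∀ y ∈ P ⊔ Q, (c * g) * y * (c * g)⁻¹ ∈ P ⊔ Q := by
    intro y hy
    have h6 : (P ⊔ Q).map (MulAut.conj k).toMonoidHom = P ⊔ Q := by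
      apply Subgroup.eq_of_le_of_card_ge
      · rintro _ ⟨z, hz, rfl⟩
        exact h3 z hz
      · rw [card_map_of_injective (MulAut.conj k).injective]
    have h7 : (k * c * g) * y * (k * c * g)⁻¹ ∈ (P ⊔ Q).map (MulAut.conj k).toMonoidHom := by
      rw [h6]; exact h4 y hy
    obtain ⟨z, hz, e1⟩ := h7
    have h8 : k * z * k⁻¹ = k * ((c * g) * y * (c * g)⁻¹) * k⁻¹ := by
      have e2 : k * z * k⁻¹ = (k * c * g) * y * (k * c * g)⁻¹ := e1
      rw [e2]; group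
    have h9 : z = (c * g) * y * (c * g)⁻¹ := mul_left_cancel (mul_right_cancel h8)
    rw [← h9]; exact hz
  have h6 := h.norm_Q hB (n := c * g) (X.mul_mem c.2.1 hg) h5 a h.toDbl.aQ
  have h7 : (c : G) * g * a * ((c : G) * g)⁻¹ = b := by
    have hc2 : (c : G) * b = b * c := (mem_centralizer_singleton_iff.mp c.2.2)
    calc (c : G) * g * a * ((c : G) * g)⁻¹ = c * (g * a * g⁻¹) * (c : G)⁻¹ := by group
      _ = b := by rw [e, hc2]; group
  rw [h7] at h6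
  exact h.toDbl.bnQ h6

/-- **(zeta)** involutions of `Q` are `X`-conjugate inside `S` only to involutions of `Q`. -/
theorem mem_Q (h : DblX S T P Q Z A K a b t x X Inn Fix) (hB : BZ S T P Q X a) {q g : G} (hq : q ∈ Q)
    (hqq : q * q = 1) (hg : g ∈ X) (hS : g * q * g⁻¹ ∈ S) : g * q * g⁻¹ ∈ Q := by
  by_cases hq1 : q = 1
  · rw [hq1, mul_one, mul_inv_cancel]; exact Q.one_mem
  obtain ⟨k, hk, e⟩ := h.toDbl.clsQ hq hqq hq1
  have hkX : t * k * t⁻¹ ∈ X := h.Xn.conj_mem _ (h.KX hk) t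
  obtain ⟨l, hl⟩ : ∃ l, l = t * k * t⁻¹ := ⟨_, rfl⟩
  rw [← hl] at e hkX
  have h1 : q = l⁻¹ * a * l := by rw [← e]; group
  have h2 : g * q * g⁻¹ = (g * l⁻¹) * a * (g * l⁻¹)⁻¹ := by rw [h1]; group
  rcases hB.be (g * l⁻¹) (h2 ▸ hS) with h3 | h3
  · exfalso
    have h4 : (g * q * g⁻¹) * (g * q * g⁻¹) = 1 := by
      calc (g * q * g⁻¹) * (g * q * g⁻¹) = g * (q * q) * g⁻¹ := by group
        _ = 1 := by rw [hqq]; group
    obtain ⟨k', hk', e'⟩ := h.cls _ (h2 ▸ h3) h4 (by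
      intro e3
      apply hq1
      calc q = g⁻¹ * (g * q * g⁻¹) * g := by group
        _ = 1 := by rw [e3]; group)
    refine h.not_conj hB (g := k' * (g * l⁻¹)) (X.mul_mem (h.KX hk') (X.mul_mem hg (X.inv_mem hkX))) ?_
    rw [← e', h2]
    group
  · rw [h2]; exact h3

/-- **(eta)** `Q` is strongly closed in `S ∩ X` with respect to `X`. -/
theorem closed (h : DblX S T P Q Z A K a b t x X Inn Fix) (hB : BZ S T P Q X a) {q g : G} (hq : q ∈ Q)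
    (hg : g ∈ X) (hS : g * q * g⁻¹ ∈ S) : g * q * g⁻¹ ∈ Q := by
  by_cases hq1 : q = 1
  · rw [hq1, mul_one, mul_inv_cancel]; exact Q.one_mem
  -- the involution of `⟨q⟩`
  obtain ⟨k, hk⟩ := (h.two.to_le h.QT) ⟨q, hq⟩
  have hk' : q ^ (2 ^ k) = 1 := congrArg Subtype.val hk
  obtain ⟨i, hi, hi'⟩ : ∃ i : ℕ, q ^ (2 ^ i) ≠ 1 ∧ q ^ (2 ^ (i + 1)) = 1 := by
    by_contra hcon
    push Not at hcon
    have : ∀ i : ℕ, q ^ (2 ^ i) ≠ 1 := by
      intro i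
      induction i with
      | zero => simpa using hq1
      | succ i ih => exact hcon i ih
    exact this k hk'
  obtain ⟨e0, he0⟩ : ∃ e0, e0 = q ^ (2 ^ i) := ⟨_, rfl⟩
  have he0Q : e0 ∈ Q := he0 ▸ Q.pow_mem hq _
  have he0e : e0 * e0 = 1 := by
    rw [he0, ← pow_add, ← two_mul, ← pow_succ']
    exact hi'
  have he01 : e0 ≠ 1 := he0 ▸ hi
  have hqe : q * e0 = e0 * q := by rw [he0]; exact (Commute.refl q).pow_right _
  have hy : g * q * g⁻¹ ∈ T := hB.ep _ hS (X.mul_mem (X.mul_mem hg (h.QX hq)) (X.inv_mem hg))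
  have he1 : g * e0 * g⁻¹ ∈ S := by
    rw [he0]
    have h1 : g * q ^ (2 ^ i) * g⁻¹ = (g * q * g⁻¹) ^ (2 ^ i) := by
      rw [conj_pow]
    rw [h1]
    exact S.pow_mem hS _
  have he1Q := h.mem_Q hB he0Q he0e hg he1
  have h1 : q ∈ Fix e0 := (h.FixQ e0 he0Q he0e he01 q (h.QT hq) hqe).mpr hq
  have h2 := h.Fixc g e0 q h1
  refine (h.FixQ _ he1Q ?_ ?_ _ hy ?_).mp h2
  · calc g * e0 * g⁻¹ * (g * e0 * g⁻¹) = g * (e0 * e0) * g⁻¹ := by group
      _ = 1 := by rw [he0e]; group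
  · intro e
    apply he01
    calc e0 = g⁻¹ * (g * e0 * g⁻¹) * g := by group
      _ = 1 := by rw [e]; group
  · rw [commute_iff_conj]; exact hqe

end DblX

end

end Cfsg.Agent.UGT.L34T2
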