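import Cfsg.Agent.UGT.L34T2.DblFus
import Cfsg.Agent.UGT.L34T2.BigDelta
import Cfsg.Agent.UGT.L34T2.BigZeta

/-!
# Type `L₃(4)`, `T < S`, case BIG: the record `BZ`

* `Dbl.nJ`: `N(J)` permutes `{P, Q}`.
* `Dbl.noMix`, `DblX.bz`.
-/

set_option autoImplicit false

open Subgroup

namespace Cfsg.Agent.UGT.L34T2

variable {G : Type*} [Group G] [Finite G]

variable {S T P Q Z K X : Subgroup G} {A : Bool → Subgroup G} {a b t x : G} {Inn Fix : G → Subgroup G}

namespace Dbl

theorem noMix (h : Dbl S T P Q Z A K a b t x) : Big.NoMix P Q a := by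
  intro p hp q hq hpp hp1 hqq hq1 g e
  have hpq := h.comm p hp q hq
  have h1 : (p * q) * (p * q) = 1 := by
    calc (p * q) * (p * q) = p * (q * p) * q := by group
      _ = p * (p * q) * q := by rw [hpq]
      _ = (p * p) * (q * q) := by group
      _ = 1 := by rw [hpp, hqq, one_mul]
  have h2 : p * q ≠ 1 := by
    intro e1
    apply hp1
    have e2 : p = q⁻¹ := eq_inv_of_mul_eq_one_left e1
    exact h.disj p hp (e2 ▸ Q.inv_mem hq)
  rcases (h.pure_iff (h.mem_J.mpr ⟨p, hp, q, hq, rfl⟩) h1 h2).mp ⟨g, e⟩ with h3 | h3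
  · apply hq1
    refine h.disj q ?_ hq
    have := P.mul_mem (P.inv_mem hp) h3
    rwa [inv_mul_cancel_left] at this
  · apply hp1
    refine h.disj p hp ?_
    have := Q.mul_mem h3 (Q.inv_mem hq)
    rwa [mul_inv_cancel_right] at this

/-- `N(J)` permutes `{P, Q}` -/
theorem nJ_PQ (h : Dbl S T P Q Z A K a b t x) {g : G} (hg : ∀ y ∈ P ⊔ Q, g * y * g⁻¹ ∈ P ⊔ Q) :
    (∀ q ∈ Q, g * q * g⁻¹ ∈ Q) ∨ (∀ q ∈ Q, g * q * g⁻¹ ∈ P) := by
  have haQ := h.a_mem_Q
  -- the involutions go where `a` goes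
  have key : ∀ R R' : Subgroup G, (∀ j, j ∈ R → j ∈ R' → j = 1) → g * a * g⁻¹ ∈ R →
      (∀ j ∈ Q, j * j = 1 → j ≠ 1 → g * j * g⁻¹ ∈ R ∨ g * j * g⁻¹ ∈ R') →
      ∀ q ∈ Q, g * q * g⁻¹ ∈ R := by
    intro R R' hRR ha hor
    have hinv : ∀ u ∈ Q, u * u = 1 → g * u * g⁻¹ ∈ R := by
      intro u hu huu
      by_cases hu1 : u = 1
      · rw [hu1, mul_one, mul_inv_cancel]; exact R.one_mem
      by_cases hua : u = a
      · rw [hua]; exact ha
      rcases hor u hu huu hu1 with h1 | h1
      · exact h1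
      · exfalso
        have hua' : u * a = a * u := h.Ta u (h.QT hu)
        have h2 : (u * a) * (u * a) = 1 := by
          calc (u * a) * (u * a) = u * (a * u) * a := by group
            _ = u * (u * a) * a := by rw [hua']
            _ = (u * u) * (a * a) := by group
            _ = 1 := by rw [huu, h.a_sq, one_mul]
        have h3 : u * a ≠ 1 := by
          intro e
          apply hua
          have e1 : u = a⁻¹ := eq_inv_of_mul_eq_one_left e
          rw [e1]
          exact inv_eq_of_mul_eq_one_left h.a_sq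
        have e1 : g * (u * a) * g⁻¹ = (g * u * g⁻¹) * (g * a * g⁻¹) := by group
        rcases hor _ (Q.mul_mem hu haQ) h2 h3 with h4 | h4
        · rw [e1] at h4
          have h5 : g * u * g⁻¹ ∈ R := by
            have := R.mul_mem h4 (R.inv_mem ha)
            rwa [mul_inv_cancel_right] at this
          have h6 := hRR _ h5 h1
          apply hu1
          calc u = g⁻¹ * (g * u * g⁻¹) * g := by group
            _ = 1 := by rw [h6]; group
        · rw [e1] at h4
          have h5 : g * a * g⁻¹ ∈ R' := by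
            have := R'.mul_mem (R'.inv_mem h1) h4
            rwa [inv_mul_cancel_left] at this
          have h6 := hRR _ ha h5
          apply h.a_ne
          calc a = g⁻¹ * (g * a * g⁻¹) * g := by group
            _ = 1 := by rw [h6]; group
    intro q hq
    obtain ⟨u, hu, v, hv, rfl⟩ := h.symm.sup q hq
    have e : g * (u * v) * g⁻¹ = (g * u * g⁻¹) * (g * v * g⁻¹) := by group
    rw [e]
    exact R.mul_mem (hinv u (h.symm.AP _ hu) (h.symm.Asq _ u hu))
      (hinv v (h.symm.AP _ hv) (h.symm.Asq _ v hv))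
  have hor : ∀ j ∈ Q, j * j = 1 → j ≠ 1 → g * j * g⁻¹ ∈ P ∨ g * j * g⁻¹ ∈ Q := by
    intro j hj hjj hj1
    exact h.pure_conj (Or.inr hj) hjj hj1 (hg j (mem_sup_right hj))
  rcases hor a haQ h.a_sq h.a_ne with h1 | h1
  · right
    exact key P Q (fun j hj hj' => h.disj j hj hj') h1 hor
  · left
    exact key Q P (fun j hj hj' => h.disj j hj' hj) h1 (fun j hj hjj hj1 => (hor j hj hjj hj1).symm)

end Dbl

/-- the record `BZ` -/
theorem DblX.bz (h : DblX S T P Q Z A K a b t x X Inn Fix) : BZ S T P Q X a := by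
  have hmix := h.toDbl.noMix
  have hα := BigDelta.alpha_of h.toDbl hmix
  refine ⟨?_, fun g hg => h.toDbl.nJ_PQ hg, ?_, BigDelta.eps h hmix hα⟩
  · intro g hg y hy
    have h1 := h.toDbl.cjg_eq_of_le_S (g := g) (by
      intro u hu
      obtain ⟨v, hv, rfl⟩ := exists_of_cjg hu
      exact hg v hv)
    rw [← h1]
    exact conj_mem_cjg.mpr hy
  · intro g hg
    refine Big.beta h.toDbl hmix hα (g := g⁻¹) hg ?_
    group

end Cfsg.Agent.UGT.L34T2
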