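import Cfsg.Agent.UGT.L34T2.Dbl

/-!
# Type `L₃(4)`, `T < S`, case BIG: (β) and (γ) of UGT #14882 (4)

* `Dbl.beta` : an element of `S` conjugate to `a` lies in `P` or in `Q`;
* `DblX.gamma` : an involution of `T - P Q` is not conjugate to an element of `P Q`.

Inputs: `Alpha` = (α), `NoMix` = "pure is not conjugate to mixed".
-/

set_option autoImplicit false
set_option linter.unusedVariables false
set_option linter.unusedSectionVars false

open Subgroup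

namespace Cfsg.Agent.UGT.L34T2.Big

variable {G : Type*} [Group G]

/-- (α) -/
def Alpha (S T : Subgroup G) : Prop :=
  ∀ w v g : G, w ∈ S → w ∉ T → w * w = 1 → g * w * g⁻¹ = v → v ∈ T →
    (∀ y ∈ S, y * w = w * y → g * y * g⁻¹ ∈ S) →
    (∀ R : Subgroup G, IsPGroup 2 R → (∀ r ∈ R, r * v = v * r) →
      Nat.card R ≤ Nat.card (S ⊓ centralizer ({v} : Set G) : Subgroup G)) → False

/-- mixed elements are not conjugate to `a` -/
def NoMix (P Q : Subgroup G) (a : G) : Prop :=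
  ∀ p ∈ P, ∀ q ∈ Q, p * p = 1 → p ≠ 1 → q * q = 1 → q ≠ 1 → ∀ g : G, g * (p * q) * g⁻¹ ≠ a

/-- `y ∈ P Q` -/
def JM (P Q : Subgroup G) (y : G) : Prop := ∃ p ∈ P, ∃ q ∈ Q, y = p * q

/-- `y` centralises `Z` -/
def Cz (Z : Subgroup G) (y : G) : Prop := ∀ z ∈ Z, y * z = z * y

/-- `y` fixes the `A i` -/
def Fx (A : Bool → Subgroup G) (y : G) : Prop := ∀ i, ∀ u ∈ A i, y * u * y⁻¹ ∈ A i

/-- `y` swaps the `A i` -/
def Sw (A : Bool → Subgroup G) (y : G) : Prop := ∀ i, ∀ u ∈ A i, y * u * y⁻¹ ∈ A (!i)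

section Fr

variable {T P Q Z : Subgroup G} {A : Bool → Subgroup G} {b : G} (D : Fr T P Q Z A b)
include D

theorem JM_mul {y y' : G} (h : JM P Q y) (h' : JM P Q y') : JM P Q (y * y') := by
  obtain ⟨p, hp, q, hq, rfl⟩ := h
  obtain ⟨p', hp', q', hq', rfl⟩ := h'
  refine ⟨p * p', mul_mem hp hp', q * q', mul_mem hq hq', ?_⟩
  have := D.comm p' hp' q hq
  calc p * q * (p' * q') = p * (q * p') * q' := by group
    _ = p * (p' * q) * q' := by rw [this]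
    _ = p * p' * (q * q') := by group

theorem JM_inv {y : G} (h : JM P Q y) : JM P Q y⁻¹ := by
  obtain ⟨p, hp, q, hq, rfl⟩ := h
  refine ⟨p⁻¹, inv_mem hp, q⁻¹, inv_mem hq, ?_⟩
  have := D.comm p⁻¹ (inv_mem hp) q⁻¹ (inv_mem hq)
  rw [mul_inv_rev, this]

theorem JM_conj {y s : G} (hs : s ∈ T) (h : JM P Q y) : JM P Q (s * y * s⁻¹) := by
  obtain ⟨p, hp, q, hq, rfl⟩ := h
  exact ⟨_, D.nP s hs p hp, _, D.nQ s hs q hq, by group⟩

theorem JM_T {y : G} (h : JM P Q y) : y ∈ T := by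
  obtain ⟨p, hp, q, hq, rfl⟩ := h
  exact mul_mem (D.PT hp) (D.QT hq)

theorem Z_le : Z ≤ P := (D.ZA false).trans (D.AP false)

theorem conj_Z {y z : G} (hy : y ∈ T) (hz : z ∈ Z) : y * z * y⁻¹ ∈ Z := by
  rcases D.actA y hy with h | h
  · exact D.inf _ (h false z (D.ZA false hz)) (h true z (D.ZA true hz))
  · exact D.inf _ (h true z (D.ZA true hz)) (h false z (D.ZA false hz))

theorem b_sq : b * b = 1 := D.Asq false b (D.ZA false D.bZ)

theorem Z_sq {z : G} (hz : z ∈ Z) : z * z = 1 := D.Asq false z (D.ZA false hz)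

/-- the elements of `Z` -/
theorem Z_cases {z w : G} (hz : z ∈ Z) (h1 : z ≠ 1) (hb : z ≠ b) (hw : w ∈ Z) :
    w = 1 ∨ w = b ∨ w = z ∨ w = z * b := by
  classical
  by_contra hcon
  push Not at hcon
  obtain ⟨n1, n2, n3, n4⟩ := hcon
  have hfin : Finite Z := Nat.finite_of_card_ne_zero (by rw [D.cardZ]; norm_num)
  have hbb := (b_sq D)
  have hzz := (Z_sq D) hz
  let f : Fin 5 → Z := ![1, ⟨b, D.bZ⟩, ⟨z, hz⟩, ⟨z * b, mul_mem hz D.bZ⟩, ⟨w, hw⟩]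
  have e1 : z * b ≠ 1 := fun h => hb (by
    calc z = z * b * b := by rw [mul_assoc, hbb, mul_one]
      _ = b := by rw [h, one_mul])
  have e2 : z * b ≠ b := fun h => h1 (mul_eq_right.1 h)
  have e3 : z * b ≠ z := fun h => D.b1 (mul_eq_left.1 h)
  have hf : Function.Injective f := by
    intro i j hij
    fin_cases i <;> fin_cases j <;> first | rfl | (exfalso; revert hij; simp [f, Subtype.ext_iff, D.b1, h1, hb,
      n1, n2, n3, n4, e1, e2, e3, Ne.symm D.b1, Ne.symm h1, Ne.symm hb, Ne.symm n1, Ne.symm n2, Ne.symm n3,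
      Ne.symm n4, Ne.symm e1, Ne.symm e2, Ne.symm e3])
  have := Nat.card_le_card_of_injective f hf
  rw [D.cardZ, Nat.card_eq_fintype_card, Fintype.card_fin] at this
  omega

theorem exists_z : ∃ z ∈ Z, z ≠ 1 ∧ z ≠ b := by
  by_contra hcon
  push Not at hcon
  have hfin : Finite Z := Nat.finite_of_card_ne_zero (by rw [D.cardZ]; norm_num)
  have h : (Z : Set G) ⊆ {1, b} := by
    intro z hz
    by_cases h1 : z = 1
    · exact Or.inl h1
    · exact Or.inr (hcon z hz h1)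
  have h2 := Set.ncard_le_ncard h (Set.toFinite _)
  have h3 : (Z : Set G).ncard = 4 := D.cardZ
  have h4 : ({1, b} : Set G).ncard ≤ 2 := Set.ncard_insert_le 1 {b} |>.trans (by rw [Set.ncard_singleton])
  omega

/-- an element which is not central on `Z` moves `z` to `z b` -/
theorem conj_z {y z : G} (hy : y ∈ T) (hc : ¬ Cz Z y) (hz : z ∈ Z) (h1 : z ≠ 1) (hb : z ≠ b) :
    y * z * y⁻¹ = z * b := by
  have h2 : ∀ z ∈ Z, y * z = z * y → z = 1 ∨ z = b := (D.actZ y hy).resolve_left hc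
  have h3 := (conj_Z D) hy hz
  rcases (Z_cases D) hz h1 hb h3 with h | h | h | h
  · exfalso
    exact h1 (conj_eq_one_iff.1 h)
  · exfalso
    apply hb
    have h4 := D.bT y hy
    calc z = y⁻¹ * (y * z * y⁻¹) * y := by group
      _ = b := by rw [h, mul_assoc, ← h4]; group
  · exfalso
    rcases h2 z hz (mul_inv_eq_iff_eq_mul.1 h) with h4 | h4
    · exact h1 h4
    · exact hb h4
  · exact h

theorem Cz_mul {y y' : G} (h : Cz Z y) (h' : Cz Z y') : Cz Z (y * y') := by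
  intro z hz
  rw [mul_assoc, h' z hz, ← mul_assoc, h z hz, mul_assoc]

theorem Cz_mul' {y y' : G} (hy : y ∈ T) (hy' : y' ∈ T) (h : ¬ Cz Z y) (h' : ¬ Cz Z y') : Cz Z (y * y') := by
  intro z hz
  by_cases h1 : z = 1
  · rw [h1, mul_one, one_mul]
  by_cases hb : z = b
  · rw [hb]
    exact D.bT _ (mul_mem hy hy')
  have h2 := (conj_z D) hy' h' hz h1 hb
  have h3 := (conj_z D) hy h hz h1 hb
  rw [← mul_inv_eq_iff_eq_mul]
  calc y * y' * z * (y * y')⁻¹ = y * (y' * z * y'⁻¹) * y⁻¹ := by group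
    _ = (y * z * y⁻¹) * (y * b * y⁻¹) := by rw [h2]; group
    _ = z * b * b := by rw [h3, mul_inv_eq_iff_eq_mul.2 (D.bT y hy)]
    _ = z := by rw [mul_assoc, (b_sq D), mul_one]

theorem Cz_inv {y : G} (h : Cz Z y) : Cz Z y⁻¹ := by
  intro z hz
  have := h z hz
  rw [inv_mul_eq_iff_eq_mul, ← mul_assoc, this, mul_assoc, mul_inv_cancel, mul_one]

theorem Cz_inv_iff {y : G} : Cz Z y⁻¹ ↔ Cz Z y := ⟨fun h => by
  have := (Cz_inv D) h
  rwa [inv_inv] at this, (Cz_inv D)⟩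

theorem Cz_iff {y y' : G} (hy : y ∈ T) (hy' : y' ∈ T) : Cz Z (y * y') ↔ (Cz Z y ↔ Cz Z y') := by
  by_cases h : Cz Z y <;> by_cases h' : Cz Z y'
  · simp only [h, h', iff_true]; exact (Cz_mul D) h h'
  · simp only [h, h', iff_false, not_true_eq_false]
    intro h2
    apply h'
    have := (Cz_mul D) ((Cz_inv D) h) h2
    rwa [inv_mul_cancel_left] at this
  · simp only [h, h', iff_true, iff_false]
    intro h2
    apply h
    have := (Cz_mul D) h2 ((Cz_inv D) h')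
    rwa [mul_inv_cancel_right] at this
  · simp only [h, h', iff_true]; exact (Cz_mul' D) hy hy' h h'

theorem Fx_mul {y y' : G} (h : Fx A y) (h' : Fx A y') : Fx A (y * y') := by
  intro i u hu
  have := h i _ (h' i u hu)
  rwa [show y * (y' * u * y'⁻¹) * y⁻¹ = y * y' * u * (y * y')⁻¹ by group] at this

theorem Fx_mul' {y y' : G} (h : Sw A y) (h' : Sw A y') : Fx A (y * y') := by
  intro i u hu
  have := h _ _ (h' i u hu)
  rwa [show y * (y' * u * y'⁻¹) * y⁻¹ = y * y' * u * (y * y')⁻¹ by group, Bool.not_not] at this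

theorem not_both {y : G} (h : Fx A y) (h' : Sw A y) : False := by
  have hfin : Finite Z := Nat.finite_of_card_ne_zero (by rw [D.cardZ]; norm_num)
  have h1 : Nat.card (A false) ≤ Nat.card Z :=
    Nat.card_le_card_of_injective (fun u : A false => (⟨y * u * y⁻¹, D.inf _ (h false u u.2) (h' false u u.2)⟩ : Z))
      (fun u v huv => by
        have h2 : y * (u : G) * y⁻¹ = y * v * y⁻¹ := congrArg Subtype.val huv
        exact Subtype.ext (mul_left_cancel (mul_right_cancel h2)))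
  rw [D.cardA, D.cardZ] at h1
  omega

theorem Fx_iff {y y' : G} (hy : y ∈ T) (hy' : y' ∈ T) : Fx A (y * y') ↔ (Fx A y ↔ Fx A y') := by
  rcases D.actA y hy with h | h <;> rcases D.actA y' hy' with h' | h'
  · exact ⟨fun _ => ⟨fun _ => h', fun _ => h⟩, fun _ => (Fx_mul D) h h'⟩
  · constructor
    · intro h2
      refine absurd (show Sw A (y * y') from ?_) (fun h3 => (not_both D) h2 h3)
      intro i u hu
      have := h _ _ (h' i u hu)
      rwa [show y * (y' * u * y'⁻¹) * y⁻¹ = y * y' * u * (y * y')⁻¹ by group] at this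
    · intro h2
      exact ((not_both D) (h2.1 h) h').elim
  · constructor
    · intro h2
      refine absurd (show Sw A (y * y') from ?_) (fun h3 => (not_both D) h2 h3)
      intro i u hu
      have := h _ _ (h' i u hu)
      rwa [show y * (y' * u * y'⁻¹) * y⁻¹ = y * y' * u * (y * y')⁻¹ by group] at this
    · intro h2
      exact ((not_both D) (h2.2 h') h).elim
  · exact ⟨fun _ => ⟨fun h3 => ((not_both D) h3 h).elim, fun h3 => ((not_both D) h3 h').elim⟩, fun _ => (Fx_mul' D) h h'⟩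

theorem Fx_one : Fx A 1 := by
  intro i u hu
  rwa [one_mul, inv_one, mul_one]

theorem Cz_one : Cz Z 1 := by
  intro z _
  rw [one_mul, mul_one]

theorem Fx_inv_iff {y : G} (hy : y ∈ T) : Fx A y⁻¹ ↔ Fx A y := by
  have h := (Fx_iff D) hy (inv_mem hy)
  rw [mul_inv_cancel] at h
  have := h.1 (Fx_one D)
  exact this.symm

/-- same type: same coset of `J` -/
theorem JM_of_same {y y' : G} (hy : y ∈ T) (hy' : y' ∈ T) (h1 : Fx A y ↔ Fx A y') (h2 : Cz Z y ↔ Cz Z y') :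
    JM P Q (y * y') :=
  D.inner _ (mul_mem hy hy') (((Fx_iff D) hy hy').2 h1) (((Cz_iff D) hy hy').2 h2)

theorem comm_JM {y y' : G} (hy : y ∈ T) (hy' : y' ∈ T) : JM P Q (y * y' * y⁻¹ * y'⁻¹) := by
  have h1 := (Fx_iff D) (mul_mem (mul_mem hy hy') (inv_mem hy)) (inv_mem hy')
  rw [(Fx_iff D) (mul_mem hy hy') (inv_mem hy), (Fx_iff D) hy hy', (Fx_inv_iff D) hy, (Fx_inv_iff D) hy'] at h1
  have h2 := (Cz_iff D) (mul_mem (mul_mem hy hy') (inv_mem hy)) (inv_mem hy')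
  rw [(Cz_iff D) (mul_mem hy hy') (inv_mem hy), (Cz_iff D) hy hy', (Cz_inv_iff D), (Cz_inv_iff D)] at h2
  exact D.inner _ (mul_mem (mul_mem (mul_mem hy hy') (inv_mem hy)) (inv_mem hy')) (h1.2 (by
    by_cases hA : Fx A y <;> by_cases hB : Fx A y' <;> simp [hA, hB])) (h2.2 (by
    by_cases hA : Cz Z y <;> by_cases hB : Cz Z y' <;> simp [hA, hB]))

theorem JM_Cz {y : G} (h : JM P Q y) : Cz Z y := by
  obtain ⟨p, hp, q, hq, rfl⟩ := h
  intro z hz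
  have h1 := D.Zcen z hz p hp
  have h2 := D.comm z ((Z_le D) hz) q hq
  calc p * q * z = p * (z * q) := by rw [mul_assoc, ← h2]
    _ = z * (p * q) := by rw [← mul_assoc, h1, mul_assoc]

theorem JM_Fx {y : G} (h : JM P Q y) : Fx A y := by
  obtain ⟨p, hp, q, hq, rfl⟩ := h
  intro i u hu
  have h1 := D.com p hp u (D.AP i hu)
  have h2 := D.comm u (D.AP i hu) q hq
  have h3 : p * q * u * (p * q)⁻¹ = (p * u * p⁻¹ * u⁻¹) * u := by
    calc p * q * u * (p * q)⁻¹ = p * (q * u) * (q⁻¹ * p⁻¹) := by group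
      _ = p * (u * q) * (q⁻¹ * p⁻¹) := by rw [h2]
      _ = _ := by group
  rw [h3]
  exact mul_mem (D.ZA i h1) hu

/-- `e y ∈ P Q` with `e` of type `x` -/
theorem conjP {e p : G} (he : e ∈ T) (hJ : ¬ JM P Q e) (hee : e * e = 1) (hp : p ∈ P) (hpp : p * p = 1)
    (hc : e * p = p * e) : ∃ r ∈ P, r * e * r⁻¹ = e * p := by
  refine D.conj e he hJ (by rw [hee]; exact one_mem _) p hp ?_
  rw [mul_assoc e⁻¹, ← hc, inv_mul_cancel_left, hpp]

end Fr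

section Dbl

variable {S T P Q Z : Subgroup G} {A : Bool → Subgroup G} {K : Subgroup G} {a b t x : G}
  (D : Dbl S T P Q Z A K a b t x)
include D

theorem tt_mem : t * t ∈ T := by
  rcases D.ST _ (mul_mem D.tS D.tS) with h | h
  · exact h
  · exfalso
    rw [inv_mul_cancel_left] at h
    exact D.tn h

theorem tT' {y : G} (hy : y ∈ T) : t⁻¹ * y * t ∈ T := by
  have h1 := mul_mem (mul_mem (inv_mem (tt_mem D)) (D.tT y hy)) (tt_mem D)
  rwa [show (t * t)⁻¹ * (t * y * t⁻¹) * (t * t) = t⁻¹ * y * t by group] at h1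

theorem tP' {p : G} (hp : p ∈ P) : t⁻¹ * p * t ∈ Q := by
  have h1 := D.nQ _ (inv_mem (tt_mem D)) _ (D.tP p hp)
  rwa [show (t * t)⁻¹ * (t * p * t⁻¹) * (t * t)⁻¹⁻¹ = t⁻¹ * p * t by group] at h1

theorem tQ' {q : G} (hq : q ∈ Q) : t⁻¹ * q * t ∈ P := by
  have h1 := D.nP _ (inv_mem (tt_mem D)) _ (D.tQ q hq)
  rwa [show (t * t)⁻¹ * (t * q * t⁻¹) * (t * t)⁻¹⁻¹ = t⁻¹ * q * t by group] at h1

theorem JM_t {y : G} (h : JM P Q y) : JM P Q (t * y * t⁻¹) := by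
  obtain ⟨p, hp, q, hq, rfl⟩ := h
  refine ⟨_, D.tQ q hq, _, D.tP p hp, ?_⟩
  rw [D.comm p hp q hq]
  group

theorem JM_t' {y : G} (h : JM P Q y) : JM P Q (t⁻¹ * y * t) := by
  obtain ⟨p, hp, q, hq, rfl⟩ := h
  refine ⟨_, tQ' D hq, _, tP' D hp, ?_⟩
  rw [D.comm p hp q hq]
  group

theorem JM_t'_iff {y : G} : JM P Q (t⁻¹ * y * t) ↔ JM P Q y := by
  refine ⟨fun h => ?_, JM_t' D⟩
  have := JM_t D h
  rwa [show t * (t⁻¹ * y * t) * t⁻¹ = y by group] at this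

theorem a_mem : a ∈ Q := by
  rw [← D.ta]
  exact D.tP b (Z_le D.toFr D.bZ)

theorem a_sq : a * a = 1 := by
  rw [← D.ta, show t * b * t⁻¹ * (t * b * t⁻¹) = t * (b * b) * t⁻¹ by group, b_sq D.toFr]
  group

theorem a_ne : a ≠ 1 := by
  rw [← D.ta]
  intro h
  exact D.b1 (conj_eq_one_iff.1 h)

/-- involutions of `P` are conjugate to `a` -/
theorem pureP {p : G} (hp : p ∈ P) (hpp : p * p = 1) (hp1 : p ≠ 1) : ∃ h : G, h * p * h⁻¹ = a := by
  obtain ⟨k, -, hk⟩ := D.cls p hp hpp hp1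
  refine ⟨t * k, ?_⟩
  rw [← D.ta, ← hk]
  group

theorem pureQ {q : G} (hq : q ∈ Q) (hqq : q * q = 1) (hq1 : q ≠ 1) : ∃ h : G, h * q * h⁻¹ = a := by
  obtain ⟨h, hh⟩ := pureP D (D.tQ q hq)
    (by rw [show t * q * t⁻¹ * (t * q * t⁻¹) = t * (q * q) * t⁻¹ by group, hqq]; group)
    (fun h => hq1 (conj_eq_one_iff.1 h))
  refine ⟨h * t, ?_⟩
  rw [← hh]
  group

/-- the conjugates of `e` and `e q`, `q ∈ Q` -/
theorem conjQ {e q : G} (he : e ∈ T) (hJ : ¬ JM P Q e) (hee : e * e = 1) (hq : q ∈ Q) (hqq : q * q = 1)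
    (hc : e * q = q * e) : ∃ r ∈ Q, r * e * r⁻¹ = e * q := by
  obtain ⟨r, hr, hr'⟩ := conjP D.toFr (tT' D he) (fun h => hJ ((JM_t'_iff D).1 h))
    (by rw [show t⁻¹ * e * t * (t⁻¹ * e * t) = t⁻¹ * (e * e) * t by group, hee]; group) (tQ' D hq)
    (by rw [show t⁻¹ * q * t * (t⁻¹ * q * t) = t⁻¹ * (q * q) * t by group, hqq]; group)
    (by rw [show t⁻¹ * e * t * (t⁻¹ * q * t) = t⁻¹ * (e * q) * t by group, hc]; group)
  refine ⟨t * r * t⁻¹, D.tP r hr, ?_⟩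
  calc t * r * t⁻¹ * e * (t * r * t⁻¹)⁻¹ = t * (r * (t⁻¹ * e * t) * r⁻¹) * t⁻¹ := by group
    _ = t * (t⁻¹ * e * t * (t⁻¹ * q * t)) * t⁻¹ := by rw [hr']
    _ = e * q := by group

variable (hmix : NoMix P Q a)
include hmix

/-- an involution of `P Q` conjugate to `a` is in `P` or in `Q` -/
theorem mem_or {y : G} (h : JM P Q y) {g : G} (hg : g * y * g⁻¹ = a) : y ∈ P ∨ y ∈ Q := by
  obtain ⟨p, hp, q, hq, rfl⟩ := h
  have h1 : (p * q) * (p * q) = 1 := by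
    have h2 : g * ((p * q) * (p * q)) * g⁻¹ = 1 := by
      rw [show g * ((p * q) * (p * q)) * g⁻¹ = (g * (p * q) * g⁻¹) * (g * (p * q) * g⁻¹) by group, hg, a_sq D]
    exact conj_eq_one_iff.1 h2
  have h2 : (p * q) * (p * q) = (p * p) * (q * q) := by
    have := D.comm p hp q hq
    calc (p * q) * (p * q) = p * (q * p) * q := by group
      _ = p * (p * q) * q := by rw [this]
      _ = (p * p) * (q * q) := by group
  rw [h2] at h1
  have h3 : p * p ∈ Q := by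
    rw [mul_eq_one_iff_eq_inv.1 h1]
    exact inv_mem (mul_mem hq hq)
  have h4 := D.disj _ (mul_mem hp hp) h3
  rw [h4, one_mul] at h1
  by_cases hp1 : p = 1
  · right
    rw [hp1, one_mul]
    exact hq
  by_cases hq1 : q = 1
  · left
    rw [hq1, mul_one]
    exact hp
  exact absurd hg (hmix p hp q hq h4 hp1 h1 hq1 g)

/-- (K1) -/
theorem k1 {e g u h : G} (hg : g * e * g⁻¹ = a) (hu : h * u * h⁻¹ = a) (hr : ∃ r : G, r * e * r⁻¹ = e * u)
    (hJ : JM P Q (g * u * g⁻¹)) : g * u * g⁻¹ ∈ Q := by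
  rcases mem_or D hmix (g := h * g⁻¹) hJ (by rw [← hu]; group) with h1 | h1
  · exfalso
    obtain ⟨r, hr⟩ := hr
    have huu : u * u = 1 := by
      have h2 : h * (u * u) * h⁻¹ = 1 := by
        rw [show h * (u * u) * h⁻¹ = (h * u * h⁻¹) * (h * u * h⁻¹) by group, hu, a_sq D]
      exact conj_eq_one_iff.1 h2
    have hu1 : u ≠ 1 := by
      rintro rfl
      apply a_ne D
      rw [← hu]; group
    refine hmix _ h1 a (a_mem D) ?_ ?_ (a_sq D) (a_ne D) (g * r⁻¹ * g⁻¹) ?_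
    · rw [show g * u * g⁻¹ * (g * u * g⁻¹) = g * (u * u) * g⁻¹ by group, huu]; group
    · exact fun h => hu1 (conj_eq_one_iff.1 h)
    · rw [D.comm _ h1 a (a_mem D)]
      calc g * r⁻¹ * g⁻¹ * (a * (g * u * g⁻¹)) * (g * r⁻¹ * g⁻¹)⁻¹
          = g * r⁻¹ * g⁻¹ * (g * e * g⁻¹ * (g * u * g⁻¹)) * (g * r⁻¹ * g⁻¹)⁻¹ := by rw [hg]
        _ = g * (r⁻¹ * (e * u) * r) * g⁻¹ := by group
        _ = g * (r⁻¹ * (r * e * r⁻¹) * r) * g⁻¹ := by rw [hr]
        _ = a := by rw [← hg]; group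
  · exact h1

/-- (K2) -/
theorem k2 {g u u' : G} (hu : u ∈ P) (huu : u * u = 1) (hu1 : u ≠ 1) (hu' : u' ∈ Q) (huu' : u' * u' = 1)
    (hu1' : u' ≠ 1) (h1 : g * u * g⁻¹ ∈ Q) (h2 : g * u' * g⁻¹ ∈ Q) : False := by
  have h3 : g * (u * u') * g⁻¹ ∈ Q := by
    rw [show g * (u * u') * g⁻¹ = g * u * g⁻¹ * (g * u' * g⁻¹) by group]
    exact mul_mem h1 h2
  have hc := D.comm u hu u' hu'
  have h4 : (u * u') * (u * u') = 1 := by
    calc (u * u') * (u * u') = u * (u' * u) * u' := by group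
      _ = u * (u * u') * u' := by rw [hc]
      _ = (u * u) * (u' * u') := by group
      _ = 1 := by rw [huu, huu', one_mul]
  have h5 : u * u' ≠ 1 := by
    intro h6
    apply hu1
    refine D.disj u hu ?_
    rw [mul_eq_one_iff_eq_inv.1 h6]
    exact inv_mem hu'
  obtain ⟨h, hh⟩ := pureQ D h3
    (by rw [show g * (u * u') * g⁻¹ * (g * (u * u') * g⁻¹) = g * ((u * u') * (u * u')) * g⁻¹ by group, h4]; group)
    (fun h => h5 (conj_eq_one_iff.1 h))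
  refine hmix u hu u' hu' huu hu1 huu' hu1' (h * g) ?_
  rw [← hh]
  group

/-- `b^g ∈ Q` for `e` of type `x` or `f` on `P` -/
theorem b_mem {e g : G} (he : e ∈ T) (hJ : ¬ JM P Q e) (hee : e * e = 1) (hg : g * e * g⁻¹ = a)
    (hC : ∀ y ∈ S, y * e = e * y → g * y * g⁻¹ ∈ T) (h1 : ¬ Cz Z e) : g * b * g⁻¹ ∈ Q := by
  have hbP : b ∈ P := Z_le D.toFr D.bZ
  obtain ⟨h, hh⟩ := pureP D hbP (b_sq D.toFr) D.b1
  obtain ⟨r, -, hr⟩ := conjP D.toFr he hJ hee hbP (b_sq D.toFr) (D.bT e he)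
  refine k1 D hmix hg hh ⟨r, hr⟩ ?_
  obtain ⟨c, hc, d, hd, hec, hed, hcd⟩ := D.der e he (by rw [hee]; exact one_mem _) h1
  have h2 := hC c (D.TS (D.PT hc)) hec.symm
  have h3 := hC d (D.TS (D.PT hd)) hed.symm
  have h4 := comm_JM D.toFr h2 h3
  rwa [show g * c * g⁻¹ * (g * d * g⁻¹) * (g * c * g⁻¹)⁻¹ * (g * d * g⁻¹)⁻¹ = g * (c * d * c⁻¹ * d⁻¹) * g⁻¹ by group,
    hcd] at h4

/-- `a^g ∈ Q` for `e` of type `x` or `f` on `Q` -/
theorem a_mem' {e g : G} (he : e ∈ T) (hJ : ¬ JM P Q e) (hee : e * e = 1) (hg : g * e * g⁻¹ = a)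
    (hC : ∀ y ∈ S, y * e = e * y → g * y * g⁻¹ ∈ T) (h1 : ¬ Cz Z (t⁻¹ * e * t)) : g * a * g⁻¹ ∈ Q := by
  have h5 := b_mem D hmix (e := t⁻¹ * e * t) (g := g * t) (tT' D he) (fun h => hJ ((JM_t'_iff D).1 h))
    (by rw [show t⁻¹ * e * t * (t⁻¹ * e * t) = t⁻¹ * (e * e) * t by group, hee]; group)
    (by rw [← hg]; group)
    (fun y hy hye => by
      have h2 : t * y * t⁻¹ ∈ S := mul_mem (mul_mem D.tS hy) (inv_mem D.tS)
      have h3 : t * y * t⁻¹ * e = e * (t * y * t⁻¹) := by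
        calc t * y * t⁻¹ * e = t * (y * (t⁻¹ * e * t)) * t⁻¹ := by group
          _ = t * (t⁻¹ * e * t * y) * t⁻¹ := by rw [hye]
          _ = e * (t * y * t⁻¹) := by group
      have h4 := hC _ h2 h3
      rwa [show g * (t * y * t⁻¹) * g⁻¹ = g * t * y * (g * t)⁻¹ by group] at h4) h1
  rwa [show g * t * b * (g * t)⁻¹ = g * (t * b * t⁻¹) * g⁻¹ by group, D.ta] at h5

/-- Case 1: types `x`, `(f,f)` -/
theorem case1 {e g : G} (he : e ∈ T) (hJ : ¬ JM P Q e) (hee : e * e = 1) (hg : g * e * g⁻¹ = a)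
    (hC : ∀ y ∈ S, y * e = e * y → g * y * g⁻¹ ∈ T) (h1 : ¬ Cz Z e) (h2 : ¬ Cz Z (t⁻¹ * e * t)) : False :=
  k2 D hmix (Z_le D.toFr D.bZ) (b_sq D.toFr) D.b1 (a_mem D) (a_sq D) (a_ne D) (b_mem D hmix he hJ hee hg hC h1)
    (a_mem' D hmix he hJ hee hg hC h2)

omit hmix in
/-- the choice of `g` -/
theorem exists_g {e g : G} (hg : g * e * g⁻¹ = a) :
    ∃ g' : G, g' * e * g'⁻¹ = a ∧ ∀ y ∈ S, y * e = e * y → g' * y * g'⁻¹ ∈ T := by
  let R : Subgroup G := (S ⊓ centralizer ({e} : Set G)).map (MulAut.conj g).toMonoidHom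
  have hR2 : IsPGroup 2 R := (D.S2.to_le inf_le_left).map _
  obtain ⟨h, ha, hh⟩ := D.sylT R hR2 (by
    rintro r ⟨y, hy, rfl⟩
    have h1 : y * e = e * y := (mem_centralizer_singleton_iff.1 hy.2)
    change g * y * g⁻¹ * a = a * (g * y * g⁻¹)
    rw [← hg]
    calc g * y * g⁻¹ * (g * e * g⁻¹) = g * (y * e) * g⁻¹ := by group
      _ = g * (e * y) * g⁻¹ := by rw [h1]
      _ = _ := by group)
  refine ⟨h * g, ?_, ?_⟩
  · calc h * g * e * (h * g)⁻¹ = h * (g * e * g⁻¹) * h⁻¹ := by group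
      _ = a := by rw [hg, ha, mul_inv_cancel_right]
  · intro y hy hye
    have h1 := hh (g * y * g⁻¹) ⟨y, ⟨hy, mem_centralizer_singleton_iff.2 hye⟩, rfl⟩
    rwa [show h * (g * y * g⁻¹) * h⁻¹ = h * g * y * (h * g)⁻¹ by group] at h1

omit hmix in
theorem sq_of {e g : G} (hg : g * e * g⁻¹ = a) : e * e = 1 := by
  have h2 : g * (e * e) * g⁻¹ = 1 := by
    rw [show g * (e * e) * g⁻¹ = (g * e * g⁻¹) * (g * e * g⁻¹) by group, hg, a_sq D]
  exact conj_eq_one_iff.1 h2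

omit hmix in
theorem not_Cz_x : ¬ Cz Z x := D.xZ

omit hmix in
theorem not_Fx_x : ¬ Fx A x := fun h => not_both D.toFr h D.xA

/-- type `x` -/
theorem typeX {e g : G} (he : e ∈ T) (hJ : ¬ JM P Q e) (hg : g * e * g⁻¹ = a) (hf : ¬ Fx A e)
    (hc : ¬ Cz Z e) : False := by
  obtain ⟨g', hg', hC⟩ := exists_g D hg
  refine case1 D hmix he hJ (sq_of D hg) hg' hC hc ?_
  intro h1
  have h2 : JM P Q (e * x) := JM_of_same D.toFr he D.xT (by simp [hf, not_Fx_x D]) (by simp [hc, not_Cz_x D])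
  have h3 := JM_Cz D.toFr (JM_t' D h2)
  rw [show t⁻¹ * (e * x) * t = t⁻¹ * e * t * (t⁻¹ * x * t) by group, Cz_iff D.toFr (tT' D he) (tT' D D.xT)] at h3
  exact D.xZ' (h3.1 h1)

/-- three elements `y1`, `y2`, `y1 y2` outside `J`, none of type `x` -/
theorem three {y1 y2 : G} (h1 : y1 ∈ T) (h2 : y2 ∈ T) (n1 : ¬ JM P Q y1) (n2 : ¬ JM P Q y2)
    (n3 : ¬ JM P Q (y1 * y2)) (c1 : ∃ g : G, g * y1 * g⁻¹ = a) (c2 : ∃ g : G, g * y2 * g⁻¹ = a)
    (c3 : ∃ g : G, g * (y1 * y2) * g⁻¹ = a) : False := by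
  obtain ⟨g1, c1⟩ := c1
  obtain ⟨g2, c2⟩ := c2
  obtain ⟨g3, c3⟩ := c3
  have t1 := fun hf hc => typeX D hmix h1 n1 c1 hf hc
  have t2 := fun hf hc => typeX D hmix h2 n2 c2 hf hc
  have t3 := fun hf hc => typeX D hmix (mul_mem h1 h2) n3 c3 hf hc
  have i1 := fun hf hc => n1 (D.inner y1 h1 hf hc)
  have i2 := fun hf hc => n2 (D.inner y2 h2 hf hc)
  have i3 := fun hf hc => n3 (D.inner (y1 * y2) (mul_mem h1 h2) hf hc)
  change Fx A y1 → Cz Z y1 → False at i1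
  change Fx A y2 → Cz Z y2 → False at i2
  change Fx A (y1 * y2) → Cz Z (y1 * y2) → False at i3
  rw [Fx_iff D.toFr h1 h2, Cz_iff D.toFr h1 h2] at t3 i3
  generalize Fx A y1 = F1 at *
  generalize Fx A y2 = F2 at *
  generalize Cz Z y1 = C1 at *
  generalize Cz Z y2 = C2 at *
  clear c1 c2 c3 h1 h2 n1 n2 n3
  by_cases hF1 : F1 <;> by_cases hF2 : F2 <;> by_cases hC1 : C1 <;> by_cases hC2 : C2 <;>
    simp [hF1, hF2, hC1, hC2] at t1 t2 t3 i1 i2 i3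

/-- the elements of `Z^t` -/
theorem zt_Q {e g z : G} (he : e ∈ T) (hJ : ¬ JM P Q e) (hg : g * e * g⁻¹ = a)
    (hC : ∀ y ∈ S, y * e = e * y → g * y * g⁻¹ ∈ T) (h2 : Cz Z (t⁻¹ * e * t)) (hz : z ∈ Z) (h1 : z ≠ 1) :
    g * (t * z * t⁻¹) * g⁻¹ ∈ T ∧ (∃ h : G, h * (g * (t * z * t⁻¹) * g⁻¹) * h⁻¹ = a) ∧
      (JM P Q (g * (t * z * t⁻¹) * g⁻¹) → g * (t * z * t⁻¹) * g⁻¹ ∈ Q) := by
  have hzQ : t * z * t⁻¹ ∈ Q := D.tP z (Z_le D.toFr hz)
  have hzz : t * z * t⁻¹ * (t * z * t⁻¹) = 1 := by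
    rw [show t * z * t⁻¹ * (t * z * t⁻¹) = t * (z * z) * t⁻¹ by group, Z_sq D.toFr hz]; group
  have hz1 : t * z * t⁻¹ ≠ 1 := fun h => h1 (conj_eq_one_iff.1 h)
  have hc : e * (t * z * t⁻¹) = t * z * t⁻¹ * e := by
    have := h2 z hz
    calc e * (t * z * t⁻¹) = t * (t⁻¹ * e * t * z) * t⁻¹ := by group
      _ = t * (z * (t⁻¹ * e * t)) * t⁻¹ := by rw [this]
      _ = t * z * t⁻¹ * e := by group
  obtain ⟨r, -, hr⟩ := conjQ D he hJ (sq_of D hg) hzQ hzz hc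
  obtain ⟨h, hh⟩ := pureQ D hzQ hzz hz1
  exact ⟨hC _ (D.TS (D.QT hzQ)) hc.symm, ⟨h * g⁻¹, by rw [← hh]; group⟩, k1 D hmix hg hh ⟨r, hr⟩⟩

/-- the elements of `Z` -/
theorem z_Q {e g z : G} (he : e ∈ T) (hJ : ¬ JM P Q e) (hg : g * e * g⁻¹ = a)
    (hC : ∀ y ∈ S, y * e = e * y → g * y * g⁻¹ ∈ T) (h2 : Cz Z e) (hz : z ∈ Z) (h1 : z ≠ 1) :
    g * z * g⁻¹ ∈ T ∧ (∃ h : G, h * (g * z * g⁻¹) * h⁻¹ = a) ∧
      (JM P Q (g * z * g⁻¹) → g * z * g⁻¹ ∈ Q) := by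
  have hzP : z ∈ P := Z_le D.toFr hz
  have hzz := Z_sq D.toFr hz
  obtain ⟨r, -, hr⟩ := conjP D.toFr he hJ (sq_of D hg) hzP hzz (h2 z hz)
  obtain ⟨h, hh⟩ := pureP D hzP hzz h1
  exact ⟨hC _ (D.TS (D.PT hzP)) (h2 z hz).symm, ⟨h * g⁻¹, by rw [← hh]; group⟩, k1 D hmix hg hh ⟨r, hr⟩⟩

/-- Case 2: type `(f, g)` -/
theorem case2 {e g : G} (he : e ∈ T) (hJ : ¬ JM P Q e) (hg : g * e * g⁻¹ = a)
    (hC : ∀ y ∈ S, y * e = e * y → g * y * g⁻¹ ∈ T) (h1 : ¬ Cz Z e) (h2 : Cz Z (t⁻¹ * e * t)) : False := by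
  have hb := b_mem D hmix he hJ (sq_of D hg) hg hC h1
  have key : ∀ z ∈ Z, z ≠ 1 → ¬ JM P Q (g * (t * z * t⁻¹) * g⁻¹) := by
    intro z hz hz1 h
    have h3 := (zt_Q D hmix he hJ hg hC h2 hz hz1).2.2 h
    exact k2 D hmix (Z_le D.toFr D.bZ) (b_sq D.toFr) D.b1 (D.tP z (Z_le D.toFr hz))
      (by rw [show t * z * t⁻¹ * (t * z * t⁻¹) = t * (z * z) * t⁻¹ by group, Z_sq D.toFr hz]; group)
      (fun h => hz1 (conj_eq_one_iff.1 h)) hb h3
  obtain ⟨z, hz, hz1, hzb⟩ := exists_z D.toFr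
  have hzb1 : z * b ≠ 1 := fun h => hzb (by
    calc z = z * b * b := by rw [mul_assoc, b_sq D.toFr, mul_one]
      _ = b := by rw [h, one_mul])
  have hmz := mul_mem hz D.bZ
  have q1 := zt_Q D hmix he hJ hg hC h2 hz hz1
  have q2 := zt_Q D hmix he hJ hg hC h2 D.bZ D.b1
  have q3 := zt_Q D hmix he hJ hg hC h2 hmz hzb1
  have e3 : g * (t * (z * b) * t⁻¹) * g⁻¹ = g * (t * z * t⁻¹) * g⁻¹ * (g * (t * b * t⁻¹) * g⁻¹) := by group
  have k3 := key (z * b) hmz hzb1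
  rw [e3] at q3 k3
  exact three D hmix q1.1 q2.1 (key z hz hz1) (key b D.bZ D.b1) k3 q1.2.1 q2.2.1 q3.2.1

/-- Case 3 -/
theorem case3 {e g : G} (he : e ∈ T) (hJ : ¬ JM P Q e) (hg : g * e * g⁻¹ = a)
    (hC : ∀ y ∈ S, y * e = e * y → g * y * g⁻¹ ∈ T) (h1 : Cz Z e) (h2 : ¬ Cz Z (t⁻¹ * e * t)) : False := by
  refine case2 D hmix (e := t⁻¹ * e * t) (g := g * t) (tT' D he) (fun h => hJ ((JM_t'_iff D).1 h))
    (by rw [← hg]; group) ?_ h2 ?_
  · intro y hy hye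
    have h2 : t * y * t⁻¹ ∈ S := mul_mem (mul_mem D.tS hy) (inv_mem D.tS)
    have h3 : t * y * t⁻¹ * e = e * (t * y * t⁻¹) := by
      calc t * y * t⁻¹ * e = t * (y * (t⁻¹ * e * t)) * t⁻¹ := by group
        _ = t * (t⁻¹ * e * t * y) * t⁻¹ := by rw [hye]
        _ = e * (t * y * t⁻¹) := by group
    have h4 := hC _ h2 h3
    rwa [show g * (t * y * t⁻¹) * g⁻¹ = g * t * y * (g * t)⁻¹ by group] at h4
  · have ht := tt_mem D
    rw [show t⁻¹ * (t⁻¹ * e * t) * t = (t * t)⁻¹ * e * (t * t) by group,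
      Cz_iff D.toFr (mul_mem (inv_mem ht) he) ht, Cz_iff D.toFr (inv_mem ht) he, Cz_inv_iff D.toFr]
    by_cases h3 : Cz Z (t * t) <;> simp [h3, h1]

/-- an element of `T - J` conjugate to `a` has type `(g, g)` -/
theorem typeG {e : G} (he : e ∈ T) (hJ : ¬ JM P Q e) (hg : ∃ g : G, g * e * g⁻¹ = a) : Cz Z e := by
  obtain ⟨g, hg⟩ := hg
  obtain ⟨g', hg', hC⟩ := exists_g D hg
  by_contra h1
  by_cases h2 : Cz Z (t⁻¹ * e * t)
  · exact case2 D hmix he hJ hg' hC h1 h2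
  · exact case1 D hmix he hJ (sq_of D hg) hg' hC h1 h2

/-- three elements, no `x`, no `f` -/
theorem three' {y1 y2 : G} (h1 : y1 ∈ T) (h2 : y2 ∈ T) (n1 : ¬ JM P Q y1) (n2 : ¬ JM P Q y2)
    (n3 : ¬ JM P Q (y1 * y2)) (c1 : ∃ g : G, g * y1 * g⁻¹ = a) (c2 : ∃ g : G, g * y2 * g⁻¹ = a) : False := by
  have z1 := typeG D hmix h1 n1 c1
  have z2 := typeG D hmix h2 n2 c2
  refine n3 (JM_of_same D.toFr h1 h2 ?_ (by simp [z1, z2]))
  have i1 := fun hf => n1 (D.inner y1 h1 hf z1)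
  have i2 := fun hf => n2 (D.inner y2 h2 hf z2)
  exact ⟨fun h => (i1 h).elim, fun h => (i2 h).elim⟩

/-- no element of `T - J` is conjugate to `a` -/
theorem betaT {e g : G} (he : e ∈ T) (hJ : ¬ JM P Q e) (hg : g * e * g⁻¹ = a) : False := by
  obtain ⟨g', hg', hC⟩ := exists_g D hg
  have h1 := typeG D hmix he hJ ⟨g, hg⟩
  by_cases h2 : Cz Z (t⁻¹ * e * t)
  swap
  · exact case3 D hmix he hJ hg' hC h1 h2
  obtain ⟨z, hz, hz1, hzb⟩ := exists_z D.toFr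
  have hzb1 : z * b ≠ 1 := fun h => hzb (by
    calc z = z * b * b := by rw [mul_assoc, b_sq D.toFr, mul_one]
      _ = b := by rw [h, one_mul])
  have hmz := mul_mem hz D.bZ
  have s1 : ∃ u ∈ Z, u ≠ 1 ∧ g' * u * g'⁻¹ ∈ Q := by
    by_contra hcon
    push Not at hcon
    have q1 := z_Q D hmix he hJ hg' hC h1 hz hz1
    have q2 := z_Q D hmix he hJ hg' hC h1 D.bZ D.b1
    have q3 := z_Q D hmix he hJ hg' hC h1 hmz hzb1
    have n3 : ¬ JM P Q (g' * (z * b) * g'⁻¹) := fun h => hcon _ hmz hzb1 (q3.2.2 h)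
    rw [show g' * (z * b) * g'⁻¹ = g' * z * g'⁻¹ * (g' * b * g'⁻¹) by group] at n3
    exact three' D hmix q1.1 q2.1 (fun h => hcon _ hz hz1 (q1.2.2 h)) (fun h => hcon _ D.bZ D.b1 (q2.2.2 h)) n3
      q1.2.1 q2.2.1
  have s2 : ∃ u ∈ Z, u ≠ 1 ∧ g' * (t * u * t⁻¹) * g'⁻¹ ∈ Q := by
    by_contra hcon
    push Not at hcon
    have q1 := zt_Q D hmix he hJ hg' hC h2 hz hz1
    have q2 := zt_Q D hmix he hJ hg' hC h2 D.bZ D.b1
    have q3 := zt_Q D hmix he hJ hg' hC h2 hmz hzb1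
    have n3 : ¬ JM P Q (g' * (t * (z * b) * t⁻¹) * g'⁻¹) := fun h => hcon _ hmz hzb1 (q3.2.2 h)
    rw [show g' * (t * (z * b) * t⁻¹) * g'⁻¹ = g' * (t * z * t⁻¹) * g'⁻¹ * (g' * (t * b * t⁻¹) * g'⁻¹) by group] at n3
    exact three' D hmix q1.1 q2.1 (fun h => hcon _ hz hz1 (q1.2.2 h)) (fun h => hcon _ D.bZ D.b1 (q2.2.2 h)) n3
      q1.2.1 q2.2.1
  obtain ⟨u, hu, hu1, hu2⟩ := s1
  obtain ⟨v, hv, hv1, hv2⟩ := s2
  exact k2 D hmix (Z_le D.toFr hu) (Z_sq D.toFr hu) hu1 (D.tP v (Z_le D.toFr hv))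
      (by rw [show t * v * t⁻¹ * (t * v * t⁻¹) = t * (v * v) * t⁻¹ by group, Z_sq D.toFr hv]; group)
      (fun h => hv1 (conj_eq_one_iff.1 h)) hu2 hv2

/-- (β) -/
theorem beta [Finite G] (hα : Alpha S T) {e g : G} (he : e ∈ S) (hg : g * e * g⁻¹ = a) : e ∈ P ∨ e ∈ Q := by
  by_cases heT : e ∈ T
  · by_cases hJ : JM P Q e
    · exact mem_or D hmix hJ hg
    · exact (betaT D hmix heT hJ hg).elim
  · exfalso
    obtain ⟨g', hg', hC⟩ := exists_g D hg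
    refine hα e a g' he heT (sq_of D hg) hg' (D.QT (a_mem D)) (fun y hy hye => D.TS (hC y hy hye)) ?_
    intro R hR hRa
    obtain ⟨h, -, hh⟩ := D.sylT R hR hRa
    have hTC : T ≤ S ⊓ centralizer ({a} : Set G) := fun y hy => ⟨D.TS hy, mem_centralizer_singleton_iff.2 (D.Ta y hy)⟩
    exact Nat.card_le_card_of_injective
      (fun r : R => (⟨h * r * h⁻¹, hTC (hh r r.2)⟩ : (S ⊓ centralizer ({a} : Set G) : Subgroup G)))
      (fun r s hrs => by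
        have h2 : h * (r : G) * h⁻¹ = h * s * h⁻¹ := congrArg Subtype.val hrs
        exact Subtype.ext (mul_left_cancel (mul_right_cancel h2)))

end Dbl

end Cfsg.Agent.UGT.L34T2.Big
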