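import Cfsg.Agent.UGT.L34T2.BigZeta
import Cfsg.Agent.TwoFusion.CentResidualBasic

/-!
# Type `L₃(4)`, `T < S`, case BIG: the end (UGT #14882 (eta), QED BIG)

`false_of_big`: `DblX`, `BZ`, `K` perfect, `X` simple and S1173 for `X` are contradictory.
-/

set_option autoImplicit false

open Cfsg Subgroup
open Cfsg.Agent.TwoFusion

namespace Cfsg.Agent.UGT.L34T2

variable {G : Type*} [Group G] [Finite G]

variable {S T P Q Z K X : Subgroup G} {A : Bool → Subgroup G} {a b t x : G} {Inn Fix : G → Subgroup G}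

namespace DblX

/-- `S ∩ X` as a Sylow 2-subgroup of `X` -/
theorem exists_sylow (h : DblX S T P Q Z A K a b t x X Inn Fix) :
    ∃ R : Sylow 2 X, ∀ y : X, y ∈ (R : Subgroup X) ↔ (y : G) ∈ S := by
  have hp : Fact (Nat.Prime 2) := ⟨Nat.prime_two⟩
  have h1 : IsPGroup 2 (S.subgroupOf X) := h.S2.comap_of_injective X.subtype X.subtype_injective
  obtain ⟨R, hR⟩ := h1.exists_le_sylow
  have h2 : (R : Subgroup X) = S.subgroupOf X := by
    symm
    apply Subgroup.eq_of_le_of_card_ge hR
    -- conjugate `R` into `S`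
    obtain ⟨g, hg, hgR⟩ := h.sylX ((R : Subgroup X).map X.subtype) (R.isPGroup'.map _)
    have h3 : (R : Subgroup X).map (MulAut.conj (⟨g, hg⟩ : X)).toMonoidHom ≤ S.subgroupOf X := by
      rintro _ ⟨r, hr, rfl⟩
      exact hgR r ⟨r, hr, rfl⟩
    have h4 := Subgroup.card_le_of_le h3
    rwa [card_map_of_injective (MulAut.conj (⟨g, hg⟩ : X)).injective] at h4
  refine ⟨R, fun y => ?_⟩
  rw [h2]
  exact Iff.rfl

/-- **QED BIG** -/
theorem false_of_big (h : DblX S T P Q Z A K a b t x X Inn Fix) (hB : BZ S T P Q X a)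
    (hK : ⁅K, K⁆ = K) [IsSimpleGroup X]
    (h1173 : ∀ (R : Sylow 2 X) (A : Subgroup X), IsStronglyClosed A (R : Subgroup X) →
      ((⨅ n : ℕ, derivedSeries ↥(centralizer (A : Set X)) n).map
        (centralizer (A : Set X)).subtype).Normal) : False := by
  obtain ⟨R, hR⟩ := h.exists_sylow
  have hcl : IsStronglyClosed (Q.subgroupOf X) (R : Subgroup X) := by
    refine ⟨fun y hy => (hR y).mpr (h.TS (h.QT hy)), fun y hy g hg => ?_⟩
    exact h.closed hB hy g.2 ((hR _).mp hg)
  have hn := h1173 R _ hcl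
  rw [CentResidual.map_iInf_derivedSeries] at hn
  have hKC : K.subgroupOf X ≤ centralizer ((Q.subgroupOf X : Subgroup X) : Set X) := by
    intro k hk
    rw [mem_centralizer_iff]
    intro q hq
    exact Subtype.ext (h.KQ k hk q hq).symm
  have hKp : K.subgroupOf X ≤ ⁅K.subgroupOf X, K.subgroupOf X⁆ := by
    have h1 : (K.subgroupOf X).map X.subtype = K := by
      rw [subgroupOf_map_subtype, inf_of_le_left h.KX]
    intro k hk
    have h2 : (k : G) ∈ (⁅K.subgroupOf X, K.subgroupOf X⁆).map X.subtype := by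
      rw [map_commutator, h1, hK]
      exact hk
    obtain ⟨l, hl, e⟩ := h2
    have h3 : l = k := Subtype.ext e
    rwa [h3] at hl
  have hKR : K.subgroupOf X ≤ CentResidual.PR (centralizer ((Q.subgroupOf X : Subgroup X) : Set X)) := by
    have h1 := CentResidual.PR_mono hKC
    rwa [CentResidual.PR_eq_self hKp] at h1
  have hbX : b ∈ X := h.PX h.toDbl.bP
  have hbK : (⟨b, hbX⟩ : X) ∈ K.subgroupOf X := h.PK h.toDbl.bP
  have haX : a ∈ X := h.QX h.toDbl.aQ
  rcases hn.eq_bot_or_eq_top with hb | ht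
  · have h1 := hKR hbK
    rw [hb, mem_bot] at h1
    exact h.b1 (congrArg Subtype.val h1)
  · have hCtop : centralizer ((Q.subgroupOf X : Subgroup X) : Set X) = ⊤ := by
      rw [eq_top_iff, ← ht]
      exact CentResidual.PR_le _
    have haZ : (⟨a, haX⟩ : X) ∈ center X := by
      rw [mem_center_iff]
      intro g
      have hg : g ∈ centralizer ((Q.subgroupOf X : Subgroup X) : Set X) := by rw [hCtop]; trivial
      exact ((mem_centralizer_iff.1 hg) _ h.toDbl.aQ).symm
    have hZn : (center X).Normal := inferInstance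
    rcases hZn.eq_bot_or_eq_top with h1 | h1
    · rw [h1, mem_bot] at haZ
      exact h.toDbl.a1 (congrArg Subtype.val haZ)
    · -- `P` is not abelian
      obtain ⟨u, hu, hun⟩ := h.toHeis.exists_not_mem false
      have huP := h.AP false hu
      obtain ⟨r, hr, e⟩ := h.surj u huP hun b h.bZ
      have h2 : (⟨u, h.PX huP⟩ : X) ∈ center X := by rw [h1]; trivial
      have h3 := mem_center_iff.mp h2 ⟨r, h.PX hr⟩
      have h4 : r * u = u * r := congrArg Subtype.val h3
      apply h.b1
      rw [← e, ← h4]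
      group

end DblX

end Cfsg.Agent.UGT.L34T2
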