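import Cfsg.Agent.UGT.L34T2.Pre
import Cfsg.Agent.UGT.TriBase

/-!
# Type `L₃(4)`, `T < S`, case BIG: the structure (UGT #14882 (3))

`t` normalises `T ∈ Syl₂(C(a))`, `t² ∈ T`, `t ∉ T`, and `(t Q t⁻¹) Q ∩ P` is not contained in `Z`. Then `J = P × Q`,
`t` swaps `P` and `Q`, and `T⟨t⟩` is a Sylow 2-subgroup of `G`.
-/

set_option autoImplicit false
set_option linter.unusedSectionVars false

open Subgroup

namespace Cfsg.Agent.UGT.L34T2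

variable {G : Type*} [Group G]

/-- the subgroup `T ∪ t T` -/
def St (T : Subgroup G) (t : G) (h1 : ∀ y ∈ T, t⁻¹ * y * t ∈ T) (h2 : t * t ∈ T) : Subgroup G where
  carrier := {s | s ∈ T ∨ t⁻¹ * s ∈ T}
  mul_mem' := by
    have h3 : ∀ y ∈ T, t * y * t⁻¹ ∈ T := by
      intro y hy
      have e : t * y * t⁻¹ = (t * t) * (t⁻¹ * y * t) * (t * t)⁻¹ := by group
      rw [e]
      exact T.mul_mem (T.mul_mem h2 (h1 y hy)) (T.inv_mem h2)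
    rintro s s' (hs | hs) (hs' | hs')
    · exact Or.inl (T.mul_mem hs hs')
    · right
      have e : t⁻¹ * (s * s') = (t⁻¹ * s * t) * (t⁻¹ * s') := by group
      rw [e]
      exact T.mul_mem (h1 s hs) hs'
    · right
      have e : t⁻¹ * (s * s') = (t⁻¹ * s) * s' := by group
      rw [e]
      exact T.mul_mem hs hs'
    · left
      have e : s * s' = (t * (t⁻¹ * s) * t⁻¹) * ((t * t) * (t⁻¹ * s')) := by group
      rw [e]
      exact T.mul_mem (h3 _ hs) (T.mul_mem h2 hs')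
  one_mem' := Or.inl T.one_mem
  inv_mem' := by
    rintro s (hs | hs)
    · exact Or.inl (T.inv_mem hs)
    · right
      have e : t⁻¹ * s⁻¹ = (t⁻¹ * (t⁻¹ * s)⁻¹ * t) * (t * t)⁻¹ := by group
      rw [e]
      exact T.mul_mem (h1 _ (T.inv_mem hs)) (T.inv_mem h2)

theorem mem_St {T : Subgroup G} {t s : G} {h1 : ∀ y ∈ T, t⁻¹ * y * t ∈ T} {h2 : t * t ∈ T} :
    s ∈ St T t h1 h2 ↔ s ∈ T ∨ t⁻¹ * s ∈ T := Iff.rfl

theorem le_St {T : Subgroup G} {t : G} {h1 : ∀ y ∈ T, t⁻¹ * y * t ∈ T} {h2 : t * t ∈ T} : T ≤ St T t h1 h2 :=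
  fun _ h => Or.inl h

theorem t_mem_St {T : Subgroup G} {t : G} {h1 : ∀ y ∈ T, t⁻¹ * y * t ∈ T} {h2 : t * t ∈ T} : t ∈ St T t h1 h2 :=
  Or.inr (by rw [inv_mul_cancel]; exact T.one_mem)

theorem St_two {T : Subgroup G} {t : G} {h1 : ∀ y ∈ T, t⁻¹ * y * t ∈ T} {h2 : t * t ∈ T} (hT : IsPGroup 2 T) :
    IsPGroup 2 (St T t h1 h2) := by
  rintro ⟨s, hs⟩
  have hss : s * s ∈ T := by
    rcases hs with hs | hs
    · exact T.mul_mem hs hs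
    · have e : s * s = (t * (t⁻¹ * s) * t⁻¹) * ((t * t) * (t⁻¹ * s)) := by group
      have h3 : ∀ y ∈ T, t * y * t⁻¹ ∈ T := by
        intro y hy
        have e : t * y * t⁻¹ = (t * t) * (t⁻¹ * y * t) * (t * t)⁻¹ := by group
        rw [e]
        exact T.mul_mem (T.mul_mem h2 (h1 y hy)) (T.inv_mem h2)
      rw [e]
      exact T.mul_mem (h3 _ hs) (T.mul_mem h2 hs)
  obtain ⟨k, hk⟩ := hT ⟨s * s, hss⟩
  refine ⟨k + 1, ?_⟩
  have hk' : (s * s) ^ (2 ^ k) = 1 := by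
    have := congrArg Subtype.val hk
    simpa using this
  apply Subtype.ext
  change s ^ (2 ^ (k + 1)) = 1
  rw [pow_succ', pow_mul, pow_two]
  exact hk'

/-- Hypotheses of case BIG. -/
structure BigHyp (T P Q Z : Subgroup G) (A : Bool → Subgroup G) (K : Subgroup G) (a b t x ρ : G) : Prop
    extends Fr T P Q Z A b where
  aQ : a ∈ Q
  aa : a * a = 1
  a1 : a ≠ 1
  Ta : ∀ y ∈ T, y * a = a * y
  sylT : ∀ R : Subgroup G, IsPGroup 2 R → (∀ r ∈ R, r * a = a * r) →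
    ∃ g : G, g * a = a * g ∧ ∀ r ∈ R, g * r * g⁻¹ ∈ T
  xT : x ∈ T
  xx : x * x = 1
  xZ : ¬ ∀ z ∈ Z, x * z = z * x
  xA : ∀ i, ∀ u ∈ A i, x * u * x⁻¹ ∈ A (!i)
  /-- `m(C_Q(x)) = 1` -/
  rk : ∀ q ∈ Q, x * q = q * x → q * q = 1 → q = 1 ∨ q = a
  tT : ∀ y ∈ T, t⁻¹ * y * t ∈ T
  tn : t ∉ T
  t2 : t * t ∈ T
  /-- BIG -/
  big : ∃ p ∈ P, p ∉ Z ∧ ∃ q ∈ Q, ∃ q' ∈ Q, t * q' * t⁻¹ = p * q
  /-- `ρ` of order three in `K` -/
  rP : ∀ p ∈ P, ρ * p * ρ⁻¹ ∈ P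
  rQ : ∀ q ∈ Q, ρ * q = q * ρ
  rf : ∀ p ∈ P, ρ * p = p * ρ → p = 1
  KQ : ∀ k ∈ K, ∀ q ∈ Q, k * q = q * k
  PK : P ≤ K
  cls : ∀ p ∈ P, p * p = 1 → p ≠ 1 → ∃ k ∈ K, k * p * k⁻¹ = b

namespace BigHyp

variable [Finite G] {T P Q Z : Subgroup G} {A : Bool → Subgroup G} {K : Subgroup G} {a b t x ρ : G}

/-- `B = t Q t⁻¹` -/
local notation "𝐁" => cjg t Q

theorem tT2 (h : BigHyp T P Q Z A K a b t x ρ) {y : G} (hy : y ∈ T) : t * y * t⁻¹ ∈ T := by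
  have e : t * y * t⁻¹ = (t * t) * (t⁻¹ * y * t) * (t * t)⁻¹ := by group
  rw [e]
  exact T.mul_mem (T.mul_mem h.t2 (h.tT y hy)) (T.inv_mem h.t2)

/-- `T⟨t⟩` is not contained in `C(a)` -/
theorem ta_ne (h : BigHyp T P Q Z A K a b t x ρ) : t * a ≠ a * t := by
  intro e
  have h2 : IsPGroup 2 (St T t h.tT h.t2) := St_two h.two
  obtain ⟨g, -, hg⟩ := h.sylT _ h2 (by
    rintro s (hs | hs)
    · exact h.Ta s hs
    · have e1 : s = t * (t⁻¹ * s) := by group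
      rw [e1, mul_assoc, h.Ta _ hs, ← mul_assoc, e, mul_assoc])
  have h3 : cjg g (St T t h.tT h.t2) ≤ T := by
    intro y hy
    obtain ⟨u, hu, rfl⟩ := exists_of_cjg hy
    exact hg u hu
  have h4 := Subgroup.card_le_of_le h3
  rw [card_cjg] at h4
  have h5 : T = St T t h.tT h.t2 := Subgroup.eq_of_le_of_card_ge le_St h4
  apply h.tn
  rw [h5]
  exact t_mem_St

theorem nB (h : BigHyp T P Q Z A K a b t x ρ) {y c : G} (hy : y ∈ T) (hc : c ∈ 𝐁) : y * c * y⁻¹ ∈ 𝐁 := by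
  obtain ⟨q, hq, rfl⟩ := exists_of_cjg hc
  rw [mem_cjg]
  have e : t⁻¹ * (y * (t * q * t⁻¹) * y⁻¹) * t = (t⁻¹ * y * t) * q * (t⁻¹ * y * t)⁻¹ := by group
  rw [e]
  exact h.nQ _ (h.tT y hy) q hq

theorem BT (h : BigHyp T P Q Z A K a b t x ρ) : 𝐁 ≤ T := by
  intro c hc
  obtain ⟨q, hq, rfl⟩ := exists_of_cjg hc
  exact h.tT2 (h.QT hq)

/-- `t B t⁻¹ = Q` -/
theorem tB (h : BigHyp T P Q Z A K a b t x ρ) {c : G} (hc : c ∈ 𝐁) : t * c * t⁻¹ ∈ Q := by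
  obtain ⟨q, hq, rfl⟩ := exists_of_cjg hc
  have e : t * (t * q * t⁻¹) * t⁻¹ = (t * t) * q * (t * t)⁻¹ := by group
  rw [e]
  exact h.nQ _ h.t2 q hq

theorem tQ' (h : BigHyp T P Q Z A K a b t x ρ) {q : G} (hq : q ∈ Q) : t⁻¹ * q * t ∈ 𝐁 := by
  rw [mem_cjg]
  have e : t⁻¹ * (t⁻¹ * q * t) * t = (t * t)⁻¹ * q * (t * t)⁻¹⁻¹ := by
    rw [inv_inv, mul_inv_rev]; simp only [mul_assoc]
  rw [e]
  exact h.nQ _ (T.inv_mem h.t2) q hq

/-- (1) `Q ∩ B = 1` -/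
theorem QB1 (h : BigHyp T P Q Z A K a b t x ρ) {g : G} (h1 : g ∈ Q) (h2 : g ∈ 𝐁) : g = 1 := by
  by_contra hg
  have h3 : (Q ⊓ 𝐁 : Subgroup G) ≠ ⊥ := by
    intro e
    have : g ∈ (Q ⊓ 𝐁 : Subgroup G) := mem_inf.mpr ⟨h1, h2⟩
    rw [e, mem_bot] at this
    exact hg this
  obtain ⟨e, he, he2, hec⟩ := TriBase.exists_central h.two (inf_le_left.trans h.QT)
    (by
      intro y hy
      rw [mem_normalizer_iff]
      intro c
      constructor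
      · intro hc
        obtain ⟨c1, c2⟩ := mem_inf.mp hc
        exact mem_inf.mpr ⟨h.nQ y hy c c1, h.nB hy c2⟩
      · intro hc
        obtain ⟨c1, c2⟩ := mem_inf.mp hc
        have e1 := h.nQ y⁻¹ (T.inv_mem hy) _ c1
        have e2 := h.nB (T.inv_mem hy) c2
        have e3 : y⁻¹ * (y * c * y⁻¹) * y⁻¹⁻¹ = c := by group
        rw [e3] at e1 e2
        exact mem_inf.mpr ⟨e1, e2⟩) h3
  obtain ⟨heQ, heB⟩ := mem_inf.mp he
  have hee : e * e = 1 := by rw [← pow_two, ← he2, pow_orderOf_eq_one]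
  have he1 : e ≠ 1 := by rintro rfl; rw [orderOf_one] at he2; omega
  have hea : e = a := (h.rk e heQ (hec x h.xT) hee).resolve_left he1
  subst hea
  obtain ⟨q, hq, e1⟩ := exists_of_cjg heB
  have hq1 : q ≠ 1 := by rintro rfl; apply he1; rw [e1]; group
  have hqq : q * q = 1 := by
    have : t * (q * q) * t⁻¹ = 1 := by rw [conj_mul, ← e1, hee]
    exact conj_eq_one_iff.mp this
  have hxq : x * q = q * x := by
    rw [← commute_iff_conj t, ← e1]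
    exact hec _ (h.tT2 h.xT)
  have hqe : q = e := (h.rk q hq hxq hqq).resolve_left hq1
  apply h.ta_ne
  rw [hqe] at e1
  have := congrArg (fun y => y * t) e1
  simp only [inv_mul_cancel_right] at this
  exact this.symm

/-- `[Q, B] = 1` -/
theorem QBc (h : BigHyp T P Q Z A K a b t x ρ) {q c : G} (hq : q ∈ Q) (hc : c ∈ 𝐁) : q * c = c * q := by
  have h1 : q * c * q⁻¹ * c⁻¹ ∈ Q := by
    have := h.nQ c (h.BT hc) _ (Q.inv_mem hq)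
    have e : q * c * q⁻¹ * c⁻¹ = q * (c * q⁻¹ * c⁻¹) := by group
    rw [e]
    exact Q.mul_mem hq this
  have h2 : q * c * q⁻¹ * c⁻¹ ∈ 𝐁 := mul_mem (h.nB (h.QT hq) hc) (inv_mem hc)
  have h3 := h.QB1 h1 h2
  have := mul_inv_eq_one.mp h3
  exact mul_inv_eq_iff_eq_mul.mp this

/-- (3) `Z ≤ B` -/
theorem ZB (h : BigHyp T P Q Z A K a b t x ρ) : Z ≤ 𝐁 := by
  obtain ⟨p, hp, hpZ, q, hq, q', hq', e⟩ := h.big
  intro z hz
  obtain ⟨r, hr, e1⟩ := h.surj p hp hpZ z⁻¹ (Z.inv_mem hz)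
  have hb : p * q ∈ 𝐁 := by rw [← e]; exact conj_mem_cjg.mpr hq'
  have h1 := mul_mem (h.nB (h.PT hr) hb) (inv_mem hb)
  have e2 : r * (p * q) * r⁻¹ * (p * q)⁻¹ = z := by
    have e3 := h.comm r hr q hq
    have e4 : z = r * p * r⁻¹ * p⁻¹ := by
      have := congrArg (fun y => y⁻¹) e1
      simp only [inv_inv] at this
      rw [← this]; group
    rw [e4]
    have e5 := h.comm r⁻¹ (P.inv_mem hr) q hq
    calc r * (p * q) * r⁻¹ * (p * q)⁻¹ = r * p * (q * r⁻¹) * q⁻¹ * p⁻¹ := by group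
      _ = r * p * (r⁻¹ * q) * q⁻¹ * p⁻¹ := by rw [e5]
      _ = _ := by group
  rwa [e2] at h1

theorem bB (h : BigHyp T P Q Z A K a b t x ρ) : b ∈ 𝐁 := h.ZB h.bZ

theorem ab' (h : BigHyp T P Q Z A K a b t x ρ) : t⁻¹ * b * t = a := by
  have h1 : t⁻¹ * b * t ∈ Q := mem_cjg.mp h.bB
  refine (h.rk _ h1 ?_ ?_).resolve_left ?_
  · rw [← commute_iff_conj t]
    have e : t * (t⁻¹ * b * t) * t⁻¹ = b := by group
    rw [e]
    exact h.bT _ (h.tT2 h.xT)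
  · have e : t⁻¹ * b * t * (t⁻¹ * b * t) = t⁻¹ * (b * b) * t := by group
    rw [e, h.bb]; group
  · intro e
    apply h.b1
    have e2 : b = t * (t⁻¹ * b * t) * t⁻¹ := by group
    rw [e2, e]; group

theorem tb (h : BigHyp T P Q Z A K a b t x ρ) : t * a * t⁻¹ = b := by
  rw [← h.ab']; group

theorem ta (h : BigHyp T P Q Z A K a b t x ρ) : t * b * t⁻¹ = a := by
  rw [← h.tb]
  have e : t * (t * a * t⁻¹) * t⁻¹ = (t * t) * a * (t * t)⁻¹ := by group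
  rw [e, h.Ta _ h.t2]
  group

/-- `t Z t⁻¹ ≤ Q` -/
theorem tZ (h : BigHyp T P Q Z A K a b t x ρ) {z : G} (hz : z ∈ Z) : t * z * t⁻¹ ∈ Q := h.tB (h.ZB hz)

theorem nP1 (h : BigHyp T P Q Z A K a b t x ρ) {y c : G} (hy : y ∈ T) (hc : c ∈ cjg t P) :
    y * c * y⁻¹ ∈ cjg t P := by
  obtain ⟨q, hq, rfl⟩ := exists_of_cjg hc
  rw [mem_cjg]
  have e : t⁻¹ * (y * (t * q * t⁻¹) * y⁻¹) * t = (t⁻¹ * y * t) * q * (t⁻¹ * y * t)⁻¹ := by group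
  rw [e]
  exact h.nP _ (h.tT y hy) q hq

theorem P1T (h : BigHyp T P Q Z A K a b t x ρ) : cjg t P ≤ T := by
  intro c hc
  obtain ⟨q, hq, rfl⟩ := exists_of_cjg hc
  exact h.tT2 (h.PT hq)

theorem P1c (h : BigHyp T P Q Z A K a b t x ρ) {y y' : G} (hy : y ∈ cjg t P) (hy' : y' ∈ cjg t P) :
    y * y' * y⁻¹ * y'⁻¹ ∈ Q := by
  obtain ⟨p, hp, rfl⟩ := exists_of_cjg hy
  obtain ⟨p', hp', rfl⟩ := exists_of_cjg hy'
  have e : t * p * t⁻¹ * (t * p' * t⁻¹) * (t * p * t⁻¹)⁻¹ * (t * p' * t⁻¹)⁻¹ =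
    t * (p * p' * p⁻¹ * p'⁻¹) * t⁻¹ := by group
  rw [e]
  exact h.tZ (h.com p hp p' hp')

theorem P1s (h : BigHyp T P Q Z A K a b t x ρ) {y : G} (hy : y ∈ cjg t P) : y * y ∈ Q := by
  obtain ⟨p, hp, rfl⟩ := exists_of_cjg hy
  rw [← conj_mul]
  exact h.tZ (h.sq p hp)

theorem _root_.Cfsg.Agent.UGT.L34T2.Fr.comm_mul (h : Fr T P Q Z A b) {p p' q q' : G} (hp : p ∈ P) (hp' : p' ∈ P)
    (hq : q ∈ Q) (hq' : q' ∈ Q) : (p * q) * (p' * q') * (p * q)⁻¹ * (p' * q')⁻¹ =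
      (p * p' * p⁻¹ * p'⁻¹) * (q * q' * q⁻¹ * q'⁻¹) := by
  have e1 := h.comm p' hp' q hq
  have e2 := h.comm p⁻¹ (P.inv_mem hp) (q * q' * q⁻¹) (Q.mul_mem (Q.mul_mem hq hq') (Q.inv_mem hq))
  have e3 := h.comm p'⁻¹ (P.inv_mem hp') (q * q' * q⁻¹ * q'⁻¹)
    (Q.mul_mem (Q.mul_mem (Q.mul_mem hq hq') (Q.inv_mem hq)) (Q.inv_mem hq'))
  calc (p * q) * (p' * q') * (p * q)⁻¹ * (p' * q')⁻¹
      = p * (q * p') * q' * q⁻¹ * p⁻¹ * q'⁻¹ * p'⁻¹ := by group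
    _ = p * (p' * q) * q' * q⁻¹ * p⁻¹ * q'⁻¹ * p'⁻¹ := by rw [e1]
    _ = p * p' * ((q * q' * q⁻¹) * p⁻¹) * q'⁻¹ * p'⁻¹ := by group
    _ = p * p' * (p⁻¹ * (q * q' * q⁻¹)) * q'⁻¹ * p'⁻¹ := by rw [e2]
    _ = p * p' * p⁻¹ * ((q * q' * q⁻¹ * q'⁻¹) * p'⁻¹) := by group
    _ = p * p' * p⁻¹ * (p'⁻¹ * (q * q' * q⁻¹ * q'⁻¹)) := by rw [e3]
    _ = _ := by group

/-- `P₁ Q ∩ P ≤ Z` -/
theorem P1Q (h : BigHyp T P Q Z A K a b t x ρ) {y q : G} (hy : y ∈ cjg t P) (hq : q ∈ Q) (hu : y * q ∈ P) :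
    y * q ∈ Z := by
  by_contra hZ
  set u := y * q with hu'
  have ey : y = u * q⁻¹ := by rw [hu']; group
  have huq := h.comm u hu q⁻¹ (Q.inv_mem hq)
  have huu : u * u = 1 := by
    have h1 : u * u ∈ Q := by
      have h2 := h.P1s hy
      have e : u * u = (y * y) * (q * q) := by
        rw [ey]
        calc u * u = u * (u * q⁻¹) * q := by group
          _ = u * (q⁻¹ * u) * q := by rw [huq]
          _ = u * q⁻¹ * (u * q⁻¹) * (q * q) := by group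
      rw [e]
      exact Q.mul_mem h2 (Q.mul_mem hq hq)
    exact h.disj _ (P.mul_mem hu hu) h1
  obtain ⟨i, hi⟩ := h.inv u hu huu
  have hi' := h.xA i u hi
  have hne : x * u * x⁻¹ ∉ Z := by
    intro h1
    apply hZ
    have h2 := h.nZ (T.inv_mem h.xT) h1
    have e : x⁻¹ * (x * u * x⁻¹) * x⁻¹⁻¹ = u := by group
    rwa [e] at h2
  apply h.not_comm hi hZ hi' hne
  -- the commutator is in `Q ∩ P`
  have hy' := h.nP1 h.xT hy
  have hq' := h.nQ x h.xT q hq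
  have hu2 : x * u * x⁻¹ ∈ P := h.nP x h.xT u hu
  have ey' : x * y * x⁻¹ = (x * u * x⁻¹) * (x * q * x⁻¹)⁻¹ := by rw [ey]; group
  have h1 := h.P1c hy hy'
  rw [ey', ey, h.comm_mul hu hu2 (Q.inv_mem hq) (Q.inv_mem hq')] at h1
  set c1 := u * (x * u * x⁻¹) * u⁻¹ * (x * u * x⁻¹)⁻¹ with hc1
  set c2 := q⁻¹ * (x * q * x⁻¹)⁻¹ * q⁻¹⁻¹ * (x * q * x⁻¹)⁻¹⁻¹ with hc2
  have hc2Q : c2 ∈ Q := Q.mul_mem (Q.mul_mem (Q.mul_mem (Q.inv_mem hq) (Q.inv_mem hq'))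
    (Q.inv_mem (Q.inv_mem hq))) (Q.inv_mem (Q.inv_mem hq'))
  have hc1Q : c1 ∈ Q := by
    have := Q.mul_mem h1 (Q.inv_mem hc2Q)
    rwa [mul_inv_cancel_right] at this
  have hc1P : c1 ∈ P := P.mul_mem (P.mul_mem (P.mul_mem hu hu2) (P.inv_mem hu)) (P.inv_mem hu2)
  have h2 := h.disj _ hc1P hc1Q
  exact (mul_inv_eq_iff_eq_mul.mp (mul_inv_eq_one.mp h2)).symm

/-- `P₁ ≤ Z Q` -/
theorem P1_le (h : BigHyp T P Q Z A K a b t x ρ) {y : G} (hy : y ∈ cjg t P) : ∃ z ∈ Z, ∃ q ∈ Q, y = z * q := by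
  have hyT := h.P1T hy
  obtain ⟨p, hp, q, hq, e⟩ := h.outer y hyT (by
    intro p hp
    have h1 : y * p * y⁻¹ * p⁻¹ ∈ cjg t P := by
      have e : y * p * y⁻¹ * p⁻¹ = y * (p * y⁻¹ * p⁻¹) := by group
      rw [e]
      exact mul_mem hy (h.nP1 (h.PT hp) (inv_mem hy))
    have h2 : y * p * y⁻¹ * p⁻¹ ∈ P := P.mul_mem (h.nP y hyT p hp) (P.inv_mem hp)
    have h3 := h.P1Q h1 Q.one_mem (by rwa [mul_one])
    rwa [mul_one] at h3)
  have h1 : p = y * q⁻¹ := by rw [e]; group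
  refine ⟨p, ?_, q, hq, e⟩
  rw [h1]
  exact h.P1Q hy (Q.inv_mem hq) (by rwa [← h1])

/-- `P ≤ (t Z t⁻¹) B` -/
theorem P_QB (h : BigHyp T P Q Z A K a b t x ρ) {p : G} (hp : p ∈ P) :
    ∃ z ∈ Z, ∃ c ∈ 𝐁, p = t * z * t⁻¹ * c := by
  have h1 : t⁻¹ * p * t ∈ cjg t P := by
    rw [mem_cjg]
    have e : t⁻¹ * (t⁻¹ * p * t) * t = (t * t)⁻¹ * p * (t * t)⁻¹⁻¹ := by
      rw [inv_inv, mul_inv_rev]; simp only [mul_assoc]
    rw [e]
    exact h.nP _ (T.inv_mem h.t2) p hp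
  obtain ⟨z, hz, q, hq, e⟩ := h.P1_le h1
  refine ⟨z, hz, t * q * t⁻¹, conj_mem_cjg.mpr hq, ?_⟩
  have e2 : p = t * (t⁻¹ * p * t) * t⁻¹ := by group
  rw [e2, e]; group

/-! ### the element `x' = t⁻¹ x t` -/

theorem x'T (h : BigHyp T P Q Z A K a b t x ρ) : t⁻¹ * x * t ∈ T := h.tT x h.xT

theorem x'x' (h : BigHyp T P Q Z A K a b t x ρ) : t⁻¹ * x * t * (t⁻¹ * x * t) = 1 := by
  have e : t⁻¹ * x * t * (t⁻¹ * x * t) = t⁻¹ * (x * x) * t := by group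
  rw [e, h.xx]; group

theorem x'rk (h : BigHyp T P Q Z A K a b t x ρ) {c : G} (hc : c ∈ 𝐁) (e : t⁻¹ * x * t * c = c * (t⁻¹ * x * t))
    (hcc : c * c = 1) : c = 1 ∨ c = b := by
  have h1 : t * c * t⁻¹ ∈ Q := h.tB hc
  rw [← commute_iff_conj t] at e
  have e1 : t * (t⁻¹ * x * t) * t⁻¹ = x := by group
  rw [e1] at e
  rcases h.rk _ h1 e (by rw [← conj_mul, hcc]; group) with h2 | h2
  · left; exact conj_eq_one_iff.mp h2
  · right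
    rw [← h.ta] at h2
    exact mul_left_cancel (mul_right_cancel h2)

theorem xZ' (h : BigHyp T P Q Z A K a b t x ρ) : ¬ ∀ z ∈ Z, (t⁻¹ * x * t) * z = z * (t⁻¹ * x * t) := by
  intro h1
  obtain ⟨z, hz, hz1, hzb⟩ := h.exists_ne b
  rcases h.x'rk (h.ZB hz) (h1 z hz) (h.Zsq hz) with e | e
  · exact hz1 e
  · exact hzb e

/-- an element of `Q c`, `c ∈ B`: `c` commutes with `y ∈ T` if `q c` does modulo `Q` -/
theorem Bc (h : BigHyp T P Q Z A K a b t x ρ) {y q c : G} (hy : y ∈ T) (hq : q ∈ Q) (hc : c ∈ 𝐁)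
    (e : (q * c) * y * (q * c)⁻¹ * y⁻¹ ∈ Q) : y * c = c * y := by
  have h1 : c * y * c⁻¹ * y⁻¹ ∈ 𝐁 := by
    have e1 : c * y * c⁻¹ * y⁻¹ = c * (y * c⁻¹ * y⁻¹) := by group
    rw [e1]
    exact mul_mem hc (h.nB hy (inv_mem hc))
  have h2 : c * y * c⁻¹ * y⁻¹ ∈ Q := by
    have e2 : c * y * c⁻¹ * y⁻¹ = q⁻¹ * ((q * c) * y * (q * c)⁻¹ * y⁻¹) * (y * q * y⁻¹) := by group
    rw [e2]
    exact Q.mul_mem (Q.mul_mem (Q.inv_mem hq) e) (h.nQ y hy q hq)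
  have h3 := h.QB1 h2 h1
  exact (mul_inv_eq_iff_eq_mul.mp (mul_inv_eq_one.mp h3)).symm

theorem Bsq (h : BigHyp T P Q Z A K a b t x ρ) {q c : G} (hq : q ∈ Q) (hc : c ∈ 𝐁)
    (e : (q * c) * (q * c) ∈ Q) : c * c = 1 := by
  have e1 := h.QBc hq hc
  have h2 : c * c ∈ Q := by
    have e2 : c * c = q⁻¹ * q⁻¹ * ((q * c) * (q * c)) := by
      calc c * c = q⁻¹ * (q * c) * c := by group
        _ = q⁻¹ * (c * q) * c := by rw [e1]
        _ = q⁻¹ * q⁻¹ * (q * (c * q) * c) := by group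
        _ = q⁻¹ * q⁻¹ * ((q * c) * (q * c)) := by group
    rw [e2]
    exact Q.mul_mem (Q.mul_mem (Q.inv_mem hq) (Q.inv_mem hq)) e
  exact h.QB1 h2 (mul_mem hc hc)

theorem xA' (h : BigHyp T P Q Z A K a b t x ρ) :
    ∀ i, ∀ u ∈ A i, (t⁻¹ * x * t) * u * (t⁻¹ * x * t)⁻¹ ∈ A (!i) := by
  rcases h.actA _ h.x'T with h1 | h1
  · exfalso
    obtain ⟨p, hp, e1, e2, n1, n2⟩ := h.fD8 _ h.x'T (by rw [h.x'x']; exact Q.one_mem) h.xZ' h1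
    obtain ⟨z, hz, c, hc, e3⟩ := h.P_QB hp
    have hzQ := h.tZ hz
    have h2 := h.Bc h.x'T hzQ hc (by
      rw [← e3, ← e1]
      have e4 : t⁻¹ * x * t * p * p⁻¹ * (t⁻¹ * x * t)⁻¹ = 1 := by group
      rw [e4]; exact Q.one_mem)
    have h3 := h.Bsq hzQ hc (by rw [← e3, e2]; exact Q.one_mem)
    rcases h.x'rk hc h2 h3 with rfl | rfl
    · rw [mul_one] at e3
      exact n1 (h.disj p hp (by rw [e3]; exact hzQ))
    · have h4 : p * c⁻¹ = 1 := h.disj _ (P.mul_mem hp (P.inv_mem h.bP)) (by rw [e3, mul_inv_cancel_right]; exact hzQ)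
      exact n2 (mul_inv_eq_one.mp h4)
  · exact h1

/-- `B ≤ P Q` -/
theorem B_le (h : BigHyp T P Q Z A K a b t x ρ) {c : G} (hc : c ∈ 𝐁) : ∃ p ∈ P, ∃ q ∈ Q, c = p * q := by
  by_contra hno
  obtain ⟨p, hp, e1, e2⟩ := h.comx _ h.x'T (by rw [h.x'x']; exact Q.one_mem) h.xZ' h.xA' c (h.BT hc) hno
  obtain ⟨z, hz, c', hc', e3⟩ := h.P_QB hp
  have hzQ := h.tZ hz
  have hcc : c * c' ∈ 𝐁 := mul_mem hc hc'
  have e4 : c * p = (t * z * t⁻¹) * (c * c') := by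
    rw [e3, ← mul_assoc, ← h.QBc hzQ hc, mul_assoc]
  rw [e4] at e1 e2
  have h2 := h.Bc h.x'T hzQ hcc e2
  have h3 := h.Bsq hzQ hcc e1
  have h4 : c * c' ∈ P := by
    rcases h.x'rk hcc h2 h3 with h5 | h5
    · rw [h5]; exact P.one_mem
    · rw [h5]; exact h.bP
  apply hno
  have h5 : c = (c * c') * p⁻¹ * (t * z * t⁻¹) := by
    have e5 := h.comm _ (P.mul_mem h4 (P.inv_mem hp)) _ hzQ
    rw [e5]
    calc c = (c * p) * p⁻¹ := by group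
      _ = _ := by rw [e4]; group
  exact ⟨_, P.mul_mem h4 (P.inv_mem hp), _, hzQ, h5⟩

theorem card_Q (h : BigHyp T P Q Z A K a b t x ρ) : Nat.card Q = 64 := by
  apply le_antisymm
  · rw [← card_cjg t Q, ← h.cardP]
    have hex : ∀ c : 𝐁, ∃ p : P, ∃ q ∈ Q, (c : G) = p * q := by
      rintro ⟨c, hc⟩
      obtain ⟨p, hp, q, hq, e⟩ := h.B_le hc
      exact ⟨⟨p, hp⟩, q, hq, e⟩
    choose φ hφ using hex
    refine Nat.card_le_card_of_injective φ ?_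
    intro c c' e
    obtain ⟨q, hq, e1⟩ := hφ c
    obtain ⟨q', hq', e2⟩ := hφ c'
    rw [← e] at e2
    have h1 : (c : G)⁻¹ * c' = 1 := by
      refine h.QB1 ?_ (mul_mem (inv_mem c.2) c'.2)
      rw [e1, e2]
      have e3 : ((φ c : G) * q)⁻¹ * ((φ c : G) * q') = q⁻¹ * q' := by group
      rw [e3]
      exact Q.mul_mem (Q.inv_mem hq) hq'
    exact Subtype.ext (inv_mul_eq_one.mp h1)
  · rw [← card_cjg t Q, ← h.cardP]
    have hex : ∀ p : P, ∃ c : 𝐁, ∃ q ∈ Q, (p : G) = q * c := by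
      rintro ⟨p, hp⟩
      obtain ⟨z, hz, c, hc, e⟩ := h.P_QB hp
      exact ⟨⟨c, hc⟩, _, h.tZ hz, e⟩
    choose φ hφ using hex
    refine Nat.card_le_card_of_injective φ ?_
    intro p p' e
    obtain ⟨q, hq, e1⟩ := hφ p
    obtain ⟨q', hq', e2⟩ := hφ p'
    rw [← e] at e2
    have h1 : (p : G) * (p' : G)⁻¹ = 1 := by
      refine h.disj _ (P.mul_mem p.2 (P.inv_mem p'.2)) ?_
      rw [e1, e2]
      have e3 : q * (φ p : G) * (q' * (φ p : G))⁻¹ = q * q'⁻¹ := by group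
      rw [e3]
      exact Q.mul_mem hq (Q.inv_mem hq')
    exact Subtype.ext (mul_inv_eq_one.mp h1)

end BigHyp

end Cfsg.Agent.UGT.L34T2
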