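import Cfsg.Agent.UGT.L34T2.BigHyp

/-!
# Type `L₃(4)`, `T < S`, case BIG: `t Q t⁻¹ = P` (UGT #14882 (3))

`V₁`: the elements of `N(J)` acting trivially on `J / Z(J)` and on `Z(J)`; they induce inner automorphisms of `J`,
and `[ρ, t⁻¹ ρ t]` is one of them.
-/

set_option autoImplicit false
set_option linter.unusedSectionVars false

open Subgroup

namespace Cfsg.Agent.UGT.L34T2

variable {G : Type*} [Group G]

namespace BigHyp

variable [Finite G] {T P Q Z : Subgroup G} {A : Bool → Subgroup G} {K : Subgroup G} {a b t x ρ : G}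

theorem cJ (h : BigHyp T P Q Z A K a b t x ρ) : cjg t (P ⊔ Q) = P ⊔ Q := by
  refine cjg_eq_of_le ?_ le_rfl
  intro j hj
  obtain ⟨p, hp, q, hq, rfl⟩ := h.mem_J.mp hj
  rw [conj_mul]
  obtain ⟨z, hz, q1, hq1, e1⟩ := h.P1_le (conj_mem_cjg.mpr hp : t * p * t⁻¹ ∈ cjg t P)
  obtain ⟨p2, hp2, q2, hq2, e2⟩ := h.B_le (conj_mem_cjg.mpr hq : t * q * t⁻¹ ∈ cjg t Q)
  rw [e1, e2]
  exact mul_mem (mul_mem (mem_sup_left (h.ZP hz)) (mem_sup_right hq1)) (mul_mem (mem_sup_left hp2) (mem_sup_right hq2))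

/-- every element of `Q` is in `Z P₁` -/
theorem Q_le (h : BigHyp T P Q Z A K a b t x ρ) {q : G} (hq : q ∈ Q) : ∃ z ∈ Z, z * q ∈ cjg t P := by
  have hex : ∀ y : cjg t P, ∃ q : Q, ∃ z ∈ Z, (y : G) = z * q := by
    rintro ⟨y, hy⟩
    obtain ⟨z, hz, q, hq, e⟩ := h.P1_le hy
    exact ⟨⟨q, hq⟩, z, hz, e⟩
  choose φ hφ using hex
  have hinj : Function.Injective φ := by
    intro y y' e
    obtain ⟨z, hz, e1⟩ := hφ y
    obtain ⟨z', hz', e2⟩ := hφ y'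
    rw [← e] at e2
    have h1 : (y : G) * (y' : G)⁻¹ ∈ Z := by
      have e3 : (y : G) * (y' : G)⁻¹ = z * z'⁻¹ := by rw [e1, e2]; group
      rw [e3]
      exact Z.mul_mem hz (Z.inv_mem hz')
    have h2 : (y : G) * (y' : G)⁻¹ ∈ cjg t Q := h.ZB h1
    have h3 : (y : G) * (y' : G)⁻¹ ∈ cjg t P := mul_mem y.2 (inv_mem y'.2)
    have h4 : t⁻¹ * ((y : G) * (y' : G)⁻¹) * t = 1 := h.disj _ (mem_cjg.mp h3) (mem_cjg.mp h2)
    have h5 : (y : G) * (y' : G)⁻¹ = 1 := by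
      have e5 : (y : G) * (y' : G)⁻¹ = t * (t⁻¹ * ((y : G) * (y' : G)⁻¹) * t) * t⁻¹ := by group
      rw [e5, h4]; group
    exact Subtype.ext (mul_inv_eq_one.mp h5)
  have hbij : Function.Bijective φ := by
    refine (Nat.bijective_iff_injective_and_card φ).mpr ⟨hinj, ?_⟩
    rw [card_cjg, h.cardP, h.card_Q]
  obtain ⟨y, hy⟩ := hbij.2 ⟨q, hq⟩
  obtain ⟨z, hz, e⟩ := hφ y
  rw [hy] at e
  exact ⟨z, hz, by rw [← e]; exact y.2⟩

/-- the centre of `J` -/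
def ZJ (P Q : Subgroup G) : Subgroup G := (P ⊔ Q) ⊓ centralizer ((P ⊔ Q : Subgroup G) : Set G)

omit [Finite G] in
theorem mem_ZJ {w : G} : w ∈ ZJ P Q ↔ w ∈ P ⊔ Q ∧ ∀ j ∈ P ⊔ Q, j * w = w * j := by
  rw [ZJ, mem_inf, mem_centralizer_iff]
  rfl

theorem ZJ_Z (h : BigHyp T P Q Z A K a b t x ρ) {z : G} (hz : z ∈ Z) : z ∈ ZJ P Q := by
  rw [mem_ZJ]
  refine ⟨mem_sup_left (h.ZP hz), ?_⟩
  intro j hj
  obtain ⟨p, hp, q, hq, rfl⟩ := h.mem_J.mp hj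
  rw [mul_assoc, ← h.comm z (h.ZP hz) q hq, ← mul_assoc, h.Zcen z hz p hp, mul_assoc]

omit [Finite G] in
/-- `N(J)` normalises `Z(J)` -/
theorem ZJ_conj {w n : G} (hn : cjg n (P ⊔ Q) = P ⊔ Q) (hw : w ∈ ZJ P Q) : n * w * n⁻¹ ∈ ZJ P Q := by
  rw [mem_ZJ] at hw ⊢
  refine ⟨by rw [← hn]; exact conj_mem_cjg.mpr hw.1, ?_⟩
  intro j hj
  rw [← hn] at hj
  obtain ⟨j', hj', rfl⟩ := exists_of_cjg hj
  rw [commute_iff_conj]
  exact hw.2 j' hj'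

theorem ZJ_Z' (h : BigHyp T P Q Z A K a b t x ρ) {z : G} (hz : z ∈ Z) : t * z * t⁻¹ ∈ ZJ P Q :=
  ZJ_conj h.cJ (h.ZJ_Z hz)

/-- `Z(J) = Z × t Z t⁻¹` -/
theorem ZJ_eq (h : BigHyp T P Q Z A K a b t x ρ) {w : G} (hw : w ∈ ZJ P Q) :
    ∃ z ∈ Z, ∃ z' ∈ Z, w = z * (t * z' * t⁻¹) := by
  rw [mem_ZJ] at hw
  obtain ⟨p, hp, q, hq, e⟩ := h.mem_J.mp hw.1
  have hpZ : p ∈ Z := by
    refine h.mem_Z hp ?_
    intro r hr
    have h1 := hw.2 r (mem_sup_left hr)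
    rw [e] at h1
    exact (((h.cen_J (h.PT hr) hp hq).mp h1).1).symm
  obtain ⟨z, hz, hzq⟩ := h.Q_le hq
  obtain ⟨p', hp', e2⟩ := exists_of_cjg hzq
  have hp'Z : p' ∈ Z := by
    refine h.mem_Z hp' ?_
    intro r hr
    rw [← commute_iff_conj t, ← e2]
    have hr' : t * r * t⁻¹ ∈ P ⊔ Q := by
      have := h.cJ
      rw [← this]
      exact conj_mem_cjg.mpr (mem_sup_left hr)
    have h1 := (mem_ZJ.mp (h.ZJ_Z hz)).2 _ hr'
    have h2 := hw.2 _ hr'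
    have h3 := (mem_ZJ.mp (h.ZJ_Z hpZ)).2 _ hr'
    have eq : q = p⁻¹ * w := by rw [e]; group
    have h4 : t * r * t⁻¹ * p⁻¹ = p⁻¹ * (t * r * t⁻¹) := by
      have e5 : t * r * t⁻¹ * p⁻¹ = p⁻¹ * (p * (t * r * t⁻¹)) * p⁻¹ := by group
      rw [e5, ← h3]; group
    rw [eq]
    calc z * (p⁻¹ * w) * (t * r * t⁻¹) = z * (p⁻¹ * (w * (t * r * t⁻¹))) := by group
      _ = z * (p⁻¹ * ((t * r * t⁻¹) * w)) := by rw [h2]
      _ = z * ((p⁻¹ * (t * r * t⁻¹)) * w) := by group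
      _ = z * ((t * r * t⁻¹ * p⁻¹) * w) := by rw [h4]
      _ = (z * (t * r * t⁻¹)) * p⁻¹ * w := by group
      _ = (t * r * t⁻¹ * z) * p⁻¹ * w := by rw [h1]
      _ = _ := by group
  have hz1 : z = 1 := by
    refine h.disj z (h.ZP hz) ?_
    have h5 : z * q ∈ Q := by rw [e2]; exact h.tZ hp'Z
    have := Q.mul_mem h5 (Q.inv_mem hq)
    rwa [mul_inv_cancel_right] at this
  rw [hz1, one_mul] at e2
  exact ⟨p, hpZ, p', hp'Z, by rw [e, e2]⟩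

theorem ZJ_sq (h : BigHyp T P Q Z A K a b t x ρ) {w : G} (hw : w ∈ ZJ P Q) : w * w = 1 := by
  obtain ⟨z, hz, z', hz', e⟩ := h.ZJ_eq hw
  have h1 := (mem_ZJ.mp (h.ZJ_Z hz)).2 _ (mem_ZJ.mp (h.ZJ_Z' hz')).1
  rw [e]
  calc z * (t * z' * t⁻¹) * (z * (t * z' * t⁻¹)) = z * ((t * z' * t⁻¹) * z) * (t * z' * t⁻¹) := by group
    _ = z * (z * (t * z' * t⁻¹)) * (t * z' * t⁻¹) := by rw [h1]
    _ = (z * z) * (t * (z' * z') * t⁻¹) := by group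
    _ = 1 := by rw [h.Zsq hz, h.Zsq hz']; group

/-- `V₁` -/
structure V1 (P Q : Subgroup G) (g : G) : Prop where
  nJ : cjg g (P ⊔ Q) = P ⊔ Q
  chain : ∀ j ∈ P ⊔ Q, j⁻¹ * (g * j * g⁻¹) ∈ ZJ P Q
  cen : ∀ w ∈ ZJ P Q, g * w * g⁻¹ = w

omit [Finite G] in
theorem V1.mul {g k : G} (h1 : V1 P Q g) (h2 : V1 P Q k) : V1 P Q (g * k) where
  nJ := by rw [cjg_mul, h2.nJ, h1.nJ]
  chain j hj := by
    have e : j⁻¹ * (g * k * j * (g * k)⁻¹) = j⁻¹ * (g * j * g⁻¹) * (g * (j⁻¹ * (k * j * k⁻¹)) * g⁻¹) := by group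
    rw [e, h1.cen _ (h2.chain j hj)]
    exact mul_mem (h1.chain j hj) (h2.chain j hj)
  cen w hw := by
    have e : g * k * w * (g * k)⁻¹ = g * (k * w * k⁻¹) * g⁻¹ := by group
    rw [e, h2.cen w hw, h1.cen w hw]

omit [Finite G] in
theorem V1.one : V1 P Q (1 : G) where
  nJ := cjg_of_mem (one_mem _)
  chain j hj := by
    have e : j⁻¹ * (1 * j * 1⁻¹) = 1 := by group
    rw [e]; exact one_mem _
  cen w hw := by group

omit [Finite G] in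
theorem V1.pow {g : G} (h1 : V1 P Q g) (n : ℕ) : V1 P Q (g ^ n) := by
  induction n with
  | zero => rw [pow_zero]; exact V1.one
  | succ n ih => rw [pow_succ]; exact ih.mul h1

omit [Finite G] in
theorem cjg_inv_eq {g : G} {H : Subgroup G} (h : cjg g H = H) : cjg g⁻¹ H = H := by
  conv_lhs => rw [← h]
  rw [← cjg_mul, inv_mul_cancel]
  exact cjg_of_mem (one_mem _)

omit [Finite G] in
theorem V1.conj {g n : G} (h1 : V1 P Q g) (hn : cjg n (P ⊔ Q) = P ⊔ Q) : V1 P Q (n * g * n⁻¹) where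
  nJ := by
    rw [cjg_mul, cjg_mul, cjg_inv_eq hn, h1.nJ, hn]
  chain j hj := by
    have hj' : n⁻¹ * j * n ∈ P ⊔ Q := by rw [← mem_cjg, hn]; exact hj
    have e : j⁻¹ * (n * g * n⁻¹ * j * (n * g * n⁻¹)⁻¹) =
      n * ((n⁻¹ * j * n)⁻¹ * (g * (n⁻¹ * j * n) * g⁻¹)) * n⁻¹ := by group
    rw [e]
    exact ZJ_conj hn (h1.chain _ hj')
  cen w hw := by
    have hw' : n⁻¹ * w * n ∈ ZJ P Q := by
      have := ZJ_conj (cjg_inv_eq hn) hw
      rwa [inv_inv] at this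
    have e : n * g * n⁻¹ * w * (n * g * n⁻¹)⁻¹ = n * (g * (n⁻¹ * w * n) * g⁻¹) * n⁻¹ := by group
    rw [e, h1.cen _ hw']
    group

theorem T_nJ (h : BigHyp T P Q Z A K a b t x ρ) {y : G} (hy : y ∈ T) : cjg y (P ⊔ Q) = P ⊔ Q :=
  cjg_eq_of_le (fun _ hj => h.nJ hy hj) le_rfl

theorem a_ZJ (h : BigHyp T P Q Z A K a b t x ρ) : a ∈ ZJ P Q := by
  rw [← h.ta]
  exact h.ZJ_Z' h.bZ

/-- elements of `V₁ ∩ T` are in `J` -/
theorem V1_T (h : BigHyp T P Q Z A K a b t x ρ) {y : G} (hy : y ∈ T) (h1 : V1 P Q y) : y ∈ P ⊔ Q := by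
  rw [h.mem_J]
  refine h.outer y hy ?_
  intro p hp
  have h2 := h1.chain p (mem_sup_left hp)
  obtain ⟨z, hz, z', hz', e⟩ := h.ZJ_eq h2
  have h3 : y * p * y⁻¹ ∈ P := h.nP y hy p hp
  have h4 : t * z' * t⁻¹ = 1 := by
    refine h.disj _ ?_ (h.tZ hz')
    have e1 : t * z' * t⁻¹ = z⁻¹ * (p⁻¹ * (y * p * y⁻¹)) := by rw [e]; group
    rw [e1]
    exact P.mul_mem (P.inv_mem (h.ZP hz)) (P.mul_mem (P.inv_mem hp) h3)
  rw [h4, mul_one] at e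
  have e2 : y * p * y⁻¹ * p⁻¹ = p * z * p⁻¹ := by rw [← e]; group
  rw [e2, h.Zcen z hz p hp, mul_inv_cancel_right]
  exact hz

/-- 2-elements of `V₁` are in `J` -/
theorem V1_two (h : BigHyp T P Q Z A K a b t x ρ) {c : G} (h1 : V1 P Q c) (hc : IsPGroup 2 (zpowers c)) :
    c ∈ P ⊔ Q := by
  have ha := h.a_ZJ
  have hca : c * a = a * c := mul_inv_eq_iff_eq_mul.mp (h1.cen a ha)
  let H : Subgroup G := normalizer ((P ⊔ Q : Subgroup G) : Set G) ⊓ centralizer {a}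
  have hnorm : ∀ g, cjg g (P ⊔ Q) = P ⊔ Q ↔ g ∈ normalizer ((P ⊔ Q : Subgroup G) : Set G) := by
    intro g
    rw [mem_normalizer_iff]
    constructor
    · intro hg j
      conv_rhs => rw [← hg]
      exact conj_mem_cjg.symm
    · intro hg
      ext j
      rw [mem_cjg, hg]
      have e : g * (g⁻¹ * j * g) * g⁻¹ = j := by group
      rw [e]
  have hTH : T ≤ H := by
    intro y hy
    refine mem_inf.mpr ⟨(hnorm y).mp (h.T_nJ hy), ?_⟩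
    rw [mem_centralizer_singleton_iff]
    exact h.Ta y hy
  have hcH : zpowers c ≤ H := by
    rw [zpowers_le]
    refine mem_inf.mpr ⟨(hnorm c).mp h1.nJ, ?_⟩
    rw [mem_centralizer_singleton_iff]
    exact hca
  obtain ⟨g, hg, R, hR, hRH, hTR, hcR⟩ := exists_common hTH hcH h.two hc
  obtain ⟨k, -, hk⟩ := h.sylT R hR (by
    intro r hr
    have := (mem_inf.mp (hRH hr)).2
    rwa [mem_centralizer_singleton_iff] at this)
  have h2 : cjg k R ≤ T := by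
    intro y hy
    obtain ⟨u, hu, rfl⟩ := exists_of_cjg hy
    exact hk u hu
  have h3 := Subgroup.card_le_of_le h2
  rw [card_cjg] at h3
  have h4 : T = R := Subgroup.eq_of_le_of_card_ge hTR h3
  have h5 : g * c * g⁻¹ ∈ T := by
    rw [h4]
    exact hcR (conj_mem_cjg.mpr (mem_zpowers c))
  have hgJ := (hnorm g).mpr (mem_inf.mp hg).1
  have h6 := h.V1_T h5 (h1.conj hgJ)
  rw [← hgJ] at h6
  exact conj_mem_cjg.mp h6

/-- odd elements of `V₁` centralise `J` -/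
theorem V1_odd (h : BigHyp T P Q Z A K a b t x ρ) {c : G} (h1 : V1 P Q c) {n : ℕ} (hn : Odd n) (hc : c ^ n = 1) :
    ∀ j ∈ P ⊔ Q, c * j * c⁻¹ = j := by
  intro j hj
  set w := j⁻¹ * (c * j * c⁻¹) with hw
  have hwZ : w ∈ ZJ P Q := h1.chain j hj
  have hww : w * w = 1 := h.ZJ_sq hwZ
  have hstep : ∀ k : ℕ, c ^ k * j * (c ^ k)⁻¹ = j * w ^ k := by
    intro k
    induction k with
    | zero => simp
    | succ k ih =>
      have e : c ^ (k + 1) * j * (c ^ (k + 1))⁻¹ = c * (c ^ k * j * (c ^ k)⁻¹) * c⁻¹ := by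
        rw [pow_succ']; group
      rw [e, ih]
      have e2 : c * (j * w ^ k) * c⁻¹ = (c * j * c⁻¹) * (c * w * c⁻¹) ^ k := by
        rw [conj_pow]; group
      have e3 : c * j * c⁻¹ = j * w := by rw [hw]; group
      rw [e2, h1.cen w hwZ, e3, mul_assoc, ← pow_succ']
  have h2 := hstep n
  rw [hc] at h2
  obtain ⟨m, rfl⟩ := hn
  rw [pow_succ, pow_mul, pow_two, hww, one_pow, one_mul, inv_one, mul_one, one_mul] at h2
  have h3 : w = 1 := mul_eq_left.mp h2.symm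
  have e3 : c * j * c⁻¹ = j * w := by rw [hw]; group
  rw [e3, h3, mul_one]

/-- elements of `V₁` act on `J` as inner automorphisms -/
theorem V1_inner (h : BigHyp T P Q Z A K a b t x ρ) {c : G} (h1 : V1 P Q c) :
    ∃ j₀ ∈ P ⊔ Q, ∀ j ∈ P ⊔ Q, c * j * c⁻¹ = j₀ * j * j₀⁻¹ := by
  have hn0 : orderOf c ≠ 0 := (orderOf_pos c).ne'
  obtain ⟨k, m, hm, hkm⟩ := Nat.exists_eq_two_pow_mul_odd hn0
  -- the 2-part and the odd part
  have hc1 : (c ^ m) ∈ P ⊔ Q := by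
    refine h.V1_two (h1.pow m) ?_
    rintro ⟨y, hy⟩
    obtain ⟨i, rfl⟩ := mem_zpowers_iff.mp hy
    refine ⟨k, Subtype.ext ?_⟩
    change ((c ^ m) ^ i) ^ (2 ^ k) = 1
    rw [← zpow_natCast, ← zpow_mul, mul_comm, zpow_mul, zpow_natCast, ← pow_mul, mul_comm m, ← hkm,
      pow_orderOf_eq_one, one_zpow]
  have hc2 : ∀ j ∈ P ⊔ Q, c ^ (2 ^ k) * j * (c ^ (2 ^ k))⁻¹ = j := by
    refine h.V1_odd (h1.pow _) hm ?_
    rw [← pow_mul, ← hkm, pow_orderOf_eq_one]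
  have hcop : Nat.Coprime m (2 ^ k) := (Nat.Coprime.pow_right k (Nat.coprime_two_right.mpr hm))
  have hbez := Int.gcd_eq_gcd_ab m ((2 ^ k : ℕ) : ℤ)
  have hg1 : (Int.gcd (m : ℤ) ((2 ^ k : ℕ) : ℤ) : ℤ) = 1 := by
    have : Int.gcd (m : ℤ) ((2 ^ k : ℕ) : ℤ) = 1 := by
      rw [Int.gcd_natCast_natCast]; exact hcop
    rw [this]; rfl
  rw [hg1] at hbez
  set u := Int.gcdA (m : ℤ) ((2 ^ k : ℕ) : ℤ)
  set v := Int.gcdB (m : ℤ) ((2 ^ k : ℕ) : ℤ)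
  refine ⟨(c ^ m) ^ u, zpow_mem hc1 u, ?_⟩
  have hcv : ∀ j ∈ P ⊔ Q, (c ^ (2 ^ k)) ^ v * j * ((c ^ (2 ^ k)) ^ v)⁻¹ = j := by
    intro j hj
    have h5 : c ^ (2 ^ k) ∈ centralizer {j} := by
      rw [mem_centralizer_singleton_iff]
      exact mul_inv_eq_iff_eq_mul.mp (hc2 j hj)
    have h6 := zpow_mem h5 v
    rw [mem_centralizer_singleton_iff] at h6
    exact mul_inv_eq_iff_eq_mul.mpr h6
  have hcc : c = (c ^ m) ^ u * (c ^ (2 ^ k)) ^ v := by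
    rw [← zpow_natCast c m, ← zpow_natCast c (2 ^ k), ← zpow_mul, ← zpow_mul, ← zpow_add, ← hbez, zpow_one]
  intro j hj
  calc c * j * c⁻¹ = (c ^ m) ^ u * ((c ^ (2 ^ k)) ^ v * j * ((c ^ (2 ^ k)) ^ v)⁻¹) * ((c ^ m) ^ u)⁻¹ := by
        conv_lhs => rw [hcc]
        group
    _ = _ := by rw [hcv j hj]

end BigHyp

end Cfsg.Agent.UGT.L34T2
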