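import Cfsg.Agent.UGT.L34T2.BigJ

/-!
# Type `L₃(4)`, `T < S`, case BIG: `S = T⟨t⟩`, the double frame (UGT #14882 (3))
-/

set_option autoImplicit false
set_option linter.unusedSectionVars false

open Subgroup

namespace Cfsg.Agent.UGT.L34T2

variable {G : Type*} [Group G]

/-- normalizers grow in 2-groups -/
theorem exists_norm_two [Finite G] {T U : Subgroup G} (hU : IsPGroup 2 U) (hle : T ≤ U)
    (hne : ¬ U ≤ T) : ∃ y ∈ U, y ∉ T ∧ (∀ g ∈ T, y * g * y⁻¹ ∈ T) ∧ ∀ g ∈ T, y⁻¹ * g * y ∈ T := by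
  have : Fact (Nat.Prime 2) := ⟨Nat.prime_two⟩
  have hnil : Group.IsNilpotent U := hU.isNilpotent
  have hlt : T.subgroupOf U < ⊤ := by
    rw [lt_top_iff_ne_top]
    intro h
    exact hne (Subgroup.subgroupOf_eq_top.1 h)
  have h1 := Group.normalizerCondition_of_isNilpotent (T.subgroupOf U) hlt
  obtain ⟨y, hy, hyT⟩ := Set.exists_of_ssubset h1
  refine ⟨y, y.2, fun h => hyT h, fun g hg => ?_, fun g hg => ?_⟩
  · exact (Subgroup.mem_normalizer_iff.1 hy ⟨g, hle hg⟩).1 hg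
  · have h2 := (Subgroup.mem_normalizer_iff.1 (inv_mem hy) ⟨g, hle hg⟩).1 hg
    have h3 : (y : G)⁻¹ * g * (y : G)⁻¹⁻¹ ∈ T := h2
    rwa [inv_inv] at h3

namespace BigHyp

variable [Finite G] {T P Q Z : Subgroup G} {A : Bool → Subgroup G} {K : Subgroup G} {a b t x ρ : G}

/-- `ρ` normalises `J` -/
theorem rJ (h : BigHyp T P Q Z A K a b t x ρ) : cjg ρ (P ⊔ Q) = P ⊔ Q := by
  refine cjg_eq_of_le ?_ le_rfl
  intro j hj
  obtain ⟨p, hp, q, hq, rfl⟩ := h.mem_J.mp hj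
  rw [conj_mul]
  have e : ρ * q * ρ⁻¹ = q := mul_inv_eq_iff_eq_mul.mpr (h.rQ q hq)
  rw [e]
  exact mul_mem (mem_sup_left (h.rP p hp)) (mem_sup_right hq)

/-- `ρ₁ = t⁻¹ ρ t` normalises `J` -/
theorem r1J (h : BigHyp T P Q Z A K a b t x ρ) : cjg (t⁻¹ * ρ * t) (P ⊔ Q) = P ⊔ Q := by
  rw [cjg_mul, cjg_mul, h.cJ, h.rJ]
  exact cjg_inv_eq h.cJ

theorem r1B (h : BigHyp T P Q Z A K a b t x ρ) {c : G} (hc : c ∈ cjg t Q) :
    (t⁻¹ * ρ * t) * c * (t⁻¹ * ρ * t)⁻¹ = c := by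
  have h1 := h.rQ _ (h.tB hc)
  have e : (t⁻¹ * ρ * t) * c * (t⁻¹ * ρ * t)⁻¹ = t⁻¹ * (ρ * (t * c * t⁻¹) * ρ⁻¹) * t := by group
  rw [e, h1]; group

theorem r1Z (h : BigHyp T P Q Z A K a b t x ρ) {z : G} (hz : z ∈ Z) :
    (t⁻¹ * ρ * t) * z * (t⁻¹ * ρ * t)⁻¹ = z := h.r1B (h.ZB hz)

/-- `t⁻¹ P t = t P t⁻¹` -/
theorem P1_mem (h : BigHyp T P Q Z A K a b t x ρ) {y : G} : y ∈ cjg t P ↔ t * y * t⁻¹ ∈ P := by
  rw [mem_cjg]
  have e : t⁻¹ * y * t = (t * t)⁻¹ * (t * y * t⁻¹) * (t * t)⁻¹⁻¹ := by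
    rw [inv_inv, mul_inv_rev]; group
  rw [e]
  constructor
  · intro h1
    have h2 := h.nP _ h.t2 _ h1
    have e : (t * t) * ((t * t)⁻¹ * (t * y * t⁻¹) * (t * t)⁻¹⁻¹) * (t * t)⁻¹ = t * y * t⁻¹ := by group
    rwa [e] at h2
  · intro h1
    exact h.nP _ (T.inv_mem h.t2) _ h1

/-- `ρ₁` normalises `P₁` -/
theorem r1P (h : BigHyp T P Q Z A K a b t x ρ) {y : G} (hy : y ∈ cjg t P) :
    (t⁻¹ * ρ * t) * y * (t⁻¹ * ρ * t)⁻¹ ∈ cjg t P := by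
  rw [h.P1_mem] at hy ⊢
  have e : t * ((t⁻¹ * ρ * t) * y * (t⁻¹ * ρ * t)⁻¹) * t⁻¹ = ρ * (t * y * t⁻¹) * ρ⁻¹ := by group
  rw [e]
  exact h.rP _ hy

/-- `ρ₁` moves `q ∈ Q` to `Z Q` -/
theorem r1Q (h : BigHyp T P Q Z A K a b t x ρ) {q : G} (hq : q ∈ Q) :
    ∃ z ∈ Z, ∃ q' ∈ Q, (t⁻¹ * ρ * t) * q * (t⁻¹ * ρ * t)⁻¹ = z * q' := by
  obtain ⟨z, hz, hzq⟩ := h.Q_le hq
  obtain ⟨z', hz', q', hq', e⟩ := h.P1_le (h.r1P hzq)
  rw [conj_mul, h.r1Z hz] at e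
  refine ⟨z⁻¹ * z', Z.mul_mem (Z.inv_mem hz) hz', q', hq', ?_⟩
  rw [mul_assoc z⁻¹ z' q', ← e]; group

/-- `ρ₁` is trivial on `P` modulo `Z(J)` -/
theorem r1Pm (h : BigHyp T P Q Z A K a b t x ρ) {p : G} (hp : p ∈ P) :
    p⁻¹ * ((t⁻¹ * ρ * t) * p * (t⁻¹ * ρ * t)⁻¹) ∈ ZJ P Q := by
  obtain ⟨z, hz, c, hc, e⟩ := h.P_QB hp
  have h1 := h.ZJ_Z' hz
  have h2 := ZJ_conj h.r1J h1
  have e1 : (t⁻¹ * ρ * t) * p * (t⁻¹ * ρ * t)⁻¹ =
      ((t⁻¹ * ρ * t) * (t * z * t⁻¹) * (t⁻¹ * ρ * t)⁻¹) * c := by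
    conv_lhs => rw [e]
    rw [conj_mul, h.r1B hc]
  have e2 : p⁻¹ * ((t⁻¹ * ρ * t) * p * (t⁻¹ * ρ * t)⁻¹) =
      c⁻¹ * ((t * z * t⁻¹)⁻¹ * ((t⁻¹ * ρ * t) * (t * z * t⁻¹) * (t⁻¹ * ρ * t)⁻¹)) * c := by
    rw [e1]
    conv_lhs => rw [e]
    group
  have h3 : (t * z * t⁻¹)⁻¹ * ((t⁻¹ * ρ * t) * (t * z * t⁻¹) * (t⁻¹ * ρ * t)⁻¹) ∈ ZJ P Q :=
    mul_mem (inv_mem h1) h2
  rw [e2]
  have hcJ : c ∈ P ⊔ Q := by
    rw [← h.cJ]
    exact cjg_mono le_sup_right hc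
  have h4 := (mem_ZJ.mp h3).2 c hcJ
  have e3 : ∀ w : G, c * w = w * c → c⁻¹ * w * c = w := by
    intro w hw
    rw [mul_assoc, ← hw]; group
  rw [e3 _ h4]
  exact h3

/-- congruence modulo `Z(J)` in `J` -/
theorem cong_mul (_h : BigHyp T P Q Z A K a b t x ρ) {u v w z : G} (hv : v ∈ P ⊔ Q)
    (h1 : u⁻¹ * w ∈ ZJ P Q) (h2 : v⁻¹ * z ∈ ZJ P Q) : (u * v)⁻¹ * (w * z) ∈ ZJ P Q := by
  have h3 := (mem_ZJ.mp h1).2 v hv
  have e : (u * v)⁻¹ * (w * z) = v⁻¹ * ((u⁻¹ * w) * v) * (v⁻¹ * z) := by group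
  rw [e, ← h3]
  have e2 : v⁻¹ * (v * (u⁻¹ * w)) * (v⁻¹ * z) = (u⁻¹ * w) * (v⁻¹ * z) := by group
  rw [e2]
  exact mul_mem h1 h2

/-- `[ρ, ρ₁] ∈ V₁` -/
theorem V1_r (h : BigHyp T P Q Z A K a b t x ρ) :
    V1 P Q (ρ * (t⁻¹ * ρ * t) * ρ⁻¹ * (t⁻¹ * ρ * t)⁻¹) := by
  set r := t⁻¹ * ρ * t with hr
  have hrJ : cjg r (P ⊔ Q) = P ⊔ Q := h.r1J
  have hrJ' : cjg r⁻¹ (P ⊔ Q) = P ⊔ Q := cjg_inv_eq hrJ
  have hρJ := h.rJ
  have hρJ' : cjg ρ⁻¹ (P ⊔ Q) = P ⊔ Q := cjg_inv_eq hρJ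
  -- conjugation preserves congruences
  have hcg : ∀ {n u w : G}, cjg n (P ⊔ Q) = P ⊔ Q → u⁻¹ * w ∈ ZJ P Q →
      (n * u * n⁻¹)⁻¹ * (n * w * n⁻¹) ∈ ZJ P Q := by
    intro n u w hn hu
    have e : (n * u * n⁻¹)⁻¹ * (n * w * n⁻¹) = n * (u⁻¹ * w) * n⁻¹ := by group
    rw [e]
    exact ZJ_conj hn hu
  have htr : ∀ {u v w : G}, u⁻¹ * v ∈ ZJ P Q → v⁻¹ * w ∈ ZJ P Q → u⁻¹ * w ∈ ZJ P Q := by
    intro u v w h1 h2
    have e : u⁻¹ * w = (u⁻¹ * v) * (v⁻¹ * w) := by group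
    rw [e]; exact mul_mem h1 h2
  have hsy : ∀ {u v : G}, u⁻¹ * v ∈ ZJ P Q → v⁻¹ * u ∈ ZJ P Q := by
    intro u v h1
    have := inv_mem h1
    rwa [mul_inv_rev, inv_inv] at this
  -- `r⁻¹` on `P`
  have hrP : ∀ p ∈ P, p⁻¹ * (r * p * r⁻¹) ∈ ZJ P Q := fun p hp => h.r1Pm hp
  have hrP' : ∀ p ∈ P, p⁻¹ * (r⁻¹ * p * r) ∈ ZJ P Q := by
    intro p hp
    have h1 := hcg hrJ' (hrP p hp)
    rw [inv_inv] at h1
    have e : r⁻¹ * (r * p * r⁻¹) * r = p := by group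
    rw [e] at h1
    exact hsy h1
  -- `r⁻¹` on `Q`
  have hrQ : ∀ q ∈ Q, ∃ q' ∈ Q, q'⁻¹ * (r * q * r⁻¹) ∈ ZJ P Q := by
    intro q hq
    obtain ⟨z, hz, q', hq', e⟩ := h.r1Q hq
    refine ⟨q', hq', ?_⟩
    rw [e, h.comm z (h.ZP hz) q' hq', ← mul_assoc, inv_mul_cancel, one_mul]
    exact h.ZJ_Z hz
  have hrQ' : ∀ q ∈ Q, ∃ q' ∈ Q, q'⁻¹ * (r⁻¹ * q * r) ∈ ZJ P Q := by
    intro q hq
    -- by finiteness: `r⁻¹ = r ^ (n - 1)`
    have hpow : ∀ k : ℕ, ∀ q ∈ Q, ∃ q' ∈ Q, q'⁻¹ * (r ^ k * q * (r ^ k)⁻¹) ∈ ZJ P Q := by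
      intro k
      induction k with
      | zero => intro q hq; exact ⟨q, hq, by simp [one_mem]⟩
      | succ k ih =>
        intro q hq
        obtain ⟨q1, hq1, e1⟩ := ih q hq
        obtain ⟨q2, hq2, e2⟩ := hrQ q1 hq1
        refine ⟨q2, hq2, htr e2 ?_⟩
        have h1 := hcg hrJ e1
        have e : r ^ (k + 1) * q * (r ^ (k + 1))⁻¹ = r * (r ^ k * q * (r ^ k)⁻¹) * r⁻¹ := by
          rw [pow_succ']; group
        rw [e]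
        exact h1
    obtain ⟨q', hq', e⟩ := hpow (orderOf r - 1) q hq
    have e1 : r ^ (orderOf r - 1) = r⁻¹ := by
      have h1 : r ^ (orderOf r - 1) * r = 1 := by
        rw [← pow_succ, Nat.sub_add_cancel (orderOf_pos r), pow_orderOf_eq_one]
      exact eq_inv_of_mul_eq_one_left h1
    rw [e1, inv_inv] at e
    exact ⟨q', hq', e⟩
  have hρP' : ∀ p ∈ P, ρ⁻¹ * p * ρ ∈ P := by
    intro p hp
    have h1 : cjg ρ P = P := cjg_eq_of_le h.rP le_rfl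
    rw [← mem_cjg, h1]; exact hp
  have hρQ : ∀ q ∈ Q, ρ * q * ρ⁻¹ = q := fun q hq => mul_inv_eq_iff_eq_mul.mpr (h.rQ q hq)
  have hρQ' : ∀ q ∈ Q, ρ⁻¹ * q * ρ = q := by
    intro q hq
    rw [mul_assoc, ← h.rQ q hq]; group
  refine ⟨?_, ?_, ?_⟩
  · rw [cjg_mul, cjg_mul, cjg_mul, hrJ', hρJ', hrJ, hρJ]
  · -- on `P`
    have hP : ∀ p ∈ P, p⁻¹ * ((ρ * r * ρ⁻¹ * r⁻¹) * p * (ρ * r * ρ⁻¹ * r⁻¹)⁻¹) ∈ ZJ P Q := by
      intro p hp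
      have h1 := hrP' p hp
      have h2 := hcg hρJ' h1
      rw [inv_inv] at h2
      have h3 := htr (hsy (hsy (hrP _ (hρP' p hp)))) (hcg hrJ h2)
      have h4 := hcg hρJ h3
      have e1 : ρ * (ρ⁻¹ * p * ρ) * ρ⁻¹ = p := by group
      rw [e1] at h4
      have e2 : ρ * (r * (ρ⁻¹ * (r⁻¹ * p * r) * ρ) * r⁻¹) * ρ⁻¹ =
        (ρ * r * ρ⁻¹ * r⁻¹) * p * (ρ * r * ρ⁻¹ * r⁻¹)⁻¹ := by group
      rwa [e2] at h4
    have hQ : ∀ q ∈ Q, q⁻¹ * ((ρ * r * ρ⁻¹ * r⁻¹) * q * (ρ * r * ρ⁻¹ * r⁻¹)⁻¹) ∈ ZJ P Q := by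
      intro q hq
      obtain ⟨q', hq', h1⟩ := hrQ' q hq
      have h2 := hcg hρJ' h1
      rw [inv_inv, hρQ' q' hq'] at h2
      have h3 := hcg hrJ h2
      -- `r q' r⁻¹ ≡ q`
      have h5 := hcg hrJ h1
      have e0 : r * (r⁻¹ * q * r) * r⁻¹ = q := by group
      rw [e0] at h5
      have h6 := htr (hsy h5) h3
      have h7 := hcg hρJ h6
      rw [hρQ q hq] at h7
      have e2 : ρ * (r * (ρ⁻¹ * (r⁻¹ * q * r) * ρ) * r⁻¹) * ρ⁻¹ =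
        (ρ * r * ρ⁻¹ * r⁻¹) * q * (ρ * r * ρ⁻¹ * r⁻¹)⁻¹ := by group
      rwa [e2] at h7
    intro j hj
    obtain ⟨p, hp, q, hq, rfl⟩ := h.mem_J.mp hj
    rw [conj_mul]
    exact h.cong_mul (mem_sup_right hq) (hP p hp) (hQ q hq)
  · -- on `Z(J)`
    have hZ : ∀ z ∈ Z, (ρ * r * ρ⁻¹ * r⁻¹) * z * (ρ * r * ρ⁻¹ * r⁻¹)⁻¹ = z := by
      intro z hz
      have e1 : r * z * r⁻¹ = z := h.r1Z hz
      have e2 : r⁻¹ * z * r = z := by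
        have e3 : r * z = z * r := mul_inv_eq_iff_eq_mul.mp e1
        rw [mul_assoc, ← e3]; group
      have hz' : ρ⁻¹ * z * ρ ∈ Z := by
        refine h.mem_Z (hρP' z (h.ZP hz)) ?_
        intro p hp
        rw [← commute_iff_conj ρ]
        have e3 : ρ * (ρ⁻¹ * z * ρ) * ρ⁻¹ = z := by group
        rw [e3]
        exact (h.Zcen z hz _ (h.rP p hp)).symm
      have e4 : r * (ρ⁻¹ * z * ρ) * r⁻¹ = ρ⁻¹ * z * ρ := h.r1Z hz'
      have e5 : (ρ * r * ρ⁻¹ * r⁻¹) * z * (ρ * r * ρ⁻¹ * r⁻¹)⁻¹ =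
        ρ * (r * (ρ⁻¹ * (r⁻¹ * z * r) * ρ) * r⁻¹) * ρ⁻¹ := by group
      rw [e5, e2, e4]; group
    have hcQ : ∀ w ∈ cjg t P, w ∈ ZJ P Q → ∃ z ∈ Z, w = t * z * t⁻¹ := by
      intro w hw hwJ
      obtain ⟨z, hz, z', hz', e⟩ := h.ZJ_eq hwJ
      refine ⟨z', hz', ?_⟩
      have h1 : z ∈ cjg t P := by
        have e1 : z = w * (t * z' * t⁻¹)⁻¹ := by rw [e]; group
        rw [e1]
        exact mul_mem hw (inv_mem (conj_mem_cjg.mpr (h.ZP hz')))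
      have h2 : z ∈ cjg t Q := h.ZB hz
      have h4 : t⁻¹ * z * t = 1 := h.disj _ (mem_cjg.mp h1) (mem_cjg.mp h2)
      have h5 : z = 1 := by
        have e5 : z = t * (t⁻¹ * z * t) * t⁻¹ := by group
        rw [e5, h4]; group
      rw [e, h5, one_mul]
    have hZ' : ∀ z ∈ Z, (ρ * r * ρ⁻¹ * r⁻¹) * (t * z * t⁻¹) * (ρ * r * ρ⁻¹ * r⁻¹)⁻¹ = t * z * t⁻¹ := by
      intro z hz
      have hzP : t * z * t⁻¹ ∈ cjg t P := conj_mem_cjg.mpr (h.ZP hz)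
      -- `r⁻¹` of it is again in `Z'`
      have hcr : cjg r (cjg t P) = cjg t P := cjg_eq_of_le (fun u hu => h.r1P hu) le_rfl
      have h1 : r⁻¹ * (t * z * t⁻¹) * r ∈ cjg t P := by rw [← mem_cjg, hcr]; exact hzP
      have h2 : r⁻¹ * (t * z * t⁻¹) * r ∈ ZJ P Q := by
        have := ZJ_conj hrJ' (h.ZJ_Z' hz)
        rwa [inv_inv] at this
      obtain ⟨z', hz', e⟩ := hcQ _ h1 h2
      have e1 : ρ⁻¹ * (t * z' * t⁻¹) * ρ = t * z' * t⁻¹ := hρQ' _ (h.tZ hz')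
      have e2 : r * (t * z' * t⁻¹) * r⁻¹ = t * z * t⁻¹ := by rw [← e]; group
      have e5 : (ρ * r * ρ⁻¹ * r⁻¹) * (t * z * t⁻¹) * (ρ * r * ρ⁻¹ * r⁻¹)⁻¹ =
        ρ * (r * (ρ⁻¹ * (r⁻¹ * (t * z * t⁻¹) * r) * ρ) * r⁻¹) * ρ⁻¹ := by group
      rw [e5, e, e1, e2]
      exact hρQ _ (h.tZ hz)
    intro w hw
    obtain ⟨z, hz, z', hz', e⟩ := h.ZJ_eq hw
    rw [e, conj_mul, hZ z hz, hZ' z' hz']

/-- `ρ₁` normalises `Q` -/
theorem r1Q' (h : BigHyp T P Q Z A K a b t x ρ) {q : G} (hq : q ∈ Q) :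
    (t⁻¹ * ρ * t) * q * (t⁻¹ * ρ * t)⁻¹ ∈ Q := by
  obtain ⟨z, hz, q', hq', e⟩ := h.r1Q hq
  obtain ⟨j₀, hj₀, hc⟩ := h.V1_inner h.V1_r
  obtain ⟨p0, hp0, q0, hq0, rfl⟩ := h.mem_J.mp hj₀
  set r := t⁻¹ * ρ * t with hr
  have h1 := hc (z * q') (mul_mem (mem_sup_left (h.ZP hz)) (mem_sup_right hq'))
  have e1 : (ρ * r * ρ⁻¹ * r⁻¹) * (z * q') * (ρ * r * ρ⁻¹ * r⁻¹)⁻¹ = (ρ * z * ρ⁻¹) * q' := by
    have e2 : (ρ * r * ρ⁻¹ * r⁻¹) * (z * q') * (ρ * r * ρ⁻¹ * r⁻¹)⁻¹ =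
      ρ * (r * (ρ⁻¹ * (r⁻¹ * (z * q') * r) * ρ) * r⁻¹) * ρ⁻¹ := by group
    have e3 : r⁻¹ * (z * q') * r = q := by rw [← e]; group
    have e4 : ρ⁻¹ * q * ρ = q := by rw [mul_assoc, ← h.rQ q hq]; group
    rw [e2, e3, e4, e, conj_mul]
    have e5 : ρ * q' * ρ⁻¹ = q' := mul_inv_eq_iff_eq_mul.mpr (h.rQ q' hq')
    rw [e5]
  have e2 : p0 * q0 * (z * q') * (p0 * q0)⁻¹ = z * (q0 * q' * q0⁻¹) := by
    have a1 := h.comm z (h.ZP hz) q0 hq0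
    have a2 := h.Zcen z hz p0 hp0
    have a3 := h.comm p0⁻¹ (P.inv_mem hp0) (q0 * q' * q0⁻¹) (Q.mul_mem (Q.mul_mem hq0 hq') (Q.inv_mem hq0))
    calc p0 * q0 * (z * q') * (p0 * q0)⁻¹ = p0 * (q0 * z) * q' * q0⁻¹ * p0⁻¹ := by group
      _ = p0 * (z * q0) * q' * q0⁻¹ * p0⁻¹ := by rw [a1]
      _ = (p0 * z) * ((q0 * q' * q0⁻¹) * p0⁻¹) := by group
      _ = (z * p0) * (p0⁻¹ * (q0 * q' * q0⁻¹)) := by rw [a2, a3]
      _ = _ := by group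
  rw [e1, e2] at h1
  obtain ⟨e3, -⟩ := h.uniq (h.rP z (h.ZP hz)) (h.ZP hz) hq'
    (Q.mul_mem (Q.mul_mem hq0 hq') (Q.inv_mem hq0)) h1
  have e4 : z = 1 := h.rf z (h.ZP hz) (mul_inv_eq_iff_eq_mul.mp e3)
  rw [e, e4, one_mul]
  exact hq'

/-- `t Q t⁻¹ = P` -/
theorem cQ (h : BigHyp T P Q Z A K a b t x ρ) : cjg t Q = P := by
  have hρB : ∀ c ∈ cjg t Q, ρ * c * ρ⁻¹ ∈ cjg t Q := by
    intro c hc
    obtain ⟨q, hq, rfl⟩ := exists_of_cjg hc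
    have e : ρ * (t * q * t⁻¹) * ρ⁻¹ = t * ((t⁻¹ * ρ * t) * q * (t⁻¹ * ρ * t)⁻¹) * t⁻¹ := by group
    rw [e]
    exact conj_mem_cjg.mpr (h.r1Q' hq)
  have h1 : ∀ p ∈ P, p⁻¹ * (ρ * p * ρ⁻¹) ∈ cjg t Q := by
    intro p hp
    obtain ⟨z, hz, c, hc, e⟩ := h.P_QB hp
    have e1 : ρ * (t * z * t⁻¹) * ρ⁻¹ = t * z * t⁻¹ := mul_inv_eq_iff_eq_mul.mpr (h.rQ _ (h.tZ hz))
    have e2 : p⁻¹ * (ρ * p * ρ⁻¹) = c⁻¹ * (ρ * c * ρ⁻¹) := by
      conv_lhs => rw [e]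
      rw [conj_mul, e1]
      group
    rw [e2]
    exact mul_mem (inv_mem hc) (hρB c hc)
  have h2 : P ≤ cjg t Q := by
    let φ : P → P := fun p => ⟨(p : G)⁻¹ * (ρ * p * ρ⁻¹), P.mul_mem (P.inv_mem p.2) (h.rP p p.2)⟩
    have hinj : Function.Injective φ := by
      intro p r e
      have e1 : (p : G)⁻¹ * (ρ * p * ρ⁻¹) = (r : G)⁻¹ * (ρ * r * ρ⁻¹) := Subtype.ext_iff.mp e
      have e2 : ρ * ((p : G) * (r : G)⁻¹) = (p : G) * (r : G)⁻¹ * ρ := by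
        have e3 : ρ * p * ρ⁻¹ = p * (r : G)⁻¹ * (ρ * r * ρ⁻¹) := by
          rw [mul_assoc (p : G) (r : G)⁻¹, ← e1]; group
        calc ρ * ((p : G) * (r : G)⁻¹) = (ρ * p * ρ⁻¹) * (ρ * (r : G)⁻¹ * ρ⁻¹) * ρ := by group
          _ = p * (r : G)⁻¹ * (ρ * r * ρ⁻¹) * (ρ * (r : G)⁻¹ * ρ⁻¹) * ρ := by rw [e3]
          _ = _ := by group
      have e4 := h.rf _ (P.mul_mem p.2 (P.inv_mem r.2)) e2
      exact Subtype.ext (mul_inv_eq_one.mp e4)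
    have hsur := Finite.surjective_of_injective hinj
    intro p hp
    obtain ⟨r, hr⟩ := hsur ⟨p, hp⟩
    have := h1 r r.2
    have e : (r : G)⁻¹ * (ρ * r * ρ⁻¹) = p := Subtype.ext_iff.mp hr
    rwa [e] at this
  exact (Subgroup.eq_of_le_of_card_ge h2 (by rw [card_cjg, h.card_Q, h.cardP])).symm

/-- the double frame of `S = T⟨t⟩` -/
theorem pre (h : BigHyp T P Q Z A K a b t x ρ) : Pre (St T t h.tT h.t2) T P Q Z A a b t x where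
  toFr := h.toFr
  S2 := St_two h.two
  TS := le_St
  tS := t_mem_St
  tn := h.tn
  ST := fun _ hs => hs
  tT := fun _ hy => h.tT2 hy
  tP := fun p hp => by
    rw [← h.cQ] at hp
    exact h.tB hp
  tQ := fun q hq => by
    rw [← h.cQ]
    exact conj_mem_cjg.mpr hq
  ta := h.ta
  tb := h.tb
  xT := h.xT
  xx := h.xx
  xZ := h.xZ
  xA := h.xA
  Ta := h.Ta

/-- `T⟨t⟩` is a maximal 2-subgroup -/
theorem St_max (h : BigHyp T P Q Z A K a b t x ρ) {R : Subgroup G} (hR : IsPGroup 2 R)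
    (hle : St T t h.tT h.t2 ≤ R) : R ≤ St T t h.tT h.t2 := by
  have hp := h.pre
  -- a 2-group in `C(a)` containing `T` is `T`
  have hTmax : ∀ U : Subgroup G, IsPGroup 2 U → T ≤ U → (∀ u ∈ U, u * a = a * u) → U ≤ T := by
    intro U hU hTU hUa
    obtain ⟨g, -, hg⟩ := h.sylT U hU hUa
    have h2 : cjg g U ≤ T := by
      intro y hy
      obtain ⟨u, hu, rfl⟩ := exists_of_cjg hy
      exact hg u hu
    have h3 := Subgroup.card_le_of_le h2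
    rw [card_cjg] at h3
    exact (Subgroup.eq_of_le_of_card_ge hTU h3).ge
  -- Claim A: the elements of `R` normalising `J` are in `T⟨t⟩`
  let S2 : Subgroup G := R ⊓ normalizer ((cjg t Z : Subgroup G) : Set G)
  have hTS2 : T ≤ S2 := by
    intro y hy
    refine mem_inf.mpr ⟨hle (le_St hy), ?_⟩
    rw [mem_normalizer_iff]
    intro c
    have hcj : cjg y (cjg t Z) = cjg t Z := by
      refine cjg_eq_of_le ?_ le_rfl
      intro u hu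
      exact hp.fr'.nZ hy hu
    conv_rhs => rw [← hcj]
    exact conj_mem_cjg.symm
  have hS2 : S2 ≤ T := by
    by_contra hne
    obtain ⟨s, hs, hsT, hn1, hn2⟩ := exists_norm_two (hR.to_le inf_le_left : IsPGroup 2 S2) hTS2 hne
    apply hsT
    obtain ⟨hsR, hsZ⟩ := mem_inf.mp hs
    rw [mem_normalizer_iff] at hsZ
    have h1 : s * a * s⁻¹ ∈ cjg t Z := (hsZ a).mp hp.fr'.bZ
    have h2 : ∀ y ∈ T, y * (s * a * s⁻¹) = (s * a * s⁻¹) * y := by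
      intro y hy
      have e := h.Ta _ (hn2 y hy)
      rw [← commute_iff_conj s] at e
      have e1 : s * (s⁻¹ * y * s) * s⁻¹ = y := by group
      rwa [e1] at e
    have h3 : s * a * s⁻¹ = a := by
      refine (h.rk _ (hp.fr'.ZP h1) (h2 x h.xT) ?_).resolve_left ?_
      · rw [← conj_mul, h.aa]; group
      · intro e; exact h.a1 (conj_eq_one_iff.mp e)
    have h4 : T ⊔ zpowers s ≤ R ⊓ centralizer {a} := by
      refine sup_le (fun y hy => mem_inf.mpr ⟨hle (le_St hy), ?_⟩) ?_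
      · rw [mem_centralizer_singleton_iff]; exact h.Ta y hy
      · rw [zpowers_le]
        refine mem_inf.mpr ⟨hsR, ?_⟩
        rw [mem_centralizer_singleton_iff]
        exact mul_inv_eq_iff_eq_mul.mp h3
    refine hTmax (T ⊔ zpowers s) (hR.to_le (h4.trans inf_le_left)) le_sup_left ?_
      (mem_sup_right (mem_zpowers s))
    intro u hu
    have := (mem_inf.mp (h4 hu)).2
    rwa [mem_centralizer_singleton_iff] at this
  have hA : ∀ s ∈ R, cjg s (P ⊔ Q) = P ⊔ Q → s ∈ St T t h.tT h.t2 := by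
    intro s hs hsJ
    -- `s` or `t s` normalises `Z'`
    have hkey : ∀ s ∈ R, cjg s (P ⊔ Q) = P ⊔ Q → (∀ z ∈ cjg t Z, s * z * s⁻¹ ∈ cjg t Z) → s ∈ T := by
      intro s hs _ h1
      apply hS2
      refine mem_inf.mpr ⟨hs, ?_⟩
      have hcj : cjg s (cjg t Z) = cjg t Z := cjg_eq_of_le h1 le_rfl
      rw [mem_normalizer_iff]
      intro c
      conv_rhs => rw [← hcj]
      exact conj_mem_cjg.symm
    by_cases h1 : ∀ z ∈ cjg t Z, s * z * s⁻¹ ∈ cjg t Z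
    · exact Or.inl (hkey s hs hsJ h1)
    · push Not at h1
      obtain ⟨z1, hz1, hz1'⟩ := h1
      have hsw : ∀ z ∈ cjg t Z, s * z * s⁻¹ ∈ Z := by
        have hperm : ∀ z ∈ cjg t Z, s * z * s⁻¹ ∈ cjg t Z ∨ s * z * s⁻¹ ∈ Z := by
          intro z hz
          obtain ⟨w, hw, rfl⟩ := exists_of_cjg hz
          have h2 := hp.perm (n := t⁻¹ * s * t) (z := w) (by
            rw [cjg_mul, cjg_mul, h.cJ, hsJ]; exact cjg_inv_eq h.cJ) hw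
          have e : t⁻¹ * s * t * w * (t⁻¹ * s * t)⁻¹ = t⁻¹ * (s * (t * w * t⁻¹) * s⁻¹) * t := by group
          rw [e] at h2
          rcases h2 with h2 | h2
          · left
            rw [mem_cjg]; exact h2
          · right
            rw [mem_cjg] at h2
            have e2 : t⁻¹ * (t⁻¹ * (s * (t * w * t⁻¹) * s⁻¹) * t) * t =
              (t * t)⁻¹ * (s * (t * w * t⁻¹) * s⁻¹) * (t * t) := by
              rw [mul_inv_rev]; group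
            rw [e2] at h2
            have h3 := h.nZ h.t2 h2
            have e3 : (t * t) * ((t * t)⁻¹ * (s * (t * w * t⁻¹) * s⁻¹) * (t * t)) * (t * t)⁻¹ =
              s * (t * w * t⁻¹) * s⁻¹ := by group
            rwa [e3] at h3
        intro z hz
        by_contra hzn
        have h2 := (hperm z hz).resolve_right hzn
        have h3 := (hperm z1 hz1).resolve_left hz1'
        rcases hperm (z * z1) (mul_mem hz hz1) with h4 | h4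
        · apply hz1'
          rw [conj_mul] at h4
          have := mul_mem (inv_mem h2) h4
          rwa [inv_mul_cancel_left] at this
        · apply hzn
          rw [conj_mul] at h4
          have := mul_mem h4 (inv_mem h3)
          rwa [mul_inv_cancel_right] at this
      have h2 : t⁻¹ * s ∈ T := by
        have h3 : t * s ∈ T := by
          refine hkey (t * s) (R.mul_mem (hle t_mem_St) hs) (by rw [cjg_mul, hsJ, h.cJ]) ?_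
          intro z hz
          have e : t * s * z * (t * s)⁻¹ = t * (s * z * s⁻¹) * t⁻¹ := by group
          rw [e]
          exact conj_mem_cjg.mpr (hsw z hz)
        have e : t⁻¹ * s = (t * t)⁻¹ * (t * s) := by group
        rw [e]
        exact T.mul_mem (T.inv_mem h.t2) h3
      exact Or.inr h2
  -- Claim B
  by_contra hne
  obtain ⟨s, hs, hsT, hn1, hn2⟩ := exists_norm_two hR hle hne
  apply hsT
  refine hA s hs (hp.cjg_eq_of_le_S ?_)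
  intro y hy
  obtain ⟨u, hu, rfl⟩ := exists_of_cjg hy
  exact hn1 u (hp.JleS hu)

/-- **(3)** the double frame. -/
theorem dbl (h : BigHyp T P Q Z A K a b t x ρ) : Dbl (St T t h.tT h.t2) T P Q Z A K a b t x where
  toFr := h.toFr
  S2 := St_two h.two
  TS := le_St
  tS := t_mem_St
  tn := h.tn
  ST := fun _ hs => hs
  tT := fun _ hy => h.tT2 hy
  tP := h.pre.tP
  tQ := h.pre.tQ
  ta := h.ta
  tb := h.tb
  xT := h.xT
  xx := h.xx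
  xZ := h.xZ
  xA := h.xA
  xZ' := h.xZ'
  xA' := h.xA'
  syl := by
    intro R hR
    have hSt : IsPGroup 2 (St T t h.tT h.t2) := St_two h.two
    obtain ⟨c, -, U, hU, -, h1, h2⟩ := exists_common (H := ⊤) le_top le_top hSt hR
    refine ⟨c, fun r hr => ?_⟩
    exact h.St_max hU h1 (h2 (conj_mem_cjg.mpr hr))
  sylT := h.sylT
  Ta := h.Ta
  KQ := h.KQ
  PK := h.PK
  cls := h.cls

end BigHyp

end Cfsg.Agent.UGT.L34T2
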