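import Cfsg.Agent.UGT.L34T2.InnFix
import Cfsg.Agent.UGT.L34T2.BigEnd
import Cfsg.Agent.UGT.L34.Dich

/-!
# Type `L₃(4)`, `T < S`, case BIG: `DblX` from `Dbl` in a minimal counterexample (GLUE of UGT #14882)
-/

set_option autoImplicit false

open Cfsg Subgroup
open Cfsg.Agent.SignalizersComponents Cfsg.Agent.Lib
open Cfsg.Agent.SignalizersComponents.IntrinsicBasic
open Cfsg.Agent.Intrinsic.Basic
open Cfsg.Agent.UGT.Triple Cfsg.Agent.UGT.TriBase
open Cfsg.Agent.UGT.Iface (Bar IsL34 MinCex)
open Cfsg.Agent.UGT.LTF.Defs (KF34)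
open scoped commutatorElement

namespace Cfsg.Agent.UGT.L34T2.IF

universe u

local notation "Fs" => generalizedFittingSubgroup

variable {G : Type u} [Group G] [Finite G]

/-- homomorphisms of a nonabelian simple group into `{1, -1}` -/
theorem hom_trivial {X : Type*} [Group X] [IsSimpleGroup X] (hna : ¬ IsMulCommutative X) (f : X →* ℤˣ) :
    f = 1 := by
  rcases (inferInstance : f.ker.Normal).eq_bot_or_eq_top with h1 | h1
  · exfalso
    apply hna
    refine ⟨⟨fun y z => ?_⟩⟩
    apply (MonoidHom.ker_eq_bot_iff f).mp h1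
    rw [map_mul, map_mul, mul_comm]
  · ext y
    have h2 : y ∈ f.ker := by rw [h1]; trivial
    rw [MonoidHom.mem_ker.mp h2]
    rfl

omit [Finite G] in
/-- a perfect subgroup lies in `X`, if `G = X ∪ x X` -/
theorem perfect_le {X K : Subgroup G} (hX : X.Normal) {x : G} (h2 : ∀ g, g ∈ X ∨ x * g ∈ X)
    (hK : ⁅K, K⁆ = K) : K ≤ X := by
  rw [← hK, commutator_le]
  intro k _ l _
  -- modulo `X` the group has order at most two
  have hcomm : ∀ y z : G ⧸ X, y * z = z * y := by
    intro y z
    obtain ⟨y, rfl⟩ := QuotientGroup.mk_surjective y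
    obtain ⟨z, rfl⟩ := QuotientGroup.mk_surjective z
    have key : ∀ g : G, (QuotientGroup.mk g : G ⧸ X) = 1 ∨
        (QuotientGroup.mk g : G ⧸ X) = (QuotientGroup.mk x : G ⧸ X)⁻¹ := by
      intro g
      rcases h2 g with h3 | h3
      · exact Or.inl ((QuotientGroup.eq_one_iff g).mpr h3)
      · right
        have h4 := (QuotientGroup.eq_one_iff (x * g)).mpr h3
        rw [QuotientGroup.mk_mul] at h4
        exact eq_inv_of_mul_eq_one_right h4
    rcases key y with h3 | h3
    · rw [h3, one_mul, mul_one]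
    · rcases key z with h4 | h4
      · rw [h4, one_mul, mul_one]
      · rw [h3, h4]
  rw [← QuotientGroup.eq_one_iff]
  have h3 : ((⁅k, l⁆ : G) : G ⧸ X) = k * l * (k : G ⧸ X)⁻¹ * (l : G ⧸ X)⁻¹ := rfl
  rw [h3, hcomm (k : G ⧸ X) l]
  group

variable {S T P Q Z K L : Subgroup G} {A : Bool → Subgroup G} {a b t x : G}

/-- **`DblX` from `Dbl`.** -/
theorem exists_dblX (FT : ∀ (K : Type u) [Group K] [Finite K], Odd (Nat.card K) → Group.IsSolvable K)
    (kf : KF34.{u}) (hG : MinCex G) (tri : IsTriple x a L) (h34 : IsL34 (Bar L))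
    (h : Dbl S T P Q Z A K a b t x) (c : CT T P Q K L a) :
    DblX S T P Q Z A K a b t x (Fs G) Inn Fix := by
  have hXn : (Fs G).Normal := Trich.normal_fs
  have h2 : ∀ g, g ∈ Fs G ∨ x * g ∈ Fs G := by
    rcases LSup.dichotomy34 kf hG tri h34 with h1 | h1
    · intro g
      left
      rw [h1]; trivial
    · exact h1.2.1
  exact
    { toDbl := h
      Xn := hXn
      KX := perfect_le hXn h2 c.Kp
      perf := by
        have := hG.simple
        exact hom_trivial hG.nonab
      XS := by
        intro g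
        rcases h2 g with h3 | h3
        · exact ⟨g, h3, 1, S.one_mem, by rw [mul_one]⟩
        · refine ⟨x * (x * g) * x⁻¹, hXn.conj_mem _ h3 x, x, h.TS h.xT, ?_⟩
          rw [inv_mul_cancel_right, ← mul_assoc, h.xx, one_mul]
      Innc := Innc
      Fixc := Fixc
      InnQ := fun e he hee he1 y hy hye => c.InnQ FT h he hee he1 hy hye
      FixQ := fun e he hee he1 y hy hye => c.FixQ FT h he hee he1 hy hye }

/-- **End of BIG in a minimal counterexample.** -/
theorem false_of_big (FT : ∀ (K : Type u) [Group K] [Finite K], Odd (Nat.card K) → Group.IsSolvable K)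
    (kf : KF34.{u}) (hG : MinCex G) (tri : IsTriple x a L) (h34 : IsL34 (Bar L))
    (h : Dbl S T P Q Z A K a b t x) (c : CT T P Q K L a) (hB : BZ S T P Q (Fs G) a)
    (h1173 : ∀ (R : Sylow 2 ↥(Fs G)) (A : Subgroup ↥(Fs G)), IsStronglyClosed A (R : Subgroup ↥(Fs G)) →
      ((⨅ n : ℕ, derivedSeries ↥(centralizer (A : Set ↥(Fs G))) n).map
        (centralizer (A : Set ↥(Fs G))).subtype).Normal) : False := by
  have := hG.simple
  exact (exists_dblX FT kf hG tri h34 h c).false_of_big hB c.Kp h1173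

end Cfsg.Agent.UGT.L34T2.IF
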