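import Cfsg.Agent.UGT.L34T2.QTwo
import Cfsg.Agent.UGT.L34T2.BigMain
import Cfsg.Agent.UGT.L34T2.DblXOf
import Cfsg.Agent.UGT.L34T2.BigBZ
import Cfsg.Agent.S1173

/-!
# Node `L₃(4)`, T2, BIG: supply of `BigHyp` and `CT` from a triple; BIG does not occur
-/

set_option autoImplicit false

open Cfsg Subgroup
open Cfsg.Agent.SignalizersComponents Cfsg.Agent.Lib
open Cfsg.Agent.SignalizersComponents.IntrinsicBasic
open Cfsg.Agent.SignalizersComponents.IntrinsicIntr
open Cfsg.Agent.SignalizersComponents.PLayerAut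
open Cfsg.Agent.Intrinsic Cfsg.Agent.Intrinsic.Basic Cfsg.Agent.Intrinsic.Cen Cfsg.Agent.Intrinsic.Diag
open Cfsg.Agent.McLLyComp.Act
open Cfsg.Agent.UGT.Triple Cfsg.Agent.UGT.TriBase
open Cfsg.Agent.UGT.Iface (Bar IsL2 IsL34 IsAltOdd MinCex)
open Cfsg.Agent.UGT.L34T2.Good (Cf Elem Fun)
open Cfsg.Agent.UGT.L34T2.Small (Cx Sm)
open Cfsg.Agent.UGT.LTF.Basics (isPGroup_zpowers)
open scoped commutatorElement

namespace Cfsg.Agent.UGT.L34T2.World

universe u

variable {G : Type u} [Group G] [Finite G] {x a : G} {L T Z : Subgroup G} {A : Bool → Subgroup G} {b : G}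

local notation "Fs" => generalizedFittingSubgroup

omit [Finite G] in
/-- `¬ SMALL` is BIG -/
theorem big_of_not_sm {P Q : Subgroup G} {t : G} (h : ¬ Sm P Q Z t) :
    ∃ p ∈ P, p ∉ Z ∧ ∃ q ∈ Q, ∃ q' ∈ Q, t * q' * t⁻¹ = p * q := by
  unfold Sm at h
  push Not at h
  obtain ⟨q, hq, p, hp, q', hq', e, hpZ⟩ := h
  exact ⟨p, hp, hpZ, q', hq', q, hq, e⟩

/-- **the hypotheses of BIG** -/
theorem Frm.bigHyp (w : W1 x a L) (h : Frm x a L T Z A b) {t : G} (C : Cx T (T ⊓ L) (fix T L) Z A b a x t)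
    (htT : t ∉ T) (hbig : ¬ Sm (T ⊓ L) (fix T L) Z t) :
    ∃ K ρ, BigHyp T (T ⊓ L) (fix T L) Z A K a b t x ρ ∧ IF.CT T (T ⊓ L) (fix T L) K L a := by
  obtain ⟨K, hKL, hKc, hKK, hKQ, hPK, hcls, ρ, hρK, -, hρP, hρf, -⟩ := h.exists_K w
  refine ⟨K, ρ, { h.fr with
      aQ := h.a_fix
      aa := C.aa
      a1 := C.a1
      Ta := C.aT
      sylT := ?_
      xT := C.xT
      xx := C.xx
      xZ := C.xZ
      xA := C.xA
      rk := C.uniq
      tT := C.tn'
      tn := htT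
      t2 := C.tt
      big := big_of_not_sm hbig
      rP := hρP
      rQ := fun q hq => hKQ ρ hρK q hq
      rf := hρf
      KQ := hKQ
      PK := hPK
      cls := hcls }, ?_⟩
  · intro R hR hRa
    obtain ⟨g, hg, hle⟩ := h.syl.conj hR (fun r hr => mem_c (hRa r hr))
    refine ⟨g⁻¹, ?_, fun r hr => ?_⟩
    · exact comm_c (inv_mem hg)
    · have := hle hr
      rw [mem_cj] at this
      rwa [inv_inv]
  · exact
      { lc := ⟨h.tri.comp, h.l34⟩
        uniq := fun M hM => lone w h.tri h.l34 hM.1 (cf_of_bar fun z hz => IF.center_l34 hM.2 hz)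
        syl := h.syl
        P := rfl
        Q := rfl
        KL := hKL
        Kp := hKK.perfect
        Kc := hKc.ge }

theorem ft (K : Type u) [Group K] [Finite K] (h : Odd (Nat.card K)) : Group.IsSolvable K :=
  S0205.result h

/-- `O(X) = 1` for `X = F*(G)` -/
theorem oddCore_fs (h : MinCex G) : oddCore ↥(Fs G) = ⊥ := by
  have hs := h.simple
  rcases (inferInstance : (oddCore ↥(Fs G)).Normal).eq_bot_or_eq_top with h1 | h1
  · exact h1
  · exfalso
    have h2 : (Nat.card (oddCore ↥(Fs G))).Coprime 2 := Cores.pPrimeCore_coprime 2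
    rw [h1, Subgroup.card_top] at h2
    have h3 : Group.IsSolvable ↥(Fs G) := ft _ (Nat.coprime_two_right.mp h2)
    apply h.nonab
    exact ⟨⟨fun u v => IsSimpleGroup.comm_iff_isSolvable.mpr h3 u v⟩⟩

theorem p1173 (h : MinCex G) (R : Sylow 2 ↥(Fs G)) (A : Subgroup ↥(Fs G))
    (hA : IsStronglyClosed A (R : Subgroup ↥(Fs G))) :
    ((⨅ n : ℕ, derivedSeries ↥(centralizer (A : Set ↥(Fs G))) n).map
        (centralizer (A : Set ↥(Fs G))).subtype).Normal :=
  S1173.result (oddCore_fs h) R A hA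

/-- **BIG does not occur.** -/
theorem Frm.false_of_big (w : W1 x a L) (h : Frm x a L T Z A b) {t : G}
    (C : Cx T (T ⊓ L) (fix T L) Z A b a x t) (htT : t ∉ T) : Sm (T ⊓ L) (fix T L) Z t := by
  by_contra hbig
  obtain ⟨K, ρ, hB, hC⟩ := h.bigHyp w C htT hbig
  have hD := hB.dbl
  have hX := IF.exists_dblX ft FL34.KF.kf34 w.min h.tri h.l34 hD hC
  exact IF.false_of_big ft FL34.KF.kf34 w.min h.tri h.l34 hD hC hX.bz (p1173 w.min)

end Cfsg.Agent.UGT.L34T2.World

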