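import Cfsg.Agent.UGT.L34.TwoGp
import Cfsg.Agent.UGT.Res.Torus

/-!
# T2 small, `Q = V₄` (#14883 (7)): the centralizer of `q`, basic facts

`T ∈ Syl₂(C(a))`, `ψ : T → E` with kernel `Q = {1, a, q, aq}`, `P ≤ T` mapped isomorphically onto `U`.
`JJ ψ = QP` and `ZZ ψ P = Z(P)` as subgroups of `G`.
-/

set_option autoImplicit false

open Subgroup
open Cfsg.Agent.SporadicA.FieldFour
open Cfsg.Agent.SignalizersComponents.IntrinsicBasic
open Cfsg.Agent.Intrinsic.Basic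
open Cfsg.Agent.UGT.TriBase
open Cfsg.Agent.UGT.Res.ThH (mem_normalizer_of_le)
open Cfsg.Agent.UGT.L34 (E U ZU A1 A2 px pb Mod Elem el)

namespace Cfsg.Agent.UGT.L34T2

variable {G : Type*} [Group G]

/-- `QP` -/
def JJ {T : Subgroup G} (ψ : ↥T →* E) : Subgroup G := (U.comap ψ).map T.subtype

/-- `Z(P)` -/
def ZZ {T : Subgroup G} (ψ : ↥T →* E) (P : Subgroup ↥T) : Subgroup G :=
  (P ⊓ ZU.comap ψ).map T.subtype

/-- The situation. -/
structure HypQ (T : Subgroup G) (ψ : ↥T →* E) (P : Subgroup ↥T) (a q x : ↥T) : Prop where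
  mod : Mod ψ P
  syl : IsSyl (centralizer ({(a : G)} : Set G)) T
  aa : a * a = 1
  qq : q * q = 1
  a1 : a ≠ 1
  q1 : q ≠ 1
  qa : q ≠ a
  aq : a * q = q * a
  ha : ψ a = 1
  hq : ψ q = 1
  ker : ∀ w, ψ w = 1 → w = 1 ∨ w = a ∨ w = q ∨ w = a * q
  xq : x⁻¹ * q * x = a * q
  /-- (i) -/
  eta : ∀ n : G, n ∈ normalizer (JJ ψ : Set G) → n⁻¹ * q * n = q →
    (∃ z ∈ ZZ ψ P, n⁻¹ * a * n = a * z) → n⁻¹ * a * n = a
  /-- (ii) -/
  all : ∀ z ∈ ZZ ψ P, ∃ m : G, m ∈ normalizer (JJ ψ : Set G) ∧ m⁻¹ * (a * q) * m = a * q * z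
  /-- (iii) -/
  lf : ∀ t : ↥T, t * q = q * t → (ψ t).f = false
  /-- (iv) -/
  bar : ∀ c : G, c * a = a * c → ∀ w : ↥T, ψ w = 1 → ∀ h : c⁻¹ * w * c ∈ T, ψ ⟨c⁻¹ * w * c, h⟩ = 1
  /-- (v) -/
  fus : ∀ p ∈ P, p * p = 1 → ∃ k : G, k * a = a * k ∧ k * q = q * k ∧ ∃ z ∈ ZZ ψ P, k⁻¹ * p * k = z

section basic

variable {T : Subgroup G} {ψ : ↥T →* E} {P : Subgroup ↥T} {a q x : ↥T}

theorem mem_JJ {g : G} : g ∈ JJ ψ ↔ ∃ t : ↥T, ψ t ∈ U ∧ (t : G) = g := by
  constructor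
  · rintro ⟨t, ht, rfl⟩
    exact ⟨t, ht, rfl⟩
  · rintro ⟨t, ht, rfl⟩
    exact ⟨t, ht, rfl⟩

theorem mem_ZZ {g : G} : g ∈ ZZ ψ P ↔ ∃ t ∈ P, ψ t ∈ ZU ∧ (t : G) = g := by
  constructor
  · rintro ⟨t, ⟨h1, h2⟩, rfl⟩
    exact ⟨t, h1, h2, rfl⟩
  · rintro ⟨t, h1, h2, rfl⟩
    exact ⟨t, ⟨h1, h2⟩, rfl⟩

theorem mem_JJ_of {t : ↥T} (h : ψ t ∈ U) : (t : G) ∈ JJ ψ := mem_JJ.mpr ⟨t, h, rfl⟩

theorem ZU_le : ZU ≤ U := fun _ h => h.1

theorem ZZ_le_JJ : ZZ ψ P ≤ JJ ψ := by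
  intro g hg
  obtain ⟨t, -, h2, rfl⟩ := mem_ZZ.mp hg
  exact mem_JJ_of (ZU_le h2)

theorem JJ_le : JJ ψ ≤ T := by
  intro g hg
  obtain ⟨t, -, rfl⟩ := mem_JJ.mp hg
  exact t.2

/-- every element of `ZU` is a commutator in `U` -/
theorem exists_comm_ZU {z : E} (hz : z ∈ ZU) : ∃ u ∈ U, ∃ v ∈ U, u * v * u⁻¹ * v⁻¹ = z := by
  refine L34.forall_ZU (p := fun z => ∃ u ∈ U, ∃ v ∈ U, u * v * u⁻¹ * v⁻¹ = z) (fun c => ?_) hz
  refine ⟨el 1 0 0 false false, L34.mk_mem_U _ _ _, el 0 c 0 false false, L34.mk_mem_U _ _ _, ?_⟩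
  revert c
  decide +kernel

/-- commutators of `U` are in `ZU` -/
theorem comm_mem_ZU {u v : E} (hu : u ∈ U) (hv : v ∈ U) : u * v * u⁻¹ * v⁻¹ ∈ ZU := by
  have e1 : u = ⟨u.h, false, false⟩ := by
    conv_lhs => rw [show u = ⟨u.h, u.f, u.g⟩ from rfl, hu.1, hu.2]
  have e2 : v = ⟨v.h, false, false⟩ := by
    conv_lhs => rw [show v = ⟨v.h, v.f, v.g⟩ from rfl, hv.1, hv.2]
  have h : u * v * u⁻¹ * v⁻¹ = ⟨u.h * v.h * u.h⁻¹ * v.h⁻¹, false, false⟩ := by
    rw [e1, e2]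
    rfl
  rw [h, Cfsg.Agent.StdL3.Heis.comm_eq]
  exact ⟨⟨rfl, rfl⟩, rfl, rfl⟩

/-- the centre of `U` -/
theorem mem_ZU_of_comm {u : E} (hu : u ∈ U) (h : ∀ v ∈ U, u * v = v * u) : u ∈ ZU := by
  have h1 := L34.comm_U hu (L34.mk_mem_U 1 0 0) (h _ (L34.mk_mem_U 1 0 0))
  have h2 := L34.comm_U hu (L34.mk_mem_U 0 1 0) (h _ (L34.mk_mem_U 0 1 0))
  refine ⟨hu, ?_, ?_⟩
  · change u.h.a * 1 = 0 * u.h.b at h2
    rwa [mul_one, zero_mul] at h2
  · change u.h.a * 0 = 1 * u.h.b at h1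
    rw [mul_zero, one_mul] at h1
    exact h1.symm

/-- `U = A₁ A₂` -/
theorem split_U {u : E} (hu : u ∈ U) : ∃ v ∈ A1, ∃ w ∈ A2, u = v * w := by
  refine L34.forall_U (p := fun u => ∃ v ∈ A1, ∃ w ∈ A2, u = v * w) (fun a b c => ?_) hu
  refine ⟨el 0 b c false false, ⟨⟨rfl, rfl⟩, rfl⟩, el a 0 0 false false, ⟨⟨rfl, rfl⟩, rfl⟩, ?_⟩
  revert a b c
  decide +kernel

/-- the kernel is elementary abelian and commutes with `a` and `q` -/
theorem HypQ.ker_sq (D : HypQ T ψ P a q x) {w : ↥T} (h : ψ w = 1) : w * w = 1 := by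
  rcases D.ker w h with rfl | rfl | rfl | rfl
  · exact one_mul 1
  · exact D.aa
  · exact D.qq
  · calc a * q * (a * q) = a * (q * a) * q := by group
      _ = (a * a) * (q * q) := by rw [← D.aq]; group
      _ = 1 := by rw [D.aa, D.qq, one_mul]

theorem HypQ.comm_a (D : HypQ T ψ P a q x) {w : ↥T} (h : ψ w = 1) : w * a = a * w := by
  rcases D.ker w h with rfl | rfl | rfl | rfl
  · rw [one_mul, mul_one]
  · rfl
  · exact D.aq.symm
  · rw [mul_assoc, ← D.aq]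

theorem HypQ.comm_q (D : HypQ T ψ P a q x) {w : ↥T} (h : ψ w = 1) : w * q = q * w := by
  rcases D.ker w h with rfl | rfl | rfl | rfl
  · rw [one_mul, mul_one]
  · exact D.aq
  · rfl
  · rw [← mul_assoc, ← D.aq]

theorem HypQ.comm_ker (D : HypQ T ψ P a q x) {w w' : ↥T} (h : ψ w = 1) (h' : ψ w' = 1) :
    w * w' = w' * w := by
  rcases D.ker w' h' with rfl | rfl | rfl | rfl
  · rw [one_mul, mul_one]
  · exact D.comm_a h
  · exact D.comm_q h
  · rw [← mul_assoc, D.comm_a h, mul_assoc, D.comm_q h, mul_assoc]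

/-- elements of `QP` commute with the kernel -/
theorem HypQ.comm_of_mem (D : HypQ T ψ P a q x) {t w : ↥T} (h : ψ t ∈ U) (hw : ψ w = 1) :
    t * w = w * t := by
  obtain ⟨p, hp, v, hv, rfl⟩ := D.mod.split h
  rw [mul_assoc, D.comm_ker hv hw, ← mul_assoc, D.mod.comm p hp w hw, mul_assoc]

/-- elements of `V` with images in `A` -/
theorem HypQ.elem_comap (D : HypQ T ψ P a q x) {A : Subgroup E} (hA : Elem A) (hAU : A ≤ U) :
    Elem (A.comap ψ) := by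
  constructor
  · intro t ht
    obtain ⟨p, hp, w, hw, rfl⟩ := D.mod.split (hAU ht)
    have h1 : ψ p ∈ A := by
      have h2 : ψ (p * w) ∈ A := ht
      rwa [map_mul, hw, mul_one] at h2
    have h3 : p * p = 1 := D.mod.inj _ (P.mul_mem hp hp) (by rw [map_mul, hA.1 _ h1])
    calc p * w * (p * w) = p * (w * p) * w := by group
      _ = (p * p) * (w * w) := by rw [← D.mod.comm p hp w hw]; group
      _ = 1 := by rw [h3, D.ker_sq hw, one_mul]
  · intro t ht s hs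
    obtain ⟨p, hp, w, hw, rfl⟩ := D.mod.split (hAU ht)
    obtain ⟨p', hp', w', hw', rfl⟩ := D.mod.split (hAU hs)
    have h1 : ψ p ∈ A := by
      have h2 : ψ (p * w) ∈ A := ht
      rwa [map_mul, hw, mul_one] at h2
    have h1' : ψ p' ∈ A := by
      have h2 : ψ (p' * w') ∈ A := hs
      rwa [map_mul, hw', mul_one] at h2
    have h3 : p * p' = p' * p := D.mod.ext (P.mul_mem hp hp') (P.mul_mem hp' hp)
      (by rw [map_mul, hA.2 _ h1 _ h1', map_mul])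
    calc p * w * (p' * w') = p * (w * p') * w' := by group
      _ = (p * p') * (w * w') := by rw [← D.mod.comm p' hp' w hw]; group
      _ = (p' * p) * (w' * w) := by rw [h3, D.comm_ker hw hw']
      _ = p' * (p * w') * w := by group
      _ = p' * (w' * p) * w := by rw [D.mod.comm p hp w' hw']
      _ = _ := by group

/-- **`J(T)`**: if `n⁻¹ (QP) n ≤ T` then `n` normalizes `QP`. -/
theorem HypQ.norm_JJ [Finite G] (D : HypQ T ψ P a q x) {n : G} (hn : ∀ g ∈ JJ ψ, n⁻¹ * g * n ∈ T) :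
    n ∈ normalizer (JJ ψ : Set G) := by
  have key : ∀ A : Subgroup E, Elem A → A ≤ U → Nat.card A = 16 → ∀ t : ↥T, ψ t ∈ A →
      n⁻¹ * (t : G) * n ∈ JJ ψ := by
    intro A hA hAU h16 t ht
    set V : Subgroup ↥T := A.comap ψ with hV
    have hVe : Elem V := D.elem_comap hA hAU
    set V' : Subgroup G := cj n⁻¹ (V.map T.subtype) with hV'
    have hV'T : V' ≤ T := by
      intro g hg
      rw [hV', mem_cj, inv_inv] at hg
      obtain ⟨s, hs, hsg⟩ := hg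
      have h1 := hn (s : G) (mem_JJ_of (hAU hs))
      have h2 : n⁻¹ * (s : G) * n = g := by
        change (s : G) = _ at hsg
        rw [hsg]; group
      rwa [h2] at h1
    set W : Subgroup ↥T := V'.subgroupOf T with hW
    have hV'e : Elem V' := L34.elem_map (L34.elem_map hVe T.subtype) _
    have hWe : Elem W := by
      constructor
      · intro u hu
        exact Subtype.ext (hV'e.1 _ hu)
      · intro u hu v hv
        exact Subtype.ext (hV'e.2 _ hu _ hv)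
    have hcW : Nat.card W = Nat.card V := by
      have h1 : Nat.card W = Nat.card V' := Nat.card_congr (subgroupOfEquivOfLe hV'T).toEquiv
      rw [h1, hV', card_cj, card_map_of_injective T.subtype_injective]
    have hcV : Nat.card V = Nat.card ψ.ker * 16 := by
      rw [L34.card_eq_inf_mul_map ψ V]
      have h1 : (V ⊓ ψ.ker : Subgroup ↥T) = ψ.ker := by
        apply inf_of_le_right
        intro w hw
        change ψ w ∈ A
        rw [show ψ w = 1 from hw]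
        exact A.one_mem
      have h2 : V.map ψ = A := by
        rw [hV, map_comap_eq, inf_eq_right]
        intro u hu
        obtain ⟨p, -, rfl⟩ := D.mod.surj u (hAU hu)
        exact ⟨p, rfl⟩
      rw [h1, h2, h16]
    have h16' : 16 ≤ Nat.card (W.map ψ) := by
      have h1 := L34.card_eq_inf_mul_map ψ W
      rw [hcW, hcV] at h1
      have h2 : Nat.card (W ⊓ ψ.ker : Subgroup ↥T) ≤ Nat.card ψ.ker := card_le_of_le inf_le_right
      have h3 : Nat.card ψ.ker * 16 ≤ Nat.card ψ.ker * Nat.card (W.map ψ) := by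
        rw [h1]; exact Nat.mul_le_mul_right _ h2
      exact Nat.le_of_mul_le_mul_left h3 Nat.card_pos
    have hWU : W.map ψ ≤ U := by
      rcases L34.elem_big (L34.elem_map hWe ψ) h16' with h1 | h1
      · rw [h1]; exact fun s hs => hs.1
      · rw [h1]; exact fun s hs => hs.1
    have h4 : n⁻¹ * (t : G) * n ∈ T := hn _ (mem_JJ_of (hAU ht))
    have h5 : (⟨_, h4⟩ : ↥T) ∈ W := by
      rw [hW, mem_subgroupOf, hV', mem_cj, inv_inv]
      refine ⟨t, ht, ?_⟩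
      change (t : G) = n * (n⁻¹ * (t : G) * n) * n⁻¹
      group
    exact mem_JJ.mpr ⟨⟨_, h4⟩, hWU ⟨_, h5, rfl⟩, rfl⟩
  have h1 : n⁻¹ ∈ normalizer (JJ ψ : Set G) := by
    apply mem_normalizer_of_le
    intro g hg
    obtain ⟨t, ht, rfl⟩ := mem_JJ.mp hg
    obtain ⟨v, hv, w, hw, hvw⟩ := split_U ht
    obtain ⟨p, hp, hpv⟩ := D.mod.surj v hv.1
    have h2 := key A1 L34.elem_A1 (fun s hs => hs.1) L34.card_A1 p (by rw [hpv]; exact hv)
    have h3 := key A2 L34.elem_A2 (fun s hs => hs.1) L34.card_A2 (p⁻¹ * t) (by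
      rw [map_mul, map_inv, hpv, hvw, inv_mul_cancel_left]; exact hw)
    have h4 := mul_mem h2 h3
    have h5 : n⁻¹ * (p : G) * n * (n⁻¹ * ((p⁻¹ * t : ↥T) : G) * n) = n⁻¹ * (t : G) * n⁻¹⁻¹ := by
      rw [inv_inv]
      push_cast
      group
    rwa [h5] at h4
  have h2 := inv_mem h1
  rwa [inv_inv] at h2

/-- elements of `N(QP)` map `Z(P)` into itself -/
theorem HypQ.conj_ZZ (D : HypQ T ψ P a q x) {n : G} (hn : n ∈ normalizer (JJ ψ : Set G)) {z : G}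
    (hz : z ∈ ZZ ψ P) : n⁻¹ * z * n ∈ ZZ ψ P := by
  have hn' : ∀ g ∈ JJ ψ, n⁻¹ * g * n ∈ JJ ψ := by
    intro g hg
    have h1 := (mem_normalizer_iff.mp (inv_mem hn) g).mp hg
    rwa [inv_inv] at h1
  obtain ⟨t, htP, htZ, rfl⟩ := mem_ZZ.mp hz
  obtain ⟨u, hu, v, hv, huv⟩ := exists_comm_ZU htZ
  obtain ⟨p, hp, rfl⟩ := D.mod.surj u hu
  obtain ⟨p', hp', rfl⟩ := D.mod.surj v hv
  have ht : t = p * p' * p⁻¹ * p'⁻¹ := by
    apply D.mod.ext htP
    · exact P.mul_mem (P.mul_mem (P.mul_mem hp hp') (P.inv_mem hp)) (P.inv_mem hp')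
    · rw [← huv]; simp only [map_mul, map_inv]
  obtain ⟨s, hs, hsg⟩ := mem_JJ.mp (hn' _ (mem_JJ_of hu))
  obtain ⟨s', hs', hsg'⟩ := mem_JJ.mp (hn' _ (mem_JJ_of hv))
  obtain ⟨r, hr, w, hw, rfl⟩ := D.mod.split hs
  obtain ⟨r', hr', w', hw', rfl⟩ := D.mod.split hs'
  refine mem_ZZ.mpr ⟨r * r' * r⁻¹ * r'⁻¹, ?_, ?_, ?_⟩
  · exact P.mul_mem (P.mul_mem (P.mul_mem hr hr') (P.inv_mem hr)) (P.inv_mem hr')
  · rw [map_mul, map_mul, map_mul, map_inv, map_inv]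
    exact comm_mem_ZU (D.mod.mem r hr) (D.mod.mem r' hr')
  · have h1 : r * r' * r⁻¹ * r'⁻¹ = (r * w) * (r' * w') * (r * w)⁻¹ * (r' * w')⁻¹ := by
      have c1 := D.mod.comm r hr w hw
      have c2 := D.mod.comm r hr w' hw'
      have c3 := D.mod.comm r' hr' w hw
      have c4 := D.mod.comm r' hr' w' hw'
      have c5 := D.comm_ker hw hw'
      have e1 : (r * w) * (r' * w') = (r * r') * (w * w') := by
        calc (r * w) * (r' * w') = r * (w * r') * w' := by group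
          _ = r * (r' * w) * w' := by rw [c3]
          _ = _ := by group
      have e2 : (r' * w') * (r * w) = (r' * r) * (w * w') := by
        calc (r' * w') * (r * w) = r' * (w' * r) * w := by group
          _ = r' * (r * w') * w := by rw [c2]
          _ = (r' * r) * (w' * w) := by group
          _ = _ := by rw [c5]
      have e3 : (r * w) * (r' * w') * (r * w)⁻¹ * (r' * w')⁻¹ =
          ((r * w) * (r' * w')) * ((r' * w') * (r * w))⁻¹ := by group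
      rw [e3, e1, e2]
      group
    rw [h1, ht]
    push_cast
    push_cast at hsg hsg'
    rw [hsg, hsg']
    group

/-- central elements of `QP` -/
theorem HypQ.central_JJ (D : HypQ T ψ P a q x) {t : ↥T} (ht : ψ t ∈ U)
    (hc : ∀ s : ↥T, ψ s ∈ U → t * s = s * t) : ∃ w : ↥T, ψ w = 1 ∧ ∃ p ∈ P, ψ p ∈ ZU ∧ t = w * p := by
  obtain ⟨p, hp, w, hw, rfl⟩ := D.mod.split ht
  refine ⟨w, hw, p, hp, ?_, D.mod.comm p hp w hw⟩
  apply mem_ZU_of_comm (D.mod.mem p hp)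
  intro v hv
  obtain ⟨s, hs, rfl⟩ := D.mod.surj v hv
  have h1 := congrArg ψ (hc s hv)
  simp only [map_mul, hw, mul_one] at h1
  exact h1

/-- `a` is mapped to `a z` or `a q z` by the elements of `N(QP) ∩ C(q)` -/
theorem HypQ.conj_a (D : HypQ T ψ P a q x) {n : G} (hn : n ∈ normalizer (JJ ψ : Set G))
    (hq : n⁻¹ * q * n = q) : ∃ z ∈ ZZ ψ P, n⁻¹ * a * n = a * z ∨ n⁻¹ * a * n = a * q * z := by
  have hn' : ∀ g ∈ JJ ψ, n⁻¹ * g * n ∈ JJ ψ := by
    intro g hg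
    have h1 := (mem_normalizer_iff.mp (inv_mem hn) g).mp hg
    rwa [inv_inv] at h1
  obtain ⟨t, ht, hta⟩ := mem_JJ.mp (hn' a (mem_JJ_of (by rw [D.ha]; exact U.one_mem)))
  obtain ⟨w, hw, p, hp, hpZ, htw⟩ := D.central_JJ ht (by
    intro s hs
    obtain ⟨r, hr, hrs⟩ : ∃ r ∈ JJ ψ, (s : G) = n⁻¹ * r * n := by
      refine ⟨n * s * n⁻¹, (mem_normalizer_iff.mp hn s).mp (mem_JJ_of hs), by group⟩
    obtain ⟨r, hrU, rfl⟩ := mem_JJ.mp hr
    have h1 := D.comm_of_mem hrU D.ha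
    apply Subtype.ext
    push_cast
    rw [hta, hrs]
    have h2 : (r : G) * a = a * r := congrArg Subtype.val h1
    calc n⁻¹ * (a : G) * n * (n⁻¹ * r * n) = n⁻¹ * (a * r) * n := by group
      _ = n⁻¹ * (r * a) * n := by rw [h2]
      _ = _ := by group)
  have hpz : (p : G) ∈ ZZ ψ P := mem_ZZ.mpr ⟨p, hp, hpZ, rfl⟩
  -- `a` and `a q` are not conjugate into `Z`
  have hnot : ∀ u : ↥T, ψ u = 1 → u ≠ 1 → n⁻¹ * (u : G) * n ∉ ZZ ψ P := by
    intro u hu hu1 hmem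
    have h1 := D.conj_ZZ (inv_mem hn) hmem
    have h2 : n⁻¹⁻¹ * (n⁻¹ * (u : G) * n) * n⁻¹ = u := by group
    rw [h2] at h1
    obtain ⟨s, hs, -, hsu⟩ := mem_ZZ.mp h1
    have h3 : s = u := Subtype.ext hsu
    exact hu1 (D.mod.inj u (h3 ▸ hs) hu)
  have hqi : (q : G) * q = 1 := congrArg Subtype.val D.qq
  have haq1 : a * q ≠ 1 := by
    intro h
    apply D.qa
    calc q = (a * a) * q := by rw [D.aa, one_mul]
      _ = a * (a * q) := by group
      _ = a := by rw [h, mul_one]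
  rcases D.ker w hw with rfl | rfl | rfl | rfl
  · exfalso
    apply hnot a D.ha D.a1
    rw [← hta, htw, one_mul]
    exact hpz
  · exact ⟨p, hpz, Or.inl (by rw [← hta, htw]; rfl)⟩
  · exfalso
    apply hnot (a * w) (by rw [map_mul, D.ha, hw, mul_one]) haq1
    have h1 : n⁻¹ * ((a * w : ↥T) : G) * n = (n⁻¹ * a * n) * (n⁻¹ * w * n) := by
      push_cast; group
    rw [h1, hq, ← hta, htw]
    have h2 := D.mod.comm p hp w hw
    have h3 : ((w * p : ↥T) : G) * w = (p : G) := by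
      have h4 : w * p * w = p := by
        rw [← h2, mul_assoc, D.qq, mul_one]
      exact congrArg Subtype.val h4
    rw [h3]
    exact hpz
  · exact ⟨p, hpz, Or.inr (by rw [← hta, htw]; rfl)⟩

/-- elements of `T` normalize `QP` -/
theorem T_norm [Finite G] (t : ↥T) : (t : G) ∈ normalizer (JJ ψ : Set G) := by
  apply mem_normalizer_of_le
  intro g hg
  obtain ⟨s, hs, rfl⟩ := mem_JJ.mp hg
  exact mem_JJ.mpr ⟨t * s * t⁻¹, by
    rw [map_mul, map_mul, map_inv]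
    exact L34.conj_mem_U hs, rfl⟩

/-- **(H)** either `a` and `q` are conjugate under `N(QP)` or `N(QP) ∩ C(q)` centralizes `a`. -/
theorem HypQ.fix_a [Finite G] (D : HypQ T ψ P a q x)
    (hI : ¬ ∃ m : G, m ∈ normalizer (JJ ψ : Set G) ∧ m⁻¹ * a * m = q) {n : G}
    (hn : n ∈ normalizer (JJ ψ : Set G)) (hq : n⁻¹ * q * n = q) : n⁻¹ * a * n = a := by
  obtain ⟨z, hz, h | h⟩ := D.conj_a hn hq
  · exact D.eta n hn hq ⟨z, hz, h⟩
  · exfalso
    apply hI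
    obtain ⟨m, hm, hmz⟩ := D.all z hz
    have hx : (x : G)⁻¹ * q * x = a * q := congrArg Subtype.val D.xq
    refine ⟨n * m⁻¹ * (x : G)⁻¹, mul_mem (mul_mem hn (inv_mem hm)) (inv_mem (T_norm x)), ?_⟩
    calc (n * m⁻¹ * (x : G)⁻¹)⁻¹ * a * (n * m⁻¹ * (x : G)⁻¹)
        = x * (m * (n⁻¹ * a * n) * m⁻¹) * (x : G)⁻¹ := by group
      _ = x * (m * (a * q * z) * m⁻¹) * (x : G)⁻¹ := by rw [h]
      _ = x * (m * (m⁻¹ * (a * q) * m) * m⁻¹) * (x : G)⁻¹ := by rw [hmz]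
      _ = x * (a * q) * (x : G)⁻¹ := by group
      _ = x * ((x : G)⁻¹ * q * x) * (x : G)⁻¹ := by rw [hx]
      _ = q := by group

end basic

end Cfsg.Agent.UGT.L34T2
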