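import Cfsg.Agent.UGT.L34T2.CQMain

/-!
# T2 small, `Q = V₄` (#14883 (7)): `L^` is normal in `C(q)` and `C(q) ∩ C(L^) = Q`

* `Hat.out`: the statement in the finite group `H = M / W`, with the literal fields `nq`, `cq`, `nQ` of `EndV4.Cfg`.
* `hat_centralizer`: `C_H(q)` is covered by `C_M(q)`.
-/

set_option autoImplicit false

open Subgroup

namespace Cfsg.Agent.UGT.L34T2

/-- The situation in `H = M / W`. -/
structure Hat {H : Type*} [Group H] (L : Subgroup H) (a q : H) : Prop where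
  a2 : a * a = 1
  q2 : q * q = 1
  aq : a * q = q * a
  a1 : a ≠ 1
  qa : q ≠ a
  La : ∀ l ∈ L, l * a = a * l
  Lq : ∀ l ∈ L, l * q = q * l
  perf : ⁅L, L⁆ = L
  /-- perfect subgroups of `C(a)` are in `L` -/
  res : ∀ K : Subgroup H, (∀ k ∈ K, k * a = a * k) → ⁅K, K⁆ = K → K ≤ L
  na : ∀ g, g * a = a * g → ∀ l ∈ L, g * l * g⁻¹ ∈ L
  ca : ∀ g, g * a = a * g → (∀ l ∈ L, g * l = l * g) → g = 1 ∨ g = a ∨ g = q ∨ g = q * a

section

variable {H : Type*} [Group H] {L : Subgroup H} {a q : H}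

/-- conjugates of `L` inside `C(a)` -/
theorem Hat.conj_le (D : Hat L a q) {g : H} (h : ∀ l ∈ L, (g * l * g⁻¹) * a = a * (g * l * g⁻¹)) :
    ∀ l ∈ L, g * l * g⁻¹ ∈ L := by
  intro l hl
  apply D.res (L.map (MulAut.conj g).toMonoidHom) _ _ ⟨l, hl, rfl⟩
  · rintro _ ⟨k, hk, rfl⟩
    exact h k hk
  · rw [← map_commutator, D.perf]

/-- if `g L g⁻¹ ≤ L` then `g⁻¹ L g ≤ L` -/
theorem conj_inv_mem [Finite H] {g : H} (h : ∀ l ∈ L, g * l * g⁻¹ ∈ L) : ∀ l ∈ L, g⁻¹ * l * g ∈ L := by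
  intro l hl
  have hinj : Function.Injective (fun k : ↥L => (⟨g * k * g⁻¹, h k k.2⟩ : ↥L)) := by
    intro u v huv
    have h1 : g * (u : H) * g⁻¹ = g * v * g⁻¹ := congrArg Subtype.val huv
    exact Subtype.ext (mul_left_cancel (mul_right_cancel h1))
  obtain ⟨k, hk⟩ := Finite.surjective_of_injective hinj ⟨l, hl⟩
  have h1 : g * (k : H) * g⁻¹ = l := congrArg Subtype.val hk
  rw [← h1]
  have h2 : g⁻¹ * (g * (k : H) * g⁻¹) * g = k := by group
  rw [h2]
  exact k.2

/-- **Output.** -/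
theorem Hat.out [Finite H] (D : Hat L a q)
    (hI : (∃ m : H, m⁻¹ * a * m = q) ∨ ∀ g : H, g * q = q * g → g * a = a * g) :
    (∀ g, g * q = q * g → ∀ l ∈ L, g * l * g⁻¹ ∈ L) ∧
      (∀ g, g * q = q * g → (∀ l ∈ L, g * l = l * g) → g = 1 ∨ g = a ∨ g = q ∨ g = q * a) ∧
      (∀ g, (g * a * g⁻¹ = q ∨ g * a * g⁻¹ = q * a) → (g * q * g⁻¹ = a ∨ g * q * g⁻¹ = q * a) →
        ∀ l ∈ L, g * l * g⁻¹ ∈ L) := by
  have hnQ : ∀ g, (g * a * g⁻¹ = q ∨ g * a * g⁻¹ = q * a) →
      (g * q * g⁻¹ = a ∨ g * q * g⁻¹ = q * a) → ∀ l ∈ L, g * l * g⁻¹ ∈ L := by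
    intro g h1 h2
    apply D.conj_le
    intro l hl
    have e1 : (g * l * g⁻¹) * (g * a * g⁻¹) = (g * a * g⁻¹) * (g * l * g⁻¹) := by
      calc (g * l * g⁻¹) * (g * a * g⁻¹) = g * (l * a) * g⁻¹ := by group
        _ = g * (a * l) * g⁻¹ := by rw [D.La l hl]
        _ = _ := by group
    have e2 : (g * l * g⁻¹) * (g * q * g⁻¹) = (g * q * g⁻¹) * (g * l * g⁻¹) := by
      calc (g * l * g⁻¹) * (g * q * g⁻¹) = g * (l * q) * g⁻¹ := by group
        _ = g * (q * l) * g⁻¹ := by rw [D.Lq l hl]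
        _ = _ := by group
    set k := g * l * g⁻¹ with hk
    rcases h2 with h2 | h2
    · rw [h2] at e2; exact e2
    · rw [h2] at e2
      rcases h1 with h1 | h1
      · rw [h1] at e1
        have e3 : q * (k * a) = q * (a * k) := by
          calc q * (k * a) = (q * k) * a := by group
            _ = (k * q) * a := by rw [e1]
            _ = k * (q * a) := by group
            _ = q * a * k := e2
            _ = q * (a * k) := by group
        exact mul_left_cancel e3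
      · -- both equal: impossible
        exfalso
        rw [← h2] at h1
        exact D.qa (mul_left_cancel (mul_right_cancel h1)).symm
  rcases hI with ⟨m, hm⟩ | hI
  swap
  · exact ⟨fun g hg => D.na g (hI g hg), fun g hg => D.ca g (hI g hg), hnQ⟩
  have hmL : ∀ l ∈ L, m * l * m⁻¹ ∈ L := by
    apply D.conj_le
    intro l hl
    have h1 : a = m * q * m⁻¹ := by rw [← hm]; group
    rw [h1]
    calc m * l * m⁻¹ * (m * q * m⁻¹) = m * (l * q) * m⁻¹ := by group
      _ = m * (q * l) * m⁻¹ := by rw [D.Lq l hl]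
      _ = _ := by group
  have hmL' := conj_inv_mem hmL
  have hca : ∀ g, g * q = q * g → (m * g * m⁻¹) * a = a * (m * g * m⁻¹) := by
    intro g hg
    have h1 : a = m * q * m⁻¹ := by rw [← hm]; group
    rw [h1]
    calc m * g * m⁻¹ * (m * q * m⁻¹) = m * (g * q) * m⁻¹ := by group
      _ = m * (q * g) * m⁻¹ := by rw [hg]
      _ = _ := by group
  refine ⟨?_, ?_, hnQ⟩
  · intro g hg l hl
    have h1 := D.na _ (hca g hg) _ (hmL l hl)
    have h2 := hmL' _ h1
    have h3 : m⁻¹ * (m * g * m⁻¹ * (m * l * m⁻¹) * (m * g * m⁻¹)⁻¹) * m = g * l * g⁻¹ := by group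
    rwa [h3] at h2
  · have key : ∀ g, g * q = q * g → (∀ l ∈ L, g * l = l * g) →
        g = 1 ∨ g = q ∨ g = m⁻¹ * q * m ∨ g = m⁻¹ * q * m * q := by
      intro g hg hgL
      have h1 := D.ca _ (hca g hg) (by
        intro l hl
        have h2 := hgL _ (hmL' l hl)
        calc m * g * m⁻¹ * l = m * (g * (m⁻¹ * l * m)) * m⁻¹ := by group
          _ = m * ((m⁻¹ * l * m) * g) * m⁻¹ := by rw [h2]
          _ = _ := by group)
      have h2 : g = m⁻¹ * (m * g * m⁻¹) * m := by group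
      rcases h1 with h1 | h1 | h1 | h1
      · left; rw [h2, h1]; group
      · right; left; rw [h2, h1, hm]
      · right; right; left; rw [h2, h1]
      · right; right; right; rw [h2, h1, ← hm]; group
    intro g hg hgL
    have ha := key a D.aq (fun l hl => (D.La l hl).symm)
    have hq1 : a ≠ q := fun h => D.qa h.symm
    have hmq : m⁻¹ * q * m = a ∨ m⁻¹ * q * m = q * a := by
      rcases ha with h | h | h | h
      · exact absurd h D.a1
      · exact absurd h hq1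
      · exact Or.inl h.symm
      · right
        calc m⁻¹ * q * m = m⁻¹ * q * m * q * q := by rw [mul_assoc _ q q, D.q2, mul_one]
          _ = a * q := by rw [← h]
          _ = q * a := D.aq
    rcases key g hg hgL with h | h | h | h
    · exact Or.inl h
    · exact Or.inr (Or.inr (Or.inl h))
    · rcases hmq with h1 | h1
      · exact Or.inr (Or.inl (h.trans h1))
      · exact Or.inr (Or.inr (Or.inr (h.trans h1)))
    · rcases hmq with h1 | h1
      · exact Or.inr (Or.inr (Or.inr (by rw [h, h1, D.aq])))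
      · refine Or.inr (Or.inl ?_)
        rw [h, h1, mul_assoc, D.aq, ← mul_assoc, D.q2, one_mul]

end

/-! ### the passage to the quotient -/

section

variable {G : Type*} [Group G] [Finite G]

/-- the centralizer of an involution in `M / W`, `W` of odd order, is covered by the centralizer in `M` -/
theorem hat_centralizer {M W : Subgroup G} {H : Type*} [Group H] (π : ↥M →* H)
    (hπ : Function.Surjective π) (hker : ∀ m : ↥M, π m = 1 ↔ (m : G) ∈ W) (hWM : W ≤ M)
    (hW : Odd (Nat.card W)) {q : ↥M} (hq : q * q = 1) {g : H} (hg : g * π q = π q * g) :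
    ∃ m : ↥M, π m = g ∧ m * q = q * m := by
  obtain ⟨n, rfl⟩ := hπ g
  have hqq : (q : G) * q = 1 := congrArg Subtype.val hq
  have h1 : (q : G) * ((n : G) * q * (n : G)⁻¹) ∈ W := by
    have h2 : π (q * (n * q * n⁻¹)) = 1 := by
      rw [map_mul, map_mul, map_mul, hg, map_inv, mul_inv_cancel_right, ← map_mul, hq, map_one]
    exact (hker _).mp h2
  obtain ⟨w, hw, hwq⟩ := Cfsg.Agent.UGT.SL.conj_of_coset hW hqq (y := (n : G) * q * (n : G)⁻¹) (by
    calc (n : G) * q * (n : G)⁻¹ * ((n : G) * q * (n : G)⁻¹) = (n : G) * (q * q) * (n : G)⁻¹ := by group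
      _ = 1 := by rw [hqq]; group) h1
  refine ⟨⟨w, hWM hw⟩⁻¹ * n, ?_, ?_⟩
  · rw [map_mul, map_inv, (hker ⟨w, hWM hw⟩).mpr hw, inv_one, one_mul]
  · apply Subtype.ext
    change w⁻¹ * (n : G) * q = q * (w⁻¹ * n)
    calc w⁻¹ * (n : G) * q = w⁻¹ * ((n : G) * q * (n : G)⁻¹) * n := by group
      _ = w⁻¹ * (w * q * w⁻¹) * n := by rw [hwq]
      _ = q * (w⁻¹ * n) := by group

/-- **The dichotomy in `H = M / W`.** -/
theorem HypQ.hat {T : Subgroup G} {ψ : ↥T →* L34.E} {P : Subgroup ↥T} {a q x : ↥T}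
    (D : HypQ T ψ P a q x) {M W : Subgroup G} {H : Type*} [Group H] (π : ↥M →* H)
    (hπ : Function.Surjective π) (hker : ∀ m : ↥M, π m = 1 ↔ (m : G) ∈ W) (hWM : W ≤ M)
    (hW : Odd (Nat.card W)) (hNM : normalizer (JJ ψ : Set G) ≤ M)
    (hcore : Cfsg.Agent.Intrinsic.Basic.core (centralizer ({(q : G)} : Set G)) ≤ W)
    (haM : (a : G) ∈ M) (hqM : (q : G) ∈ M) :
    (∃ m : H, m⁻¹ * π ⟨a, haM⟩ * m = π ⟨q, hqM⟩) ∨
      ∀ g : H, g * π ⟨q, hqM⟩ = π ⟨q, hqM⟩ * g → g * π ⟨a, haM⟩ = π ⟨a, haM⟩ * g := by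
  rcases D.cases with ⟨m, hm, hmq⟩ | h
  · left
    refine ⟨π ⟨m, hNM hm⟩, ?_⟩
    rw [← map_inv, ← map_mul, ← map_mul]
    congr 1
    exact Subtype.ext hmq
  · right
    intro g hg
    have hqq : (⟨q, hqM⟩ : ↥M) * ⟨q, hqM⟩ = 1 := by
      apply Subtype.ext
      have h1 : (q : G) * q = 1 := congrArg Subtype.val D.qq
      exact h1
    obtain ⟨n, rfl, hnq⟩ := hat_centralizer π hπ hker hWM hW hqq hg
    obtain ⟨o, ho, c, hcq, hca, hnc⟩ := h n (congrArg Subtype.val hnq)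
    have hoM : o ∈ M := hWM (hcore ho)
    have hcM : c ∈ M := by
      have h1 : c = o⁻¹ * n := by rw [hnc]; group
      rw [h1]
      exact mul_mem (inv_mem hoM) n.2
    have h1 : n = ⟨o, hoM⟩ * ⟨c, hcM⟩ := Subtype.ext hnc
    have h2 : π n = π ⟨c, hcM⟩ := by
      rw [h1, map_mul, (hker ⟨o, hoM⟩).mpr (hcore ho), one_mul]
    rw [h2, ← map_mul, ← map_mul]
    congr 1
    exact Subtype.ext hca

end

end Cfsg.Agent.UGT.L34T2
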