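import Cfsg.Agent.UGT.L34T2.CQ
import Cfsg.Agent.UGT.SLCore

/-!
# T2 small, `Q = V₄` (#14883 (7)): the centralizer of `q`

* `HypQ.cases`: `a` is conjugate to `q` under `N(QP)`, or `C(q) = O(C(q)) C(q, a)`.
-/

set_option autoImplicit false

open Subgroup
open Cfsg.Agent.SporadicA.FieldFour
open Cfsg.Agent.SignalizersComponents.IntrinsicBasic
open Cfsg.Agent.Intrinsic.Basic
open Cfsg.Agent.UGT.TriBase
open Cfsg.Agent.UGT.Res.ThH (mem_normalizer_of_le)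
open Cfsg.Agent.UGT.L34 (E U ZU A1 A2 px pb Mod Elem el)

namespace Cfsg.Agent.UGT.L34T2

variable {G : Type*} [Group G]

section basic

variable {T : Subgroup G} {ψ : ↥T →* E} {P : Subgroup ↥T} {a q x : ↥T}

/-- `T_q = C_T(q)` -/
def Tq (q : ↥T) : Subgroup G := T ⊓ centralizer ({(q : G)} : Set G)

theorem mem_Tq {g : G} : g ∈ Tq q ↔ g ∈ T ∧ g * q = q * g := by
  rw [Tq, mem_inf, mem_centralizer_singleton_iff]

theorem HypQ.JJ_le_Tq (D : HypQ T ψ P a q x) : JJ ψ ≤ Tq q := by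
  intro g hg
  obtain ⟨t, ht, rfl⟩ := mem_JJ.mp hg
  exact mem_Tq.mpr ⟨t.2, congrArg Subtype.val (D.comm_of_mem ht D.hq)⟩

theorem HypQ.Tq_two (D : HypQ T ψ P a q x) : IsPGroup 2 ↥(Tq q) := D.syl.two.to_le inf_le_left

theorem HypQ.comm_aT (D : HypQ T ψ P a q x) {g : G} (hg : g ∈ T) : g * a = a * g :=
  mem_centralizer_singleton_iff.mp (D.syl.le hg)

/-- a normalizer of `T_q` normalizes `QP` -/
theorem HypQ.norm_of_norm_Tq [Finite G] (D : HypQ T ψ P a q x) {n : G}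
    (hn : n ∈ normalizer (Tq q : Set G)) : n ∈ normalizer (JJ ψ : Set G) := by
  apply D.norm_JJ
  intro g hg
  have h1 := (mem_normalizer_iff.mp (inv_mem hn) g).mp (D.JJ_le_Tq hg)
  rw [inv_inv] at h1
  exact h1.1

/-- `T_q` is a Sylow 2-subgroup of `C(q)` -/
theorem HypQ.isSyl_Tq [Finite G] (D : HypQ T ψ P a q x)
    (hI : ¬ ∃ m : G, m ∈ normalizer (JJ ψ : Set G) ∧ m⁻¹ * a * m = q) :
    IsSyl (centralizer ({(q : G)} : Set G)) (Tq q) := by
  obtain ⟨R, hR, hTR⟩ := exists_isSyl D.Tq_two (inf_le_right : Tq q ≤ centralizer ({(q : G)} : Set G))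
  have hRT : R ≤ Tq q := by
    by_contra hne
    obtain ⟨y, hyR, hyT, hyN⟩ := Cfsg.Agent.UGT.Res.Torus.exists_norm hR.two hTR hne
    have hyq : y * q = q * y := mem_centralizer_singleton_iff.mp (hR.le hyR)
    have hyJ := D.norm_of_norm_Tq hyN
    have hya : y⁻¹ * a * y = a := D.fix_a hI hyJ (by rw [mul_assoc, ← hyq]; group)
    have hya' : y * a = a * y := by
      calc y * a = y * (y⁻¹ * a * y) := by rw [hya]
        _ = a * y := by group
    -- the 2-group `⟨T_q, y⟩`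
    set V : Subgroup G := Tq q ⊔ zpowers y with hV
    have hVR : V ≤ R := sup_le hTR (by rw [zpowers_le]; exact hyR)
    have hV2 : IsPGroup 2 ↥V := hR.two.to_le hVR
    have hVa : V ≤ centralizer ({(a : G)} : Set G) := by
      apply sup_le
      · exact inf_le_left.trans D.syl.le
      · rw [zpowers_le]; exact mem_centralizer_singleton_iff.mpr hya'
    obtain ⟨c, hc, hVc⟩ := D.syl.conj hV2 hVa
    have hca : c * a = a * c := mem_centralizer_singleton_iff.mp hc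
    have hqV : (q : G) ∈ V := by
      apply (le_sup_left : Tq q ≤ V)
      exact mem_Tq.mpr ⟨q.2, rfl⟩
    have hwT : c⁻¹ * q * c ∈ T := mem_cj.mp (hVc hqV)
    have hw := D.bar c hca q D.hq hwT
    have hinv : ∀ u : G, c⁻¹ * q * c = u → (q : G) = c * u * c⁻¹ := by
      intro u hu
      rw [← hu]; group
    have hVT : V ≤ cj c (Tq q) := by
      intro v hv
      have hvT : c⁻¹ * v * c ∈ T := mem_cj.mp (hVc hv)
      rw [mem_cj, mem_Tq]
      refine ⟨hvT, ?_⟩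
      have hvq : v * q = q * v := mem_centralizer_singleton_iff.mp (hR.le (hVR hv))
      have hcm : (c⁻¹ * v * c) * (c⁻¹ * q * c) = (c⁻¹ * q * c) * (c⁻¹ * v * c) := by
        calc (c⁻¹ * v * c) * (c⁻¹ * q * c) = c⁻¹ * (v * q) * c := by group
          _ = c⁻¹ * (q * v) * c := by rw [hvq]
          _ = _ := by group
      have hcmT : (⟨_, hvT⟩ : ↥T) * ⟨_, hwT⟩ = ⟨_, hwT⟩ * ⟨_, hvT⟩ := Subtype.ext hcm
      rcases D.ker _ hw with h | h | h | h
      · exfalso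
        apply D.q1
        have h1 := hinv 1 (congrArg Subtype.val h)
        rw [mul_one, mul_inv_cancel] at h1
        exact Subtype.ext h1
      · exfalso
        apply D.qa
        have h1 := hinv a (congrArg Subtype.val h)
        rw [hca, mul_inv_cancel_right] at h1
        exact Subtype.ext h1
      · rw [h] at hcmT
        exact congrArg Subtype.val hcmT
      · rw [h] at hcmT
        have h1 : (⟨_, hvT⟩ : ↥T) * a = a * ⟨_, hvT⟩ := Subtype.ext (D.comm_aT hvT)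
        have h2 : (⟨_, hvT⟩ : ↥T) * q = q * ⟨_, hvT⟩ := by
          have h3 : (⟨_, hvT⟩ : ↥T) * q = (⟨_, hvT⟩ : ↥T) * (a * (a * q)) := by
            rw [← mul_assoc a a q, D.aa, one_mul]
          rw [h3]
          calc (⟨_, hvT⟩ : ↥T) * (a * (a * q)) = (⟨_, hvT⟩ : ↥T) * a * (a * q) := by group
            _ = a * (⟨_, hvT⟩ : ↥T) * (a * q) := by rw [h1]
            _ = a * ((⟨_, hvT⟩ : ↥T) * (a * q)) := by group
            _ = a * (a * q * (⟨_, hvT⟩ : ↥T)) := by rw [hcmT]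
            _ = (a * a) * q * (⟨_, hvT⟩ : ↥T) := by group
            _ = _ := by rw [D.aa, one_mul]
        exact congrArg Subtype.val h2
    have hle : Tq q ≤ V := le_sup_left
    have heq : Tq q = V := by
      apply Subgroup.eq_of_le_of_card_ge hle
      rw [← card_cj c (Tq q)]
      exact card_le_of_le hVT
    apply hyT
    rw [heq]
    exact (le_sup_right : zpowers y ≤ V) (mem_zpowers y)
  have : R = Tq q := le_antisymm hRT hTR
  rw [← this]
  exact hR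

/-- `T_q` centralizes `Z` -/
theorem HypQ.comm_Z (D : HypQ T ψ P a q x) {t z : G} (ht : t ∈ Tq q) (hz : z ∈ ZZ ψ P) :
    t * z = z * t := by
  obtain ⟨htT, htq⟩ := mem_Tq.mp ht
  obtain ⟨s, hs, hsZ, rfl⟩ := mem_ZZ.mp hz
  have h1 := D.lf ⟨t, htT⟩ (Subtype.ext htq)
  have h2 := L34.cent_g (ψ ⟨t, htT⟩) (ψ s) h1 hsZ
  have h3 : (⟨t, htT⟩ : ↥T) * s * (⟨t, htT⟩ : ↥T)⁻¹ = s := by
    apply D.mod.ext (D.mod.norm _ s hs) hs
    rw [map_mul, map_mul, map_inv, h2, mul_inv_cancel_right]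
  have h4 : (⟨t, htT⟩ : ↥T) * s = s * ⟨t, htT⟩ := by
    calc (⟨t, htT⟩ : ↥T) * s = ((⟨t, htT⟩ : ↥T) * s * (⟨t, htT⟩ : ↥T)⁻¹) * ⟨t, htT⟩ := by group
      _ = s * ⟨t, htT⟩ := by rw [h3]
  exact congrArg Subtype.val h4

/-- `T_q` centralizes `Q` -/
theorem HypQ.comm_Q (D : HypQ T ψ P a q x) {t : G} (ht : t ∈ Tq q) {w : ↥T} (hw : ψ w = 1) :
    t * w = w * t := by
  obtain ⟨htT, htq⟩ := mem_Tq.mp ht
  have hta := D.comm_aT htT
  rcases D.ker w hw with rfl | rfl | rfl | rfl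
  · simp
  · exact hta
  · exact htq
  · push_cast
    rw [← mul_assoc, hta, mul_assoc, htq, mul_assoc]

/-- **(S1)** a conjugate of `a` under `C(q)` that is central in `T_q` -/
theorem HypQ.central_conj [Finite G] (D : HypQ T ψ P a q x)
    (hI : ¬ ∃ m : G, m ∈ normalizer (JJ ψ : Set G) ∧ m⁻¹ * a * m = q) {h : G} (hq : h * q = q * h)
    (hc : ∀ t ∈ Tq q, t * (h⁻¹ * a * h) = (h⁻¹ * a * h) * t) : h⁻¹ * a * h = a := by
  have hS := D.isSyl_Tq hI
  obtain ⟨d, hd⟩ : ∃ d, d = h⁻¹ * (a : G) * h := ⟨_, rfl⟩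
  rw [← hd] at hc ⊢
  -- `T_q` and `T_q ^ h` are Sylow in `C(q) ∩ C(d)`
  have hT1 : Tq q ≤ centralizer ({(q : G)} : Set G) ⊓ centralizer ({d} : Set G) := by
    intro t ht
    exact ⟨hS.le ht, mem_centralizer_singleton_iff.mpr (hc t ht)⟩
  have hS1 : IsSyl (centralizer ({(q : G)} : Set G) ⊓ centralizer ({d} : Set G)) (Tq q) :=
    ⟨hS.two, hT1, fun R' h1 h2 h3 => hS.max R' h1 (h2.trans inf_le_left) h3⟩
  have hT2 : cj h⁻¹ (Tq q) ≤ centralizer ({(q : G)} : Set G) ⊓ centralizer ({d} : Set G) := by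
    intro t ht
    rw [mem_cj, inv_inv] at ht
    have h1 := mem_Tq.mp ht
    have h2 := D.comm_aT h1.1
    refine ⟨mem_centralizer_singleton_iff.mpr ?_, mem_centralizer_singleton_iff.mpr ?_⟩
    · calc t * q = h⁻¹ * (h * t * h⁻¹) * (h * q) := by group
        _ = h⁻¹ * ((h * t * h⁻¹) * q) * h := by rw [hq]; group
        _ = h⁻¹ * (q * (h * t * h⁻¹)) * h := by rw [h1.2]
        _ = h⁻¹ * (q * h) * t := by group
        _ = h⁻¹ * (h * q) * t := by rw [hq]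
        _ = q * t := by group
    · rw [hd]
      calc t * (h⁻¹ * a * h) = h⁻¹ * ((h * t * h⁻¹) * a) * h := by group
        _ = h⁻¹ * (a * (h * t * h⁻¹)) * h := by rw [h2]
        _ = h⁻¹ * a * h * t := by group
  obtain ⟨g, hg, hgT⟩ := hS1.conj (isPGroup_cj hS.two) hT2
  have heq : cj h⁻¹ (Tq q) = cj g (Tq q) := by
    apply Subgroup.eq_of_le_of_card_ge hgT
    rw [card_cj, card_cj]
  have hgd : g * d = d * g := mem_centralizer_singleton_iff.mp hg.2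
  have hgq : g * q = q * g := mem_centralizer_singleton_iff.mp hg.1
  have hn : h * g ∈ normalizer (Tq q : Set G) := by
    rw [mem_normalizer_iff_cj, cj_mul, ← heq, ← cj_mul, mul_inv_cancel]
    ext u
    rw [mem_cj]; simp
  have h1 := D.fix_a hI (D.norm_of_norm_Tq hn) (by
    calc (h * g)⁻¹ * q * (h * g) = g⁻¹ * h⁻¹ * (q * h) * g := by group
      _ = g⁻¹ * h⁻¹ * (h * q) * g := by rw [hq]
      _ = g⁻¹ * (q * g) := by group
      _ = g⁻¹ * (g * q) := by rw [hgq]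
      _ = q := by group)
  calc d = g⁻¹ * (g * d) := by group
    _ = g⁻¹ * (d * g) := by rw [hgd]
    _ = g⁻¹ * (h⁻¹ * a * h) * g := by rw [hd]; group
    _ = (h * g)⁻¹ * a * (h * g) := by group
    _ = a := h1

/-- **(S2)** a conjugate of `a` under `C(q)` in `QP` -/
theorem HypQ.JJ_conj [Finite G] (D : HypQ T ψ P a q x)
    (hI : ¬ ∃ m : G, m ∈ normalizer (JJ ψ : Set G) ∧ m⁻¹ * a * m = q) {h : G} (hq : h * q = q * h)
    (hJ : h⁻¹ * a * h ∈ JJ ψ) : h⁻¹ * a * h = a := by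
  obtain ⟨t, ht, hth⟩ := mem_JJ.mp hJ
  obtain ⟨p, hp, w, hw, rfl⟩ := D.mod.split ht
  have haa : (a : G) * a = 1 := congrArg Subtype.val D.aa
  have htt : (p * w) * (p * w) = 1 := by
    apply Subtype.ext
    push_cast
    push_cast at hth
    rw [hth]
    calc h⁻¹ * (a : G) * h * (h⁻¹ * a * h) = h⁻¹ * (a * a) * h := by group
      _ = 1 := by rw [haa]; group
  obtain ⟨hp2, -⟩ := D.mod.sq_split hp hw htt
  obtain ⟨k, hka, hkq, z, hz, hkz⟩ := D.fus p hp hp2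
  have hkw : k * w = w * k := by
    rcases D.ker w hw with rfl | rfl | rfl | rfl
    · simp
    · exact hka
    · exact hkq
    · push_cast
      rw [← mul_assoc, hka, mul_assoc, hkq, mul_assoc]
  have hconj : (h * k)⁻¹ * a * (h * k) = z * w := by
    calc (h * k)⁻¹ * a * (h * k) = k⁻¹ * (h⁻¹ * a * h) * k := by group
      _ = k⁻¹ * ((p : G) * w) * k := by rw [← hth]; rfl
      _ = k⁻¹ * p * (w * k) := by group
      _ = k⁻¹ * p * (k * w) := by rw [hkw]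
      _ = (k⁻¹ * p * k) * w := by group
      _ = z * w := by rw [hkz]
  have hhk : (h * k) * q = q * (h * k) := by
    rw [mul_assoc, hkq, ← mul_assoc, hq, mul_assoc]
  have h1 := D.central_conj hI hhk (by
    intro t ht
    rw [hconj]
    have h2 := D.comm_Z ht hz
    have h3 := D.comm_Q ht hw
    rw [← mul_assoc, h2, mul_assoc, h3, mul_assoc])
  rw [hconj] at h1
  -- so `z = 1`
  obtain ⟨s, hs, -, rfl⟩ := mem_ZZ.mp hz
  have h2 : s * w = a := Subtype.ext h1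
  have h3 : s = 1 := by
    apply D.mod.inj s hs
    have h4 := congrArg ψ h2
    rwa [map_mul, hw, D.ha, mul_one] at h4
  have h4 : p = 1 := by
    have h5 : (p : G) = 1 := by
      calc (p : G) = k * (k⁻¹ * p * k) * k⁻¹ := by group
        _ = 1 := by rw [hkz, h3]; simp
    exact Subtype.ext h5
  rw [← hth, h4, one_mul]
  rw [h3, one_mul] at h2
  rw [h2]

/-- **(S3)** `a` is isolated in `T_q` -/
theorem HypQ.isolated [Finite G] (D : HypQ T ψ P a q x)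
    (hI : ¬ ∃ m : G, m ∈ normalizer (JJ ψ : Set G) ∧ m⁻¹ * a * m = q) {h : G} (hq : h * q = q * h)
    (hT : h⁻¹ * a * h ∈ Tq q) : h⁻¹ * a * h = a := by
  by_cases hJ : h⁻¹ * a * h ∈ JJ ψ
  · exact D.JJ_conj hI hq hJ
  exfalso
  have hS := D.isSyl_Tq hI
  obtain ⟨d, hd⟩ : ∃ d, d = h⁻¹ * (a : G) * h := ⟨_, rfl⟩
  rw [← hd] at hJ hT
  have haa : (a : G) * a = 1 := congrArg Subtype.val D.aa
  have hdd : d * d = 1 := by
    rw [hd]
    calc h⁻¹ * (a : G) * h * (h⁻¹ * a * h) = h⁻¹ * (a * a) * h := by group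
      _ = 1 := by rw [haa]; group
  obtain ⟨hdT, hdq⟩ := mem_Tq.mp hT
  set t : ↥T := ⟨d, hdT⟩ with ht
  have htU : ψ t ∉ U := fun h1 => hJ (mem_JJ_of (t := t) h1)
  have htf : (ψ t).f = false := D.lf t (Subtype.ext hdq)
  have htg : (ψ t).g = true := by
    rcases hb : (ψ t).g with _ | _
    · exact absurd (L34.mem_U.mpr ⟨htf, hb⟩) htU
    · rfl
  have htt : ψ t * ψ t = 1 := by
    rw [← map_mul]
    have : t * t = 1 := Subtype.ext hdd
    rw [this, map_one]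
  -- conjugate `C_{T_q}(d)` into `T_q`
  have hTa : IsSyl (centralizer ({(q : G)} : Set G) ⊓ centralizer ({(a : G)} : Set G)) (Tq q) :=
    ⟨hS.two, le_inf hS.le (inf_le_left.trans D.syl.le),
      fun R' h1 h2 h3 => hS.max R' h1 (h2.trans inf_le_left) h3⟩
  set V : Subgroup G := cj h (Tq q ⊓ centralizer ({d} : Set G)) with hV
  have hV2 : IsPGroup 2 ↥V := isPGroup_cj (hS.two.to_le inf_le_left)
  have hVle : V ≤ centralizer ({(q : G)} : Set G) ⊓ centralizer ({(a : G)} : Set G) := by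
    intro v hv
    rw [hV, mem_cj, mem_inf, mem_Tq, mem_centralizer_singleton_iff] at hv
    obtain ⟨⟨-, h1⟩, h2⟩ := hv
    refine ⟨mem_centralizer_singleton_iff.mpr ?_, mem_centralizer_singleton_iff.mpr ?_⟩
    · calc v * q = h * (h⁻¹ * v * h) * (h⁻¹ * q) := by group
        _ = h * (h⁻¹ * v * h) * (h⁻¹ * (q * h) * h⁻¹) := by group
        _ = h * ((h⁻¹ * v * h) * q) * h⁻¹ := by rw [← hq]; group
        _ = h * (q * (h⁻¹ * v * h)) * h⁻¹ := by rw [h1]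
        _ = (h * q) * (h⁻¹ * v) := by group
        _ = (q * h) * (h⁻¹ * v) := by rw [hq]
        _ = q * v := by group
    · have h3 : (a : G) = h * d * h⁻¹ := by rw [hd]; group
      rw [h3]
      calc v * (h * d * h⁻¹) = h * ((h⁻¹ * v * h) * d) * h⁻¹ := by group
        _ = h * (d * (h⁻¹ * v * h)) * h⁻¹ := by rw [h2]
        _ = h * d * h⁻¹ * v := by group
  obtain ⟨c, hc, hVc⟩ := hTa.conj hV2 hVle
  have hcq : c * q = q * c := mem_centralizer_singleton_iff.mp hc.1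
  have hca : c * a = a * c := mem_centralizer_singleton_iff.mp hc.2
  -- `k = h⁻¹ c` : `d ^ k = a`
  obtain ⟨k, hk⟩ : ∃ k, k = h⁻¹ * c := ⟨_, rfl⟩
  have hki : k⁻¹ = c⁻¹ * h := by rw [hk]; group
  have hkd : k⁻¹ * d * k = a := by
    rw [hki, hd, hk]
    calc c⁻¹ * h * (h⁻¹ * a * h) * (h⁻¹ * c) = c⁻¹ * (a * c) := by group
      _ = c⁻¹ * (c * a) := by rw [hca]
      _ = a := by group
  have hkq : k * q = q * k := by
    rw [hk]
    have h1 : h⁻¹ * q = q * h⁻¹ := by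
      calc h⁻¹ * (q : G) = h⁻¹ * (q * h) * h⁻¹ := by group
        _ = h⁻¹ * (h * q) * h⁻¹ := by rw [hq]
        _ = q * h⁻¹ := by group
    rw [mul_assoc, hcq, ← mul_assoc, h1, mul_assoc]
  have hkT : ∀ v ∈ Tq q, v * d = d * v → k⁻¹ * v * k ∈ Tq q := by
    intro v hv hvd
    have h1 : h * v * h⁻¹ ∈ V := by
      rw [hV, mem_cj]
      have h2 : h⁻¹ * (h * v * h⁻¹) * h = v := by group
      rw [h2]
      exact ⟨hv, mem_centralizer_singleton_iff.mpr hvd⟩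
    have h2 := mem_cj.mp (hVc h1)
    rw [hki, hk]
    have h3 : c⁻¹ * h * v * (h⁻¹ * c) = c⁻¹ * (h * v * h⁻¹) * c := by group
    rw [h3]
    exact h2
  -- `z ^ k ∉ QP`
  have hZT : ∀ z ∈ ZZ ψ P, z ∈ Tq q := fun z hz => D.JJ_le_Tq (ZZ_le_JJ hz)
  have key : ∀ z ∈ ZZ ψ P, z ≠ 1 → k⁻¹ * z * k ∈ Tq q ∧ k⁻¹ * z * k ∉ JJ ψ := by
    intro z hz hz1
    have hzd : z * d = d * z := (D.comm_Z hT hz).symm
    refine ⟨hkT z (hZT z hz) hzd, fun hzJ => ?_⟩
    obtain ⟨s, hs, hsZ, rfl⟩ := mem_ZZ.mp hz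
    -- `d s` is conjugate to `d` under `P`
    have hss : ψ s * ψ s = 1 := L34.elem_A1.1 _ ⟨hsZ.1, hsZ.2.1⟩
    have hts : ψ t * ψ s = ψ s * ψ t := L34.cent_g _ _ htf hsZ
    obtain ⟨u, hu, hu'⟩ := L34.conj_g (ψ t) htf htg htt
    obtain ⟨v, hv, hv'⟩ := L34.conj_g (ψ t * ψ s) (by
        change xor (ψ t).f (ψ s).f = false
        rw [htf, hsZ.1.1]; rfl) (by
        change xor (ψ t).g (ψ s).g = true
        rw [htg, hsZ.1.2]; rfl) (by
        calc ψ t * ψ s * (ψ t * ψ s) = ψ t * (ψ s * ψ t) * ψ s := by group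
          _ = (ψ t * ψ t) * (ψ s * ψ s) := by rw [← hts]; group
          _ = 1 := by rw [htt, hss, one_mul])
    obtain ⟨r, hr, hrv⟩ := D.mod.surj (v * u⁻¹) (U.mul_mem hv (U.inv_mem hu))
    have hrt : r * t * r⁻¹ = t * s := by
      have h1 : t⁻¹ * (r * t * r⁻¹) = s := by
        apply D.mod.ext _ hs
        · have h2 : ψ r * ψ t * (ψ r)⁻¹ = ψ t * ψ s := by
            rw [hrv, ← hv', ← hu']; group
          simp only [map_mul, map_inv]
          rw [h2, inv_mul_cancel_left]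
        · have h2 := D.mod.norm t⁻¹ r hr
          have h3 := P.mul_mem h2 (P.inv_mem hr)
          have h4 : t⁻¹ * r * t⁻¹⁻¹ * r⁻¹ = t⁻¹ * (r * t * r⁻¹) := by group
          rwa [h4] at h3
      rw [← h1]; group
    have hrt' : (r : G) * d * (r : G)⁻¹ = d * s := congrArg Subtype.val hrt
    have hrq : (r : G) * q = q * r := congrArg Subtype.val (D.mod.comm r hr q D.hq)
    -- `a s^k = a ^ (..)`
    have h5 : (k⁻¹ * (r : G)⁻¹ * k)⁻¹ * (a : G) * (k⁻¹ * (r : G)⁻¹ * k) = a * (k⁻¹ * s * k) := by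
      calc (k⁻¹ * (r : G)⁻¹ * k)⁻¹ * (a : G) * (k⁻¹ * (r : G)⁻¹ * k)
          = k⁻¹ * (r * (k * a * k⁻¹) * (r : G)⁻¹) * k := by group
        _ = k⁻¹ * (r * (k * (k⁻¹ * d * k) * k⁻¹) * (r : G)⁻¹) * k := by rw [hkd]
        _ = k⁻¹ * (r * d * (r : G)⁻¹) * k := by group
        _ = k⁻¹ * (d * s) * k := by rw [hrt']
        _ = (k⁻¹ * d * k) * (k⁻¹ * s * k) := by group
        _ = a * (k⁻¹ * s * k) := by rw [hkd]
    have hrq' : (r : G)⁻¹ * q = q * (r : G)⁻¹ := by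
      calc (r : G)⁻¹ * q = (r : G)⁻¹ * (q * r) * (r : G)⁻¹ := by group
        _ = (r : G)⁻¹ * (r * q) * (r : G)⁻¹ := by rw [hrq]
        _ = q * (r : G)⁻¹ := by group
    have hkq' : k⁻¹ * (q : G) = q * k⁻¹ := by
      calc k⁻¹ * (q : G) = k⁻¹ * (q * k) * k⁻¹ := by group
        _ = k⁻¹ * (k * q) * k⁻¹ := by rw [hkq]
        _ = q * k⁻¹ := by group
    have h6 := D.JJ_conj hI (h := k⁻¹ * (r : G)⁻¹ * k) (by
      rw [mul_assoc, hkq, ← mul_assoc, mul_assoc k⁻¹, hrq', ← mul_assoc, hkq']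
      group) (by
      rw [h5]
      exact mul_mem (mem_JJ_of (by rw [D.ha]; exact U.one_mem)) hzJ)
    rw [h5] at h6
    have h7 : k⁻¹ * (s : G) * k = 1 := mul_eq_left.mp h6
    apply hz1
    calc (s : G) = k * (k⁻¹ * s * k) * k⁻¹ := by group
      _ = 1 := by rw [h7]; group
  -- three elements of `Z`
  obtain ⟨z1, hz1, e1⟩ := D.mod.surj (el 0 0 1 false false) (L34.mk_mem_U _ _ _)
  obtain ⟨z2, hz2, e2⟩ := D.mod.surj (el 0 0 .w false false) (L34.mk_mem_U _ _ _)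
  have hm1 : (z1 : G) ∈ ZZ ψ P := mem_ZZ.mpr ⟨z1, hz1, by rw [e1]; exact ⟨⟨rfl, rfl⟩, rfl, rfl⟩, rfl⟩
  have hm2 : (z2 : G) ∈ ZZ ψ P := mem_ZZ.mpr ⟨z2, hz2, by rw [e2]; exact ⟨⟨rfl, rfl⟩, rfl, rfl⟩, rfl⟩
  have hn1 : (z1 : G) ≠ 1 := by
    intro h1
    have h2 : z1 = 1 := Subtype.ext h1
    rw [h2, map_one] at e1
    exact absurd e1 (by decide)
  have hn2 : (z2 : G) ≠ 1 := by
    intro h1
    have h2 : z2 = 1 := Subtype.ext h1
    rw [h2, map_one] at e2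
    exact absurd e2 (by decide)
  have hn3 : (z1 : G) * z2 ≠ 1 := by
    intro h1
    have h2 : z1 * z2 = 1 := Subtype.ext h1
    have h3 := congrArg ψ h2
    rw [map_mul, e1, e2, map_one] at h3
    exact absurd h3 (by decide)
  obtain ⟨k1, j1⟩ := key _ hm1 hn1
  obtain ⟨k2, j2⟩ := key _ hm2 hn2
  obtain ⟨k3, j3⟩ := key _ (mul_mem hm1 hm2) hn3
  have hlab : ∀ g : G, g ∈ Tq q → g ∉ JJ ψ → ∃ s : ↥T, (s : G) = g ∧ (ψ s).f = false ∧ (ψ s).g = true := by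
    intro g hg hgJ
    obtain ⟨hgT, hgq⟩ := mem_Tq.mp hg
    refine ⟨⟨g, hgT⟩, rfl, D.lf _ (Subtype.ext hgq), ?_⟩
    rcases hb : (ψ ⟨g, hgT⟩).g with _ | _
    · exact absurd (mem_JJ_of (t := ⟨g, hgT⟩)
        (L34.mem_U.mpr ⟨D.lf _ (Subtype.ext hgq), hb⟩)) hgJ
    · rfl
  obtain ⟨s1, hs1, f1, g1⟩ := hlab _ k1 j1
  obtain ⟨s2, hs2, f2, g2⟩ := hlab _ k2 j2
  apply j3
  have h8 : k⁻¹ * ((z1 : G) * z2) * k = ((s1 * s2 : ↥T) : G) := by
    push_cast
    rw [hs1, hs2]; group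
  rw [h8]
  apply mem_JJ_of
  rw [map_mul]
  exact ⟨by change xor _ _ = false; rw [f1, f2]; rfl, by change xor _ _ = false; rw [g1, g2]; rfl⟩

/-- **The dichotomy.** -/
theorem HypQ.cases [Finite G] (D : HypQ T ψ P a q x) :
    (∃ m : G, m ∈ normalizer (JJ ψ : Set G) ∧ m⁻¹ * a * m = q) ∨
      ∀ g : G, g * q = q * g → ∃ o ∈ core (centralizer ({(q : G)} : Set G)), ∃ c : G,
        c * q = q * c ∧ c * a = a * c ∧ g = o * c := by
  by_cases hI : ∃ m : G, m ∈ normalizer (JJ ψ : Set G) ∧ m⁻¹ * a * m = q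
  · exact Or.inl hI
  right
  have hS := D.isSyl_Tq hI
  obtain ⟨S, hST⟩ := hS.exists_sylow
  have haa : (a : G) * a = 1 := congrArg Subtype.val D.aa
  have haC : (a : G) ∈ centralizer ({(q : G)} : Set G) :=
    mem_centralizer_singleton_iff.mpr (congrArg Subtype.val D.aq)
  have hmS : ∀ u : ↥(centralizer ({(q : G)} : Set G)), u ∈ S ↔ (u : G) ∈ Tq q := by
    intro u
    rw [← hST, mem_map]
    constructor
    · intro h; exact ⟨u, h, rfl⟩
    · rintro ⟨v, hv, hvu⟩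
      have : v = u := Subtype.ext hvu
      rwa [← this]
  have ha2 : orderOf (⟨a, haC⟩ : ↥(centralizer ({(q : G)} : Set G))) = 2 := by
    apply orderOf_eq_prime
    · rw [pow_two]; exact Subtype.ext haa
    · intro h
      have h1 : (a : G) = 1 := congrArg Subtype.val h
      exact D.a1 (Subtype.ext h1)
  have haS : (⟨a, haC⟩ : ↥(centralizer ({(q : G)} : Set G))) ∈ S := by
    rw [hmS]
    exact mem_Tq.mpr ⟨a.2, congrArg Subtype.val D.aq⟩
  obtain ⟨N, hN, hNodd, hNc⟩ := Cfsg.Agent.S0215.result S ⟨a, haC⟩ ha2 haS (by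
    intro g hg
    rw [hmS] at hg
    apply Subtype.ext
    have h1 := D.isolated hI (h := (g : G)⁻¹) (by
      have := mem_centralizer_singleton_iff.mp (inv_mem g.2)
      exact this) (by rw [inv_inv]; exact hg)
    rw [inv_inv] at h1
    exact h1)
  have hNcore : N ≤ Cfsg.oddCore ↥(centralizer ({(q : G)} : Set G)) :=
    Cfsg.Agent.Lib.Cores.le_pPrimeCore hN (Nat.coprime_two_right.mpr hNodd)
  intro g hg
  have hgC : g ∈ centralizer ({(q : G)} : Set G) := mem_centralizer_singleton_iff.mpr hg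
  have h1 := hNc ⟨g, hgC⟩
  have h2 : (⟨a, haC⟩ : ↥(centralizer ({(q : G)} : Set G))) * ⟨a, haC⟩ = 1 := Subtype.ext haa
  have h2i : (⟨a, haC⟩ : ↥(centralizer ({(q : G)} : Set G)))⁻¹ = ⟨a, haC⟩ :=
    inv_eq_of_mul_eq_one_left h2
  obtain ⟨w, hw, hwa⟩ := Cfsg.Agent.UGT.SL.conj_of_coset hNodd h2
    (y := ⟨g, hgC⟩ * ⟨a, haC⟩ * ⟨g, hgC⟩⁻¹) (by
      calc (⟨g, hgC⟩ : ↥(centralizer ({(q : G)} : Set G))) * ⟨a, haC⟩ * (⟨g, hgC⟩)⁻¹ *
          (⟨g, hgC⟩ * ⟨a, haC⟩ * (⟨g, hgC⟩)⁻¹) =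
          ⟨g, hgC⟩ * (⟨a, haC⟩ * ⟨a, haC⟩) * (⟨g, hgC⟩)⁻¹ := by group
        _ = 1 := by rw [h2]; group) (by
      have h3 : (⟨a, haC⟩ : ↥(centralizer ({(q : G)} : Set G))) *
          (⟨g, hgC⟩ * ⟨a, haC⟩ * (⟨g, hgC⟩)⁻¹) =
          ⟨a, haC⟩ * ⟨g, hgC⟩ * (⟨a, haC⟩)⁻¹ * (⟨g, hgC⟩)⁻¹ := by rw [h2i]; group
      rw [h3]
      exact h1)
  have hwa' : (w : G) * a * (w : G)⁻¹ = g * a * g⁻¹ := congrArg Subtype.val hwa
  refine ⟨w, ⟨w, hNcore hw, rfl⟩, (w : G)⁻¹ * g, ?_, ?_, by group⟩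
  · have h4 := mem_centralizer_singleton_iff.mp (inv_mem w.2)
    have h4' : (w : G)⁻¹ * q = q * (w : G)⁻¹ := h4
    rw [mul_assoc, hg, ← mul_assoc, h4', mul_assoc]
  · calc (w : G)⁻¹ * g * a = (w : G)⁻¹ * (g * a * g⁻¹) * g := by group
      _ = (w : G)⁻¹ * ((w : G) * a * (w : G)⁻¹) * g := by rw [hwa']
      _ = a * ((w : G)⁻¹ * g) := by group

end basic

end Cfsg.Agent.UGT.L34T2
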