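import Cfsg.Agent.Transfer.FrobeniusFusion
import Mathlib.GroupTheory.FixedPointFree

/-!
# UGT, node N2 (`L₃(4)`), `T < S`, `|Q| = 4` : the END of (7) (helper235, text of helper231)

`dEight` : a finite group with `C(a)` dihedral of order 8, `a` not conjugate to the noncentral
involution `x` and no fusion in the other four-group `{1, a, q, qa}` has a normal 2-complement.
`false_of` : the configuration of (7) END is impossible.
-/

set_option autoImplicit false
set_option linter.unusedSimpArgs false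

namespace Cfsg.Agent.UGT.L34T2.EndV4

open Subgroup

/-- `C(a) = ⟨q, x⟩` is dihedral of order 8 -/
structure DD {X : Type*} [Group X] (a q x : X) : Prop where
  a2 : a * a = 1
  q2 : q * q = 1
  x2 : x * x = 1
  aq : a * q = q * a
  xa : x * a = a * x
  xq : x * q = q * a * x
  a1 : a ≠ 1
  cen : ∀ g, g * a = a * g → g = 1 ∨ g = a ∨ g = q ∨ g = q * a ∨ g = x ∨ g = a * x ∨
    g = q * x ∨ g = q * a * x

section

variable {X : Type*} [Group X] {a q x : X}

/-- the list of the elements of `⟨q, x⟩` -/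
def Li (a q x g : X) : Prop :=
  g = 1 ∨ g = a ∨ g = q ∨ g = q * a ∨ g = x ∨ g = a * x ∨ g = q * x ∨ g = q * a * x

namespace DD

variable (D : DD a q x)

include D

theorem ax : a * x = x * a := D.xa.symm

theorem a_a (g : X) : a * (a * g) = g := by rw [← mul_assoc, D.a2, one_mul]

theorem q_q (g : X) : q * (q * g) = g := by rw [← mul_assoc, D.q2, one_mul]

theorem x_x (g : X) : x * (x * g) = g := by rw [← mul_assoc, D.x2, one_mul]

theorem a_q (g : X) : a * (q * g) = q * (a * g) := by rw [← mul_assoc, D.aq, mul_assoc]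

theorem x_a (g : X) : x * (a * g) = a * (x * g) := by rw [← mul_assoc, D.xa, mul_assoc]

theorem x_q (g : X) : x * (q * g) = q * (a * (x * g)) := by
  rw [← mul_assoc, D.xq, mul_assoc, mul_assoc]

theorem xq' : x * q = q * (a * x) := by rw [D.xq, mul_assoc]

theorem q_ne_one : q ≠ 1 := by
  intro h
  have h1 := D.xq
  rw [h, mul_one, one_mul] at h1
  exact D.a1 (right_eq_mul.1 h1)

theorem x_ne_one : x ≠ 1 := by
  intro h
  have h1 := D.xq
  rw [h, mul_one, one_mul] at h1
  exact D.a1 (left_eq_mul.1 h1)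

theorem q_ne_a : q ≠ a := by
  intro h
  have h1 := D.xq
  rw [h, D.a2, one_mul, D.xa] at h1
  exact D.a1 (mul_eq_right.1 h1)

theorem comm_a {g : X} (h : Li a q x g) : g * a = a * g := by
  rcases h with rfl | rfl | rfl | rfl | rfl | rfl | rfl | rfl <;>
    simp only [mul_assoc, D.a2, D.q2, D.x2, D.aq, D.xa, D.a_a, D.q_q, D.x_x, D.a_q, D.x_a, D.x_q,
      D.xq', mul_one, one_mul]

theorem li_iff {g : X} : Li a q x g ↔ g * a = a * g := ⟨D.comm_a, D.cen g⟩

theorem sq {g : X} (h : Li a q x g) : g * g = 1 ∨ g * g = a := by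
  rcases h with rfl | rfl | rfl | rfl | rfl | rfl | rfl | rfl <;>
    simp only [mul_assoc, D.a2, D.q2, D.x2, D.aq, D.xa, D.a_a, D.q_q, D.x_x, D.a_q, D.x_a, D.x_q,
      D.xq', mul_one, one_mul, true_or, or_true]

theorem pow_four {g : X} (h : Li a q x g) : g ^ 4 = 1 := by
  have e : g ^ 4 = (g * g) * (g * g) := by
    simp only [pow_succ, pow_zero, one_mul, mul_assoc]
  rw [e]
  rcases D.sq h with h1 | h1 <;> rw [h1]
  · rw [one_mul]
  · exact D.a2

end DD

theorem eq_one_of_odd {g : X} {n : ℕ} (h : Odd (orderOf g)) (h4 : g ^ 2 ^ n = 1) : g = 1 := by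
  have h1 : orderOf g ∣ 2 ^ n := orderOf_dvd_of_pow_eq_one h4
  have h2 : Nat.Coprime (orderOf g) (2 ^ n) := (Nat.coprime_two_right.2 h).pow_right n
  exact orderOf_eq_one_iff.1 (Nat.Coprime.eq_one_of_dvd h2 h1)

/-- an element of odd order whose square commutes with `u` commutes with `u` -/
theorem comm_of_sq {g u : X} (h : Odd (orderOf g)) (h2 : g * g * u = u * (g * g)) :
    g * u = u * g := by
  obtain ⟨k, hk⟩ := h
  have h3 : Commute (g ^ 2) u := by rw [pow_two]; exact h2
  have h4 : Commute ((g ^ 2) ^ (k + 1)) u := h3.pow_left _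
  have h5 : (g ^ 2) ^ (k + 1) = g := by
    rw [← pow_mul, show 2 * (k + 1) = orderOf g + 1 by omega, pow_succ, pow_orderOf_eq_one, one_mul]
  rw [h5] at h4
  exact h4

/-- **`C(a)` dihedral of order 8, no fusion: there is a normal 2-complement.** -/
theorem dEight [Finite X] (D : DD a q x) (nx : ∀ g : X, g * a * g⁻¹ ≠ x)
    (nq : ∀ g : X, (g * a * g⁻¹ = q ∨ g * a * g⁻¹ = q * a) →
      (g * q * g⁻¹ = a ∨ g * q * g⁻¹ = q * a) → False) :
    Cfsg.HasNormalPComplement 2 X := by
  rw [Transfer.FrobeniusFusion.hasNormalPComplement_iff_localCondition]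
  -- a Sylow subgroup that contains `C(a)`
  have hP : IsPGroup 2 (centralizer ({a} : Set X)) := by
    intro g
    refine ⟨2, Subtype.ext ?_⟩
    have h1 : (g : X) * a = a * g := (mem_centralizer_singleton_iff.1 g.2)
    exact D.pow_four (D.cen _ h1)
  obtain ⟨S, hS⟩ := hP.exists_le_sylow
  have hqS : q ∈ (S : Subgroup X) := hS (mem_centralizer_singleton_iff.2 D.aq.symm)
  have hxS : x ∈ (S : Subgroup X) := hS (mem_centralizer_singleton_iff.2 D.xa)
  have haS : a ∈ (S : Subgroup X) := hS (mem_centralizer_singleton_iff.2 rfl)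
  have hSa : ∀ s ∈ (S : Subgroup X), s * a = a * s := by
    have : Nontrivial S := ⟨⟨⟨a, haS⟩, 1, fun h => D.a1 (congrArg Subtype.val h)⟩⟩
    have := S.2.center_nontrivial
    obtain ⟨⟨z, hz⟩, hz1⟩ := exists_ne (1 : center S)
    have hzc : ∀ s ∈ (S : Subgroup X), s * (z : X) = z * s := fun s hs =>
      congrArg Subtype.val (mem_center_iff.1 hz ⟨s, hs⟩)
    have hz1' : (z : X) ≠ 1 := fun h => hz1 (Subtype.ext (Subtype.ext h))
    have hza : (z : X) = a := by
      have h1 := hzc q hqS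
      have h2 := hzc x hxS
      have h3 := D.a1
      rcases D.cen z (hzc a haS).symm with h | h | h | h | h | h | h | h
      · exact absurd h hz1'
      · exact h
      all_goals
        exfalso
        apply h3
        rw [h] at h1 h2
        simp only [mul_assoc, D.a2, D.q2, D.x2, D.aq, D.xa, D.a_a, D.q_q, D.x_x, D.a_q, D.x_a, D.x_q,
          D.xq', mul_one, one_mul, mul_right_inj, mul_eq_left, left_eq_mul, mul_eq_right,
          right_eq_mul] at h1 h2
        first
          | exact h1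
          | exact h2
    intro s hs
    rw [← hza]
    exact hzc s hs
  refine Transfer.FrobeniusFusion.localCondition_of_sylow S ?_
  intro U hU g hg hodd
  have hodd' : Odd (orderOf g) := Nat.coprime_two_right.1 hodd
  have hcj : ∀ u ∈ U, g * u * g⁻¹ ∈ U := fun u hu => (mem_normalizer_iff.1 hg u).1 hu
  have hli : ∀ u ∈ U, Li a q x u := fun u hu => D.cen _ (hSa u (hU hu))
  rw [mem_centralizer_iff]
  intro u hu
  by_contra hne
  have hne' : g * u * g⁻¹ ≠ u := fun h => hne (mul_inv_eq_iff_eq_mul.1 h).symm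
  -- `g` does not commute with `a`
  have hga : g * a * g⁻¹ ≠ a := by
    intro h
    have h2 := eq_one_of_odd (n := 2) hodd' (D.pow_four (D.cen g (mul_inv_eq_iff_eq_mul.1 h)))
    rw [h2, one_mul, inv_one, mul_one] at hne'
    exact hne' rfl
  have hga1 : g * a * g⁻¹ ≠ 1 := fun h => D.a1 (conj_eq_one_iff.1 h)
  -- all elements of `U` are involutions
  have hsq : ∀ v ∈ U, v * v ≠ a := by
    intro v hv h
    have h1 : (g * v * g⁻¹) * (g * v * g⁻¹) = g * a * g⁻¹ := by rw [← h]; group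
    rcases D.sq (hli _ (hcj v hv)) with h2 | h2
    · exact hga1 (h1.symm.trans h2)
    · exact hga (h1.symm.trans h2)
  have hne0 : a ≠ 1 := D.a1
  have hinv : ∀ v ∈ U, v = 1 ∨ v = a ∨ v = q ∨ v = q * a ∨ v = x ∨ v = a * x := by
    intro v hv
    rcases hli v hv with h | h | h | h | h | h | h | h
    · exact Or.inl h
    · exact Or.inr (Or.inl h)
    · exact Or.inr (Or.inr (Or.inl h))
    · exact Or.inr (Or.inr (Or.inr (Or.inl h)))
    · exact Or.inr (Or.inr (Or.inr (Or.inr (Or.inl h))))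
    · exact Or.inr (Or.inr (Or.inr (Or.inr (Or.inr h))))
    all_goals
      exfalso
      apply hsq v hv
      rw [h]
      simp only [mul_assoc, D.a2, D.q2, D.x2, D.aq, D.xa, D.a_a, D.q_q, D.x_x, D.a_q, D.x_a, D.x_q,
        D.xq', mul_one, one_mul]
  -- `a ∈ U`
  have hu1 : g * u * g⁻¹ ≠ 1 := by
    intro h
    rw [conj_eq_one_iff.1 h, mul_one, mul_inv_cancel] at hne'
    exact hne' rfl
  have hu0 : u ≠ 1 := fun h => hu1 (by rw [h]; group)
  have haU : a ∈ U := by
    have h1 := hcj u hu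
    have h2 := mul_mem hu h1
    have h3 := hsq _ h2
    rcases hinv u hu with h | h | h | h | h | h
    · exact absurd h hu0
    · rwa [← h]
    all_goals
      rcases hinv _ h1 with h' | h' | h' | h' | h' | h'
      · exact absurd h' hu1
      · rwa [← h']
      all_goals
        rw [h'] at h2 h3 hne'
        rw [h] at h2 h3 hne'
        simp only [mul_assoc, D.a2, D.q2, D.x2, D.aq, D.xa, D.a_a, D.q_q, D.x_x, D.a_q, D.x_a, D.x_q,
          D.xq', mul_one, one_mul, ne_eq, not_true_eq_false] at h2 h3 hne'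
      all_goals exact h2
  -- the image of `a`
  have h1 := hcj a haU
  have hq : g * a * g⁻¹ = q ∨ g * a * g⁻¹ = q * a := by
    rcases hinv _ h1 with h | h | h | h | h | h
    · exact absurd h hga1
    · exact absurd h hga
    · exact Or.inl h
    · exact Or.inr h
    · exact absurd h (nx g)
    · exfalso
      apply nx (q * g)
      have e : q * g * a * (q * g)⁻¹ = q * (g * a * g⁻¹) * q⁻¹ := by group
      have e2 : q⁻¹ = q := inv_eq_of_mul_eq_one_left D.q2
      rw [e, h, e2]
      simp only [mul_assoc, D.a2, D.q2, D.x2, D.aq, D.xa, D.a_a, D.q_q, D.x_x, D.a_q, D.x_a, D.x_q,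
        D.xq', mul_one, one_mul]
  have hqU : q ∈ U := by
    rcases hq with h | h
    · rw [← h]; exact h1
    · have h2 := mul_mem h1 haU
      rw [h, mul_assoc, D.a2, mul_one] at h2
      exact h2
  have h2 := hcj q hqU
  refine nq g hq ?_
  rcases hinv _ h2 with h | h | h | h | h | h
  · exact absurd (conj_eq_one_iff.1 h) D.q_ne_one
  · exact Or.inl h
  · exfalso
    -- `g` fixes `q`
    have h3 : g * (q * a) * g⁻¹ = q * (g * a * g⁻¹) := by
      have : g * (q * a) * g⁻¹ = (g * q * g⁻¹) * (g * a * g⁻¹) := by group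
      rw [this, h]
    rcases hq with h4 | h4
    · rw [h4, D.q2] at h3
      have h5 := conj_eq_one_iff.1 h3
      exact D.q_ne_a (by rw [← mul_one q, ← D.a2, ← mul_assoc, h5, one_mul])
    · rw [h4, D.q_q] at h3
      apply hga
      rw [mul_inv_eq_iff_eq_mul]
      apply comm_of_sq hodd'
      have h5 : (g * g) * a * (g * g)⁻¹ = g * (g * a * g⁻¹) * g⁻¹ := by group
      rw [h4, h3] at h5
      exact mul_inv_eq_iff_eq_mul.1 h5
  · exact Or.inr h
  all_goals
    exfalso
    apply hsq _ (mul_mem hqU h2)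
    rw [h]
    simp only [mul_assoc, D.a2, D.q2, D.x2, D.aq, D.xa, D.a_a, D.q_q, D.x_x, D.a_q, D.x_a, D.x_q,
      D.xq', mul_one, one_mul]

/-- an involution without fixed points inverts a normal subgroup -/
theorem inv_of_fpf [Finite X] (N : Subgroup X) [N.Normal] {e : X} (he : e * e = 1)
    (h : ∀ n ∈ N, n * e = e * n → n = 1) : ∀ n ∈ N, e * n * e = n⁻¹ := by
  have hei : e⁻¹ = e := inv_eq_of_mul_eq_one_left he
  have h1 : MonoidHom.FixedPointFree ((MulAut.conjNormal e : MulAut N) : N →* N) := by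
    intro n hn
    have h2 : e * (n : X) * e⁻¹ = n := congrArg Subtype.val hn
    exact Subtype.ext (h n n.2 (mul_inv_eq_iff_eq_mul.1 h2).symm)
  have h2 : Function.Involutive ((MulAut.conjNormal e : MulAut N) : N →* N) := by
    intro n
    apply Subtype.ext
    show e * (e * (n : X) * e⁻¹) * e⁻¹ = n
    rw [hei]
    have : e * (e * (n : X) * e) * e = (e * e) * n * (e * e) := by group
    rw [this, he, one_mul, mul_one]
  intro n hn
  have h3 := congrArg Subtype.val (congrFun (h1.coe_eq_inv_of_involutive h2) ⟨n, hn⟩)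
  have h4 : e * n * e⁻¹ = n⁻¹ := h3
  rwa [hei] at h4

end

/-- **The configuration of (7) END**: `Q = {1, a, q, qa}` centralises `L`, `x` is of type `x`, `Y =
O(C_L(x))`, `b ∈ L` inverts `Y`, `d` is an element of `O_x`. -/
structure Cfg {M : Type*} [Group M] (L Y : Subgroup M) (a q x b d : M) : Prop where
  a2 : a * a = 1
  q2 : q * q = 1
  x2 : x * x = 1
  aq : a * q = q * a
  xa : x * a = a * x
  xq : x * q = q * a * x
  a1 : a ≠ 1
  La : ∀ l ∈ L, a * l = l * a
  Lq : ∀ l ∈ L, q * l = l * q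
  bL : b ∈ L
  xb : x * b = b * x
  YL : Y ≤ L
  Y_odd : ∀ y ∈ Y, y * y = 1 → y = 1
  bY : ∀ y ∈ Y, b * y * b = y⁻¹
  b2 : b * b = 1
  xY : ∀ y ∈ Y, x * y = y * x
  /-- `C(a)`, `C(q)` and `N(Q)` normalise `L` -/
  na : ∀ g, g * a = a * g → ∀ l ∈ L, g * l * g⁻¹ ∈ L
  nq : ∀ g, g * q = q * g → ∀ l ∈ L, g * l * g⁻¹ ∈ L
  nQ : ∀ g, (g * a * g⁻¹ = q ∨ g * a * g⁻¹ = q * a) → (g * q * g⁻¹ = a ∨ g * q * g⁻¹ = q * a) →
    ∀ l ∈ L, g * l * g⁻¹ ∈ L
  /-- `C(a) ∩ C(L) = Q`, `C(q) ∩ C(L) = Q` -/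
  ca : ∀ g, g * a = a * g → (∀ l ∈ L, g * l = l * g) → g = 1 ∨ g = a ∨ g = q ∨ g = q * a
  cq : ∀ g, g * q = q * g → (∀ l ∈ L, g * l = l * g) → g = 1 ∨ g = a ∨ g = q ∨ g = q * a
  /-- `C_{Aut L}(Y) = Y⟨x⟩` -/
  aut : ∀ g, (∀ l ∈ L, g * l * g⁻¹ ∈ L) → (∀ y ∈ Y, g * y = y * g) →
    ∃ y ∈ Y, (∀ l ∈ L, (y⁻¹ * g) * l = l * (y⁻¹ * g)) ∨ ∀ l ∈ L, (y⁻¹ * g * x) * l = l * (y⁻¹ * g * x)
  d1 : d ≠ 1
  d_odd : Odd (orderOf d)
  dx : d * x = x * d
  dab : d * (a * b) = a * b * d
  dY : ∀ y ∈ Y, d * y = y * d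

namespace Cfg

variable {M : Type*} [Group M] {L Y : Subgroup M} {a q x b d : M} (H : Cfg L Y a q x b d)

/-- `C(Y) ∩ C(ab)` -/
def C1 (Y : Subgroup M) (a b : M) : Subgroup M := centralizer (Y : Set M) ⊓ centralizer {a * b}

theorem mem_C1 {Y : Subgroup M} {a b g : M} :
    g ∈ C1 Y a b ↔ (∀ y ∈ Y, g * y = y * g) ∧ g * (a * b) = a * b * g := by
  unfold C1
  rw [mem_inf, mem_centralizer_iff, mem_centralizer_singleton_iff]
  exact and_congr_left fun _ => ⟨fun h y hy => (h y hy).symm, fun h y hy => (h y hy).symm⟩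

include H

theorem ab : a * b = b * a := H.La b H.bL

theorem qb : q * b = b * q := H.Lq b H.bL

theorem a_mem : a ∈ C1 Y a b :=
  mem_C1.2 ⟨fun y hy => H.La y (H.YL hy), by rw [mul_assoc a b a, ← H.ab]⟩

theorem q_mem : q ∈ C1 Y a b :=
  mem_C1.2 ⟨fun y hy => H.Lq y (H.YL hy), by
    rw [← mul_assoc, ← H.aq, mul_assoc, H.qb, mul_assoc]⟩

theorem x_mem : x ∈ C1 Y a b :=
  mem_C1.2 ⟨H.xY, by rw [← mul_assoc, H.xa, mul_assoc, H.xb, mul_assoc]⟩

theorem d_mem : d ∈ C1 Y a b := mem_C1.2 ⟨H.dY, H.dab⟩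

theorem b_y {y : M} (hy : y ∈ Y) : b * y = y⁻¹ * b := by
  have h := H.bY y hy
  rw [← h, mul_assoc, H.b2, mul_one]

/-- the image of `b` under an element of `C(Y)` that normalises `L` -/
theorem conj_b {g : M} (hL : ∀ l ∈ L, g * l * g⁻¹ ∈ L) (hY : ∀ y ∈ Y, g * y = y * g) :
    ∃ y ∈ Y, g * b * g⁻¹ = y * y * b := by
  obtain ⟨y, hy, h⟩ := H.aut g hL hY
  refine ⟨y, hy, ?_⟩
  have e : y * b * y⁻¹ = y * y * b := by
    have h1 := H.b_y (inv_mem hy)
    rw [mul_assoc, h1, inv_inv, mul_assoc]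
  rw [← e]
  rcases h with h | h
  · have h1 := h b H.bL
    have h2 : (y⁻¹ * g) * b * (y⁻¹ * g)⁻¹ = b := by rw [h1, mul_inv_cancel_right]
    calc g * b * g⁻¹ = y * ((y⁻¹ * g) * b * (y⁻¹ * g)⁻¹) * y⁻¹ := by group
      _ = y * b * y⁻¹ := by rw [h2]
  · have h1 := h b H.bL
    have h2 : (y⁻¹ * g * x) * b * (y⁻¹ * g * x)⁻¹ = b := by rw [h1, mul_inv_cancel_right]
    have h3 : x * b * x⁻¹ = b := by rw [H.xb, mul_inv_cancel_right]
    calc g * b * g⁻¹ = y * ((y⁻¹ * g * x) * (x⁻¹ * b * x) * (y⁻¹ * g * x)⁻¹) * y⁻¹ := by group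
      _ = y * ((y⁻¹ * g * x) * b * (y⁻¹ * g * x)⁻¹) * y⁻¹ := by
        have h4 : x⁻¹ * b * x = b := by rw [mul_assoc, ← H.xb, inv_mul_cancel_left]
        rw [h4]
      _ = y * b * y⁻¹ := by rw [h2]

/-- `C_{C1}(a) = Q⟨x⟩` -/
theorem cen {g : M} (hg : g ∈ C1 Y a b) (ha : g * a = a * g) : Li a q x g := by
  obtain ⟨hY, hab⟩ := mem_C1.1 hg
  have hL := H.na g ha
  obtain ⟨y, hy, h⟩ := H.aut g hL hY
  -- `g` commutes with `b`
  have hb : g * b = b * g := by
    have h1 : a * (g * b) = a * (b * g) := by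
      rw [← mul_assoc, ← ha, mul_assoc, hab, mul_assoc]
    exact mul_left_cancel h1
  -- `y = 1`
  have hyb : y * b = b * y := by
    have e : ∀ t, (∀ l ∈ L, t * l = l * t) → g = y * t ∨ g = y * t * x → y * b = b * y := by
      intro t ht hgt
      rcases hgt with rfl | rfl
      · have h1 : y * b * t = b * y * t := by
          rw [mul_assoc, ← ht b H.bL, ← mul_assoc, hb, mul_assoc]
        exact mul_right_cancel h1
      · have h1 : y * b * (t * x) = b * y * (t * x) := by
          have h2 : b * (t * x) = t * x * b := by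
            rw [← mul_assoc, ← ht b H.bL, mul_assoc, ← H.xb, mul_assoc]
          calc y * b * (t * x) = y * (b * (t * x)) := by rw [mul_assoc]
            _ = y * t * x * b := by rw [h2]; simp only [mul_assoc]
            _ = b * (y * t * x) := hb
            _ = b * y * (t * x) := by simp only [mul_assoc]
        exact mul_right_cancel h1
    rcases h with h | h
    · exact e _ h (Or.inl (by group))
    · exact e _ h (Or.inr (by
        have hx : x⁻¹ = x := inv_eq_of_mul_eq_one_left H.x2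
        rw [mul_assoc, mul_assoc, H.x2]; group))
  have hy1 : y = 1 := by
    apply H.Y_odd y hy
    have h1 := H.b_y hy
    rw [← hyb] at h1
    have h2 := mul_right_cancel h1
    calc y * y = y⁻¹ * y := by rw [← h2]
      _ = 1 := inv_mul_cancel y
  subst hy1
  rcases h with h | h
  · rw [inv_one, one_mul] at h
    rcases H.ca g ha h with h1 | h1 | h1 | h1
    · exact Or.inl h1
    · exact Or.inr (Or.inl h1)
    · exact Or.inr (Or.inr (Or.inl h1))
    · exact Or.inr (Or.inr (Or.inr (Or.inl h1)))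
  · rw [inv_one, one_mul] at h
    have h2 : g * x * a = a * (g * x) := by rw [mul_assoc, H.xa, ← mul_assoc, ha, mul_assoc]
    have h3 : g = g * x * x := by rw [mul_assoc, H.x2, mul_one]
    rcases H.ca _ h2 h with h1 | h1 | h1 | h1 <;> rw [h1] at h3
    · rw [one_mul] at h3
      exact Or.inr (Or.inr (Or.inr (Or.inr (Or.inl h3))))
    · exact Or.inr (Or.inr (Or.inr (Or.inr (Or.inr (Or.inl h3)))))
    · exact Or.inr (Or.inr (Or.inr (Or.inr (Or.inr (Or.inr (Or.inl h3))))))
    · exact Or.inr (Or.inr (Or.inr (Or.inr (Or.inr (Or.inr (Or.inr h3))))))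

theorem DD' : DD (⟨a, H.a_mem⟩ : C1 Y a b) ⟨q, H.q_mem⟩ ⟨x, H.x_mem⟩ where
  a2 := Subtype.ext H.a2
  q2 := Subtype.ext H.q2
  x2 := Subtype.ext H.x2
  aq := Subtype.ext H.aq
  xa := Subtype.ext H.xa
  xq := Subtype.ext H.xq
  a1 := fun h => H.a1 (congrArg Subtype.val h)
  cen := by
    rintro ⟨g, hg⟩ h
    rcases H.cen hg (congrArg Subtype.val h) with h1 | h1 | h1 | h1 | h1 | h1 | h1 | h1
    · exact Or.inl (Subtype.ext h1)
    · exact Or.inr (Or.inl (Subtype.ext h1))
    · exact Or.inr (Or.inr (Or.inl (Subtype.ext h1)))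
    · exact Or.inr (Or.inr (Or.inr (Or.inl (Subtype.ext h1))))
    · exact Or.inr (Or.inr (Or.inr (Or.inr (Or.inl (Subtype.ext h1)))))
    · exact Or.inr (Or.inr (Or.inr (Or.inr (Or.inr (Or.inl (Subtype.ext h1))))))
    · exact Or.inr (Or.inr (Or.inr (Or.inr (Or.inr (Or.inr (Or.inl (Subtype.ext h1)))))))
    · exact Or.inr (Or.inr (Or.inr (Or.inr (Or.inr (Or.inr (Or.inr (Subtype.ext h1)))))))

theorem qa_ne : q ≠ a := H.DD'.q_ne_a ∘ fun h => Subtype.ext h

theorem q_ne_one : q ≠ 1 := H.DD'.q_ne_one ∘ fun h => Subtype.ext h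

/-- `C1` has a normal 2-complement -/
theorem compl [Finite M] : Cfsg.HasNormalPComplement 2 (C1 Y a b) := by
  refine dEight H.DD' ?_ ?_
  · rintro ⟨g, hg⟩ h
    have h1 : g * a * g⁻¹ = x := congrArg Subtype.val h
    -- `d` is conjugate into `C(a)`
    have h2 : g⁻¹ * d * g ∈ C1 Y a b := mul_mem (mul_mem (inv_mem hg) H.d_mem) hg
    have h3 : (g⁻¹ * d * g) * a = a * (g⁻¹ * d * g) := by
      have h4 : g * a = x * g := by rw [← h1]; group
      have h5 : g⁻¹ * x = a * g⁻¹ := by rw [← h1]; group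
      calc g⁻¹ * d * g * a = g⁻¹ * d * (g * a) := by group
        _ = g⁻¹ * (d * x) * g := by rw [h4]; group
        _ = (g⁻¹ * x) * d * g := by rw [H.dx]; group
        _ = a * (g⁻¹ * d * g) := by rw [h5]; group
    have h4 : (⟨g⁻¹ * d * g, h2⟩ : C1 Y a b) ^ 4 = 1 :=
      H.DD'.pow_four (H.DD'.cen _ (Subtype.ext h3))
    have h5 : (g⁻¹ * d * g) ^ 4 = 1 := congrArg Subtype.val h4
    have h6 : (g⁻¹ * d * g) ^ 4 = g⁻¹ * d ^ 4 * g := by
      have := conj_pow (i := 4) (a := g⁻¹) (b := d)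
      rwa [inv_inv] at this
    rw [h6] at h5
    have h7 : d ^ 4 = 1 := by
      have : d ^ 4 = g * (g⁻¹ * d ^ 4 * g) * g⁻¹ := by group
      rw [this, h5, mul_one, mul_inv_cancel]
    exact H.d1 (eq_one_of_odd (n := 2) H.d_odd h7)
  · rintro ⟨g, hg⟩ h1 h2
    have k1 : g * a * g⁻¹ = q ∨ g * a * g⁻¹ = q * a :=
      h1.imp (fun h => congrArg Subtype.val h) (fun h => congrArg Subtype.val h)
    have k2 : g * q * g⁻¹ = a ∨ g * q * g⁻¹ = q * a :=
      h2.imp (fun h => congrArg Subtype.val h) (fun h => congrArg Subtype.val h)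
    obtain ⟨hY, hab⟩ := mem_C1.1 hg
    have hL := H.nQ g k1 k2
    obtain ⟨y, hy, h⟩ := H.conj_b hL hY
    -- `a ^ g = a y⁻²`
    have h3 : (g * a * g⁻¹) * (y * y * b) = a * b := by
      rw [← h]
      have : g * a * g⁻¹ * (g * b * g⁻¹) = (g * (a * b)) * g⁻¹ := by group
      rw [this, hab, mul_inv_cancel_right]
    have h4 : (g * a * g⁻¹) * (y * y) = a := by
      rw [← mul_assoc] at h3
      exact mul_right_cancel h3
    -- `y²` commutes with `b`
    have h5 : ∀ c : M, c * b = b * c → c * (y * y) = a → y = 1 := by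
      intro c hc h6
      have h7 : b * (y * y) = y * y * b := by
        have h8 : c * (b * (y * y)) = c * (y * y * b) := by
          calc c * (b * (y * y)) = (c * b) * (y * y) := by group
            _ = b * (c * (y * y)) := by rw [hc]; group
            _ = c * (y * y) * b := by rw [h6, ← H.ab]
            _ = c * (y * y * b) := by group
        exact mul_left_cancel h8
      have h8 : b * (y * y) = (y * y)⁻¹ * b := H.b_y (mul_mem hy hy)
      rw [h7] at h8
      have h9 : y * y = (y * y)⁻¹ := mul_right_cancel h8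
      have h10 : y * y = 1 := by
        apply H.Y_odd _ (mul_mem hy hy)
        calc (y * y) * (y * y) = (y * y)⁻¹ * (y * y) := by rw [← h9]
          _ = 1 := inv_mul_cancel _
      exact H.Y_odd y hy h10
    have hqab : (q * a) * b = b * (q * a) := by
      rw [mul_assoc, H.ab, ← mul_assoc, H.qb, mul_assoc]
    rcases k1 with k1 | k1
    · rw [k1] at h4
      have := h5 q H.qb h4
      rw [this, mul_one, mul_one] at h4
      exact H.qa_ne h4
    · rw [k1] at h4
      have := h5 _ hqab h4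
      rw [this, mul_one, mul_one] at h4
      exact H.q_ne_one (mul_eq_right.1 h4)

/-- **The configuration is impossible.** -/
theorem false_of [Finite M] : False := by
  obtain ⟨N, hN, h1, h2⟩ := Transfer.NormalPComplement.hasNormalPComplement_iff.1 H.compl
  have hodd : ∀ n ∈ N, Odd (orderOf (n : C1 Y a b)) := by
    intro n hn
    have h3 : orderOf n ∣ Nat.card N := Subgroup.orderOf_dvd_natCard N hn
    exact Nat.coprime_two_right.1 (h1.coprime_dvd_left h3)
  have D := H.DD'
  set a' : C1 Y a b := ⟨a, H.a_mem⟩ with ha'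
  set q' : C1 Y a b := ⟨q, H.q_mem⟩ with hq'
  set x' : C1 Y a b := ⟨x, H.x_mem⟩ with hx'
  have fa : ∀ n ∈ N, n * a' = a' * n → n = 1 := fun n hn h =>
    eq_one_of_odd (n := 2) (hodd n hn) (D.pow_four (D.cen n h))
  have fq : ∀ n ∈ N, n * q' = q' * n → n = 1 := by
    intro n hn h
    have h3 : (n : M) * q = q * n := congrArg Subtype.val h
    have hL := H.nq _ h3
    have h4 : ((n : M) * a * (n : M)⁻¹) * q = q * ((n : M) * a * (n : M)⁻¹) := by
      have h5 : (n : M)⁻¹ * q = q * (n : M)⁻¹ := by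
        rw [inv_mul_eq_iff_eq_mul, ← mul_assoc, h3, mul_inv_cancel_right]
      calc (n : M) * a * (n : M)⁻¹ * q = n * a * ((n : M)⁻¹ * q) := by group
        _ = n * (a * q) * (n : M)⁻¹ := by rw [h5]; group
        _ = (n * q) * a * (n : M)⁻¹ := by rw [H.aq]; group
        _ = q * ((n : M) * a * (n : M)⁻¹) := by rw [h3]; group
    have h5 : ∀ l ∈ L, ((n : M) * a * (n : M)⁻¹) * l = l * ((n : M) * a * (n : M)⁻¹) := by
      intro l hl
      have h6 : (n : M)⁻¹ * l * n ∈ L := by
        have h7 : (n : M)⁻¹ * q = q * (n : M)⁻¹ := by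
          rw [inv_mul_eq_iff_eq_mul, ← mul_assoc, h3, mul_inv_cancel_right]
        have := H.nq _ h7 l hl
        rwa [inv_inv] at this
      calc (n : M) * a * (n : M)⁻¹ * l = n * (a * ((n : M)⁻¹ * l * n)) * (n : M)⁻¹ := by group
        _ = n * ((n : M)⁻¹ * l * n * a) * (n : M)⁻¹ := by rw [H.La _ h6]
        _ = l * ((n : M) * a * (n : M)⁻¹) := by group
    have hne1 : (n : M) * a * (n : M)⁻¹ ≠ 1 := fun h => H.a1 (conj_eq_one_iff.1 h)
    have key : n * a' = a' * n := by
      rcases H.cq _ h4 h5 with h6 | h6 | h6 | h6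
      · exact absurd h6 hne1
      · exact Subtype.ext (mul_inv_eq_iff_eq_mul.1 h6)
      · exfalso
        apply H.qa_ne
        have h7 : a = (n : M)⁻¹ * q * n := by rw [← h6]; group
        rw [h7, mul_assoc, ← h3, inv_mul_cancel_left]
      · apply comm_of_sq (hodd n hn)
        apply Subtype.ext
        show (n : M) * n * a = a * (n * n)
        have h7 : (n : M) * a = q * a * n := mul_inv_eq_iff_eq_mul.1 h6
        calc (n : M) * n * a = n * (n * a) := by group
          _ = (n * q) * (a * n) := by rw [h7]; group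
          _ = q * (n * a) * n := by rw [h3]; group
          _ = (q * q) * a * n * n := by rw [h7]; group
          _ = a * (n * n) := by rw [H.q2, one_mul, mul_assoc]
    exact fa n hn key
  have fqa : ∀ n ∈ N, n * (q' * a') = q' * a' * n → n = 1 := by
    intro n hn h
    have hxi : x'⁻¹ = x' := inv_eq_of_mul_eq_one_left D.x2
    have h3 : x' * n * x' ∈ N := by
      have := hN.conj_mem n hn x'
      rwa [hxi] at this
    have h4 : x' * n * x' * q' = q' * (x' * n * x') := by
      have e1 : x' * q' = q' * a' * x' := D.xq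
      have e2 : x' * (q' * a') = q' * x' := by
        rw [← mul_assoc, e1, mul_assoc, D.xa, ← mul_assoc, mul_assoc q', D.a2, mul_one]
      calc x' * n * x' * q' = x' * (n * (x' * q')) := by group
        _ = x' * (n * (q' * a')) * x' := by rw [e1]; group
        _ = (x' * (q' * a')) * n * x' := by rw [h]; group
        _ = q' * (x' * n * x') := by rw [e2]; group
    have h5 := fq _ h3 h4
    have h6 : n = x' * (x' * n * x') * x' := by
      have : x' * (x' * n * x') * x' = (x' * x') * n * (x' * x') := by group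
      rw [this, D.x2, one_mul, mul_one]
    rw [h6, h5, mul_one, D.x2]
  have i1 := inv_of_fpf N D.a2 fa
  have i2 := inv_of_fpf N D.q2 fq
  have hqa2 : (q' * a') * (q' * a') = 1 := by
    rw [mul_assoc, D.a_q, D.a2, mul_one, D.q2]
  have i3 := inv_of_fpf N hqa2 fqa
  have hN1 : ∀ n ∈ N, n = 1 := by
    intro n hn
    have h3 := i3 n hn
    have h4 : q' * a' * n * (q' * a') = q' * (a' * n * a') * q' := by
      rw [← D.aq]
      calc a' * q' * n * (a' * q') = a' * q' * n * a' * q' := by group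
        _ = q' * a' * n * a' * q' := by rw [D.aq]
        _ = q' * (a' * n * a') * q' := by group
    rw [h4, i1 n hn, i2 _ (inv_mem hn), inv_inv] at h3
    apply eq_one_of_odd (n := 1) (hodd n hn)
    rw [pow_one, pow_two]
    calc n * n = n⁻¹ * n := by rw [← h3]
      _ = 1 := inv_mul_cancel n
  have hd : (⟨d, H.d_mem⟩ : C1 Y a b) ∈ N := by
    rw [Transfer.NormalPComplement.mem_iff_coprime_orderOf' N h1 h2, Subgroup.orderOf_mk]
    exact Nat.coprime_two_right.2 H.d_odd
  exact H.d1 (congrArg Subtype.val (hN1 _ hd))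

end Cfg

end Cfsg.Agent.UGT.L34T2.EndV4
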