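import Mathlib

/-!
# Type `L₃(4)`, `T < S`, `Q = {1, a, q, q a}`: the group `H*`

`Z = {1, b, b^ρ, b^(ρ²)}`, `[Q, Z] = 1`, `ρ` centralizes `Q`, `x` interchanges `q` and `q a` and fixes `a` and `b`;
`J` a subgroup such that `N(J)` normalizes `Z` and `Q Z`, and `N(J) ∩ C(a)` normalizes `Q`.

* `eta_a`: `g ∈ N(J)` commuting with `a`, `u^g ∈ u Z` for some `u ∈ Q`: `u^g = u`.
* `eta_q`, `eta_qa`: `g ∈ N(J) ∩ C(Z) ∩ C(q)` with `a^g ∈ a Z` commutes with `a`.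
* `exists_t`: `t ∈ N(J)` with `b^t = b`, `a^t = a b`: `t` or `x t` centralizes `Z`, normalizes `q Z` and `[x, t]`
  centralizes `Q` and `Z`.
* `eta`, `all`, `centZ`: the hypotheses (i), (ii), (iii) of `CQ.HypQ`.
* `exists_s`: there is `s ∈ N(J)` commuting with `x`, `a^s = a b`, unless `x^t` is wild.
-/

set_option autoImplicit false
set_option linter.unusedSimpArgs false

open Subgroup

namespace Cfsg.Agent.UGT.L34T2.HStar

variable {G : Type*} [Group G]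

/-- conjugation -/
def cv (g u : G) : G := g * u * g⁻¹

theorem cv_def (g u : G) : cv g u = g * u * g⁻¹ := rfl

theorem cv_mul (g u v : G) : cv g (u * v) = cv g u * cv g v := by
  simp only [cv]; group

theorem cv_cv (g h u : G) : cv (g * h) u = cv g (cv h u) := by
  simp only [cv]; group

theorem cv_one (g : G) : cv g 1 = 1 := by simp [cv]

theorem cv_inv_cv (g u : G) : cv g⁻¹ (cv g u) = u := by
  simp only [cv]; group

theorem cv_cv_inv (g u : G) : cv g (cv g⁻¹ u) = u := by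
  simp only [cv]; group

theorem cv_inj {g u v : G} (h : cv g u = cv g v) : u = v := by
  rw [← cv_inv_cv g u, h, cv_inv_cv]

theorem cv_inv_eq {g u v : G} (h : cv g u = v) : cv g⁻¹ v = u := by
  rw [← h, cv_inv_cv]

theorem cv_eq_self {g u : G} : cv g u = u ↔ g * u = u * g := by
  rw [cv, mul_inv_eq_iff_eq_mul]

/-- The situation. -/
structure HS (J Q Z : Subgroup G) (a b q ρ x : G) : Prop where
  Qm : ∀ u ∈ Q, u = 1 ∨ u = a ∨ u = q ∨ u = q * a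
  aQ : a ∈ Q
  qQ : q ∈ Q
  a1 : a ≠ 1
  q1 : q ≠ 1
  qa : q ≠ a
  aa : a * a = 1
  qq : q * q = 1
  aq : a * q = q * a
  Zm : ∀ z ∈ Z, z = 1 ∨ z = b ∨ z = cv ρ b ∨ z = cv ρ (cv ρ b)
  bZ : b ∈ Z
  b1 : b ≠ 1
  Zz : ∀ z ∈ Z, z * z = 1
  bρ : cv ρ b ≠ b
  QZ : ∀ u ∈ Q, ∀ z ∈ Z, u * z = z * u
  dis : ∀ u ∈ Q, u ∈ Z → u = 1
  ρQ : ∀ u ∈ Q, cv ρ u = u
  ρJ : ρ ∈ normalizer (J : Set G)
  xJ : x ∈ normalizer (J : Set G)
  xa : cv x a = a
  xq : cv x q = q * a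
  xb : cv x b = b
  nZ : ∀ g ∈ normalizer (J : Set G), ∀ z ∈ Z, cv g z ∈ Z
  nQZ : ∀ g ∈ normalizer (J : Set G), ∀ u ∈ Q, ∃ u' ∈ Q, ∃ z ∈ Z, cv g u = u' * z
  nQ : ∀ g ∈ normalizer (J : Set G), cv g a = a → ∀ u ∈ Q, cv g u ∈ Q

section

variable {J Q Z : Subgroup G} {a b q ρ x : G}

theorem HS.zc (h : HS J Q Z a b q ρ x) {z z' : G} (hz : z ∈ Z) (hz' : z' ∈ Z) : z * z' = z' * z := by
  have h1 := h.Zz _ hz
  have h2 := h.Zz _ hz'
  have h3 := h.Zz _ (Z.mul_mem hz hz')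
  calc z * z' = (z' * z') * (z * z') * (z * z) := by rw [h1, h2, one_mul, mul_one]
    _ = z' * ((z' * z) * (z' * z)) * z := by group
    _ = z' * z := by rw [h.Zz _ (Z.mul_mem hz' hz), mul_one]

theorem HS.cZ (h : HS J Q Z a b q ρ x) : cv ρ b ∈ Z := h.nZ _ h.ρJ _ h.bZ

theorem HS.dZ (h : HS J Q Z a b q ρ x) : cv ρ (cv ρ b) ∈ Z := h.nZ _ h.ρJ _ h.cZ

theorem HS.c1 (h : HS J Q Z a b q ρ x) : cv ρ b ≠ 1 := by
  intro h1
  apply h.b1
  apply cv_inj (g := ρ)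
  rw [h1, cv_one]

theorem HS.d1 (h : HS J Q Z a b q ρ x) : cv ρ (cv ρ b) ≠ 1 := by
  intro h1
  apply h.c1
  apply cv_inj (g := ρ)
  rw [h1, cv_one]

theorem HS.dc (h : HS J Q Z a b q ρ x) : cv ρ (cv ρ b) ≠ cv ρ b := fun h1 => h.bρ (cv_inj h1)

/-- `b c = d` -/
theorem HS.bc (h : HS J Q Z a b q ρ x) : b * cv ρ b = cv ρ (cv ρ b) := by
  have hbb := h.Zz _ h.bZ
  have hcc := h.Zz _ h.cZ
  rcases h.Zm _ (Z.mul_mem h.bZ h.cZ) with h1 | h1 | h1 | h1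
  · exfalso
    apply h.bρ
    calc cv ρ b = (b * b) * cv ρ b := by rw [hbb, one_mul]
      _ = b * (b * cv ρ b) := by group
      _ = b := by rw [h1, mul_one]
  · exact absurd (mul_eq_left.mp h1) h.c1
  · exact absurd (mul_eq_right.mp h1) h.b1
  · exact h1

theorem HS.db (h : HS J Q Z a b q ρ x) : cv ρ (cv ρ b) ≠ b := by
  rw [← h.bc]
  intro h1
  exact h.c1 (mul_eq_left.mp h1)

theorem HS.bd (h : HS J Q Z a b q ρ x) : b * cv ρ (cv ρ b) = cv ρ b := by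
  rw [← h.bc, ← mul_assoc, h.Zz _ h.bZ, one_mul]

theorem HS.cd (h : HS J Q Z a b q ρ x) : cv ρ b * cv ρ (cv ρ b) = b := by
  rw [← h.bc, h.zc h.bZ h.cZ, ← mul_assoc, h.Zz _ h.cZ, one_mul]

/-- `ρ³` fixes `b` -/
theorem HS.r3 (h : HS J Q Z a b q ρ x) : cv ρ (cv ρ (cv ρ b)) = b := by
  conv_lhs => rw [← h.bc]
  rw [cv_mul]
  exact h.cd

/-- transitivity -/
theorem HS.trans (h : HS J Q Z a b q ρ x) {z z' : G} (hz : z ∈ Z) (hz' : z' ∈ Z) (hz1 : z ≠ 1) (hz1' : z' ≠ 1) :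
    ∃ r ∈ normalizer (J : Set G), (∀ u ∈ Q, cv r u = u) ∧ cv r z = z' := by
  have hρρ : ρ * ρ ∈ normalizer (J : Set G) := mul_mem h.ρJ h.ρJ
  have h1 : ∀ u ∈ Q, cv (1 : G) u = u := fun u _ => by simp [cv]
  have h2 : ∀ u ∈ Q, cv (ρ * ρ) u = u := fun u hu => by rw [cv_cv, h.ρQ u hu, h.ρQ u hu]
  have e1 : ∀ u : G, cv (1 : G) u = u := fun u => by simp [cv]
  rcases h.Zm z hz with h3 | h3 | h3 | h3
  · exact absurd h3 hz1
  all_goals
    rcases h.Zm z' hz' with h4 | h4 | h4 | h4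
    · exact absurd h4 hz1'
    all_goals subst h3 h4
  · exact ⟨1, one_mem _, h1, e1 _⟩
  · exact ⟨ρ, h.ρJ, h.ρQ, rfl⟩
  · exact ⟨ρ * ρ, hρρ, h2, by rw [cv_cv]⟩
  · exact ⟨ρ * ρ, hρρ, h2, by rw [cv_cv]; exact h.r3⟩
  · exact ⟨1, one_mem _, h1, e1 _⟩
  · exact ⟨ρ, h.ρJ, h.ρQ, rfl⟩
  · exact ⟨ρ, h.ρJ, h.ρQ, h.r3⟩
  · exact ⟨ρ * ρ, hρρ, h2, by rw [cv_cv, h.r3]⟩
  · exact ⟨1, one_mem _, h1, e1 _⟩

/-- **`η(a) = 1` implies `η = 1`.** -/
theorem HS.eta_a (h : HS J Q Z a b q ρ x) {g : G} (hg : g ∈ normalizer (J : Set G)) (ha : cv g a = a)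
    {u z : G} (hu : u ∈ Q) (hz : z ∈ Z) (hgu : cv g u = u * z) : z = 1 := by
  have h1 := h.nQ g hg ha u hu
  rw [hgu] at h1
  have h2 : z ∈ Q := by
    have := Q.mul_mem (Q.inv_mem hu) h1
    rwa [← mul_assoc, inv_mul_cancel, one_mul] at this
  exact h.dis z h2 hz

theorem HS.xu (h : HS J Q Z a b q ρ x) {u : G} (hu : u = q ∨ u = q * a) : cv x u = u * a := by
  rcases hu with rfl | rfl
  · exact h.xq
  · rw [cv_mul, h.xq, h.xa]

/-- **`η(u) = 1` for `u = q` or `q a` implies `η = 1`.** -/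
theorem HS.eta_u (h : HS J Q Z a b q ρ x) {g : G} (hg : g ∈ normalizer (J : Set G))
    (hgZ : ∀ z ∈ Z, cv g z = z) {u : G} (hu : u = q ∨ u = q * a) (hgu : cv g u = u)
    {z1 : G} (hz1 : z1 ∈ Z) (hga : cv g a = a * z1) : z1 = 1 := by
  by_contra hne
  have huQ : u ∈ Q := by
    rcases hu with rfl | rfl
    · exact h.qQ
    · exact Q.mul_mem h.qQ h.aQ
  have hxu := h.xu hu
  have hxi : x⁻¹ ∈ normalizer (J : Set G) := inv_mem h.xJ
  -- `h0 = g^x`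
  have hxz1 : cv x z1 ∈ Z := h.nZ x h.xJ z1 hz1
  have hxz1' : cv x z1 ≠ 1 := fun h1 => hne (cv_inj (g := x) (by rw [h1, cv_one]))
  obtain ⟨r, hr, hrQ, hrz⟩ := h.trans hxz1 hz1 hxz1' hne
  have hxua : cv x⁻¹ (u * a) = u := cv_inv_eq hxu
  have hxia : cv x⁻¹ a = a := cv_inv_eq h.xa
  have hri : ∀ v ∈ Q, cv r⁻¹ v = v := fun v hv => cv_inv_eq (hrQ v hv)
  obtain ⟨k, hk⟩ : ∃ k, k = r * (x * (g * (x⁻¹ * r⁻¹))) := ⟨_, rfl⟩
  have hkJ : k ∈ normalizer (J : Set G) := by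
    rw [hk]
    exact mul_mem hr (mul_mem h.xJ (mul_mem hg (mul_mem hxi (inv_mem hr))))
  have hkv : ∀ v, cv k v = cv r (cv x (cv g (cv x⁻¹ (cv r⁻¹ v)))) := fun v => by
    rw [hk, cv_cv, cv_cv, cv_cv, cv_cv]
  have hkZ : ∀ z ∈ Z, cv k z = z := by
    intro z hz
    rw [hkv, hgZ _ (h.nZ _ hxi _ (h.nZ _ (inv_mem hr) _ hz)), cv_cv_inv, cv_cv_inv]
  have hka : cv k a = a * z1 := by
    rw [hkv, hri a h.aQ, hxia, hga, cv_mul, cv_mul, h.xa, hrQ a h.aQ, hrz]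
  have hkua : cv k (u * a) = u * a := by
    rw [hkv, hri _ (Q.mul_mem huQ h.aQ), hxua, hgu, hxu, hrQ _ (Q.mul_mem huQ h.aQ)]
  have hzz := h.Zz z1 hz1
  have e1 : cv (g * k) a = a := by
    rw [cv_cv, hka, cv_mul, hga, hgZ z1 hz1, mul_assoc, hzz, mul_one]
  have e2 : cv (g * k) (u * a) = u * a * z1 := by
    rw [cv_cv, hkua, cv_mul, hgu, hga, mul_assoc]
  exact hne (h.eta_a (mul_mem hg hkJ) e1 (Q.mul_mem huQ h.aQ) hz1 e2)

/-- **The element `t`** -/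
theorem HS.exists_t (h : HS J Q Z a b q ρ x) {t : G} (ht : t ∈ normalizer (J : Set G)) (htb : cv t b = b)
    (hta : cv t a = a * b) :
    ∃ s, (s = t ∨ s = x * t) ∧ (∀ z ∈ Z, cv s z = z) ∧ cv s a = a * b ∧
      (∃ z2 ∈ Z, cv s q = q * z2 ∧ z2 ≠ 1 ∧ z2 ≠ b) ∧
      (∀ z ∈ Z, cv (s * x * s⁻¹ * x⁻¹) z = z) ∧ (∀ u ∈ Q, cv (s * x * s⁻¹ * x⁻¹) u = u) := by
  -- `q^s ∈ q Z`
  obtain ⟨s, hs, hsJ, hsb, hsa, z2, hz2, hsq⟩ : ∃ s, (s = t ∨ s = x * t) ∧ s ∈ normalizer (J : Set G) ∧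
      cv s b = b ∧ cv s a = a * b ∧ ∃ z2 ∈ Z, cv s q = q * z2 := by
    obtain ⟨u', hu', z, hz, h1⟩ := h.nQZ t ht q h.qQ
    rcases h.Qm u' hu' with h0 | h0 | h0 | h0 <;> rw [h0] at h1
    · -- `q^t ∈ Z`
      exfalso
      apply h.q1
      rw [one_mul] at h1
      have h2 : cv t⁻¹ z ∈ Z := h.nZ _ (inv_mem ht) z hz
      rw [cv_inv_eq h1] at h2
      exact h.dis q h.qQ h2
    · exfalso
      -- `q^t = a z`, `a^t = a b`, so `(q a)^t ∈ Z`
      have h2 : cv t (q * a) ∈ Z := by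
        rw [cv_mul, h1, hta]
        have h3 : a * z * (a * b) = z * b := by
          calc a * z * (a * b) = a * (z * a) * b := by group
            _ = (a * a) * (z * b) := by rw [← h.QZ a h.aQ z hz]; group
            _ = z * b := by rw [h.aa, one_mul]
        rw [h3]
        exact Z.mul_mem hz h.bZ
      have h3 : cv t⁻¹ (cv t (q * a)) ∈ Z := h.nZ _ (inv_mem ht) _ h2
      rw [cv_inv_cv] at h3
      have h4 := h.dis _ (Q.mul_mem h.qQ h.aQ) h3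
      apply h.qa
      calc q = q * (a * a) := by rw [h.aa, mul_one]
        _ = (q * a) * a := by group
        _ = a := by rw [h4, one_mul]
    · exact ⟨t, Or.inl rfl, ht, htb, hta, z, hz, h1⟩
    · refine ⟨x * t, Or.inr rfl, mul_mem h.xJ ht, ?_, ?_, cv x z, h.nZ x h.xJ z hz, ?_⟩
      · rw [cv_cv, htb, h.xb]
      · rw [cv_cv, hta, cv_mul, h.xa, h.xb]
      · rw [cv_cv, h1, cv_mul, cv_mul, h.xq, h.xa, mul_assoc q a a, h.aa, mul_one]
  have hbb := h.Zz _ h.bZ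
  -- `s` centralizes `Z`
  have hsc : cv s (cv ρ b) = cv ρ b := by
    by_contra hne
    have hc : cv s (cv ρ b) = cv ρ (cv ρ b) := by
      rcases h.Zm _ (h.nZ s hsJ _ h.cZ) with h1 | h1 | h1 | h1
      · exact absurd (cv_inj (g := s) (h1.trans (cv_one s).symm)) h.c1
      · exact absurd (cv_inj (g := s) (h1.trans hsb.symm)) h.bρ
      · exact absurd h1 hne
      · exact h1
    have hd : cv s (cv ρ (cv ρ b)) = cv ρ b := by
      rw [← h.bc, cv_mul, hsb, hc, h.bd]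
    obtain ⟨k, hk⟩ : ∃ k, k = s * (ρ * (s * (ρ⁻¹ * ρ⁻¹))) := ⟨_, rfl⟩
    have hkv : ∀ v, cv k v = cv s (cv ρ (cv s (cv ρ⁻¹ (cv ρ⁻¹ v)))) := fun v => by
      rw [hk, cv_cv, cv_cv, cv_cv, cv_cv]
    have hkJ : k ∈ normalizer (J : Set G) := by
      rw [hk]
      exact mul_mem hsJ (mul_mem h.ρJ (mul_mem hsJ (mul_mem (inv_mem h.ρJ) (inv_mem h.ρJ))))
    have hρib : cv ρ⁻¹ b = cv ρ (cv ρ b) := cv_inv_eq h.r3
    have hρic : cv ρ⁻¹ (cv ρ b) = b := cv_inv_cv _ _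
    have hρid : cv ρ⁻¹ (cv ρ (cv ρ b)) = cv ρ b := cv_inv_cv _ _
    have hρiQ : ∀ v ∈ Q, cv ρ⁻¹ v = v := fun v hv => cv_inv_eq (h.ρQ v hv)
    have hkb : cv k b = b := by
      rw [hkv, hρib, hρid, hc, h.r3, hsb]
    have hkc : cv k (cv ρ b) = cv ρ b := by
      rw [hkv, hρic, hρib, hd, hd]
    have hkd : cv k (cv ρ (cv ρ b)) = cv ρ (cv ρ b) := by
      rw [hkv, hρid, hρic, hsb, hc]
    have hkZ : ∀ z ∈ Z, cv k z = z := by
      intro z hz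
      rcases h.Zm z hz with rfl | rfl | rfl | rfl
      · exact cv_one _
      · exact hkb
      · exact hkc
      · exact hkd
    have hka : cv k a = a * cv ρ b := by
      rw [hkv, hρiQ a h.aQ, hρiQ a h.aQ, hsa, cv_mul, h.ρQ a h.aQ, cv_mul, hsa, hc, mul_assoc, h.bd]
    -- `q`
    have hkq : cv k q = q ∨ cv k q = q * cv ρ b := by
      rw [hkv, hρiQ q h.qQ, hρiQ q h.qQ, hsq, cv_mul, h.ρQ q h.qQ, cv_mul, hsq]
      rcases h.Zm z2 hz2 with rfl | rfl | rfl | rfl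
      · left
        rw [cv_one, cv_one, mul_one, mul_one]
      · right
        rw [hc, mul_assoc, h.bd]
      · left
        rw [hd, mul_assoc, h.Zz _ h.cZ, mul_one]
      · right
        rw [h.r3, hsb, mul_assoc, h.zc h.dZ h.bZ, h.bd]
    rcases hkq with hkq | hkq
    · exact h.c1 (h.eta_u hkJ hkZ (Or.inl rfl) hkq h.cZ hka)
    · refine h.c1 (h.eta_u hkJ hkZ (u := q * a) (Or.inr rfl) ?_ h.cZ hka)
      rw [cv_mul, hkq, hka]
      calc q * cv ρ b * (a * cv ρ b) = q * (cv ρ b * a) * cv ρ b := by group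
        _ = q * a * (cv ρ b * cv ρ b) := by rw [← h.QZ a h.aQ _ h.cZ]; group
        _ = q * a := by rw [h.Zz _ h.cZ, mul_one]
  have hsZ : ∀ z ∈ Z, cv s z = z := by
    intro z hz
    rcases h.Zm z hz with rfl | rfl | rfl | rfl
    · exact cv_one _
    · exact hsb
    · exact hsc
    · rw [← h.bc, cv_mul, hsb, hsc]
  have hz21 : z2 ≠ 1 := by
    rintro rfl
    rw [mul_one] at hsq
    exact h.b1 (h.eta_u hsJ hsZ (Or.inl rfl) hsq h.bZ hsa)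
  have hz2b : z2 ≠ b := by
    intro hz2b
    subst hz2b
    refine h.b1 (h.eta_u hsJ hsZ (u := q * a) (Or.inr rfl) ?_ h.bZ hsa)
    rw [cv_mul, hsq, hsa]
    calc q * z2 * (a * z2) = q * (z2 * a) * z2 := by group
      _ = q * a * (z2 * z2) := by rw [← h.QZ a h.aQ _ h.bZ]; group
      _ = q * a := by rw [hbb, mul_one]
  -- `[s, x]`
  have hxi : x⁻¹ ∈ normalizer (J : Set G) := inv_mem h.xJ
  have hcv : ∀ v, cv (s * x * s⁻¹ * x⁻¹) v = cv s (cv x (cv s⁻¹ (cv x⁻¹ v))) := fun v => by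
    rw [cv_cv, cv_cv, cv_cv]
  have hsiZ : ∀ z ∈ Z, cv s⁻¹ z = z := fun z hz => cv_inv_eq (hsZ z hz)
  have hcZ : ∀ z ∈ Z, cv (s * x * s⁻¹ * x⁻¹) z = z := by
    intro z hz
    rw [hcv, hsiZ _ (h.nZ _ hxi _ hz), cv_cv_inv, hsZ z hz]
  have hsia : cv s⁻¹ a = a * b := by
    apply cv_inj (g := s)
    rw [cv_cv_inv, cv_mul, hsa, hsb, mul_assoc, hbb, mul_one]
  have hca : cv (s * x * s⁻¹ * x⁻¹) a = a := by
    rw [hcv, cv_inv_eq h.xa, hsia, cv_mul, h.xa, h.xb, cv_mul, hsa, hsb, mul_assoc, hbb, mul_one]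
  have hcJ : s * x * s⁻¹ * x⁻¹ ∈ normalizer (J : Set G) :=
    mul_mem (mul_mem (mul_mem hsJ h.xJ) (inv_mem hsJ)) hxi
  -- `q`
  have hsiq : cv s⁻¹ q = q * z2 := by
    apply cv_inj (g := s)
    rw [cv_cv_inv, cv_mul, hsq, hsZ z2 hz2, mul_assoc, h.Zz _ hz2, mul_one]
  have hxiq : cv x⁻¹ q = q * a := by
    apply cv_inj (g := x)
    rw [cv_cv_inv, cv_mul, h.xq, h.xa, mul_assoc, h.aa, mul_one]
  have hxz := h.nZ x h.xJ z2 hz2
  have hcq : cv (s * x * s⁻¹ * x⁻¹) q = q * (z2 * (cv x z2 * b)) := by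
    have e1 : q * z2 * (a * b) = q * a * (z2 * b) := by
      calc q * z2 * (a * b) = q * (z2 * a) * b := by group
        _ = q * (a * z2) * b := by rw [← h.QZ a h.aQ z2 hz2]
        _ = _ := by group
    have e2 : q * a * a * (cv x z2 * b) = q * (cv x z2 * b) := by
      rw [mul_assoc q a a, h.aa, mul_one]
    have e3 : cv x (q * a * (z2 * b)) = q * a * a * (cv x z2 * b) := by
      rw [cv_mul, cv_mul x z2, cv_mul, h.xq, h.xa, h.xb]
    have e4 : cv s (q * (cv x z2 * b)) = q * z2 * (cv x z2 * b) := by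
      rw [cv_mul, cv_mul, hsq, hsb, hsZ _ hxz]
    rw [hcv, hxiq, cv_mul, hsiq, hsia, e1, e3, e2, e4, mul_assoc]
  have hz3 := h.eta_a hcJ hca h.qQ (Z.mul_mem hz2 (Z.mul_mem hxz h.bZ)) hcq
  rw [hz3, mul_one] at hcq
  refine ⟨s, hs, hsZ, hsa, ⟨z2, hz2, hsq, hz21, hz2b⟩, hcZ, ?_⟩
  intro u hu
  rcases h.Qm u hu with rfl | rfl | rfl | rfl
  · exact cv_one _
  · exact hca
  · exact hcq
  · rw [cv_mul, hcq, hca]

/-- **(i)** of the hypotheses of `CQ`: `n ∈ N(J)` commuting with `u = q` or `q a`, `a^n ∈ a Z`: then `a^n = a`. -/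
theorem HS.eta (h : HS J Q Z a b q ρ x) {n : G} (hn : n ∈ normalizer (J : Set G)) {u : G} (hu : u = q ∨ u = q * a)
    (hnu : cv n u = u) {z : G} (hz : z ∈ Z) (hna : cv n a = a * z) : z = 1 := by
  have huQ : u ∈ Q := by
    rcases hu with rfl | rfl
    · exact h.qQ
    · exact Q.mul_mem h.qQ h.aQ
  have hρiQ : ∀ v ∈ Q, cv ρ⁻¹ v = v := fun v hv => cv_inv_eq (h.ρQ v hv)
  have hρib : cv ρ⁻¹ b = cv ρ (cv ρ b) := cv_inv_eq h.r3
  have hρic : cv ρ⁻¹ (cv ρ b) = b := cv_inv_cv _ _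
  have hρid : cv ρ⁻¹ (cv ρ (cv ρ b)) = cv ρ b := cv_inv_cv _ _
  have hρi : ρ⁻¹ ∈ normalizer (J : Set G) := inv_mem h.ρJ
  -- if `g` acts on `Z` as a power of `ρ`
  have key : ∀ g ∈ normalizer (J : Set G), cv g u = u → ∀ z' ∈ Z, cv g a = a * z' →
      (cv g b = b ∧ cv g (cv ρ b) = cv ρ b) ∨ (cv g b = cv ρ b ∧ cv g (cv ρ b) = cv ρ (cv ρ b)) ∨
      (cv g b = cv ρ (cv ρ b) ∧ cv g (cv ρ b) = b) → z' = 1 := by
    intro g hg hgu z' hz' hga hor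
    have hfin : ∀ k ∈ normalizer (J : Set G), cv k u = u → ∀ z' ∈ Z, cv k a = a * z' → cv k b = b →
        cv k (cv ρ b) = cv ρ b → z' = 1 := by
      intro k hk hku z' hz' hka hkb hkc
      refine h.eta_u hk ?_ hu hku hz' hka
      intro z hz
      rcases h.Zm z hz with rfl | rfl | rfl | rfl
      · exact cv_one _
      · exact hkb
      · exact hkc
      · rw [← h.bc, cv_mul, hkb, hkc]
    rcases hor with ⟨h1, h2⟩ | ⟨h1, h2⟩ | ⟨h1, h2⟩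
    · exact hfin g hg hgu z' hz' hga h1 h2
    · -- `g` acts as `ρ`
      have h3 := hfin (ρ⁻¹ * g) (mul_mem hρi hg) (by rw [cv_cv, hgu, hρiQ u huQ]) (cv ρ⁻¹ z')
        (h.nZ _ hρi _ hz') (by rw [cv_cv, hga, cv_mul, hρiQ a h.aQ]) (by rw [cv_cv, h1, hρic])
        (by rw [cv_cv, h2, hρid])
      exact cv_inj (g := ρ⁻¹) (h3.trans (cv_one _).symm)
    · have h3 := hfin (ρ * g) (mul_mem h.ρJ hg) (by rw [cv_cv, hgu, h.ρQ u huQ]) (cv ρ z')
        (h.nZ _ h.ρJ _ hz') (by rw [cv_cv, hga, cv_mul, h.ρQ a h.aQ]) (by rw [cv_cv, h1, h.r3])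
        (by rw [cv_cv, h2])
      exact cv_inj (g := ρ) (h3.trans (cv_one _).symm)
  have hb1 : cv n b ≠ 1 := fun h1 => h.b1 (cv_inj (g := n) (h1.trans (cv_one n).symm))
  have hc1 : cv n (cv ρ b) ≠ 1 := fun h1 => h.c1 (cv_inj (g := n) (h1.trans (cv_one n).symm))
  have hbc : cv n b ≠ cv n (cv ρ b) := fun h1 => h.bρ (cv_inj h1).symm
  have hnd : cv n (cv ρ (cv ρ b)) = cv n b * cv n (cv ρ b) := by rw [← h.bc, cv_mul]
  -- the two elements `n n'`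
  have hnn : ∀ r ∈ normalizer (J : Set G), (∀ v ∈ Q, cv r v = v) → (∀ v ∈ Q, cv r⁻¹ v = v) →
      ((cv (n * (r * (n * r⁻¹))) b = b ∧ cv (n * (r * (n * r⁻¹))) (cv ρ b) = cv ρ b) ∨
      (cv (n * (r * (n * r⁻¹))) b = cv ρ b ∧ cv (n * (r * (n * r⁻¹))) (cv ρ b) = cv ρ (cv ρ b)) ∨
      (cv (n * (r * (n * r⁻¹))) b = cv ρ (cv ρ b) ∧ cv (n * (r * (n * r⁻¹))) (cv ρ b) = b)) →
      z * cv n (cv r z) = 1 := by
    intro r hr hrQ hriQ hor
    refine key (n * (r * (n * r⁻¹))) (mul_mem hn (mul_mem hr (mul_mem hn (inv_mem hr)))) ?_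
      (z * cv n (cv r z)) (Z.mul_mem hz (h.nZ n hn _ (h.nZ r hr z hz))) ?_ hor
    · rw [cv_cv, cv_cv, cv_cv, hriQ u huQ, hnu, hrQ u huQ, hnu]
    · rw [cv_cv, cv_cv, cv_cv, hriQ a h.aQ, hna, cv_mul, hrQ a h.aQ, cv_mul, hna, mul_assoc]
  -- a reflection
  have hρ' : ∀ v ∈ Q, cv ρ⁻¹⁻¹ v = v := fun v hv => by rw [inv_inv]; exact h.ρQ v hv
  have hrefl : (cv n b = b ∧ cv n (cv ρ b) = cv ρ (cv ρ b)) ∨
      (cv n b = cv ρ b ∧ cv n (cv ρ b) = b) ∨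
      (cv n b = cv ρ (cv ρ b) ∧ cv n (cv ρ b) = cv ρ b) → z = 1 := by
    intro hor
    have h3 : cv n (cv ρ (cv ρ b)) = cv n b * cv n (cv ρ b) := hnd
    have e1 : z * cv n (cv ρ z) = 1 := by
      apply hnn ρ h.ρJ h.ρQ hρiQ
      rcases hor with ⟨h1, h2⟩ | ⟨h1, h2⟩ | ⟨h1, h2⟩
      · rw [h1, h2, h.bd] at h3
        simp only [cv_cv, h1, h2, h3, h.r3, hρib, hρic, hρid]
        tauto
      · rw [h1, h2, h.zc h.cZ h.bZ, h.bc] at h3
        simp only [cv_cv, h1, h2, h3, h.r3, hρib, hρic, hρid]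
        tauto
      · rw [h1, h2, h.zc h.dZ h.cZ, h.cd] at h3
        simp only [cv_cv, h1, h2, h3, h.r3, hρib, hρic, hρid]
        tauto
    have e2 : z * cv n (cv ρ⁻¹ z) = 1 := by
      apply hnn ρ⁻¹ hρi hρiQ hρ'
      rcases hor with ⟨h1, h2⟩ | ⟨h1, h2⟩ | ⟨h1, h2⟩
      · rw [h1, h2, h.bd] at h3
        simp only [cv_cv, inv_inv, h1, h2, h3, h.r3, hρib, hρic, hρid]
        tauto
      · rw [h1, h2, h.zc h.cZ h.bZ, h.bc] at h3
        simp only [cv_cv, inv_inv, h1, h2, h3, h.r3, hρib, hρic, hρid]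
        tauto
      · rw [h1, h2, h.zc h.dZ h.cZ, h.cd] at h3
        simp only [cv_cv, inv_inv, h1, h2, h3, h.r3, hρib, hρic, hρid]
        tauto
    have e3 : cv n (cv ρ z) = cv n (cv ρ⁻¹ z) := mul_left_cancel (e1.trans e2.symm)
    have e4 := cv_inj e3
    by_contra hz1
    rcases h.Zm z hz with h5 | h5 | h5 | h5
    · exact hz1 h5
    · rw [h5, hρib] at e4; exact h.dc e4.symm
    · rw [h5, hρic] at e4; exact h.db e4
    · rw [h5, hρid, h.r3] at e4; exact h.bρ e4.symm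
  rcases h.Zm _ (h.nZ n hn _ h.bZ) with h1 | h1 | h1 | h1
  · exact absurd h1 hb1
  all_goals
    rcases h.Zm _ (h.nZ n hn _ h.cZ) with h2 | h2 | h2 | h2
    · exact absurd h2 hc1
  · exact absurd (h1.trans h2.symm) hbc
  · exact key n hn hnu z hz hna (Or.inl ⟨h1, h2⟩)
  · exact hrefl (Or.inl ⟨h1, h2⟩)
  · exact hrefl (Or.inr (Or.inl ⟨h1, h2⟩))
  · exact absurd (h1.trans h2.symm) hbc
  · exact key n hn hnu z hz hna (Or.inr (Or.inl ⟨h1, h2⟩))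
  · exact key n hn hnu z hz hna (Or.inr (Or.inr ⟨h1, h2⟩))
  · exact hrefl (Or.inr (Or.inr ⟨h1, h2⟩))
  · exact absurd (h1.trans h2.symm) hbc

/-- **(ii)** every `q a z`, `z ∈ Z`, is conjugate to `q a` under `N(J)` -/
theorem HS.all (h : HS J Q Z a b q ρ x) {t : G} (ht : t ∈ normalizer (J : Set G)) (htb : cv t b = b)
    (hta : cv t a = a * b) {z : G} (hz : z ∈ Z) :
    ∃ m ∈ normalizer (J : Set G), cv m (q * a) = q * a * z := by
  by_cases hz1 : z = 1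
  · exact ⟨1, one_mem _, by rw [hz1]; simp [cv]⟩
  obtain ⟨s, hs, hsZ, hsa, ⟨z2, hz2, hsq, hz21, hz2b⟩, -, -⟩ := h.exists_t ht htb hta
  have hsJ : s ∈ normalizer (J : Set G) := by
    rcases hs with rfl | rfl
    · exact ht
    · exact mul_mem h.xJ ht
  have hw : z2 * b ≠ 1 := by
    intro h1
    apply hz2b
    calc z2 = z2 * (b * b) := by rw [h.Zz _ h.bZ, mul_one]
      _ = (z2 * b) * b := by group
      _ = b := by rw [h1, one_mul]
  have h1 : cv s (q * a) = q * a * (z2 * b) := by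
    rw [cv_mul, hsq, hsa]
    calc q * z2 * (a * b) = q * (z2 * a) * b := by group
      _ = q * (a * z2) * b := by rw [← h.QZ a h.aQ z2 hz2]
      _ = _ := by group
  obtain ⟨r, hr, hrQ, hrz⟩ := h.trans (Z.mul_mem hz2 h.bZ) hz hw hz1
  have hri : ∀ v ∈ Q, cv r⁻¹ v = v := fun v hv => cv_inv_eq (hrQ v hv)
  have hqa := Q.mul_mem h.qQ h.aQ
  exact ⟨r * (s * r⁻¹), mul_mem hr (mul_mem hsJ (inv_mem hr)), by
    rw [cv_cv, cv_cv, hri _ hqa, h1, cv_mul, hrQ _ hqa, hrz]⟩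

/-- **(iii)** an element of `N(J)` commuting with `a`, `b` and `q` centralizes `Z` -/
theorem HS.centZ (h : HS J Q Z a b q ρ x) {t : G} (ht : t ∈ normalizer (J : Set G)) (htb : cv t b = b)
    (hta : cv t a = a * b) {y : G} (hy : y ∈ normalizer (J : Set G)) (hya : cv y a = a) (hyb : cv y b = b)
    (hyq : cv y q = q) : ∀ z ∈ Z, cv y z = z := by
  obtain ⟨s, hs, hsZ, hsa, ⟨z2, hz2, hsq, hz21, hz2b⟩, -, -⟩ := h.exists_t ht htb hta
  have hsJ : s ∈ normalizer (J : Set G) := by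
    rcases hs with rfl | rfl
    · exact ht
    · exact mul_mem h.xJ ht
  have hbb := h.Zz _ h.bZ
  have hsiZ : ∀ z ∈ Z, cv s⁻¹ z = z := fun z hz => cv_inv_eq (hsZ z hz)
  have hyi : y⁻¹ ∈ normalizer (J : Set G) := inv_mem hy
  have hyz2 := h.nZ y hy z2 hz2
  -- `g = s⁻¹ y s y⁻¹`
  have hgJ : s⁻¹ * (y * (s * y⁻¹)) ∈ normalizer (J : Set G) :=
    mul_mem (inv_mem hsJ) (mul_mem hy (mul_mem hsJ hyi))
  have hsia : cv s⁻¹ a = a * b := by
    apply cv_inj (g := s)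
    rw [cv_cv_inv, cv_mul, hsa, hsZ b h.bZ, mul_assoc, hbb, mul_one]
  have hsiq : cv s⁻¹ q = q * z2 := by
    apply cv_inj (g := s)
    rw [cv_cv_inv, cv_mul, hsq, hsZ z2 hz2, mul_assoc, h.Zz _ hz2, mul_one]
  have hga : cv (s⁻¹ * (y * (s * y⁻¹))) a = a := by
    rw [cv_cv, cv_cv, cv_cv, cv_inv_eq hya, hsa, cv_mul, hya, hyb, cv_mul, hsia, hsiZ b h.bZ, mul_assoc,
      hbb, mul_one]
  have hgq : cv (s⁻¹ * (y * (s * y⁻¹))) q = q * (z2 * cv y z2) := by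
    rw [cv_cv, cv_cv, cv_cv, cv_inv_eq hyq, hsq, cv_mul, hyq, cv_mul, hsiq, hsiZ _ hyz2, mul_assoc]
  have h1 := h.eta_a hgJ hga h.qQ (Z.mul_mem hz2 hyz2) hgq
  have h2 : cv y z2 = z2 := by
    calc cv y z2 = (z2 * z2) * cv y z2 := by rw [h.Zz _ hz2, one_mul]
      _ = z2 * (z2 * cv y z2) := by group
      _ = z2 := by rw [h1, mul_one]
  intro z hz
  have h3 : cv y (cv ρ b) = cv ρ b ∧ cv y (cv ρ (cv ρ b)) = cv ρ (cv ρ b) := by
    rcases h.Zm z2 hz2 with h4 | h4 | h4 | h4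
    · exact absurd h4 hz21
    · exact absurd h4 hz2b
    · rw [h4] at h2
      refine ⟨h2, ?_⟩
      rw [← h.bc, cv_mul, hyb, h2]
    · rw [h4] at h2
      refine ⟨?_, h2⟩
      have h5 := h.bd
      rw [← h5, cv_mul, hyb, h2]
  rcases h.Zm z hz with rfl | rfl | rfl | rfl
  · exact cv_one _
  · exact hyb
  · exact h3.1
  · exact h3.2

/-- **The element `s` commuting with `x`**, if `[t, x] ∈ Q P`. -/
theorem HS.exists_s (h : HS J Q Z a b q ρ x) {P : Subgroup G} (hxx : x * x = 1)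
    (hPx : ∀ p ∈ P, cv x p ∈ P) (hQP : ∀ u ∈ Q, ∀ p ∈ P, u * p = p * u) (hQP1 : ∀ u ∈ Q, u ∈ P → u = 1)
    (hZP : Z ≤ P) (hPZ : ∀ p ∈ P, p * b = b * p)
    (hPc : ∀ p ∈ P, (p * x) * (p * x) = 1 → ∃ m ∈ P, cv m x = p * x)
    {s : G} (hsa : cv s a = a * b) (hsb : cv s b = b)
    (hsJ : ∃ u ∈ Q, ∃ p ∈ P, s * x * s⁻¹ * x⁻¹ = u * p) :
    ∃ u ∈ Q, ∃ p ∈ P, (u * p * s) * x = x * (u * p * s) ∧ cv (u * p * s) a = a * b ∧
      cv (u * p * s) b = b := by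
  obtain ⟨u, hu, p, hp, h1⟩ := hsJ
  have hxi : x⁻¹ = x := inv_eq_of_mul_eq_one_left hxx
  -- `x^s = u p x`
  have h2 : cv s x = u * (p * x) := by
    calc s * x * s⁻¹ = (s * x * s⁻¹ * x⁻¹) * x := by group
      _ = u * (p * x) := by rw [h1, mul_assoc]
  have h3 : (u * (p * x)) * (u * (p * x)) = 1 := by
    rw [← h2, ← cv_mul, hxx, cv_one]
  have hxu : cv x u ∈ Q := h.nQ x h.xJ h.xa u hu
  have h4 : (u * (p * x)) * (u * (p * x)) = (u * cv x u) * (p * cv x p) := by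
    have e1 := hQP (cv x u) hxu p hp
    calc (u * (p * x)) * (u * (p * x)) = u * (p * (x * u * x⁻¹)) * (x * p * x⁻¹) * (x * x) := by group
      _ = u * (p * cv x u) * cv x p := by rw [hxx, mul_one]; rfl
      _ = (u * cv x u) * (p * cv x p) := by rw [← e1]; group
  rw [h4] at h3
  have hpP := P.mul_mem hp (hPx p hp)
  have huQ := Q.mul_mem hu hxu
  have h5 : u * cv x u = 1 := by
    apply hQP1 _ huQ
    have h6 : u * cv x u = (p * cv x p)⁻¹ := eq_inv_of_mul_eq_one_left h3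
    rw [h6]; exact P.inv_mem hpP
  have h6 : (p * x) * (p * x) = 1 := by
    rw [h5, one_mul] at h3
    calc (p * x) * (p * x) = p * (x * p * x⁻¹) * (x * x) := by group
      _ = 1 := by rw [hxx, mul_one]; exact h3
  obtain ⟨m, hm, hmx⟩ := hPc p hp h6
  have hmi : m⁻¹ ∈ P := P.inv_mem hm
  -- `x^(m⁻¹ s) = u x`
  have h7 : cv (m⁻¹ * s) x = u * x := by
    rw [cv_cv, h2, ← hmx, cv_mul, cv_inv_cv]
    congr 1
    rw [cv_eq_self]
    exact (hQP u hu _ hmi).symm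
  have hma : ∀ v ∈ Q, cv m⁻¹ v = v := fun v hv => cv_eq_self.mpr (hQP v hv _ hmi).symm
  have hmb : cv m⁻¹ b = b := cv_eq_self.mpr (hPZ _ hmi)
  have hbP := hZP h.bZ
  have hQb : ∀ v ∈ Q, cv v b = b := fun v hv => cv_eq_self.mpr (h.QZ v hv _ h.bZ)
  have hQc : ∀ v ∈ Q, cv v a = a := fun v hv => by
    rw [cv_eq_self]
    rcases h.Qm v hv with rfl | rfl | rfl | rfl
    · rw [one_mul, mul_one]
    · rfl
    · exact h.aq.symm
    · rw [mul_assoc, ← mul_assoc a q, h.aq, mul_assoc]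
  -- `u ∈ {1, a}`
  have h8 : u = 1 ∨ u = a := by
    rcases h.Qm u hu with rfl | rfl | rfl | rfl
    · exact Or.inl rfl
    · exact Or.inr rfl
    · exfalso
      apply h.a1
      rw [h.xq, ← mul_assoc, h.qq, one_mul] at h5
      exact h5
    · exfalso
      apply h.a1
      rw [cv_mul, h.xq, h.xa, mul_assoc q a a, h.aa, mul_one] at h5
      calc a = (q * q) * a := by rw [h.qq, one_mul]
        _ = q * (a * q) := by rw [h.aq, mul_assoc]
        _ = q * a * q := by group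
        _ = 1 := h5
  have hgen : ∀ v ∈ Q, cv v (u * x) = x → ∃ u ∈ Q, ∃ p ∈ P, (u * p * s) * x = x * (u * p * s) ∧
      cv (u * p * s) a = a * b ∧ cv (u * p * s) b = b := by
    intro v hv hvx
    refine ⟨v, hv, m⁻¹, hmi, ?_, ?_, ?_⟩
    · rw [← cv_eq_self, mul_assoc, cv_cv, h7, hvx]
    · rw [mul_assoc, cv_cv, cv_cv, hsa, cv_mul, hma a h.aQ, hmb, cv_mul, hQc v hv, hQb v hv]
    · rw [mul_assoc, cv_cv, cv_cv, hsb, hmb, hQb v hv]
  rcases h8 with rfl | rfl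
  · refine hgen 1 (one_mem _) ?_
    simp [cv]
  · refine hgen q h.qQ ?_
    -- `q (a x) q⁻¹ = x`
    have hqi : q⁻¹ = q := inv_eq_of_mul_eq_one_left h.qq
    have e1 : x * q = q * u * x := by
      have := h.xq
      rw [cv, mul_inv_eq_iff_eq_mul] at this
      exact this
    have e2 : x * q * u = q * x := by
      rw [e1]
      have h9 : x * u = u * x := by
        have := h.xa
        rwa [cv_eq_self] at this
      calc q * u * x * u = q * u * (x * u) := by group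
        _ = q * (u * u) * x := by rw [h9]; group
        _ = q * x := by rw [h.aa, mul_one]
    calc q * (u * x) * q⁻¹ = q * u * (x * q) := by rw [hqi]; group
      _ = q * (u * q) * u * x := by rw [e1]; group
      _ = (q * q) * (u * u) * x := by rw [h.aq]; group
      _ = x := by rw [h.qq, h.aa]; group

end

end Cfsg.Agent.UGT.L34T2.HStar
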