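import Cfsg.Agent.UGT.L34T2.FrJ
import Cfsg.Agent.UGT.L34T2.HStar

/-!
# Type `L₃(4)`, `T < S`, small, `Q = {1, a, q, q a}`: the situation over the frame

* `VD`: the frame with `a`, `q`, `ρ`, `x`, `t`.
* `VD.hs`: the situation `HS (P ⊔ Q) Q Z a b q ρ x`; `VD.eta`, `VD.all`, `VD.cenq`.
* `VD.exists_s`: `s` commuting with `x`, `a^s = a b`, `b^s = b`, or an element `s` with `x^s` of type `f`.
-/

set_option autoImplicit false

open Subgroup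

namespace Cfsg.Agent.UGT.L34T2.V4

open HStar

variable {G : Type*} [Group G]

/-- The situation. -/
structure VD (T P Q Z : Subgroup G) (A : Bool → Subgroup G) (b a q ρ x t : G) : Prop
    extends Fr T P Q Z A b where
  Qm : ∀ u ∈ Q, u = 1 ∨ u = a ∨ u = q ∨ u = q * a
  aQ : a ∈ Q
  qQ : q ∈ Q
  a1 : a ≠ 1
  q1 : q ≠ 1
  qa : q ≠ a
  aa : a * a = 1
  qq : q * q = 1
  aq : a * q = q * a
  ρP : ∀ p ∈ P, ρ * p * ρ⁻¹ ∈ P
  ρQ : ∀ u ∈ Q, ρ * u = u * ρ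
  ρ1 : ∀ z ∈ Z, ρ * z = z * ρ → z = 1
  xT : x ∈ T
  xx : x * x = 1
  xa : x * a = a * x
  xq : x * q = q * a * x
  xZ : ¬ ∀ z ∈ Z, x * z = z * x
  xA : ∀ i, ∀ u ∈ A i, x * u * x⁻¹ ∈ A (!i)
  /-- `C(a) ∩ N(P Q)` normalizes `Q` -/
  nQa : ∀ g, g * a = a * g → g ∈ normalizer ((P ⊔ Q : Subgroup G) : Set G) → ∀ u ∈ Q, g * u * g⁻¹ ∈ Q
  tJ : t ∈ normalizer ((P ⊔ Q : Subgroup G) : Set G)
  tT : ∀ y ∈ T, t * y * t⁻¹ ∈ T
  ta : t * a * t⁻¹ = a * b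
  tb : t * b = b * t

section

variable {T P Q Z : Subgroup G} {A : Bool → Subgroup G} {b a q ρ x t : G}

theorem VD.Qc (h : VD T P Q Z A b a q ρ x t) {u v : G} (hu : u ∈ Q) (hv : v ∈ Q) : u * v = v * u := by
  have e1 : a * (q * a) = q * a * a := by rw [← mul_assoc, h.aq]
  have e2 : q * (q * a) = q * a * q := by rw [mul_assoc, h.aq]
  rcases h.Qm u hu with rfl | rfl | rfl | rfl <;> rcases h.Qm v hv with rfl | rfl | rfl | rfl <;>
    first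
      | rfl
      | rw [one_mul, mul_one]
      | rw [mul_one, one_mul]
      | exact h.aq
      | exact h.aq.symm
      | exact e1
      | exact e2
      | exact e1.symm
      | exact e2.symm

/-- elements of `N(P Q)` normalize `Z` -/
theorem VD.nZ' (h : VD T P Q Z A b a q ρ x t) {g : G} (hg : g ∈ normalizer ((P ⊔ Q : Subgroup G) : Set G))
    {z : G} (hz : z ∈ Z) : cv g z ∈ Z := by
  obtain ⟨p0, hp0, hp0Z⟩ := h.toHeis.exists_not_mem false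
  have hp0P := h.AP false hp0
  obtain ⟨r, hr, hrz⟩ := h.surj p0 hp0P hp0Z z hz
  obtain ⟨p1, hp1, u1, hu1, e1⟩ := h.toFr.mem_J.mp ((mem_normalizer_iff.mp hg p0).mp (mem_sup_left hp0P))
  obtain ⟨p2, hp2, u2, hu2, e2⟩ := h.toFr.mem_J.mp ((mem_normalizer_iff.mp hg r).mp (mem_sup_left hr))
  have e3 : cv g z = (g * p0 * g⁻¹) * (g * r * g⁻¹) * (g * p0 * g⁻¹)⁻¹ * (g * r * g⁻¹)⁻¹ := by
    rw [← hrz]; simp only [cv]; group
  rw [e3, e1, e2]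
  have c1 : u1 * p2 = p2 * u1 := (h.comm p2 hp2 u1 hu1).symm
  have c2 : u2 * p1⁻¹ = p1⁻¹ * u2 := (h.comm _ (P.inv_mem hp1) u2 hu2).symm
  have c3 := h.Qc hu1 hu2
  have c4 : u1⁻¹ * p1⁻¹ = p1⁻¹ * u1⁻¹ := (h.comm _ (P.inv_mem hp1) _ (Q.inv_mem hu1)).symm
  have c5 : u2⁻¹ * p2⁻¹ = p2⁻¹ * u2⁻¹ := (h.comm _ (P.inv_mem hp2) _ (Q.inv_mem hu2)).symm
  have e4 : p1 * u1 * (p2 * u2) * (p1 * u1)⁻¹ * (p2 * u2)⁻¹ = p1 * p2 * p1⁻¹ * p2⁻¹ := by
    have k1 : p1 * u1 * (p2 * u2) = p1 * p2 * (u1 * u2) := by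
      calc p1 * u1 * (p2 * u2) = p1 * (u1 * p2) * u2 := by group
        _ = p1 * p2 * (u1 * u2) := by rw [c1]; group
    have k2 : (p1 * u1)⁻¹ = p1⁻¹ * u1⁻¹ := by rw [mul_inv_rev, c4]
    have k3 : (p2 * u2)⁻¹ = p2⁻¹ * u2⁻¹ := by rw [mul_inv_rev, c5]
    have k4 : (u1 * u2) * p1⁻¹ = p1⁻¹ * (u1 * u2) :=
      (h.comm _ (P.inv_mem hp1) _ (Q.mul_mem hu1 hu2)).symm
    have k5 : u2 * p2⁻¹ = p2⁻¹ * u2 := (h.comm _ (P.inv_mem hp2) _ hu2).symm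
    rw [k1, k2, k3]
    calc p1 * p2 * (u1 * u2) * (p1⁻¹ * u1⁻¹) * (p2⁻¹ * u2⁻¹)
        = p1 * p2 * ((u1 * u2) * p1⁻¹) * u1⁻¹ * p2⁻¹ * u2⁻¹ := by group
      _ = p1 * p2 * p1⁻¹ * (u1 * u2 * u1⁻¹) * p2⁻¹ * u2⁻¹ := by rw [k4]; group
      _ = p1 * p2 * p1⁻¹ * (u2 * p2⁻¹) * u2⁻¹ := by rw [c3]; group
      _ = p1 * p2 * p1⁻¹ * p2⁻¹ := by rw [k5]; group
  rw [e4]
  exact h.com p1 hp1 p2 hp2

/-- elements of `N(P Q)` map `Q` into `Q Z` -/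
theorem VD.nQZ' (h : VD T P Q Z A b a q ρ x t) {g : G} (hg : g ∈ normalizer ((P ⊔ Q : Subgroup G) : Set G))
    {u : G} (hu : u ∈ Q) : ∃ u' ∈ Q, ∃ z ∈ Z, cv g u = u' * z := by
  obtain ⟨p1, hp1, u1, hu1, e1⟩ := h.toFr.mem_J.mp ((mem_normalizer_iff.mp hg u).mp (mem_sup_right hu))
  refine ⟨u1, hu1, p1, ?_, by rw [cv_def, e1, h.comm p1 hp1 u1 hu1]⟩
  apply h.toHeis.mem_Z hp1
  intro p hp
  -- `p = g j g⁻¹`
  have hj : g⁻¹ * p * g ∈ P ⊔ Q := by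
    rw [mem_normalizer_iff.mp hg]
    have : g * (g⁻¹ * p * g) * g⁻¹ = p := by group
    rw [this]; exact mem_sup_left hp
  obtain ⟨p3, hp3, u3, hu3, e3⟩ := h.toFr.mem_J.mp hj
  have c1 : u * (g⁻¹ * p * g) = (g⁻¹ * p * g) * u := by
    rw [e3]
    have k1 := h.comm p3 hp3 u hu
    have k2 := h.Qc hu hu3
    calc u * (p3 * u3) = (u * p3) * u3 := by group
      _ = p3 * (u * u3) := by rw [← k1]; group
      _ = p3 * u3 * u := by rw [k2]; group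
  have c2 : (g * u * g⁻¹) * p = p * (g * u * g⁻¹) := by
    calc (g * u * g⁻¹) * p = g * (u * (g⁻¹ * p * g)) * g⁻¹ := by group
      _ = g * ((g⁻¹ * p * g) * u) * g⁻¹ := by rw [c1]
      _ = p * (g * u * g⁻¹) := by group
  rw [e1] at c2
  have k3 := h.comm p hp u1 hu1
  have c3 : p1 * p * u1 = p * p1 * u1 := by
    calc p1 * p * u1 = p1 * (p * u1) := by group
      _ = p1 * u1 * p := by rw [k3]; group
      _ = p * (p1 * u1) := c2
      _ = p * p1 * u1 := by group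
  exact mul_right_cancel c3

theorem VD.ρJ (h : VD T P Q Z A b a q ρ x t) [Finite G] :
    ρ ∈ normalizer ((P ⊔ Q : Subgroup G) : Set G) := by
  have h1 : ∀ j ∈ P ⊔ Q, ρ * j * ρ⁻¹ ∈ P ⊔ Q := by
    intro j hj
    obtain ⟨p, hp, u, hu, rfl⟩ := h.toFr.mem_J.mp hj
    have e : ρ * (p * u) * ρ⁻¹ = (ρ * p * ρ⁻¹) * u := by
      calc ρ * (p * u) * ρ⁻¹ = (ρ * p * ρ⁻¹) * (ρ * u) * ρ⁻¹ := by group
        _ = (ρ * p * ρ⁻¹) * u := by rw [h.ρQ u hu]; group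
    rw [e]
    exact mul_mem (mem_sup_left (h.ρP p hp)) (mem_sup_right hu)
  have h2 : cjg ρ (P ⊔ Q) = P ⊔ Q := by
    apply Subgroup.eq_of_le_of_card_ge
    · rintro _ ⟨j, hj, rfl⟩
      exact h1 j hj
    · rw [card_cjg]
  rw [mem_normalizer_iff]
  intro j
  constructor
  · exact h1 j
  · intro hj
    have h3 : j ∈ P ⊔ Q := by
      have h4 : ρ * j * ρ⁻¹ ∈ cjg ρ (P ⊔ Q) := by rw [h2]; exact hj
      exact conj_mem_cjg.mp h4
    exact h3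

theorem VD.TJ (h : VD T P Q Z A b a q ρ x t) {y : G} (hy : y ∈ T) :
    y ∈ normalizer ((P ⊔ Q : Subgroup G) : Set G) := by
  rw [mem_normalizer_iff]
  intro j
  constructor
  · exact h.toFr.nJ hy
  · intro hj
    have h1 := h.toFr.nJ' hy hj
    have e : y⁻¹ * (y * j * y⁻¹) * y = j := by group
    rwa [e] at h1

/-- **The situation of `HStar`** -/
theorem VD.hs [Finite G] (h : VD T P Q Z A b a q ρ x t) : HS (P ⊔ Q) Q Z a b q ρ x := by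
  have hρJ := h.ρJ
  have hc : cv ρ b ∈ Z := h.nZ' hρJ h.bZ
  have hd : cv ρ (cv ρ b) ∈ Z := h.nZ' hρJ hc
  have hbρ : cv ρ b ≠ b := fun h1 => h.b1 (h.ρ1 b h.bZ (cv_eq_self.mp h1))
  have hc1 : cv ρ b ≠ 1 := fun h1 => h.b1 (cv_inj (g := ρ) (h1.trans (cv_one ρ).symm))
  have hd1 : cv ρ (cv ρ b) ≠ 1 := fun h1 => hc1 (cv_inj (g := ρ) (h1.trans (cv_one ρ).symm))
  have hdc : cv ρ (cv ρ b) ≠ cv ρ b := fun h1 => hbρ (cv_inj h1)
  have hdb : cv ρ (cv ρ b) ≠ b := by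
    intro h1
    apply hbρ
    have h2 : cv ρ (b * cv ρ b) = b * cv ρ b := by
      rw [cv_mul, h1, h.toHeis.Zcomm hc h.bZ]
    have h3 := h.ρ1 _ (Z.mul_mem h.bZ hc) (cv_eq_self.mp h2)
    calc cv ρ b = (b * b) * cv ρ b := by rw [h.toHeis.Zsq h.bZ, one_mul]
      _ = b * (b * cv ρ b) := by group
      _ = b := by rw [h3, mul_one]
  have hZm : ∀ z ∈ Z, z = 1 ∨ z = b ∨ z = cv ρ b ∨ z = cv ρ (cv ρ b) := by
    have h1 : ({1, b, cv ρ b, cv ρ (cv ρ b)} : Set G) ⊆ (Z : Set G) := by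
      rintro w (rfl | rfl | rfl | rfl)
      · exact Z.one_mem
      · exact h.bZ
      · exact hc
      · exact hd
    have h2 : ({1, b, cv ρ b, cv ρ (cv ρ b)} : Set G).ncard = 4 := by
      rw [Set.ncard_insert_of_notMem, Set.ncard_insert_of_notMem, Set.ncard_pair]
      · exact hdc.symm
      · rintro (h3 | h3)
        · exact hbρ h3.symm
        · exact hdb h3.symm
      · rintro (h3 | h3 | h3)
        · exact h.b1 h3.symm
        · exact hc1 h3.symm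
        · exact hd1 h3.symm
    have h3 : (Z : Set G).ncard = 4 := h.cardZ
    have h4 := Set.eq_of_subset_of_ncard_le h1 (by rw [h2, h3]) (Set.toFinite _)
    intro z hz
    have h5 : z ∈ ({1, b, cv ρ b, cv ρ (cv ρ b)} : Set G) := by rw [h4]; exact hz
    exact h5
  exact
    { Qm := h.Qm
      aQ := h.aQ
      qQ := h.qQ
      a1 := h.a1
      q1 := h.q1
      qa := h.qa
      aa := h.aa
      qq := h.qq
      aq := h.aq
      Zm := hZm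
      bZ := h.bZ
      b1 := h.b1
      Zz := fun z hz => h.toHeis.Zsq hz
      bρ := hbρ
      QZ := fun u hu z hz => (h.comm z (h.toHeis.ZP hz) u hu).symm
      dis := fun u hu huZ => h.disj u (h.toHeis.ZP huZ) hu
      ρQ := fun u hu => cv_eq_self.mpr (h.ρQ u hu)
      ρJ := hρJ
      xJ := h.TJ h.xT
      xa := cv_eq_self.mpr h.xa
      xq := by rw [cv_def, h.xq, mul_inv_cancel_right]
      xb := cv_eq_self.mpr (h.bT x h.xT)
      nZ := fun g hg z hz => h.nZ' hg hz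
      nQZ := fun g hg u hu => h.nQZ' hg hu
      nQ := fun g hg hga u hu => h.nQa g (cv_eq_self.mp hga) hg u hu }

variable [Finite G]

theorem VD.eta (h : VD T P Q Z A b a q ρ x t) {n : G} (hn : n ∈ normalizer ((P ⊔ Q : Subgroup G) : Set G))
    (hnq : n * q = q * n) {z : G} (hz : z ∈ Z) (hna : n * a * n⁻¹ = a * z) : z = 1 :=
  h.hs.eta hn (Or.inl rfl) (cv_eq_self.mpr hnq) hz hna

theorem VD.all (h : VD T P Q Z A b a q ρ x t) {z : G} (hz : z ∈ Z) :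
    ∃ m ∈ normalizer ((P ⊔ Q : Subgroup G) : Set G), m * (q * a) * m⁻¹ = q * a * z :=
  h.hs.all h.tJ (cv_eq_self.mpr h.tb) h.ta hz

/-- an element of `T` commuting with `a`, `q` centralizes `Z` -/
theorem VD.cenq (h : VD T P Q Z A b a q ρ x t) {y : G} (hy : y ∈ T) (hya : y * a = a * y)
    (hyq : y * q = q * y) : ∀ z ∈ Z, y * z = z * y := fun z hz =>
  cv_eq_self.mp (h.hs.centZ h.tJ (cv_eq_self.mpr h.tb) h.ta (h.TJ hy) (cv_eq_self.mpr hya)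
    (cv_eq_self.mpr (h.bT y hy)) (cv_eq_self.mpr hyq) z hz)

omit [Finite G] in
/-- the involutions of `P x` are conjugate to `x` -/
theorem VD.pconj (h : VD T P Q Z A b a q ρ x t) {p : G} (hp : p ∈ P) (hpx : (p * x) * (p * x) = 1) :
    ∃ m ∈ P, cv m x = p * x := by
  have hxi : x⁻¹ = x := inv_eq_of_mul_eq_one_left h.xx
  have hnin : ¬ ∃ p ∈ P, ∃ q ∈ Q, x = p * q := by
    rintro ⟨p', hp', u, hu, e⟩
    apply h.xZ
    intro z hz
    rw [e]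
    have e1 := h.Zcen z hz p' hp'
    have e2 := h.comm z (h.toHeis.ZP hz) u hu
    calc p' * u * z = p' * (u * z) := by group
      _ = (p' * z) * u := by rw [← e2]; group
      _ = z * (p' * u) := by rw [e1]; group
  have hp' : x⁻¹ * p * x ∈ P := by
    have h1 := h.nP x h.xT p hp
    rwa [hxi] at h1 ⊢
  -- `x (x⁻¹ p x) = p x`
  obtain ⟨r, hr, e⟩ := h.conj x h.xT hnin (by rw [h.xx]; exact Q.one_mem) (x⁻¹ * p * x) hp' (by
    calc x⁻¹ * (x⁻¹ * p * x) * x * (x⁻¹ * p * x) = x⁻¹ * x⁻¹ * ((p * x) * (p * x)) := by group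
      _ = 1 := by rw [hpx, mul_one, hxi, h.xx])
  refine ⟨r, hr, ?_⟩
  rw [cv_def, e]
  group

/-- **`s`** -/
theorem VD.exists_s (h : VD T P Q Z A b a q ρ x t) :
    (∃ s ∈ normalizer ((P ⊔ Q : Subgroup G) : Set G), s * x = x * s ∧ s * a * s⁻¹ = a * b ∧ s * b = b * s ∧
      ∀ y ∈ T, s * y * s⁻¹ ∈ T) ∨
    ∃ s ∈ normalizer ((P ⊔ Q : Subgroup G) : Set G), s * x * s⁻¹ ∈ T ∧ s * a * s⁻¹ = a * b ∧ s * b = b * s ∧
      (¬ ∀ z ∈ Z, (s * x * s⁻¹) * z = z * (s * x * s⁻¹)) ∧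
      ∀ i, ∀ u ∈ A i, (s * x * s⁻¹) * u * (s * x * s⁻¹)⁻¹ ∈ A i := by
  obtain ⟨s, hs, hsZ, hsa, -, hcZ, hcQ⟩ := h.hs.exists_t h.tJ (cv_eq_self.mpr h.tb) h.ta
  have hsJ : s ∈ normalizer ((P ⊔ Q : Subgroup G) : Set G) := by
    rcases hs with rfl | rfl
    · exact h.tJ
    · exact mul_mem (h.TJ h.xT) h.tJ
  have hsT : ∀ y ∈ T, s * y * s⁻¹ ∈ T := by
    intro y hy
    rcases hs with rfl | rfl
    · exact h.tT y hy
    · have e : x * t * y * (x * t)⁻¹ = x * (t * y * t⁻¹) * x⁻¹ := by group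
      rw [e]
      exact T.mul_mem (T.mul_mem h.xT (h.tT y hy)) (T.inv_mem h.xT)
  have hsb : s * b = b * s := cv_eq_self.mp (hsZ b h.bZ)
  have hxs : s * x * s⁻¹ ∈ T := hsT x h.xT
  have hcT : s * x * s⁻¹ * x⁻¹ ∈ T := T.mul_mem hxs (T.inv_mem h.xT)
  have hcZ' : ∀ z ∈ Z, (s * x * s⁻¹ * x⁻¹) * z = z * (s * x * s⁻¹ * x⁻¹) := fun z hz =>
    cv_eq_self.mp (hcZ z hz)
  rcases h.actA _ hcT with h1 | h1
  · left
    obtain ⟨p, hp, u, hu, e⟩ := h.inner _ hcT h1 hcZ'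
    obtain ⟨u', hu', p', hp', k1, k2, k3⟩ := h.hs.exists_s (P := P) h.xx (fun p hp => h.nP x h.xT p hp)
      (fun u hu p hp => (h.comm p hp u hu).symm) (fun u hu huP => h.disj u huP hu) h.toHeis.ZP
      (fun p hp => h.Zcen b h.bZ p hp) (fun p hp hpx => h.pconj hp hpx) hsa (hsZ b h.bZ)
      ⟨u, hu, p, hp, by rw [e, h.comm p hp u hu]⟩
    have hup : u' * p' ∈ T := T.mul_mem (h.QT hu') (h.PT hp')
    refine ⟨u' * p' * s, mul_mem (h.TJ hup) hsJ, k1, k2, cv_eq_self.mp k3, ?_⟩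
    intro y hy
    have e2 : u' * p' * s * y * (u' * p' * s)⁻¹ = (u' * p') * (s * y * s⁻¹) * (u' * p')⁻¹ := by group
    rw [e2]
    exact T.mul_mem (T.mul_mem hup (hsT y hy)) (T.inv_mem hup)
  · right
    refine ⟨s, hsJ, hxs, hsa, hsb, ?_, ?_⟩
    · intro hcen
      apply h.xZ
      intro z hz
      have h2 := hcen z hz
      have h3 := hcZ' z hz
      -- `x = c⁻¹ x^s`
      have e : x = (s * x * s⁻¹ * x⁻¹)⁻¹ * (s * x * s⁻¹) := by group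
      obtain ⟨c, hc⟩ : ∃ c, c = s * x * s⁻¹ * x⁻¹ := ⟨_, rfl⟩
      obtain ⟨y, hy⟩ : ∃ y, y = s * x * s⁻¹ := ⟨_, rfl⟩
      rw [← hc, ← hy] at e
      rw [← hc] at h3
      rw [← hy] at h2
      have h4 : c⁻¹ * z = z * c⁻¹ := (Commute.inv_left (show Commute c z from h3)).eq
      rw [e]
      calc c⁻¹ * y * z = c⁻¹ * (y * z) := by group
        _ = (c⁻¹ * z) * y := by rw [h2]; group
        _ = z * (c⁻¹ * y) := by rw [h4]; group
    · intro i u hu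
      have e : (s * x * s⁻¹) * u * (s * x * s⁻¹)⁻¹ =
          (s * x * s⁻¹ * x⁻¹) * (x * u * x⁻¹) * (s * x * s⁻¹ * x⁻¹)⁻¹ := by group
      rw [e]
      have h2 := h1 (!i) _ (h.xA i u hu)
      rwa [Bool.not_not] at h2

end

end Cfsg.Agent.UGT.L34T2.V4
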