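import Cfsg.Agent.UGT.FL34.New7
import Cfsg.Agent.UGT.FL34.KF34
import Cfsg.Agent.UGT.ThEL34.Acts
import Cfsg.Agent.UGT.L34T2.V4
import Cfsg.Agent.UGT.L34T2.EndV4
import Cfsg.Agent.UGT.L34T2.CQHat
import Mathlib.GroupTheory.FixedPointFree

/-!
# Type `L₃(4)`, `T < S`, small: the group `D^`

In `H = M / W`: `L ≅ L₃(4)` normal in `C(a)`, `Q = C(a) ∩ C(L)` a 2-group, `x` a polarity on `L`,
`b ∈ C_L(x)` an involution, `D ≠ 1` an odd normal subgroup of `C(x)` with `C_D(b) = 1` and `C_D(a)` not trivial on `L`.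

* `DH`: the situation; `DH.inv` (`b` inverts `D`), `DH.comm` (`D` is abelian),
  `DH.mem_iff` (`C_D(a) = Y = {y ∈ L | y³ = 1, y x = x y}`).
* `DH.not_wild`: no `s` commuting with `b` such that `x^s` acts on `L` as a field or graph automorphism.
* `Fin4.exists_s`, `Fin4.false`: the end of the case `Q = V₄`.
-/

set_option autoImplicit false

open Subgroup
open Cfsg.Agent.UGT.Iface (IsL34)
open Cfsg.Agent.UGT.LTF.Defs (KF34 FT OddC)
open Cfsg.Agent.UGT.ThEL34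

namespace Cfsg.Agent.UGT.L34T2.DHat

universe u

variable {G : Type u} [Group G]

/-- an involution acting fixed-point-freely on an odd group inverts it -/
theorem inv_of_fpf [Finite G] {N : Subgroup G} {a : G} (ha : a * a = 1)
    (hn : ∀ d ∈ N, a * d * a⁻¹ ∈ N) (hf : ∀ d ∈ N, d * a = a * d → d = 1) :
    ∀ d ∈ N, a * d * a⁻¹ = d⁻¹ := by
  have hai : a⁻¹ = a := inv_eq_of_mul_eq_one_left ha
  obtain ⟨φ, hφ⟩ : ∃ φ : ↥N →* ↥N, ∀ d : ↥N, ((φ d : ↥N) : G) = a * d * a⁻¹ :=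
    ⟨{ toFun := fun d => ⟨a * d * a⁻¹, hn d d.2⟩
       map_one' := Subtype.ext (by simp)
       map_mul' := fun d e => Subtype.ext (by
        change a * ((d : G) * e) * a⁻¹ = a * d * a⁻¹ * (a * e * a⁻¹)
        group) }, fun _ => rfl⟩
  have hfix : MonoidHom.FixedPointFree φ := by
    intro d hd
    apply Subtype.ext
    apply hf d d.2
    have h1 := hφ d
    rw [hd] at h1
    calc (d : G) * a = (a * d * a⁻¹) * a := by rw [← h1]
      _ = a * d := by group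
  have hinv : Function.Involutive φ := by
    intro d
    apply Subtype.ext
    rw [hφ, hφ, hai]
    calc a * (a * (d : G) * a) * a = (a * a) * d * (a * a) := by group
      _ = d := by rw [ha, one_mul, mul_one]
  have h1 := hfix.coe_eq_inv_of_involutive hinv
  intro d hd
  have h2 := congrFun h1 ⟨d, hd⟩
  have h3 := congrArg Subtype.val h2
  rw [hφ] at h3
  exact h3

/-- The situation. -/
structure DH (L D Q : Subgroup G) (a b x : G) : Prop where
  l34 : IsL34 ↥L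
  La : ∀ l ∈ L, l * a = a * l
  Ln : ∀ g, g * a = a * g → g ∈ normalizer (L : Set G)
  fixQ : ∀ g, g * a = a * g → (∀ l ∈ L, g * l = l * g) → g ∈ Q
  Q2 : IsPGroup 2 ↥Q
  xx : x * x = 1
  xa : x * a = a * x
  bL : b ∈ L
  bb : b * b = 1
  b1 : b ≠ 1
  xb : x * b = b * x
  dodd : Odd (Nat.card D)
  dx : ∀ d ∈ D, d * x = x * d
  dn : ∀ g, g * x = x * g → ∀ d ∈ D, g * d * g⁻¹ ∈ D
  db : ∀ d ∈ D, d * b = b * d → d = 1
  da : ∃ d ∈ D, d * a = a * d ∧ ∃ l ∈ L, d * l ≠ l * d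

section

variable {L D Q : Subgroup G} {a b x : G} [Finite G]

/-- `b` inverts `D` -/
theorem DH.inv (h : DH L D Q a b x) : ∀ d ∈ D, b * d * b⁻¹ = d⁻¹ :=
  inv_of_fpf h.bb (h.dn b h.xb.symm) h.db

/-- `D` is abelian -/
theorem DH.comm (h : DH L D Q a b x) {d e : G} (hd : d ∈ D) (he : e ∈ D) : d * e = e * d := by
  have h1 := h.inv (d * e) (D.mul_mem hd he)
  have h2 : b * (d * e) * b⁻¹ = (b * d * b⁻¹) * (b * e * b⁻¹) := by group
  rw [h2, h.inv d hd, h.inv e he, ← mul_inv_rev, inv_inj] at h1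
  exact h1.symm

omit [Finite G] in
theorem DH.sq_one (h : DH L D Q a b x) {d : G} (hd : d ∈ D) (hdd : d * d = 1) : d = 1 := by
  have h1 : orderOf d ∣ 2 := orderOf_dvd_of_pow_eq_one (by rw [pow_two, hdd])
  have h2 : orderOf d ∣ Nat.card D := by
    have := orderOf_dvd_natCard (⟨d, hd⟩ : D)
    rwa [Subgroup.orderOf_mk] at this
  have h3 : Odd (orderOf d) := Odd.of_dvd_nat h.dodd h2
  rcases (Nat.dvd_prime Nat.prime_two).mp h1 with h4 | h4
  · exact orderOf_eq_one_iff.mp h4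
  · rw [h4] at h3
    exact absurd h3 (by decide)

/-- the group of automorphisms of `L` induced by `C_D(a)` -/
def DH.E (_h : DH L D Q a b x) : Subgroup (MulAut ↥L) :=
  ((D ⊓ centralizer ({a} : Set G)).subgroupOf (normalizer (L : Set G))).map L.normalizerMonoidHom

omit [Finite G] in
theorem DH.mem_E (h : DH L D Q a b x) {X : MulAut ↥L} :
    X ∈ h.E ↔ ∃ d ∈ D, d * a = a * d ∧ Acts L d X := by
  constructor
  · rintro ⟨⟨d, hdN⟩, hd, rfl⟩
    have hd' : d ∈ D ⊓ centralizer ({a} : Set G) := hd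
    exact ⟨d, hd'.1, mem_centralizer_singleton_iff.mp hd'.2, fun _ => rfl⟩
  · rintro ⟨d, hd, hda, hX⟩
    have hdN : d ∈ normalizer (L : Set G) := h.Ln d hda
    refine ⟨⟨d, hdN⟩, ?_, ?_⟩
    · change d ∈ D ⊓ centralizer ({a} : Set G)
      exact ⟨hd, mem_centralizer_singleton_iff.mpr hda⟩
    · exact (acts_norm ⟨d, hdN⟩).uniq hX

omit [Finite G] in
theorem DH.odd_E (h : DH L D Q a b x) : Odd (Nat.card h.E) := by
  refine Odd.of_dvd_nat h.dodd ?_
  refine (card_map_dvd _ _).trans ?_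
  refine (card_comap_dvd_of_injective _ _ (subtype_injective _)).trans ?_
  exact card_dvd_of_le inf_le_left

omit [Finite G] in
theorem DH.oddC (h : DH L D Q a b x) {ξ : MulAut ↥L} (hξ : Acts L x ξ) : OddC ξ h.E := by
  refine ⟨h.odd_E, ?_, ?_⟩
  · intro X hX
    obtain ⟨d, hd, -, hdX⟩ := h.mem_E.mp hX
    exact hdX.comm hξ (h.dx d hd)
  · intro l hl X hX
    obtain ⟨d, hd, hda, hdX⟩ := h.mem_E.mp hX
    have hlx : (l : G) * x = x * l := by
      have h1 := hξ l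
      rw [hl] at h1
      calc (l : G) * x = (x * l * x⁻¹) * x := by rw [← h1]
        _ = x * l := by group
    have hla := h.La l l.2
    refine h.mem_E.mpr ⟨(l : G) * d * (l : G)⁻¹, h.dn _ hlx d hd, ?_, ?_⟩
    · have e1 : (l : G)⁻¹ * a = a * (l : G)⁻¹ := (Commute.inv_left (show Commute (l : G) a from hla)).eq
      calc (l : G) * d * (l : G)⁻¹ * a = (l : G) * d * ((l : G)⁻¹ * a) := by group
        _ = (l : G) * (d * a) * (l : G)⁻¹ := by rw [e1]; group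
        _ = ((l : G) * a) * d * (l : G)⁻¹ := by rw [hda]; group
        _ = a * ((l : G) * d * (l : G)⁻¹) := by rw [hla]; group
    · exact ((acts_coe l).mul hdX).mul (acts_coe l).inv

omit [Finite G] in
theorem DH.E_ne (h : DH L D Q a b x) : h.E ≠ ⊥ := by
  intro h0
  obtain ⟨d, hd, hda, l, hl, hne⟩ := h.da
  obtain ⟨X, hX⟩ := exists_acts (h.Ln d hda)
  have h1 : X ∈ h.E := h.mem_E.mpr ⟨d, hd, hda, hX⟩
  rw [h0, mem_bot] at h1
  rw [h1] at hX
  have h2 := acts_one_iff.mp hX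
  exact hne (mem_centralizer_iff.mp h2 l hl).symm

omit [Finite G] in
theorem DH.exists_acts_x (h : DH L D Q a b x) : ∃ ξ : MulAut ↥L, Acts L x ξ ∧ FT ξ := by
  obtain ⟨ξ, hξ⟩ := exists_acts (h.Ln x h.xa)
  exact ⟨ξ, hξ, FL34.KF.kf34 _ h.l34 ξ (hξ.sq h.xx) h.E (h.oddC hξ) h.E_ne⟩

/-- **`C_D(a) = Y`** -/
theorem DH.mem_iff (h : DH L D Q a b x) {d : G} :
    (d ∈ D ∧ d * a = a * d) ↔ (d ∈ L ∧ d ^ 3 = 1 ∧ d * x = x * d) := by
  obtain ⟨ξ, hξ, F⟩ := h.exists_acts_x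
  have hfix : ∀ l : ↥L, ξ l = l → (l : G) * x = x * l := by
    intro l hl
    have h1 := hξ l
    rw [hl] at h1
    calc (l : G) * x = (x * l * x⁻¹) * x := by rw [← h1]
      _ = x * l := by group
  have hfix' : ∀ l : ↥L, (l : G) * x = x * l → ξ l = l := by
    intro l hl
    apply Subtype.ext
    rw [hξ l, ← hl, mul_inv_cancel_right]
  have h1 : ∀ d ∈ D, d * a = a * d → d ∈ L ∧ d ^ 3 = 1 ∧ d * x = x * d := by
    intro d hd hda
    obtain ⟨X, hX⟩ := exists_acts (h.Ln d hda)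
    obtain ⟨y, hy, hy3, hξy⟩ := F.core h.E (h.oddC hξ) X (h.mem_E.mpr ⟨d, hd, hda, hX⟩)
    -- `u = d y⁻¹` centralizes `L`
    rw [hy] at hX
    have h2 : Acts L (y : G) (MulAut.conj y) := acts_coe y
    have h3 : d * (y : G)⁻¹ ∈ centralizer (L : Set G) := hX.mul_inv_mem h2
    have hya := h.La y y.2
    have hyai : (y : G)⁻¹ * a = a * (y : G)⁻¹ := (Commute.inv_left (show Commute (y : G) a from hya)).eq
    have h4 : d * (y : G)⁻¹ ∈ Q := by
      apply h.fixQ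
      · calc d * (y : G)⁻¹ * a = d * ((y : G)⁻¹ * a) := by group
          _ = (d * a) * (y : G)⁻¹ := by rw [hyai]; group
          _ = a * (d * (y : G)⁻¹) := by rw [hda]; group
      · intro l hl
        exact (mem_centralizer_iff.mp h3 l hl).symm
    obtain ⟨u, hu⟩ : ∃ u, u = d * (y : G)⁻¹ := ⟨_, rfl⟩
    rw [← hu] at h3 h4
    have hd' : d = u * y := by rw [hu]; group
    have huy : Commute u (y : G) := (mem_centralizer_iff.mp h3 y y.2).symm
    -- `u ^ 2 ^ k = 1`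
    obtain ⟨k, hk⟩ := h.Q2 ⟨u, h4⟩
    have hk' : u ^ 2 ^ k = 1 := congrArg Subtype.val hk
    have hdo : Odd (orderOf d) := by
      refine Odd.of_dvd_nat h.dodd ?_
      have := orderOf_dvd_natCard (⟨d, hd⟩ : D)
      rwa [Subgroup.orderOf_mk] at this
    -- `u³ = d³` has odd order
    have hy3' : (y : G) ^ 3 = 1 := by
      have := congrArg Subtype.val hy3
      exact this
    have h5 : d ^ 3 = u ^ 3 := by rw [hd', huy.mul_pow, hy3', mul_one]
    have h6 : orderOf (u ^ 3) ∣ orderOf d := by rw [← h5]; exact orderOf_pow_dvd 3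
    have h7 : orderOf (u ^ 3) ∣ 2 ^ k := by
      apply orderOf_dvd_of_pow_eq_one
      rw [← pow_mul, mul_comm, pow_mul, hk', one_pow]
    have h8 : orderOf (u ^ 3) = 1 := by
      have h9 : Nat.Coprime (orderOf (u ^ 3)) (2 ^ k) :=
        (Nat.coprime_two_right.2 (Odd.of_dvd_nat hdo h6)).pow_right k
      exact Nat.Coprime.eq_one_of_dvd h9 h7
    have h9 : u ^ 3 = 1 := orderOf_eq_one_iff.mp h8
    have h10 : u = 1 := by
      have h11 : orderOf u ∣ 3 := orderOf_dvd_of_pow_eq_one h9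
      have h12 : orderOf u ∣ 2 ^ k := orderOf_dvd_of_pow_eq_one hk'
      have h13 : Nat.Coprime 3 (2 ^ k) := Nat.Coprime.pow_right k (by decide)
      exact orderOf_eq_one_iff.mp (Nat.Coprime.eq_one_of_dvd (h13.coprime_dvd_left h11) h12)
    rw [h10, one_mul] at hd'
    rw [hd']
    exact ⟨y.2, hy3', hfix y hξy⟩
  constructor
  · rintro ⟨hd, hda⟩
    exact h1 d hd hda
  · rintro ⟨hdL, hd3, hdx⟩
    refine ⟨?_, h.La d hdL⟩
    obtain ⟨y, hy, hya, l, hl, hne⟩ := h.da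
    obtain ⟨hyL, hy3, hyx⟩ := h1 y hy hya
    have hy1 : (⟨y, hyL⟩ : ↥L) ≠ 1 := by
      intro h2
      have h3 : y = 1 := congrArg Subtype.val h2
      apply hne
      rw [h3, one_mul, mul_one]
    have h2 := F.irr ⟨y, hyL⟩ ⟨d, hdL⟩ (Subtype.ext hy3) hy1 (hfix' _ hyx) (Subtype.ext hd3) (hfix' _ hdx)
    have h3 : closure {w : ↥L | ∃ r, ξ r = r ∧ w = r * ⟨y, hyL⟩ * r⁻¹} ≤ D.subgroupOf L := by
      rw [closure_le]
      rintro w ⟨r, hr, rfl⟩
      exact h.dn r (hfix r hr) y hy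
    exact h3 h2

/-- **No `s` with `x^s` wild on `L`.** -/
theorem DH.not_wild (h : DH L D Q a b x) {s : G} (hsb : s * b = b * s) {ξ X : MulAut ↥L} (hξ : Acts L x ξ)
    (hX : Acts L (s * x * s⁻¹) X) (hw : Wild ξ X) : False := by
  obtain ⟨ξ', hξ', F⟩ := h.exists_acts_x
  obtain rfl := hξ.uniq hξ'
  have hxi : x⁻¹ = x := inv_eq_of_mul_eq_one_left h.xx
  -- `F0 = C_L(x^s)`, simple
  have hsimp := F.wsimp X hw
  have hperf := F.wperf X hw
  -- `b ∈ F0`
  have hbF : (⟨b, h.bL⟩ : ↥L) ∈ fx X := by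
    rw [mem_fx]
    apply Subtype.ext
    rw [hX]
    have e1 : s⁻¹ * b = b * s⁻¹ := (Commute.inv_left (show Commute s b from hsb)).eq
    calc s * x * s⁻¹ * b * (s * x * s⁻¹)⁻¹ = s * x * (s⁻¹ * b) * s * x⁻¹ * s⁻¹ := by group
      _ = s * (x * b) * x⁻¹ * s⁻¹ := by rw [e1]; group
      _ = (s * b) * s⁻¹ := by rw [h.xb]; group
      _ = b := by rw [hsb]; group
  -- `b` inverts `s D s⁻¹`
  have hinv : ∀ d ∈ D, b * (s * d * s⁻¹) * b⁻¹ = (s * d * s⁻¹)⁻¹ := by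
    intro d hd
    have e1 : s⁻¹ * b⁻¹ = b⁻¹ * s⁻¹ := (Commute.inv_left (Commute.inv_right (show Commute s b from hsb))).eq
    calc b * (s * d * s⁻¹) * b⁻¹ = (b * s) * d * (s⁻¹ * b⁻¹) := by group
      _ = s * (b * d * b⁻¹) * s⁻¹ := by rw [← hsb, e1]; group
      _ = (s * d * s⁻¹)⁻¹ := by rw [h.inv d hd]; group
  -- the kernel
  let N : Subgroup (fx X) :=
    { carrier := {j | ∀ d ∈ D, ((j : ↥L) : G) * (s * d * s⁻¹) = (s * d * s⁻¹) * ((j : ↥L) : G)}
      mul_mem' := by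
        intro i j hi hj d hd
        have h1 := hi d hd
        have h2 := hj d hd
        change ((i : ↥L) : G) * ((j : ↥L) : G) * (s * d * s⁻¹) = (s * d * s⁻¹) * (((i : ↥L) : G) * ((j : ↥L) : G))
        calc ((i : ↥L) : G) * ((j : ↥L) : G) * (s * d * s⁻¹)
            = ((i : ↥L) : G) * (((j : ↥L) : G) * (s * d * s⁻¹)) := by group
          _ = (((i : ↥L) : G) * (s * d * s⁻¹)) * ((j : ↥L) : G) := by rw [h2]; group
          _ = _ := by rw [h1]; group
      one_mem' := by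
        intro d _
        change (1 : G) * _ = _ * 1
        rw [one_mul, mul_one]
      inv_mem' := by
        intro i hi d hd
        change ((i : ↥L) : G)⁻¹ * (s * d * s⁻¹) = (s * d * s⁻¹) * ((i : ↥L) : G)⁻¹
        exact (Commute.inv_left (show Commute ((i : ↥L) : G) (s * d * s⁻¹) from hi d hd)).eq }
  -- `F0` normalizes `s D s⁻¹`
  have hnorm : ∀ j : fx X, ∀ d ∈ D, ∃ d' ∈ D, ((j : ↥L) : G) * (s * d * s⁻¹) * ((j : ↥L) : G)⁻¹ = s * d' * s⁻¹ := by
    intro j d hd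
    have hj : X (j : ↥L) = j := mem_fx.mp j.2
    have h1 := hX (j : ↥L)
    rw [hj] at h1
    -- `j` commutes with `s x s⁻¹`
    have h2 : ((j : ↥L) : G) * (s * x * s⁻¹) = (s * x * s⁻¹) * ((j : ↥L) : G) := by
      calc ((j : ↥L) : G) * (s * x * s⁻¹)
          = (s * x * s⁻¹ * ((j : ↥L) : G) * (s * x * s⁻¹)⁻¹) * (s * x * s⁻¹) := by rw [← h1]
        _ = _ := by group
    have h3 : (s⁻¹ * ((j : ↥L) : G) * s) * x = x * (s⁻¹ * ((j : ↥L) : G) * s) := by
      calc (s⁻¹ * ((j : ↥L) : G) * s) * x = s⁻¹ * (((j : ↥L) : G) * (s * x * s⁻¹)) * s := by group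
        _ = s⁻¹ * ((s * x * s⁻¹) * ((j : ↥L) : G)) * s := by rw [h2]
        _ = _ := by group
    refine ⟨(s⁻¹ * ((j : ↥L) : G) * s) * d * (s⁻¹ * ((j : ↥L) : G) * s)⁻¹, h.dn _ h3 d hd, by group⟩
  have hNn : N.Normal := by
    constructor
    intro n hn g d hd
    obtain ⟨d', hd', e1⟩ := hnorm g⁻¹ d hd
    have e2 := hn d' hd'
    change (((g : ↥L) : G) * ((n : ↥L) : G) * ((g : ↥L) : G)⁻¹) * (s * d * s⁻¹) =
      (s * d * s⁻¹) * (((g : ↥L) : G) * ((n : ↥L) : G) * ((g : ↥L) : G)⁻¹)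
    have e3 : ((g : ↥L) : G)⁻¹ * (s * d * s⁻¹) * ((g : ↥L) : G) = s * d' * s⁻¹ := by
      rw [← e1]
      change _ = ((g : ↥L) : G)⁻¹ * (s * d * s⁻¹) * (((g : ↥L) : G)⁻¹)⁻¹
      rw [inv_inv]
    calc (((g : ↥L) : G) * ((n : ↥L) : G) * ((g : ↥L) : G)⁻¹) * (s * d * s⁻¹)
        = ((g : ↥L) : G) * (((n : ↥L) : G) * (((g : ↥L) : G)⁻¹ * (s * d * s⁻¹) * ((g : ↥L) : G))) *
          ((g : ↥L) : G)⁻¹ := by group
      _ = ((g : ↥L) : G) * ((((g : ↥L) : G)⁻¹ * (s * d * s⁻¹) * ((g : ↥L) : G)) * ((n : ↥L) : G)) *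
          ((g : ↥L) : G)⁻¹ := by rw [e3, e2]
      _ = _ := by group
  -- commutators with `b`
  have hcom : ∀ j : fx X, ⟨⟨b, h.bL⟩, hbF⟩ * j * (⟨⟨b, h.bL⟩, hbF⟩ : fx X)⁻¹ * j⁻¹ ∈ N := by
    intro j d hd
    change (b * ((j : ↥L) : G) * b⁻¹ * ((j : ↥L) : G)⁻¹) * (s * d * s⁻¹) =
      (s * d * s⁻¹) * (b * ((j : ↥L) : G) * b⁻¹ * ((j : ↥L) : G)⁻¹)
    obtain ⟨d', hd', e1⟩ := hnorm j⁻¹ d hd
    have e3 : ((j : ↥L) : G)⁻¹ * (s * d * s⁻¹) * ((j : ↥L) : G) = s * d' * s⁻¹ := by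
      rw [← e1]
      change _ = ((j : ↥L) : G)⁻¹ * (s * d * s⁻¹) * (((j : ↥L) : G)⁻¹)⁻¹
      rw [inv_inv]
    have hbi : b⁻¹ = b := inv_eq_of_mul_eq_one_left h.bb
    have e4 : b⁻¹ * (s * d' * s⁻¹) * b = (s * d' * s⁻¹)⁻¹ := by
      have := hinv d' hd'
      rwa [hbi] at this ⊢
    have e5 : (b * ((j : ↥L) : G) * b⁻¹ * ((j : ↥L) : G)⁻¹) * (s * d * s⁻¹) *
        (b * ((j : ↥L) : G) * b⁻¹ * ((j : ↥L) : G)⁻¹)⁻¹ = s * d * s⁻¹ := by
      calc (b * ((j : ↥L) : G) * b⁻¹ * ((j : ↥L) : G)⁻¹) * (s * d * s⁻¹) *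
            (b * ((j : ↥L) : G) * b⁻¹ * ((j : ↥L) : G)⁻¹)⁻¹
          = b * ((j : ↥L) : G) * (b⁻¹ * (((j : ↥L) : G)⁻¹ * (s * d * s⁻¹) * ((j : ↥L) : G)) * b) *
            ((j : ↥L) : G)⁻¹ * b⁻¹ := by group
        _ = b * ((j : ↥L) : G) * (((j : ↥L) : G)⁻¹ * (s * d * s⁻¹) * ((j : ↥L) : G))⁻¹ *
            ((j : ↥L) : G)⁻¹ * b⁻¹ := by rw [e3, e4]
        _ = b * (s * d * s⁻¹)⁻¹ * b⁻¹ := by group
        _ = (b * (s * d * s⁻¹) * b⁻¹)⁻¹ := by group
        _ = s * d * s⁻¹ := by rw [hinv d hd, inv_inv]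
    exact mul_inv_eq_iff_eq_mul.mp e5
  -- all squares of `D` are trivial
  have hall : ∀ d ∈ D, d = 1 := by
    have hbN : ∀ d ∈ D, b * (s * d * s⁻¹) = (s * d * s⁻¹) * b := by
      rcases hsimp.eq_bot_or_eq_top_of_normal N hNn with h1 | h1
      · -- `b` central in `F0`
        exfalso
        have h2 : (⟨⟨b, h.bL⟩, hbF⟩ : fx X) ∈ center (fx X) := by
          rw [mem_center_iff]
          intro j
          have h3 := hcom j
          rw [h1, mem_bot] at h3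
          have h4 : ⟨⟨b, h.bL⟩, hbF⟩ * j * (⟨⟨b, h.bL⟩, hbF⟩ : fx X)⁻¹ = j := mul_inv_eq_one.mp h3
          exact (mul_inv_eq_iff_eq_mul.mp h4).symm
        rcases hsimp.eq_bot_or_eq_top_of_normal (center (fx X)) inferInstance with h3 | h3
        · rw [h3, mem_bot] at h2
          exact h.b1 (congrArg Subtype.val (congrArg Subtype.val h2))
        · have h4 : commutator (fx X) = ⊥ := by
            rw [commutator_def, commutator_eq_bot_iff_le_centralizer, le_centralizer_iff_isMulCommutative]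
            have h5 : ∀ i j : fx X, i * j = j * i := by
              intro i j
              have h6 : j ∈ center (fx X) := by rw [h3]; exact mem_top j
              exact mem_center_iff.mp h6 i
            exact ⟨⟨fun i j => Subtype.ext (h5 i j)⟩⟩
          rw [hperf] at h4
          have h5 : (⟨⟨b, h.bL⟩, hbF⟩ : fx X) ∈ (⊤ : Subgroup (fx X)) := mem_top _
          rw [h4, mem_bot] at h5
          exact h.b1 (congrArg Subtype.val (congrArg Subtype.val h5))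
      · have h2 : (⟨⟨b, h.bL⟩, hbF⟩ : fx X) ∈ N := by rw [h1]; exact mem_top _
        exact h2
    intro d hd
    apply h.sq_one hd
    have h1 := hinv d hd
    rw [hbN d hd, mul_inv_cancel_right] at h1
    have h2 : (s * d * s⁻¹) * (s * d * s⁻¹) = 1 := by
      nth_rewrite 1 [h1]
      exact inv_mul_cancel _
    calc d * d = s⁻¹ * ((s * d * s⁻¹) * (s * d * s⁻¹)) * s := by group
      _ = 1 := by rw [h2]; group
  obtain ⟨d, hd, -, l, -, hne⟩ := h.da
  apply hne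
  rw [hall d hd, one_mul, mul_one]

/-- `Y = C_D(a)` -/
def YY (D : Subgroup G) (a : G) : Subgroup G := D ⊓ centralizer ({a} : Set G)

omit [Finite G] in
theorem mem_YY {D : Subgroup G} {a d : G} : d ∈ YY D a ↔ d ∈ D ∧ d * a = a * d := by
  rw [YY, mem_inf, mem_centralizer_singleton_iff]

/-- **`C_{Aut L}(Y) = Y⟨x⟩`** -/
theorem DH.aut (h : DH L D Q a b x) {g : G} (hg : ∀ l ∈ L, g * l * g⁻¹ ∈ L)
    (hgY : ∀ y ∈ YY D a, g * y = y * g) : ∃ y ∈ YY D a, (∀ l ∈ L, (y⁻¹ * g) * l = l * (y⁻¹ * g)) ∨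
      ∀ l ∈ L, (y⁻¹ * g * x) * l = l * (y⁻¹ * g * x) := by
  obtain ⟨ξ, hξ, F⟩ := h.exists_acts_x
  have hgN : g ∈ normalizer (L : Set G) := by
    rw [mem_normalizer_iff]
    intro l
    refine ⟨hg l, fun hl => ?_⟩
    have h1 := conj_inv_mem hg _ hl
    have e : g⁻¹ * (g * l * g⁻¹) * g = l := by group
    rwa [e] at h1
  obtain ⟨β, hβ⟩ := exists_acts hgN
  have hfix : ∀ l : ↥L, ξ l = l → (l : G) * x = x * l := by
    intro l hl
    have h1 := hξ l
    rw [hl] at h1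
    calc (l : G) * x = (x * l * x⁻¹) * x := by rw [← h1]
      _ = x * l := by group
  obtain ⟨y, hy3, hxy, hor⟩ := FL34.New7.autY' h.l34 (hξ.sq h.xx) (h.oddC hξ) h.E_ne β (by
    intro y hy3 hxy
    apply Subtype.ext
    rw [hβ y]
    have hy3' : (y : G) ^ 3 = 1 := congrArg Subtype.val hy3
    have h1 : (y : G) ∈ YY D a := mem_YY.mpr (h.mem_iff.mpr ⟨y.2, hy3', hfix y hxy⟩)
    rw [hgY y h1, mul_inv_cancel_right])
  have hy3' : (y : G) ^ 3 = 1 := congrArg Subtype.val hy3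
  refine ⟨y, mem_YY.mpr (h.mem_iff.mpr ⟨y.2, hy3', hfix y hxy⟩), ?_⟩
  have hyi : Acts L (y : G)⁻¹ (MulAut.conj y)⁻¹ := (acts_coe y).inv
  rcases hor with hor | hor
  · left
    have h1 := hyi.mul hβ
    rw [hor, inv_mul_cancel] at h1
    intro l hl
    exact (mem_centralizer_iff.mp (acts_one_iff.mp h1) l hl).symm
  · right
    have h1 := (hyi.mul hβ).mul hξ
    rw [hor, ← mul_assoc, inv_mul_cancel, one_mul, hξ.sq h.xx] at h1
    intro l hl
    exact (mem_centralizer_iff.mp (acts_one_iff.mp h1) l hl).symm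

/-! ### the end of the case `Q = V₄` -/

/-- The situation in `H = M / W`. -/
structure Fin4 (L D T P Q Z : Subgroup G) (A : Bool → Subgroup G) (b a q ρ x t : G) : Prop where
  vd : V4.VD T P Q Z A b a q ρ x t
  dh : DH L D Q a b x
  Ta : ∀ y ∈ T, y * a = a * y
  PL : ∀ y ∈ T, y ∈ L → y ∈ P
  QL : ∀ u ∈ Q, ∀ l ∈ L, u * l = l * u

variable {T P Z : Subgroup G} {A : Bool → Subgroup G} {q ρ t : G}

omit [Finite G] in
/-- an element of `T` acting on `L` as an element of `L` is in `P Q` -/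
theorem Fin4.inner (h : Fin4 L D T P Q Z A b a q ρ x t) {y : G} (hy : y ∈ T) {l : ↥L}
    (hl : Acts L y (MulAut.conj l)) : ∃ u ∈ Q, ∃ p ∈ P, y = u * p := by
  have h3 : y * (l : G)⁻¹ ∈ centralizer (L : Set G) := hl.mul_inv_mem (acts_coe l)
  have hla := h.dh.La l l.2
  have hlai : (l : G)⁻¹ * a = a * (l : G)⁻¹ := (Commute.inv_left (show Commute (l : G) a from hla)).eq
  have h4 : y * (l : G)⁻¹ ∈ Q := by
    apply h.dh.fixQ
    · calc y * (l : G)⁻¹ * a = y * ((l : G)⁻¹ * a) := by group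
        _ = (y * a) * (l : G)⁻¹ := by rw [hlai]; group
        _ = a * (y * (l : G)⁻¹) := by rw [h.Ta y hy]; group
    · intro m hm
      exact (mem_centralizer_iff.mp h3 m hm).symm
  refine ⟨_, h4, l, ?_, by group⟩
  apply h.PL _ _ l.2
  have e : (l : G) = (y * (l : G)⁻¹)⁻¹ * y := by group
  rw [e]
  exact T.mul_mem (T.inv_mem (h.vd.QT h4)) hy

omit [Finite G] in
/-- elements of `P Q` normalize `A i` -/
theorem A_norm (h : Fr T P Q Z A b) {u p : G} (hu : u ∈ Q) (hp : p ∈ P) (i : Bool) {v : G} (hv : v ∈ A i) :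
    (u * p) * v * (u * p)⁻¹ ∈ A i := by
  have h1 : p * v * p⁻¹ ∈ A i := by
    have h2 := h.com p hp v (h.AP i hv)
    have e : p * v * p⁻¹ = (p * v * p⁻¹ * v⁻¹) * v := by group
    rw [e]
    exact (A i).mul_mem (h.ZA i h2) hv
  have h3 := h.comm _ (h.AP i h1) u hu
  have e : (u * p) * v * (u * p)⁻¹ = u * (p * v * p⁻¹) * u⁻¹ := by group
  rw [e, ← h3, mul_inv_cancel_right]
  exact h1

omit [Finite G] in
/-- elements of `P Q` centralize `Z` -/
theorem Z_cent (h : Fr T P Q Z A b) {u p : G} (hu : u ∈ Q) (hp : p ∈ P) {z : G} (hz : z ∈ Z) :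
    (u * p) * z = z * (u * p) := by
  have e1 := h.Zcen z hz p hp
  have e2 := h.comm z (h.toHeis.ZP hz) u hu
  calc (u * p) * z = u * (p * z) := by group
    _ = (u * z) * p := by rw [e1]; group
    _ = z * (u * p) := by rw [← e2]; group

/-- **the element `s`** -/
theorem Fin4.exists_s (h : Fin4 L D T P Q Z A b a q ρ x t) :
    ∃ s ∈ normalizer ((P ⊔ Q : Subgroup G) : Set G), s * x = x * s ∧ s * a * s⁻¹ = a * b ∧ s * b = b * s ∧
      ∀ y ∈ T, s * y * s⁻¹ ∈ T := by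
  rcases h.vd.exists_s with h1 | ⟨s, hsJ, hsT, hsa, hsb, hsZ, hsA⟩
  · exact h1
  exfalso
  obtain ⟨ξ, hξ, F⟩ := h.dh.exists_acts_x
  obtain ⟨X, hX⟩ := exists_acts (h.dh.Ln _ (h.Ta _ hsT))
  refine h.dh.not_wild hsb hξ hX ⟨?_, ?_, ?_⟩
  · apply hX.sq
    calc s * x * s⁻¹ * (s * x * s⁻¹) = s * (x * x) * s⁻¹ := by group
      _ = 1 := by rw [h.dh.xx]; group
  · intro l hl
    rw [hl] at hX
    obtain ⟨u, hu, p, hp, e⟩ := h.inner hsT hX
    apply hsZ
    intro z hz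
    rw [e]
    exact Z_cent h.vd.toFr hu hp hz
  · intro l hl
    rw [hl] at hX
    have hx1 : Acts L (x⁻¹ * (s * x * s⁻¹)) (MulAut.conj l) := by
      have h2 := hξ.inv.mul hX
      have e : ξ⁻¹ * (ξ * MulAut.conj l) = MulAut.conj l := by group
      rwa [e] at h2
    have hxT := h.vd.xT
    obtain ⟨u, hu, p, hp, e⟩ := h.inner (T.mul_mem (T.inv_mem hxT) hsT) hx1
    have e' : s * x * s⁻¹ = x * (u * p) := by rw [← e]; group
    refine h.vd.toFr.not_fix_swap hsA ?_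
    intro i v hv
    have e2 : (s * x * s⁻¹) * v * (s * x * s⁻¹)⁻¹ = x * ((u * p) * v * (u * p)⁻¹) * x⁻¹ := by
      rw [e']; group
    rw [e2]
    exact h.vd.xA i _ (A_norm h.vd.toFr hu hp i hv)

/-- **`Q = V₄` is impossible** (with the output of `CQ`). -/
theorem Fin4.false (h : Fin4 L D T P Q Z A b a q ρ x t)
    (nq : ∀ g, g * q = q * g → ∀ l ∈ L, g * l * g⁻¹ ∈ L)
    (cq : ∀ g, g * q = q * g → (∀ l ∈ L, g * l = l * g) → g = 1 ∨ g = a ∨ g = q ∨ g = q * a)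
    (nQ : ∀ g, (g * a * g⁻¹ = q ∨ g * a * g⁻¹ = q * a) → (g * q * g⁻¹ = a ∨ g * q * g⁻¹ = q * a) →
      ∀ l ∈ L, g * l * g⁻¹ ∈ L) : False := by
  obtain ⟨s, -, hsx, hsa, hsb, -⟩ := h.exists_s
  have V := h.vd
  have H := h.dh
  -- `y`
  obtain ⟨y, hy, hya, l, hl, hne⟩ := H.da
  have hy1 : y ≠ 1 := by
    rintro rfl
    apply hne
    rw [one_mul, mul_one]
  obtain ⟨hyL, hy3, hyx⟩ := H.mem_iff.mp ⟨hy, hya⟩
  have hbi : b⁻¹ = b := inv_eq_of_mul_eq_one_left H.bb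
  have hD : s * y * s⁻¹ ∈ D := H.dn s hsx y hy
  refine EndV4.Cfg.false_of (L := L) (Y := YY D a) (a := a) (q := q) (x := x) (b := b) (d := s * y * s⁻¹)
    { a2 := V.aa
      q2 := V.qq
      x2 := V.xx
      aq := V.aq
      xa := V.xa
      xq := V.xq
      a1 := V.a1
      La := fun l hl => (H.La l hl).symm
      Lq := fun l hl => h.QL q V.qQ l hl
      bL := H.bL
      xb := H.xb
      YL := fun y hy => (H.mem_iff.mp (mem_YY.mp hy)).1
      Y_odd := fun y hy hyy => H.sq_one (mem_YY.mp hy).1 hyy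
      bY := fun y hy => by
        have h1 := H.inv y (mem_YY.mp hy).1
        rwa [hbi] at h1
      b2 := H.bb
      xY := fun y hy => (H.dx y (mem_YY.mp hy).1).symm
      na := fun g hg l hl => (mem_normalizer_iff.mp (H.Ln g hg) l).mp hl
      nq := nq
      nQ := nQ
      ca := fun g hg hgL => V.Qm g (H.fixQ g hg hgL)
      cq := cq
      aut := fun g hg hgY => H.aut hg hgY
      d1 := ?_
      d_odd := ?_
      dx := H.dx _ hD
      dab := ?_
      dY := fun y' hy' => H.comm hD (mem_YY.mp hy').1 }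
  · intro h1
    apply hy1
    calc y = s⁻¹ * (s * y * s⁻¹) * s := by group
      _ = 1 := by rw [h1]; group
  · refine Odd.of_dvd_nat H.dodd ?_
    have := orderOf_dvd_natCard (⟨_, hD⟩ : D)
    rwa [Subgroup.orderOf_mk] at this
  · rw [← hsa]
    calc s * y * s⁻¹ * (s * a * s⁻¹) = s * (y * a) * s⁻¹ := by group
      _ = s * (a * y) * s⁻¹ := by rw [hya]
      _ = s * a * s⁻¹ * (s * y * s⁻¹) := by group

end

end Cfsg.Agent.UGT.L34T2.DHat
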