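import Cfsg.Agent.UGT.Res.Base
import Cfsg.Agent.UGT.LTF.Basics
import Cfsg.Agent.Intrinsic.Functor

/-!
# NodeL34, T2, SMALL: (5) GOOD and (6) the functor `e ↦ O(C(e))` (text #14883 of helper231; typed by helper138)

* `Cf J`: `J / O(J)` has trivial centre.
* `mem_core_of_sup`: an element of a product of 2-components with `Cf` which fixes all of them is in the core.
* `no_comp` (5): `C(b)` has no 2-component with `Cf`.
* `Good z`: `O(C(e)) ∩ C(z) ≤ O(C(z))` for all involutions `e ∈ C(z)`; `good_of`, `Good.cj`.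
* `core_le_W`, `W_eq_comm`, `W_eq_of_le`, `main`: the functor on elementary groups of good involutions.
-/

set_option autoImplicit false
set_option linter.unusedSectionVars false
set_option linter.dupNamespace false

open Cfsg Subgroup
open Cfsg.Agent.SignalizersComponents Cfsg.Agent.Lib
open Cfsg.Agent.SignalizersComponents.IntrinsicBasic
open Cfsg.Agent.SignalizersComponents.IntrinsicIntr
open Cfsg.Agent.Intrinsic Cfsg.Agent.Intrinsic.Basic Cfsg.Agent.Intrinsic.Cen Cfsg.Agent.Intrinsic.Diag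
open Cfsg.Agent.UGT.Triple Cfsg.Agent.UGT.TriBase Cfsg.Agent.McLLyComp.Act
open scoped commutatorElement Pointwise

namespace Cfsg.Agent.UGT.L34T2.Good

universe u

variable {G : Type u} [Group G]

/-- `J / O(J)` has trivial centre -/
def Cf (J : Subgroup G) : Prop := ∀ u ∈ J, Fixes u J → u ∈ core J

theorem Cf.cj {J : Subgroup G} (h : Cf J) (g : G) : Cf (cj g J) := by
  intro u hu hf
  rw [core_cj, mem_cj]
  have h1 : g⁻¹ * u * g ∈ J := mem_cj.mp hu
  have h2 := hf.cj g⁻¹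
  rw [cj_inv_cj, inv_inv] at h2
  exact h _ h1 h2

variable [Finite G]

theorem mem_core_of_finset {H : Subgroup G} (s : Finset (Subgroup G)) (hs : ∀ K ∈ s, IsComp H K)
    (hc : ∀ K ∈ s, Cf K) : ∀ y ∈ (⨆ K ∈ s, K : Subgroup G), (∀ K ∈ s, Fixes y K) → y ∈ core H := by
  classical
  induction s using Finset.induction_on with
  | empty =>
    intro y hy _
    have h1 : (⨆ K ∈ (∅ : Finset (Subgroup G)), K : Subgroup G) = ⊥ := by simp
    rw [h1, mem_bot] at hy
    rw [hy]
    exact one_mem _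
  | insert K s hKs ih =>
    intro y hy hf
    have hK := hs K (Finset.mem_insert_self _ _)
    have hs' : ∀ J ∈ s, IsComp H J := fun J hJ => hs J (Finset.mem_insert_of_mem hJ)
    obtain ⟨M, hM⟩ : ∃ M : Subgroup G, M = ⨆ J ∈ s, J := ⟨_, rfl⟩
    have h1 : (⨆ J ∈ insert K s, J : Subgroup G) = M ⊔ K := by
      rw [Finset.iSup_insert, sup_comm, hM]
    have h2 : M ≤ fix ⊤ K := by
      rw [hM]
      refine iSup₂_le fun J hJ j hj => ⟨mem_top _, ?_⟩
      refine hK.fixes_of_mem (hs' J hJ) ?_ hj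
      rintro rfl
      exact hKs hJ
    have h3 : M ≤ normalizer (K : Set G) := fun m hm => (h2 hm).2.1
    rw [h1] at hy
    have h4 : y ∈ (M : Set G) * (K : Set G) := by
      rw [← Subgroup.coe_mul_of_left_le_normalizer_right M K h3]
      exact hy
    obtain ⟨m, hm, k, hk, rfl⟩ := h4
    have h5 : Fixes k K := by
      have h6 := hf K (Finset.mem_insert_self _ _)
      exact (fixes_mul_iff_right (h2 hm).2).mp h6
    have h6 : k ∈ core H := hK.core_le_core (hc K (Finset.mem_insert_self _ _) k hk h5)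
    have h7 : m ∈ core H := by
      refine ih hs' (fun J hJ => hc J (Finset.mem_insert_of_mem hJ)) m (hM ▸ hm) fun J hJ => ?_
      have h8 := hf J (Finset.mem_insert_of_mem hJ)
      exact (fixes_mul_iff_left ((hs' J hJ).fixes_of_core h6)).mp h8
    exact mul_mem h7 h6

/-- **(E)** -/
theorem mem_core_of_sup {H : Subgroup G} {KK : Set (Subgroup G)} (hs : ∀ K ∈ KK, IsComp H K)
    (hc : ∀ K ∈ KK, Cf K) {y : G} (hy : y ∈ sSup KK) (hf : ∀ K ∈ KK, Fixes y K) : y ∈ core H := by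
  classical
  have : Finite (Set (Subgroup G)) := inferInstance
  have hfin : KK.Finite := Set.toFinite KK
  refine mem_core_of_finset hfin.toFinset (fun K hK => hs K (hfin.mem_toFinset.mp hK))
    (fun K hK => hc K (hfin.mem_toFinset.mp hK)) y ?_ (fun K hK => hf K (hfin.mem_toFinset.mp hK))
  rw [sSup_eq_iSup] at hy
  simpa using hy

/-! ### (5) -/

/-- the product of the 2-components with `Cf` is normal -/
theorem le_normalizer_sSup {H : Subgroup G} :
    H ≤ normalizer ((sSup {J | IsComp H J ∧ Cf J} : Subgroup G) : Set G) := by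
  have key : ∀ g ∈ H, cj g (sSup {J | IsComp H J ∧ Cf J}) ≤ sSup {J | IsComp H J ∧ Cf J} := by
    intro g hg
    rw [cj_def, sSup_eq_iSup, Subgroup.map_iSup]
    refine iSup_le fun J => ?_
    rw [Subgroup.map_iSup]
    refine iSup_le fun hJ => ?_
    rw [← cj_def]
    exact le_iSup₂_of_le (cj g J) ⟨isComp_cj_of_mem hJ.1 hg, hJ.2.cj g⟩ le_rfl
  intro g hg
  rw [mem_normalizer_iff_cj]
  refine le_antisymm (key g hg) ?_
  have h1 := key g⁻¹ (inv_mem hg)
  intro y hy
  rw [mem_cj]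
  have h2 := h1 (conj_mem_cj (g := g⁻¹) hy)
  rwa [inv_inv] at h2

/-- **(5)** `C(b)` has no 2-component `J` such that `J / O(J)` has trivial centre. -/
theorem no_comp {a b t : G} {T R : Subgroup G} (hT : IsSyl (centralizer ({a} : Set G)) T) (haT : a ∈ T)
    (hb2 : b * b = 1) (hb1 : b ≠ 1) (hR : IsPGroup 2 ↥R) (hTR : T ≤ R)
    (hRb : R ≤ centralizer ({b} : Set G)) (htR : t ∈ R) (hta : t * a * t⁻¹ = a * b)
    (hz : ∀ z ∈ T, z * z = 1 → (∀ s ∈ T, s * z = z * s) → z = 1 ∨ z = a ∨ z = b ∨ z = a * b) :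
    ∀ J, IsComp (centralizer ({b} : Set G)) J → ¬ Cf J := by
  intro J hJ hcf
  obtain ⟨E, hE⟩ : ∃ E : Subgroup G, E = sSup {J | IsComp (centralizer ({b} : Set G)) J ∧ Cf J} :=
    ⟨_, rfl⟩
  obtain ⟨S, hS, hRS⟩ := exists_isSyl hR hRb
  have hEb : E ≤ centralizer ({b} : Set G) := by
    rw [hE]
    exact sSup_le fun K hK => hK.1.le
  have hEn : centralizer ({b} : Set G) ≤ normalizer (E : Set G) := by
    rw [hE]
    exact le_normalizer_sSup
  have hJE : J ≤ E := by
    rw [hE]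
    exact le_sSup ⟨hJ, hcf⟩
  have hV := hS.inf hEb hEn
  -- `V = S ∩ E ≠ 1`
  have hVne : S ⊓ E ≠ ⊥ := by
    intro h
    have h1 : 2 ^ 1 ∣ Nat.card ↥E := by
      rw [pow_one]
      exact hJ.even.trans (card_dvd_of_le hJE)
    have h2 := hV.dvd_card h1
    rw [h, card_bot, pow_one] at h2
    omega
  have hVn : S ≤ normalizer ((S ⊓ E : Subgroup G) : Set G) := by
    intro s hs
    rw [mem_normalizer_iff_cj, cj_inf, mem_normalizer_iff_cj.mp (hEn (hS.le hs)),
      mem_normalizer_iff_cj.mp (le_normalizer hs)]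
  obtain ⟨e, heV, he2, hec⟩ := exists_central hS.two inf_le_left hVn hVne
  -- `e ∈ T`
  have haS : a ∈ S := hRS (hTR haT)
  have heT : e ∈ T := by
    have h1 : S ⊓ centralizer ({a} : Set G) = T :=
      hT.max _ (hS.two.to_le inf_le_left) inf_le_right (le_inf (hTR.trans hRS) hT.le)
    rw [← h1]
    exact ⟨heV.1, mem_c (hec a haS).symm⟩
  have htS : t ∈ S := hRS htR
  have hab : a * b ≠ a := fun h => hb1 (mul_eq_left.mp h)
  have haT1 : a * b = b * a := (comm_c (hRb (hTR haT)))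
  have heb : e = b := by
    rcases hz e heT (sq_of_order he2) (fun s hs => hec s (hRS (hTR hs))) with h | h | h | h
    · exact absurd h (ne_one_of_order he2)
    · exfalso
      have h1 := hec t htS
      rw [h] at h1
      apply hab
      rw [← hta, h1, mul_inv_cancel_right]
    · exact h
    · exfalso
      have h1 := hec t htS
      rw [h, ← mul_assoc] at h1
      have h2 : t * b = b * t := comm_c (hRb htR)
      have h3 : t * a * b = a * b * t := h1
      have h4 : t * a = a * t := by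
        have h5 : t * a * b = a * t * b := by
          rw [h3, mul_assoc a b t, ← h2, ← mul_assoc]
        exact mul_right_cancel h5
      apply hab
      rw [← hta, h4, mul_inv_cancel_right]
  have hbE : b ∈ E := heb ▸ heV.2
  rw [hE] at hbE
  have h1 : b ∈ core (centralizer ({b} : Set G)) :=
    mem_core_of_sup (fun K hK => hK.1) (fun K hK => hK.2) hbE (fun K hK => fixes_self' hK.1.le)
  exact hb1 (eq_one_of_mem_core_sq h1 hb2)

/-! ### good involutions -/

omit [Finite G] in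
/-- `z` is good: `O(C(e)) ∩ C(z) ≤ O(C(z))` for all involutions `e ∈ C(z)` -/
def Good (z : G) : Prop := ∀ e : G, orderOf e = 2 → e * z = z * e →
  core (centralizer ({e} : Set G)) ⊓ centralizer ({z} : Set G) ≤ core (centralizer ({z} : Set G))

theorem good_of {z : G} (hz : orderOf z = 2) (h1 : ∀ e J, IsTriple e z J → Cf J)
    (h2 : ∀ J, IsComp (centralizer ({z} : Set G)) J → ¬ Cf J) : Good z := by
  rintro e he hez d ⟨hd, hdz⟩
  by_contra hn
  obtain ⟨J, T, -⟩ := Res.Base.exists_triple he hz hez.symm hd hdz hn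
  exact h2 J T.comp (h1 e J T)

omit [Finite G] in
theorem Good.cj {z : G} (h : Good z) (g : G) : Good (g * z * g⁻¹) := by
  intro e he hez
  have h1 : orderOf (g⁻¹ * e * g) = 2 := by
    have := (MulAut.conj g⁻¹).orderOf_eq e
    rw [MulAut.conj_apply, inv_inv] at this
    rw [this, he]
  have h2 : (g⁻¹ * e * g) * z = z * (g⁻¹ * e * g) := by
    calc (g⁻¹ * e * g) * z = g⁻¹ * (e * (g * z * g⁻¹)) * g := by group
      _ = g⁻¹ * ((g * z * g⁻¹) * e) * g := by rw [hez]
      _ = z * (g⁻¹ * e * g) := by group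
  have h3 := h _ h1 h2
  have h4 : e = g * (g⁻¹ * e * g) * g⁻¹ := by group
  rw [h4, ← cj_centralizer, ← cj_centralizer, core_cj, core_cj, ← cj_inf]
  rw [cj_def, cj_def]
  exact Subgroup.map_mono h3

/-! ### (6) the functor -/

/-- an elementary abelian 2-group of good involutions -/
structure Elem (F : Subgroup G) : Prop where
  comm : ∀ a ∈ F, ∀ b ∈ F, a * b = b * a
  sq : ∀ a ∈ F, a * a = 1
  good : ∀ a ∈ F, a ≠ 1 → Good a

omit [Finite G] in
theorem Elem.mono {F A : Subgroup G} (h : Elem A) (hFA : F ≤ A) : Elem F :=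
  ⟨fun a ha b hb => h.comm a (hFA ha) b (hFA hb), fun a ha => h.sq a (hFA ha),
    fun a ha => h.good a (hFA ha)⟩

omit [Finite G] in
theorem order_of {a : G} (h2 : a * a = 1) (h1 : a ≠ 1) : orderOf a = 2 :=
  orderOf_eq_prime (by rw [pow_two, h2]) h1

omit [Finite G] in
theorem Elem.cj {F : Subgroup G} (h : Elem F) (g : G) : Elem (cj g F) := by
  have key : ∀ a ∈ IntrinsicBasic.cj g F, ∃ f ∈ F, a = g * f * g⁻¹ := by
    intro a ha
    exact ⟨g⁻¹ * a * g, mem_cj.mp ha, by group⟩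
  refine ⟨?_, ?_, ?_⟩
  · intro a ha b hb
    obtain ⟨f, hf, rfl⟩ := key a ha
    obtain ⟨f', hf', rfl⟩ := key b hb
    calc g * f * g⁻¹ * (g * f' * g⁻¹) = g * (f * f') * g⁻¹ := by group
      _ = g * (f' * f) * g⁻¹ := by rw [h.comm f hf f' hf']
      _ = _ := by group
  · intro a ha
    obtain ⟨f, hf, rfl⟩ := key a ha
    calc g * f * g⁻¹ * (g * f * g⁻¹) = g * (f * f) * g⁻¹ := by group
      _ = 1 := by rw [h.sq f hf]; group
  · intro a ha ha1
    obtain ⟨f, hf, rfl⟩ := key a ha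
    exact (h.good f hf (fun h0 => ha1 (by rw [h0]; group))).cj g

/-- `O(C(e)) ≤ W F` for an involution `e` commuting with the four-group `F`. -/
theorem core_le_W {F : Subgroup G} (hF : Elem F) (h4 : 4 ≤ Nat.card ↥F) {e : G} (he : orderOf e = 2)
    (hc : ∀ f ∈ F, e * f = f * e) : core (centralizer ({e} : Set G)) ≤ Functor.W F := by
  refine Functor.gen_le hF.comm hF.sq h4 (odd_card_core _) ?_ ?_
  · intro f hf
    exact le_normalizer_core _ (mem_c (hc f hf).symm)
  · intro f hf hf1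
    exact (hF.good f hf hf1 e he (hc f hf)).trans (Functor.le_W hf hf1)

/-- commuting four-groups -/
theorem W_le_comm {F A : Subgroup G} (hF : Elem F) (h4 : 4 ≤ Nat.card ↥F) (hA : ∀ a ∈ A, a * a = 1)
    (hc : ∀ a ∈ A, ∀ f ∈ F, a * f = f * a) : Functor.W A ≤ Functor.W F :=
  Functor.W_le fun a ha ha1 => core_le_W hF h4 (order_of (hA a ha) ha1) (hc a ha)

theorem W_eq_comm {F F' : Subgroup G} (hF : Elem F) (h4 : 4 ≤ Nat.card ↥F) (hF' : Elem F')
    (h4' : 4 ≤ Nat.card ↥F') (hc : ∀ a ∈ F, ∀ b ∈ F', a * b = b * a) :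
    Functor.W F = Functor.W F' :=
  le_antisymm (W_le_comm hF' h4' hF.sq fun a ha b hb => hc a ha b hb)
    (W_le_comm hF h4 hF'.sq fun b hb a ha => (hc a ha b hb).symm)

theorem W_eq_of_le {F A : Subgroup G} (hA : Elem A) (hFA : F ≤ A) (h4 : 4 ≤ Nat.card ↥F) :
    Functor.W A = Functor.W F := by
  have h5 : 4 ≤ Nat.card ↥A := h4.trans (Nat.le_of_dvd Nat.card_pos (card_dvd_of_le hFA))
  exact W_eq_comm hA h5 (hA.mono hFA) h4 fun a ha b hb => hA.comm a ha b (hFA hb)

theorem odd_W (FT : Functor.OddSol G) {A : Subgroup G} (hA : Elem A) (h8 : 8 ≤ Nat.card ↥A) :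
    Odd (Nat.card ↥(Functor.W A)) ∧ ∀ a ∈ A, a ≠ 1 →
      Functor.W A ⊓ centralizer ({a} : Set G) = core (centralizer ({a} : Set G)) :=
  Functor.closure_of_rank FT hA.comm (fun a ha => by rw [pow_two, hA.sq a ha]) h8
    fun a ha ha1 b hb hb1 => hA.good b hb hb1 a (order_of (hA.sq a ha) ha1) (hA.comm a ha b hb)

/-- `C_W(a) = O(C(a))` if `O(C(a)) ≤ W` and `C(a) ≤ N(W)`, `W` odd -/
theorem inf_eq {W : Subgroup G} (hW : Odd (Nat.card ↥W)) {a : G}
    (h1 : core (centralizer ({a} : Set G)) ≤ W)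
    (h2 : centralizer ({a} : Set G) ≤ normalizer (W : Set G)) :
    W ⊓ centralizer ({a} : Set G) = core (centralizer ({a} : Set G)) := by
  apply le_antisymm
  · refine le_core inf_le_right ?_ (Odd.of_dvd_nat hW (card_dvd_of_le inf_le_left))
    intro g hg
    rw [mem_normalizer_iff_cj, cj_inf, mem_normalizer_iff_cj.mp (h2 hg),
      mem_normalizer_iff_cj.mp (le_normalizer hg)]
  · exact le_inf h1 (core_le _)

/-- **(6)** The functor of two elementary groups `A₁`, `A₂` with a common four-group `Z`: `W = W Z`. -/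
structure Fun (Z A₁ A₂ W : Subgroup G) : Prop where
  odd : Odd (Nat.card ↥W)
  eq : W = Functor.W Z
  left : W = Functor.W A₁
  right : W = Functor.W A₂
  /-- every four-group in `A₁` or `A₂` gives `W` -/
  four : ∀ F : Subgroup G, F ≤ A₁ ∨ F ≤ A₂ → 4 ≤ Nat.card ↥F → W = Functor.W F
  /-- `N(F) ≤ N(W)` -/
  nor : ∀ F : Subgroup G, F ≤ A₁ ∨ F ≤ A₂ → 4 ≤ Nat.card ↥F →
    normalizer (F : Set G) ≤ normalizer (W : Set G)
  /-- `C_W(e) = O(C(e))` for `e ∈ A₁# ∪ A₂#` -/
  inf : ∀ e, e ∈ A₁ ∨ e ∈ A₂ → e ≠ 1 →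
    W ⊓ centralizer ({e} : Set G) = core (centralizer ({e} : Set G))
  /-- `O(C(e)) ≤ W` for the involutions `e` commuting with a four-group in `A₁` or `A₂` -/
  core : ∀ (F : Subgroup G) (e : G), F ≤ A₁ ∨ F ≤ A₂ → 4 ≤ Nat.card ↥F → orderOf e = 2 →
    (∀ f ∈ F, e * f = f * e) → core (centralizer ({e} : Set G)) ≤ W
  /-- a four-group of good involutions commuting with a four-group in `A₁` or `A₂` gives `W` -/
  comm : ∀ F F' : Subgroup G, F ≤ A₁ ∨ F ≤ A₂ → 4 ≤ Nat.card ↥F → Elem F' → 4 ≤ Nat.card ↥F' →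
    (∀ a ∈ F, ∀ b ∈ F', a * b = b * a) → Functor.W F' = W

theorem main (FT : Functor.OddSol G) {Z A₁ A₂ : Subgroup G} (h₁ : Elem A₁) (h₂ : Elem A₂)
    (hZ₁ : Z ≤ A₁) (hZ₂ : Z ≤ A₂) (hZ : 4 ≤ Nat.card ↥Z) (h8₁ : 8 ≤ Nat.card ↥A₁)
    (h8₂ : 8 ≤ Nat.card ↥A₂) : Fun Z A₁ A₂ (Functor.W Z) := by
  have e1 := W_eq_of_le h₁ hZ₁ hZ
  have e2 := W_eq_of_le h₂ hZ₂ hZ
  have o1 := odd_W FT h₁ h8₁
  have o2 := odd_W FT h₂ h8₂
  have four : ∀ F : Subgroup G, F ≤ A₁ ∨ F ≤ A₂ → 4 ≤ Nat.card ↥F →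
      Functor.W Z = Functor.W F := by
    rintro F (h | h) h4
    · rw [← e1, W_eq_of_le h₁ h h4]
    · rw [← e2, W_eq_of_le h₂ h h4]
  refine ⟨e1 ▸ o1.1, rfl, e1.symm, e2.symm, four, ?_, ?_, ?_, ?_⟩
  · intro F h h4
    rw [four F h h4]
    exact Functor.normalizer_le F
  · rintro e (h | h) he
    · rw [← e1]; exact o1.2 e h he
    · rw [← e2]; exact o2.2 e h he
  · intro F e h h4 he hc
    rw [four F h h4]
    refine core_le_W ?_ h4 he hc
    rcases h with h | h
    · exact h₁.mono h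
    · exact h₂.mono h
  · intro F F' h h4 hF' h4' hc
    rw [four F h h4]
    refine (W_eq_comm ?_ h4 hF' h4' hc).symm
    rcases h with h | h
    · exact h₁.mono h
    · exact h₂.mono h

end Cfsg.Agent.UGT.L34T2.Good
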