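import Cfsg.Agent.UGT.TriBase

/-!
# Homomorphisms with odd kernel and 2-subgroups

* `exists_ker_cj`: `f(R') ≤ f(R)` ⟹ `R' ≤ R^k` with `k ∈ ker f`.
* `exists_normalizer`, `exists_centralizer`: `N(f R) = f(N(R))`, `C(f R) = f(C(R))`.
* `exists_conj`, `eq_conj`: conjugacy of 2-elements.
* `isSyl_map`.
-/

set_option autoImplicit false
set_option linter.unusedSectionVars false

open Subgroup
open Cfsg.Agent.SignalizersComponents.IntrinsicBasic
open Cfsg.Agent.UGT.TriBase

namespace Cfsg.Agent.UGT.L34T2.Quo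

variable {X Y : Type*} [Group X] [Group Y] [Finite X] {f : X →* Y}

theorem inf_ker (hf : Odd (Nat.card f.ker)) {R : Subgroup X} (hR : IsPGroup 2 ↥R) {r : X} (hr : r ∈ R)
    (h : f r = 1) : r = 1 := by
  have h1 : r ∈ f.ker := h
  obtain ⟨k, hk⟩ := hR ⟨r, hr⟩
  have h2 : orderOf r ∣ 2 ^ k := orderOf_dvd_of_pow_eq_one (congrArg Subtype.val hk)
  have h3 : orderOf r ∣ Nat.card f.ker := by
    have := orderOf_dvd_natCard (⟨r, h1⟩ : f.ker)
    rwa [← Subgroup.orderOf_coe] at this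
  have h4 : Nat.Coprime (2 ^ k) (Nat.card f.ker) := Nat.Coprime.pow_left k (Nat.coprime_two_left.2 hf)
  exact orderOf_eq_one_iff.1 (Nat.Coprime.eq_one_of_dvd (Nat.Coprime.coprime_dvd_left h2 h4) h3)

theorem inj_on (hf : Odd (Nat.card f.ker)) {R : Subgroup X} (hR : IsPGroup 2 ↥R) {r s : X} (hr : r ∈ R)
    (hs : s ∈ R) (h : f r = f s) : r = s := by
  have h1 := inf_ker hf hR (R.mul_mem hr (R.inv_mem hs)) (by rw [map_mul, map_inv, h, mul_inv_cancel])
  exact mul_inv_eq_one.1 h1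

theorem card_map (hf : Odd (Nat.card f.ker)) {R : Subgroup X} (hR : IsPGroup 2 ↥R) :
    Nat.card (R.map f) = Nat.card R := by
  have hinj : Function.Injective (f.comp R.subtype) := by
    rw [injective_iff_map_eq_one]
    intro r h
    exact Subtype.ext (inf_ker hf hR r.2 h)
  have h1 : R.map f = (f.comp R.subtype).range := by
    rw [MonoidHom.range_comp, range_subtype]
  rw [h1]
  exact (Nat.card_congr (MonoidHom.ofInjective hinj).toEquiv).symm

theorem isSyl_comap (hf : Odd (Nat.card f.ker)) {R : Subgroup X} (hR : IsPGroup 2 ↥R) {S : Subgroup Y}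
    (hRS : R.map f = S) : IsSyl (S.comap f) R := by
  refine ⟨hR, by rw [← hRS]; exact le_comap_map f R, fun R' h1 h2 h3 => ?_⟩
  refine (Subgroup.eq_of_le_of_card_ge h3 ?_).symm
  rw [← card_map hf h1, ← card_map hf hR]
  have : Finite (R.map f) := Finite.of_surjective _ (f.subgroupMap_surjective R)
  apply Subgroup.card_le_of_le
  rw [map_le_iff_le_comap, hRS]
  exact h2

theorem exists_ker_cj (hf : Odd (Nat.card f.ker)) {R R' : Subgroup X} (hR : IsPGroup 2 ↥R)
    (hR' : IsPGroup 2 ↥R') (h : R'.map f ≤ R.map f) : ∃ k ∈ f.ker, R' ≤ cj k R := by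
  have hS := isSyl_comap hf hR rfl
  obtain ⟨g, hg, h1⟩ := hS.conj hR' (map_le_iff_le_comap.1 h)
  obtain ⟨r, hr, h2⟩ := hg
  refine ⟨g * r⁻¹, ?_, ?_⟩
  · rw [MonoidHom.mem_ker, map_mul, map_inv, h2, mul_inv_cancel]
  · have h3 : cj (g * r⁻¹) R = cj g R := by
      rw [cj_mul, mem_normalizer_iff_cj.1 (inv_mem (le_normalizer hr))]
    rw [h3]
    exact h1

theorem exists_ker_cj_eq (hf : Odd (Nat.card f.ker)) {R R' : Subgroup X} (hR : IsPGroup 2 ↥R)
    (hR' : IsPGroup 2 ↥R') (h : R'.map f = R.map f) : ∃ k ∈ f.ker, R' = cj k R := by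
  obtain ⟨k, hk, h1⟩ := exists_ker_cj hf hR hR' h.le
  refine ⟨k, hk, Subgroup.eq_of_le_of_card_ge h1 ?_⟩
  have h2 : Nat.card (cj k R) = Nat.card R := by
    rw [cj_def]
    exact card_map_of_injective (MulAut.conj k).injective
  rw [h2, ← card_map hf hR', ← card_map hf hR, h]

/-- two elements of 2-power order with the same image are conjugate under the kernel -/
theorem eq_conj (hf : Odd (Nat.card f.ker)) {x y : X} (hx : IsPGroup 2 (zpowers x))
    (hy : IsPGroup 2 (zpowers y)) (h : f x = f y) : ∃ k ∈ f.ker, y = k * x * k⁻¹ := by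
  obtain ⟨k, hk, h1⟩ := exists_ker_cj hf hx hy (by rw [MonoidHom.map_zpowers, MonoidHom.map_zpowers, h])
  have h2 := h1 (mem_zpowers y)
  rw [mem_cj] at h2
  have h3 : k⁻¹ * y * k = x := by
    apply inj_on hf hx h2 (mem_zpowers x)
    rw [map_mul, map_mul, map_inv, (MonoidHom.mem_ker).1 hk, inv_one, one_mul, mul_one, h]
  exact ⟨k, hk, by rw [← h3]; group⟩

/-- `N(f R) ∩ f(X) = f (N(R))` -/
theorem exists_normalizer (hf : Odd (Nat.card f.ker)) {R : Subgroup X} (hR : IsPGroup 2 ↥R) {g : X}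
    (h : f g ∈ normalizer (R.map f : Set Y)) : ∃ n ∈ normalizer (R : Set X), n * g⁻¹ ∈ f.ker := by
  have h1 : (cj g R).map f = R.map f := by
    have h2 : (cj g R).map f = cj (f g) (R.map f) := by
      rw [cj_def, cj_def, map_map, map_map]
      congr 1
      ext r
      simp
    rw [h2]
    exact mem_normalizer_iff_cj.1 h
  have h3 : IsPGroup 2 ↥(cj g R) := by
    rw [cj_def]
    exact hR.map _
  obtain ⟨k, hk, h4⟩ := exists_ker_cj_eq hf hR h3 h1
  refine ⟨k⁻¹ * g, ?_, ?_⟩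
  · rw [mem_normalizer_iff_cj, cj_mul, h4, ← cj_mul, inv_mul_cancel, cj_one]
  · rw [mul_inv_cancel_right]
    exact inv_mem hk

theorem map_normalizer (hf : Odd (Nat.card f.ker)) (hs : Function.Surjective f) {R : Subgroup X}
    (hR : IsPGroup 2 ↥R) : normalizer (R.map f : Set Y) = (normalizer (R : Set X)).map f := by
  apply le_antisymm
  · intro y hy
    obtain ⟨g, rfl⟩ := hs y
    obtain ⟨n, hn, h⟩ := exists_normalizer hf hR hy
    refine ⟨n, hn, ?_⟩
    have h1 := (MonoidHom.mem_ker).1 h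
    rw [map_mul, map_inv] at h1
    exact mul_inv_eq_one.1 h1
  · rintro _ ⟨n, hn, rfl⟩
    rw [mem_normalizer_iff_cj]
    have h2 : (cj n R).map f = cj (f n) (R.map f) := by
      rw [cj_def, cj_def, map_map, map_map]
      congr 1
      ext r
      simp
    rw [← h2, mem_normalizer_iff_cj.1 hn]

/-- `C(f R) ∩ f(X) = f (C(R))` -/
theorem exists_centralizer (hf : Odd (Nat.card f.ker)) {R : Subgroup X} (hR : IsPGroup 2 ↥R) {g : X}
    (h : ∀ r ∈ R, f g * f r = f r * f g) : ∃ n, (∀ r ∈ R, n * r = r * n) ∧ f n = f g := by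
  have h1 : f g ∈ normalizer (R.map f : Set Y) := by
    rw [mem_normalizer_iff_cj]
    ext y
    rw [mem_cj]
    have key : ∀ r ∈ R, (f g)⁻¹ * f r * f g = f r := by
      intro r hr
      rw [mul_assoc, ← h r hr, inv_mul_cancel_left]
    constructor
    · rintro ⟨r, hr, h2⟩
      refine ⟨r, hr, ?_⟩
      have h3 : y = f g * ((f g)⁻¹ * y * f g) * (f g)⁻¹ := by group
      rw [h3, ← h2, h r hr, mul_inv_cancel_right]
    · rintro ⟨r, hr, rfl⟩
      exact ⟨r, hr, (key r hr).symm⟩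
  obtain ⟨n, hn, h2⟩ := exists_normalizer hf hR h1
  have h3 : f n = f g := by
    have h4 := (MonoidHom.mem_ker).1 h2
    rw [map_mul, map_inv] at h4
    exact mul_inv_eq_one.1 h4
  refine ⟨n, fun r hr => ?_, h3⟩
  have h4 : n * r * n⁻¹ ∈ R := (mem_normalizer_iff.1 hn r).1 hr
  have h5 : n * r * n⁻¹ = r := by
    apply inj_on hf hR h4 hr
    rw [map_mul, map_mul, map_inv, h3, h r hr, mul_inv_cancel_right]
  exact mul_inv_eq_iff_eq_mul.1 h5

/-- for an element of 2-power order -/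
theorem exists_centralizer' (hf : Odd (Nat.card f.ker)) {x : X} (hx : IsPGroup 2 (zpowers x)) {g : X}
    (h : f g * f x = f x * f g) : ∃ n, n * x = x * n ∧ f n = f g := by
  obtain ⟨n, h1, h2⟩ := exists_centralizer hf hx (g := g) (by
    rintro _ ⟨k, rfl⟩
    rw [map_zpow]
    exact (show Commute (f g) (f x) from h).zpow_right k)
  exact ⟨n, h1 x (mem_zpowers x), h2⟩

theorem map_centralizer (hf : Odd (Nat.card f.ker)) (hs : Function.Surjective f) {x : X}
    (hx : IsPGroup 2 (zpowers x)) :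
    centralizer ({f x} : Set Y) = (centralizer ({x} : Set X)).map f := by
  apply le_antisymm
  · intro y hy
    obtain ⟨g, rfl⟩ := hs y
    obtain ⟨n, h1, h2⟩ := exists_centralizer' hf hx (mem_centralizer_singleton_iff.1 hy)
    exact ⟨n, mem_centralizer_singleton_iff.2 h1, h2⟩
  · rintro _ ⟨n, hn, rfl⟩
    rw [mem_centralizer_singleton_iff, ← map_mul, ← map_mul, mem_centralizer_singleton_iff.1 hn]

/-- 2-subgroups conjugate in `f(X)` -/
theorem exists_conj (hf : Odd (Nat.card f.ker)) {x y g : X} (hx : IsPGroup 2 (zpowers x))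
    (hy : IsPGroup 2 (zpowers y)) (h : f g * f x * (f g)⁻¹ = f y) :
    ∃ k ∈ f.ker, (k * g) * x * (k * g)⁻¹ = y := by
  have hx' : IsPGroup 2 (zpowers (g * x * g⁻¹)) := by
    have h1 : zpowers (g * x * g⁻¹) = (zpowers x).map (MulAut.conj g).toMonoidHom := by
      rw [MonoidHom.map_zpowers]
      rfl
    rw [h1]
    exact hx.map _
  obtain ⟨k, hk, h2⟩ := eq_conj hf hx' hy (by rw [map_mul, map_mul, map_inv, h])
  exact ⟨k, hk, by rw [h2]; group⟩

theorem isSyl_map (hf : Odd (Nat.card f.ker)) {E R : Subgroup X} (h : IsSyl E R) :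
    IsSyl (E.map f) (R.map f) := by
  refine ⟨h.two.map _, Subgroup.map_mono h.le, fun R' h1 h2 h3 => ?_⟩
  have : Finite (E.map f) := Finite.of_surjective _ (f.subgroupMap_surjective E)
  have : Finite R' := Finite.of_injective _ (inclusion_injective h2)
  -- a Sylow 2-subgroup of the preimage of `R'` containing `R`
  have h4 : R ≤ E ⊓ R'.comap f := le_inf h.le (map_le_iff_le_comap.1 h3)
  obtain ⟨S, hS, hRS⟩ := exists_isSyl h.two h4
  have h6 : S = R := h.max S hS.two (hS.le.trans inf_le_left) hRS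
  rw [h6] at hS
  have h5 : (E ⊓ R'.comap f).map f = R' := by
    apply le_antisymm
    · rintro _ ⟨g, hg, rfl⟩
      exact hg.2
    · intro y hy
      obtain ⟨e, he, rfl⟩ := h2 hy
      exact ⟨e, ⟨he, hy⟩, rfl⟩
  -- `|R'| = |comap| / |ker|` is the 2-part
  obtain ⟨k, hk⟩ := IsPGroup.iff_card.1 h1
  have h7 : 2 ^ k ∣ Nat.card ↥(E ⊓ R'.comap f : Subgroup X) := by
    rw [← hk]
    conv_lhs => rw [← h5]
    exact card_map_dvd _ f
  have h8 := hS.dvd_card h7
  refine (Subgroup.eq_of_le_of_card_ge h3 ?_).symm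
  rw [card_map hf h.two, hk]
  exact Nat.le_of_dvd Nat.card_pos h8

end Cfsg.Agent.UGT.L34T2.Quo
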