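import Cfsg.Agent.UGT.L34T2.DHat
import Cfsg.Agent.UGT.L34T2.Good
import Cfsg.Agent.UGT.L34T2.Quo

/-!
# Type `L₃(4)`, `T < S`, small: the group `D^` is the image of `O(C(x)) ∩ M`

`W` odd, `M = N(W)`, `π : M → H` surjective with kernel `W`, `C(a) ≤ M`, `C_W(a) = O(C(a))`, `b` good and
`O(C(b)) ≤ W`: the image of `O(C(x)) ∩ M` satisfies the hypotheses `DH` of `DHat`.
-/

set_option autoImplicit false

open Cfsg Subgroup
open Cfsg.Agent.SignalizersComponents Cfsg.Agent.Lib
open Cfsg.Agent.SignalizersComponents.IntrinsicBasic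
open Cfsg.Agent.Intrinsic.Basic
open Cfsg.Agent.UGT.Triple Cfsg.Agent.UGT.TriBase
open Cfsg.Agent.UGT.Iface (IsL34)
open scoped commutatorElement

namespace Cfsg.Agent.UGT.L34T2.DHatOf

universe u

variable {G : Type u} [Group G] [Finite G] {H : Type u} [Group H] {W L : Subgroup G} {a b x : G}

/-- `D^` -/
def Dh (W : Subgroup G) (π : ↥(normalizer (W : Set G)) →* H) (x : G) : Subgroup H :=
  ((core (centralizer ({x} : Set G))).subgroupOf (normalizer (W : Set G))).map π

omit [Finite G] in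
theorem mem_Dh {π : ↥(normalizer (W : Set G)) →* H} {d : H} :
    d ∈ Dh W π x ↔ ∃ m : ↥(normalizer (W : Set G)), (m : G) ∈ core (centralizer ({x} : Set G)) ∧ π m = d :=
  Iff.rfl

omit [Finite G] in
theorem comm_core {m : G} (h : m ∈ core (centralizer ({x} : Set G))) : m * x = x * m :=
  comm_c (core_le _ h)

/-- **`D^` satisfies `DH`.** -/
theorem dh_of (π : ↥(normalizer (W : Set G)) →* H) (hs : Function.Surjective π)
    (hk : ∀ m : ↥(normalizer (W : Set G)), π m = 1 ↔ (m : G) ∈ W) (hW : Odd (Nat.card W))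
    (hCa : centralizer ({a} : Set G) ≤ normalizer (W : Set G))
    (hWa : W ⊓ centralizer ({a} : Set G) = core (centralizer ({a} : Set G)))
    (hG : Good.Good b) (hWb : core (centralizer ({b} : Set G)) ≤ W)
    (T : IsTriple x a L) (hbL : b ∈ L) (hbb : b * b = 1) (hb1 : b ≠ 1) (hxb : x * b = b * x)
    (haM : a ∈ normalizer (W : Set G)) (hbM : b ∈ normalizer (W : Set G)) (hxM : x ∈ normalizer (W : Set G))
    {L' Q' : Subgroup H} (hL' : ∀ (l : G) (hl : l ∈ normalizer (W : Set G)), l ∈ L → π ⟨l, hl⟩ ∈ L')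
    (l34 : IsL34 ↥L') (La : ∀ l ∈ L', l * π ⟨a, haM⟩ = π ⟨a, haM⟩ * l)
    (Ln : ∀ g, g * π ⟨a, haM⟩ = π ⟨a, haM⟩ * g → g ∈ normalizer (L' : Set H))
    (fixQ : ∀ g, g * π ⟨a, haM⟩ = π ⟨a, haM⟩ * g → (∀ l ∈ L', g * l = l * g) → g ∈ Q')
    (Q2 : IsPGroup 2 ↥Q') :
    DHat.DH L' (Dh W π x) Q' (π ⟨a, haM⟩) (π ⟨b, hbM⟩) (π ⟨x, hxM⟩) := by
  have hxx : x * x = 1 := sq_of_order T.invx
  have hcx : ∀ c : G, c * x = x * c → ∀ m ∈ core (centralizer ({x} : Set G)),
      c * m * c⁻¹ ∈ core (centralizer ({x} : Set G)) := fun c hc m hm => conj_core (mem_c hc) hm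
  have hker : π.ker = W.subgroupOf (normalizer (W : Set G)) := by
    ext m
    rw [MonoidHom.mem_ker, hk]
    rfl
  have hodd : Odd (Nat.card π.ker) := by
    rw [hker]
    exact Odd.of_dvd_nat hW (card_comap_dvd_of_injective _ _ (subtype_injective _))
  have hlift : ∀ (y : G) (hy : y ∈ normalizer (W : Set G)), y * y = 1 → ∀ g : H,
      g * π ⟨y, hy⟩ = π ⟨y, hy⟩ * g → ∃ n : ↥(normalizer (W : Set G)), (n : G) * y = y * n ∧ π n = g := by
    intro y hy hyy g hg
    obtain ⟨m, rfl⟩ := hs g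
    have h2 : IsPGroup 2 (zpowers (⟨y, hy⟩ : ↥(normalizer (W : Set G)))) := by
      have h3 : orderOf (⟨y, hy⟩ : ↥(normalizer (W : Set G))) ∣ 2 :=
        orderOf_dvd_of_pow_eq_one (by rw [pow_two]; exact Subtype.ext hyy)
      rcases (Nat.dvd_prime Nat.prime_two).mp h3 with h4 | h4
      · apply IsPGroup.of_card (n := 0)
        rw [Nat.card_zpowers, h4, pow_zero]
      · apply IsPGroup.of_card (n := 1)
        rw [Nat.card_zpowers, h4, pow_one]
    obtain ⟨n, hn, hn'⟩ := Quo.exists_centralizer' hodd h2 hg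
    exact ⟨n, congrArg Subtype.val hn, hn'⟩
  refine
    { l34 := l34
      La := La
      Ln := Ln
      fixQ := fixQ
      Q2 := Q2
      xx := ?_
      xa := ?_
      bL := hL' b hbM hbL
      bb := ?_
      b1 := ?_
      xb := ?_
      dodd := ?_
      dx := ?_
      dn := ?_
      db := ?_
      da := ?_ }
  · rw [← map_mul]
    have : (⟨x, hxM⟩ * ⟨x, hxM⟩ : ↥(normalizer (W : Set G))) = 1 := Subtype.ext hxx
    rw [this, map_one]
  · rw [← map_mul, ← map_mul]
    exact congrArg π (Subtype.ext T.comm.symm)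
  · rw [← map_mul]
    have : (⟨b, hbM⟩ * ⟨b, hbM⟩ : ↥(normalizer (W : Set G))) = 1 := Subtype.ext hbb
    rw [this, map_one]
  · intro h
    rw [hk] at h
    have h1 : orderOf b = 2 := orderOf_eq_prime (by rw [pow_two, hbb]) hb1
    have h2 : orderOf b ∣ Nat.card W := by
      have := orderOf_dvd_natCard (⟨b, h⟩ : W)
      rwa [Subgroup.orderOf_mk] at this
    rw [h1] at h2
    exact (Nat.not_even_iff_odd.mpr hW) (even_iff_two_dvd.mpr h2)
  · rw [← map_mul, ← map_mul]
    exact congrArg π (Subtype.ext hxb)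
  · refine Odd.of_dvd_nat (odd_card_core (centralizer ({x} : Set G))) ?_
    exact (card_map_dvd _ _).trans (card_comap_dvd_of_injective _ _ (subtype_injective _))
  · rintro _ ⟨m, hm, rfl⟩
    rw [← map_mul, ← map_mul]
    exact congrArg π (Subtype.ext (comm_core hm))
  · rintro g hg _ ⟨m, hm, rfl⟩
    obtain ⟨n, hn, rfl⟩ := hlift x hxM hxx g hg
    refine ⟨n * m * n⁻¹, ?_, by rw [map_mul, map_mul, map_inv]⟩
    exact hcx n hn m hm
  · rintro _ ⟨m, hm, rfl⟩ hmb
    have hm' : (m : G) ∈ core (centralizer ({x} : Set G)) := hm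
    -- `F = O(C(x)) ∩ W`
    obtain ⟨F, hF⟩ : ∃ F, F = core (centralizer ({x} : Set G)) ⊓ W := ⟨_, rfl⟩
    have hFo : Odd (Nat.card F) :=
      Odd.of_dvd_nat hW (by rw [hF]; exact card_dvd_of_le inf_le_right)
    have hbn : b ∈ normalizer (F : Set G) := by
      have h1 : b ∈ normalizer (core (centralizer ({x} : Set G)) : Set G) :=
        le_normalizer_core _ (mem_c hxb.symm)
      rw [mem_normalizer_iff]
      intro y
      rw [hF, mem_inf, mem_inf]
      exact and_congr (mem_normalizer_iff.mp h1 y) (mem_normalizer_iff.mp hbM y)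
    have h2 : (m : G)⁻¹ * (b * m * b⁻¹) ∈ F := by
      rw [hF]
      refine ⟨Subgroup.mul_mem _ (Subgroup.inv_mem _ hm') (hcx b hxb.symm _ hm'), ?_⟩
      have h3 : π (m⁻¹ * (⟨b, hbM⟩ * m * ⟨b, hbM⟩⁻¹)) = 1 := by
        rw [map_mul, map_mul, map_mul, map_inv, map_inv, ← hmb]
        group
      exact (hk _).mp h3
    obtain ⟨o, ho, hco⟩ := Intrinsic.Lifting.exists_commute (n := 1) hFo
      (by rw [pow_one, pow_two, hbb]) hbn h2
    rw [hF] at ho
    have h4 : (m : G) * o ∈ core (centralizer ({x} : Set G)) ⊓ centralizer ({b} : Set G) :=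
      ⟨mul_mem hm' ho.1, mem_c hco.symm⟩
    have h5 := hWb (hG x T.invx hxb h4)
    rw [hk]
    have e : (m : G) = (m * o) * o⁻¹ := by group
    rw [e]
    exact Subgroup.mul_mem _ h5 (Subgroup.inv_mem _ ho.2)
  · obtain ⟨d, hd, hda, hf⟩ := T.bad
    have hdM : d ∈ normalizer (W : Set G) := hCa hda
    refine ⟨π ⟨d, hdM⟩, ⟨⟨d, hdM⟩, hd, rfl⟩, ?_, ?_⟩
    · rw [← map_mul, ← map_mul]
      exact congrArg π (Subtype.ext (comm_c hda))
    · by_contra hcon
      push Not at hcon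
      apply hf
      have hdL : d ∈ normalizer (L : Set G) := T.mem_normalizer_of_core hd hda
      refine ⟨hdL, fun l hl => ?_⟩
      have hla : l ∈ centralizer ({a} : Set G) := T.comp.le hl
      have hlM := hCa hla
      have h1 := hcon _ (hL' l hlM hl)
      have h2 : π (⟨d, hdM⟩ * ⟨l, hlM⟩ * ⟨d, hdM⟩⁻¹ * ⟨l, hlM⟩⁻¹) = 1 := by
        rw [map_mul, map_mul, map_mul, map_inv, map_inv, h1]
        group
      have h3 : ⁅d, l⁆ ∈ W := (hk _).mp h2
      rw [T.comp.core_eq]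
      refine ⟨?_, ?_⟩
      · rw [commutatorElement_def]
        exact Subgroup.mul_mem _ ((mem_normalizer_iff.mp hdL l).mp hl) (Subgroup.inv_mem _ hl)
      · rw [← hWa]
        refine ⟨h3, ?_⟩
        rw [commutatorElement_def]
        exact Subgroup.mul_mem _ (Subgroup.mul_mem _ (Subgroup.mul_mem _ hda hla) (Subgroup.inv_mem _ hda))
          (Subgroup.inv_mem _ hla)

end Cfsg.Agent.UGT.L34T2.DHatOf
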