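import Cfsg.Agent.UGT.L34T2.Fr

/-!
# Type `L₃(4)`, `T < S`, case BIG: the double frame (UGT #14882 (3), (4))

`S = T⟨t⟩ ∈ Syl₂(G)`, `T ∈ Syl₂(C(a))`, `J = P × Q`, `t` swaps `P` and `Q`, `a = b^t`.

`pure` = conjugate to `a` (`I(P) ∪ I(Q)` inside `J`); `mixed` = `p q`, `p ∈ I(P)`, `q ∈ I(Q)` (all conjugate to `a b`).

`DblX`: in addition the normal subgroup `X`, and for involutions `e` the groups `Inn e`, `Fix e` of elements of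
`C(e)` that are inner resp. trivial on the `L₃(4)`-component of `C(e)`.
-/

set_option autoImplicit false

open Subgroup

namespace Cfsg.Agent.UGT.L34T2

variable {G : Type*} [Group G]

/-- The double frame. -/
structure Dbl (S T P Q Z : Subgroup G) (A : Bool → Subgroup G) (K : Subgroup G) (a b t x : G) : Prop
    extends Fr T P Q Z A b where
  S2 : IsPGroup 2 S
  TS : T ≤ S
  tS : t ∈ S
  tn : t ∉ T
  ST : ∀ s ∈ S, s ∈ T ∨ t⁻¹ * s ∈ T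
  tT : ∀ y ∈ T, t * y * t⁻¹ ∈ T
  tP : ∀ p ∈ P, t * p * t⁻¹ ∈ Q
  tQ : ∀ q ∈ Q, t * q * t⁻¹ ∈ P
  ta : t * b * t⁻¹ = a
  tb : t * a * t⁻¹ = b
  xT : x ∈ T
  xx : x * x = 1
  /-- `x` has type `x` on `P` -/
  xZ : ¬ ∀ z ∈ Z, x * z = z * x
  xA : ∀ i, ∀ u ∈ A i, x * u * x⁻¹ ∈ A (!i)
  /-- `x` has type `x` on `Q` -/
  xZ' : ¬ ∀ z ∈ Z, (t⁻¹ * x * t) * z = z * (t⁻¹ * x * t)
  xA' : ∀ i, ∀ u ∈ A i, (t⁻¹ * x * t) * u * (t⁻¹ * x * t)⁻¹ ∈ A (!i)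
  /-- `S` is a Sylow 2-subgroup of `G` -/
  syl : ∀ R : Subgroup G, IsPGroup 2 R → ∃ g : G, ∀ r ∈ R, g * r * g⁻¹ ∈ S
  /-- `T` is a Sylow 2-subgroup of `C(a)` -/
  sylT : ∀ R : Subgroup G, IsPGroup 2 R → (∀ r ∈ R, r * a = a * r) →
    ∃ g : G, g * a = a * g ∧ ∀ r ∈ R, g * r * g⁻¹ ∈ T
  Ta : ∀ y ∈ T, y * a = a * y
  /-- `K` centralises `Q`, contains `P` and fuses the involutions of `P` -/
  KQ : ∀ k ∈ K, ∀ q ∈ Q, k * q = q * k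
  PK : P ≤ K
  cls : ∀ p ∈ P, p * p = 1 → p ≠ 1 → ∃ k ∈ K, k * p * k⁻¹ = b

/-- The double frame with the normal subgroup `X` and the action on the components. -/
structure DblX (S T P Q Z : Subgroup G) (A : Bool → Subgroup G) (K : Subgroup G) (a b t x : G)
    (X : Subgroup G) (Inn Fix : G → Subgroup G) : Prop extends Dbl S T P Q Z A K a b t x where
  Xn : X.Normal
  KX : K ≤ X
  /-- `X` is perfect, `G = X S` if `S` is not contained in `X` -/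
  perf : ∀ f : X →* ℤˣ, f = 1
  XS : ∀ g : G, ∃ y ∈ X, ∃ s ∈ S, g = y * s
  /-- equivariance -/
  Innc : ∀ g e y : G, y ∈ Inn e → g * y * g⁻¹ ∈ Inn (g * e * g⁻¹)
  Fixc : ∀ g e y : G, y ∈ Fix e → g * y * g⁻¹ ∈ Fix (g * e * g⁻¹)
  /-- `e ∈ I(Q)`: an element of `C_T(e)` is inner on the component of `C(e)` iff it lies in `P Q` -/
  InnQ : ∀ e ∈ Q, e * e = 1 → e ≠ 1 → ∀ y ∈ T, y * e = e * y → (y ∈ Inn e ↔ ∃ p ∈ P, ∃ q ∈ Q, y = p * q)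
  /-- `e ∈ I(Q)`: an element of `C_T(e)` is trivial on the component of `C(e)` iff it lies in `Q` -/
  FixQ : ∀ e ∈ Q, e * e = 1 → e ≠ 1 → ∀ y ∈ T, y * e = e * y → (y ∈ Fix e ↔ y ∈ Q)

end Cfsg.Agent.UGT.L34T2
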