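import Cfsg.Agent.UGT.L34T2.DblSymm

/-!
# Type `L₃(4)`, double frame: base facts

`J = P Q = P ⊔ Q`:
* `relIndex_S`: `|S : J| ≤ 8`; `nSJ`: `S` normalises `J`; `swP`, `swQ`, `cen_swap`: elements of `S - T`;
* `elem_le`: an elementary abelian subgroup of `S` of order at least 256 lies in `J`;
* `wcl`: `J` is weakly closed in every 2-group containing it;
* `fus_ZJ`: the normaliser of `J` controls fusion in `Z(J)`; `perm`: it permutes `Z`, `Z'`;
* `not_isConj`: `a` is not conjugate to `a b`; `pure_iff`, `mixed_iff`;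
* `Z1_le`: a Heisenberg group `R ≤ S` has `Z(R) ≤ J`;
* `eq_ab`: `C_S(v) = S`, `v ∈ I(J)` gives `v = a b`.
-/

set_option autoImplicit false
set_option linter.unusedSectionVars false

open Subgroup

namespace Cfsg.Agent.UGT.L34T2

variable {G : Type*} [Group G] [Finite G]

/-- an elementary abelian subgroup of the Heisenberg group has order at most 16 -/
theorem Heis.card_elem_le {P Z : Subgroup G} {A : Bool → Subgroup G} (h : Heis P Z A) {N : Subgroup G} (hN : N ≤ P)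
    (hsq : ∀ u ∈ N, u * u = 1) : Nat.card N ≤ 16 := by
  have hcomm : ∀ u ∈ N, ∀ v ∈ N, u * v = v * u := by
    intro u hu v hv
    have h1 := hsq _ (N.mul_mem hu hv)
    have h2 := hsq u hu
    have h3 := hsq v hv
    calc u * v = u * (u * v * (u * v)) * v := by rw [h1, mul_one]
      _ = (u * u) * (v * u) * (v * v) := by group
      _ = v * u := by rw [h2, h3, one_mul, mul_one]
  by_cases hZ : N ≤ Z
  · have := Subgroup.card_le_of_le hZ
    rw [h.cardZ] at this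
    omega
  · obtain ⟨u, hu, huZ⟩ := SetLike.not_le_iff_exists.mp hZ
    obtain ⟨i, hi⟩ := h.inv u (hN hu) (hsq u hu)
    have h1 : N ≤ A i := fun v hv => h.cen i u hi huZ v (hN hv) (hcomm v hv u hu)
    have := Subgroup.card_le_of_le h1
    rwa [h.cardA] at this

namespace Fr

variable {T P Q Z : Subgroup G} {A : Bool → Subgroup G} {b : G}

/-- an elementary abelian subgroup of `C_P(e)`, `e` outer, an involution modulo `Q`, has order at most 4 -/
theorem card_elem_cen_le (h : Fr T P Q Z A b) {e : G} (he : e ∈ T) (hee : e * e ∈ Q)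
    (heo : ¬ ∃ p ∈ P, ∃ q ∈ Q, e = p * q) {N : Subgroup G} (hN : N ≤ P) (hc : ∀ u ∈ N, e * u = u * e)
    (hsq : ∀ u ∈ N, u * u = 1) : Nat.card N ≤ 4 := by
  by_cases hZ : ∀ z ∈ Z, e * z = z * e
  · have h1 : N ≤ Z := fun u hu => h.gZ e he heo hZ hee u (hN hu) (hc u hu)
    have := Subgroup.card_le_of_le h1
    rwa [h.cardZ] at this
  · have h8 := h.card8 e he hee hZ
    obtain ⟨c, hcP, d, hdP, ec, ed, ecd⟩ := h.der e he hee hZ
    let C : Subgroup G := P ⊓ centralizer {e}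
    have hC : ∀ u, u ∈ C ↔ u ∈ P ∧ e * u = u * e := by
      intro u
      rw [mem_inf, mem_centralizer_singleton_iff, eq_comm]
    have hcard : Nat.card C = 8 := by
      rw [← h8]
      exact Nat.card_congr (Equiv.subtypeEquivRight hC)
    have hNC : N ≤ C := fun u hu => (hC u).mpr ⟨hN hu, hc u hu⟩
    have hne : N ≠ C := by
      intro heq
      have h1 : c ∈ N := by rw [heq]; exact (hC c).mpr ⟨hcP, ec⟩
      have h2 : d ∈ N := by rw [heq]; exact (hC d).mpr ⟨hdP, ed⟩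
      have h3 : c * d = d * c := by
        have a1 := hsq _ (N.mul_mem h1 h2)
        have a2 := hsq c h1
        have a3 := hsq d h2
        calc c * d = c * (c * d * (c * d)) * d := by rw [a1, mul_one]
          _ = (c * c) * (d * c) * (d * d) := by group
          _ = d * c := by rw [a2, a3, one_mul, mul_one]
      apply h.b1
      rw [← ecd, h3]
      group
    have hdvd : Nat.card N ∣ 8 := hcard ▸ Subgroup.card_dvd_of_le hNC
    have hlt : Nat.card N ≠ 8 := by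
      intro e8
      exact hne (Subgroup.eq_of_le_of_card_ge hNC (by rw [hcard, e8]))
    have hle := Nat.le_of_dvd (by norm_num) hdvd
    interval_cases hN' : Nat.card N <;> simp_all

end Fr

/-- projection of a subgroup of `P Q` -/
def prj (P Q E : Subgroup G) (hc : ∀ p ∈ P, ∀ q ∈ Q, p * q = q * p) : Subgroup G where
  carrier := {p | p ∈ P ∧ ∃ q ∈ Q, p * q ∈ E}
  mul_mem' := by
    rintro p p' ⟨hp, q, hq, h1⟩ ⟨hp', q', hq', h2⟩
    refine ⟨P.mul_mem hp hp', q * q', Q.mul_mem hq hq', ?_⟩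
    have e : p * p' * (q * q') = p * q * (p' * q') := by
      have := hc p' hp' q hq
      calc p * p' * (q * q') = p * (p' * q) * q' := by group
        _ = p * (q * p') * q' := by rw [this]
        _ = _ := by group
    rw [e]
    exact E.mul_mem h1 h2
  one_mem' := ⟨P.one_mem, 1, Q.one_mem, by rw [mul_one]; exact E.one_mem⟩
  inv_mem' := by
    rintro p ⟨hp, q, hq, h1⟩
    refine ⟨P.inv_mem hp, q⁻¹, Q.inv_mem hq, ?_⟩
    rw [← mul_inv_rev, ← hc p hp q hq]
    exact E.inv_mem h1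

namespace Fr

variable {T P Q Z : Subgroup G} {A : Bool → Subgroup G} {b : G}

theorem mem_prj (h : Fr T P Q Z A b) {E : Subgroup G} {p : G} :
    p ∈ prj P Q E h.comm ↔ p ∈ P ∧ ∃ q ∈ Q, p * q ∈ E := Iff.rfl

theorem mem_prj' (h : Fr T P Q Z A b) {E : Subgroup G} {q : G} :
    q ∈ prj Q P E (fun q hq p hp => (h.comm p hp q hq).symm) ↔ q ∈ Q ∧ ∃ p ∈ P, p * q ∈ E := by
  constructor
  · rintro ⟨hq, p, hp, h1⟩
    exact ⟨hq, p, hp, by rwa [h.comm p hp q hq]⟩
  · rintro ⟨hq, p, hp, h1⟩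
    exact ⟨hq, p, hp, by rwa [← h.comm p hp q hq]⟩

/-- projections of involutions are involutions -/
theorem sq_of_sq (h : Fr T P Q Z A b) {p q : G} (hp : p ∈ P) (hq : q ∈ Q) (e : p * q * (p * q) = 1) :
    p * p = 1 ∧ q * q = 1 := by
  have e1 : p * p * (q * q) = 1 * 1 := by
    rw [one_mul, ← e]
    have := h.comm p hp q hq
    calc p * p * (q * q) = p * (p * q) * q := by group
      _ = p * (q * p) * q := by rw [this]
      _ = _ := by group
  exact h.uniq (P.mul_mem hp hp) P.one_mem (Q.mul_mem hq hq) Q.one_mem e1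

/-- `|E| ≤ |pr_P E| |pr_Q E|` for `E ≤ P Q` -/
theorem card_le_prj (h : Fr T P Q Z A b) {E : Subgroup G} (hE : E ≤ P ⊔ Q) :
    Nat.card E ≤ Nat.card (prj P Q E h.comm) *
      Nat.card (prj Q P E (fun q hq p hp => (h.comm p hp q hq).symm)) := by
  rw [← Nat.card_prod]
  have hex : ∀ j : E, ∃ u : (prj P Q E h.comm) × (prj Q P E (fun q hq p hp => (h.comm p hp q hq).symm)),
      (j : G) = u.1 * u.2 := by
    rintro ⟨j, hj⟩
    obtain ⟨p, hp, q, hq, rfl⟩ := h.mem_J.mp (hE hj)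
    exact ⟨(⟨p, hp, q, hq, hj⟩, ⟨q, h.mem_prj'.mpr ⟨hq, p, hp, hj⟩⟩), rfl⟩
  choose φ hφ using hex
  refine Nat.card_le_card_of_injective φ ?_
  intro j j' e
  exact Subtype.ext (by rw [hφ j, hφ j', e])

end Fr

/-- two 2-subgroups of `H` are in a common 2-subgroup up to conjugation in `H` -/
theorem exists_common {H R1 R2 : Subgroup G} (h1 : R1 ≤ H) (h2 : R2 ≤ H) (p1 : IsPGroup 2 R1)
    (p2 : IsPGroup 2 R2) : ∃ c ∈ H, ∃ R : Subgroup G, IsPGroup 2 R ∧ R ≤ H ∧ R1 ≤ R ∧ cjg c R2 ≤ R := by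
  have q1 : IsPGroup 2 (R1.subgroupOf H) := p1.comap_of_injective _ (subtype_injective H)
  have q2 : IsPGroup 2 (R2.subgroupOf H) := p2.comap_of_injective _ (subtype_injective H)
  obtain ⟨S1, hS1⟩ := q1.exists_le_sylow
  obtain ⟨S2, hS2⟩ := q2.exists_le_sylow
  obtain ⟨c, hc⟩ := MulAction.exists_smul_eq (↥H) S2 S1
  refine ⟨c, c.2, (S1 : Subgroup H).map H.subtype, S1.2.map _, map_subtype_le _, ?_, ?_⟩
  · intro r hr
    exact ⟨⟨r, h1 hr⟩, hS1 (mem_subgroupOf.mpr hr), rfl⟩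
  · intro y hy
    obtain ⟨r, hr, rfl⟩ := exists_of_cjg hy
    have h3 : (⟨r, h2 hr⟩ : H) ∈ S2 := hS2 (mem_subgroupOf.mpr hr)
    have h4 : c * ⟨r, h2 hr⟩ * c⁻¹ ∈ S1 := by
      rw [← hc]
      have := Sylow.smul_def (g := c) (P := S2)
      change c * ⟨r, h2 hr⟩ * c⁻¹ ∈ ((c • S2 : Sylow 2 H) : Subgroup H)
      rw [Sylow.coe_subgroup_smul]
      exact Subgroup.smul_mem_pointwise_smul (⟨r, h2 hr⟩ : H) (MulAut.conj c) (S2 : Subgroup H) h3
    exact ⟨_, h4, rfl⟩

namespace Dbl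

variable {S T P Q Z : Subgroup G} {A : Bool → Subgroup G} {K : Subgroup G} {a b t x : G}

theorem tJ (h : Dbl S T P Q Z A K a b t x) {j : G} (hj : j ∈ P ⊔ Q) : t * j * t⁻¹ ∈ P ⊔ Q := by
  obtain ⟨p, hp, q, hq, rfl⟩ := h.mem_J.mp hj
  rw [conj_mul]
  exact mul_mem (mem_sup_right (h.tP p hp)) (mem_sup_left (h.tQ q hq))

/-- an element of `S - T` is `t y`, `y ∈ T` -/
theorem exists_sw (h : Dbl S T P Q Z A K a b t x) {e : G} (he : e ∈ S) (hn : e ∉ T) : ∃ y ∈ T, e = t * y :=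
  ⟨t⁻¹ * e, (h.ST e he).resolve_left hn, by group⟩

theorem nSJ (h : Dbl S T P Q Z A K a b t x) {s j : G} (hs : s ∈ S) (hj : j ∈ P ⊔ Q) : s * j * s⁻¹ ∈ P ⊔ Q := by
  by_cases hT : s ∈ T
  · exact h.nJ hT hj
  · obtain ⟨y, hy, rfl⟩ := h.exists_sw hs hT
    have e : t * y * j * (t * y)⁻¹ = t * (y * j * y⁻¹) * t⁻¹ := by group
    rw [e]
    exact h.tJ (h.nJ hy hj)

theorem swP (h : Dbl S T P Q Z A K a b t x) {e p : G} (he : e ∈ S) (hn : e ∉ T) (hp : p ∈ P) :
    e * p * e⁻¹ ∈ Q := by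
  obtain ⟨y, hy, rfl⟩ := h.exists_sw he hn
  have e : t * y * p * (t * y)⁻¹ = t * (y * p * y⁻¹) * t⁻¹ := by group
  rw [e]
  exact h.tP _ (h.nP y hy p hp)

theorem swQ (h : Dbl S T P Q Z A K a b t x) {e q : G} (he : e ∈ S) (hn : e ∉ T) (hq : q ∈ Q) :
    e * q * e⁻¹ ∈ P := by
  obtain ⟨y, hy, rfl⟩ := h.exists_sw he hn
  have e : t * y * q * (t * y)⁻¹ = t * (y * q * y⁻¹) * t⁻¹ := by group
  rw [e]
  exact h.tQ _ (h.nQ y hy q hq)

/-- the centraliser in `P Q` of an element of `S - T` is diagonal -/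
theorem cen_swap (h : Dbl S T P Q Z A K a b t x) {e p q : G} (he : e ∈ S) (hn : e ∉ T) (hp : p ∈ P) (hq : q ∈ Q)
    (hc : e * (p * q) = p * q * e) : q = e * p * e⁻¹ ∧ p = e * q * e⁻¹ := by
  have e1 : (e * q * e⁻¹) * (e * p * e⁻¹) = p * q := by
    rw [h.comm _ (h.swQ he hn hq) _ (h.swP he hn hp), ← conj_mul, hc]
    group
  obtain ⟨e2, e3⟩ := h.uniq (h.swQ he hn hq) hp (h.swP he hn hp) hq e1
  exact ⟨e3.symm, e2.symm⟩

theorem card_PQ (h : Dbl S T P Q Z A K a b t x) : Nat.card (P ⊔ Q : Subgroup G) = 4096 := by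
  rw [h.card_J, h.card_Q]

theorem JleS (h : Dbl S T P Q Z A K a b t x) : P ⊔ Q ≤ S := h.JT.trans h.TS

theorem relIndex_TS (h : Dbl S T P Q Z A K a b t x) : T.relIndex S ≤ 2 := by
  classical
  let φ : (↥S ⧸ T.subgroupOf S) → Bool := fun q => decide ((q.out : G) ∈ T)
  have hφ : Function.Injective φ := by
    intro q q' e
    simp only [φ, decide_eq_decide] at e
    rw [← Quotient.out_eq q, ← Quotient.out_eq q']
    refine QuotientGroup.eq.mpr ?_
    rw [mem_subgroupOf]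
    change (q.out : G)⁻¹ * (q'.out : G) ∈ T
    by_cases h1 : (q.out : G) ∈ T
    · exact T.mul_mem (T.inv_mem h1) (e.mp h1)
    · obtain ⟨y, hy, e1⟩ := h.exists_sw q.out.2 h1
      obtain ⟨y', hy', e2⟩ := h.exists_sw q'.out.2 (fun h2 => h1 (e.mpr h2))
      rw [e1, e2]
      have e3 : (t * y)⁻¹ * (t * y') = y⁻¹ * y' := by group
      rw [e3]
      exact T.mul_mem (T.inv_mem hy) hy'
  have := Nat.card_le_card_of_injective φ hφ
  have e2 : Nat.card Bool = 2 := by simp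
  rw [e2] at this
  exact this

theorem relIndex_S (h : Dbl S T P Q Z A K a b t x) : (P ⊔ Q).relIndex S ≤ 8 := by
  have h1 := Subgroup.relIndex_mul_relIndex (P ⊔ Q) T S h.JT h.TS
  have h2 := h.relIndex_le
  have h3 := h.relIndex_TS
  rw [← h1]
  calc (P ⊔ Q).relIndex T * T.relIndex S ≤ 4 * 2 := Nat.mul_le_mul h2 h3
    _ = 8 := rfl

end Dbl

/-- `|E| ≤ |E ∩ J| n` -/
theorem card_le_inf_mul {E J T : Subgroup G} {n : ℕ} (hE : E ≤ T) (hn : J.relIndex T ≤ n) :
    Nat.card E ≤ Nat.card (E ⊓ J : Subgroup G) * n := by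
  have h1 : Nat.card (J.subgroupOf E) * (J.subgroupOf E).index = Nat.card E := Subgroup.card_mul_index _
  have h2 : Nat.card (J.subgroupOf E) = Nat.card (E ⊓ J : Subgroup G) := by
    rw [← Subgroup.card_map_of_injective (subtype_injective E), subgroupOf_map_subtype, inf_comm]
  have h3 : (J.subgroupOf E).index ≤ n := by
    have : J.relIndex E ≤ J.relIndex T :=
      Subgroup.relIndex_le_of_le_right hE
        (Nat.pos_iff_ne_zero.mp (Nat.pos_of_ne_zero (Subgroup.index_ne_zero_of_finite)))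
    exact this.trans hn
  rw [← h1, h2]
  exact Nat.mul_le_mul_left _ h3

namespace Dbl

variable {S T P Q Z : Subgroup G} {A : Bool → Subgroup G} {K : Subgroup G} {a b t x : G}

/-- an elementary abelian subgroup of `S` of order at least 256 lies in `J` -/
theorem elem_le (h : Dbl S T P Q Z A K a b t x) {E : Subgroup G} (hE : E ≤ S) (hsq : ∀ u ∈ E, u * u = 1)
    (h256 : 256 ≤ Nat.card E) : E ≤ P ⊔ Q := by
  have hcomm : ∀ u ∈ E, ∀ v ∈ E, u * v = v * u := by
    intro u hu v hv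
    have h1 := hsq _ (E.mul_mem hu hv)
    have h2 := hsq u hu
    have h3 := hsq v hv
    calc u * v = u * (u * v * (u * v)) * v := by rw [h1, mul_one]
      _ = (u * u) * (v * u) * (v * v) := by group
      _ = v * u := by rw [h2, h3, one_mul, mul_one]
  intro e he
  by_contra hne
  have hprP : ∀ u ∈ prj P Q (E ⊓ (P ⊔ Q)) h.comm, u * u = 1 := by
    rintro u ⟨hu, q, hq, h1⟩
    exact (h.sq_of_sq hu hq (hsq _ (mem_inf.mp h1).1)).1
  have hprQ : ∀ u ∈ prj Q P (E ⊓ (P ⊔ Q)) (fun q hq p hp => (h.comm p hp q hq).symm), u * u = 1 := by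
    intro u hu
    obtain ⟨hu, p, hp, h1⟩ := h.mem_prj'.mp hu
    exact (h.sq_of_sq hp hu (hsq _ (mem_inf.mp h1).1)).2
  by_cases hET : E ≤ T
  · -- `|E ∩ J| ≥ 64`, and `≤ 16`
    have h1 := card_le_inf_mul hET h.relIndex_le
    have heT := hET he
    have hee := hsq e he
    have hJe : ∀ p ∈ P, ∀ q ∈ Q, p * q ∈ E → e * p = p * e ∧ e * q = q * e := by
      intro p hp q hq hpq
      exact (h.cen_J heT hp hq).mp (hcomm e he _ hpq)
    have h2 : Nat.card (prj P Q (E ⊓ (P ⊔ Q)) h.comm) ≤ 4 := by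
      refine h.card_elem_cen_le heT (by rw [hee]; exact Q.one_mem) ?_ (fun u hu => hu.1) ?_ hprP
      · rintro ⟨p, hp, q, hq, e1⟩
        exact hne (h.mem_J.mpr ⟨p, hp, q, hq, e1⟩)
      · rintro u ⟨hu, q, hq, h1⟩
        exact (hJe u hu q hq (mem_inf.mp h1).1).1
    have h3 : Nat.card (prj Q P (E ⊓ (P ⊔ Q)) (fun q hq p hp => (h.comm p hp q hq).symm)) ≤ 4 := by
      refine h.symm.card_elem_cen_le heT (by rw [hee]; exact P.one_mem) ?_ (fun u hu => hu.1) ?_ hprQ
      · rintro ⟨q, hq, p, hp, e1⟩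
        exact hne (h.mem_J.mpr ⟨p, hp, q, hq, by rw [e1, h.comm p hp q hq]⟩)
      · intro u hu
        obtain ⟨hu, p, hp, h1⟩ := h.mem_prj'.mp hu
        exact (hJe p hp u hu (mem_inf.mp h1).1).2
    have h4 := h.card_le_prj (E := E ⊓ (P ⊔ Q)) inf_le_right
    have h5 := Nat.mul_le_mul h2 h3
    omega
  · -- a swap
    obtain ⟨s, hs, hsT⟩ := SetLike.not_le_iff_exists.mp hET
    have h1 := card_le_inf_mul hE h.relIndex_S
    have h2 : Nat.card (prj P Q (E ⊓ (P ⊔ Q)) h.comm) ≤ 16 :=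
      h.toHeis.card_elem_le (fun u hu => hu.1) hprP
    have h3 : Nat.card (E ⊓ (P ⊔ Q) : Subgroup G) ≤ Nat.card (prj P Q (E ⊓ (P ⊔ Q)) h.comm) := by
      have hex : ∀ j : (E ⊓ (P ⊔ Q) : Subgroup G), ∃ u : prj P Q (E ⊓ (P ⊔ Q)) h.comm,
          (j : G) = u * (s * u * s⁻¹) := by
        rintro ⟨j, hj⟩
        obtain ⟨p, hp, q, hq, rfl⟩ := h.mem_J.mp (mem_inf.mp hj).2
        have e1 := h.cen_swap (hE hs) hsT hp hq (hcomm s hs _ (mem_inf.mp hj).1)
        refine ⟨⟨p, hp, q, hq, hj⟩, ?_⟩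
        change p * q = p * (s * p * s⁻¹)
        rw [← e1.1]
      choose φ hφ using hex
      refine Nat.card_le_card_of_injective φ ?_
      intro j j' e
      exact Subtype.ext (by rw [hφ j, hφ j', e])
    omega

end Dbl

end Cfsg.Agent.UGT.L34T2
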