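import Cfsg.Agent.UGT.L34T2.DblBase

/-!
# Type `L₃(4)`, double frame: weak closure of `J`, fusion in `Z(J)`, pure and mixed involutions
-/

set_option autoImplicit false
set_option linter.unusedSectionVars false

open Subgroup

namespace Cfsg.Agent.UGT.L34T2

variable {G : Type*} [Group G] [Finite G]

namespace Dbl

variable {S T P Q Z : Subgroup G} {A : Bool → Subgroup G} {K : Subgroup G} {a b t x : G}

theorem cA (h : Dbl S T P Q Z A K a b t x) (i : Bool) : cjg t (A i) ≤ Q := h.symm.AP i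

/-- the elementary abelian groups `A i × (A j)^t` of order 256 -/
theorem card_AA (h : Dbl S T P Q Z A K a b t x) (i j : Bool) :
    Nat.card (A i ⊔ cjg t (A j) : Subgroup G) = 256 := by
  have hmem : ∀ y, y ∈ A i ⊔ cjg t (A j) ↔ ∃ u ∈ A i, ∃ v ∈ cjg t (A j), y = u * v := by
    intro y
    constructor
    · intro hy
      rw [sup_eq_closure] at hy
      induction hy using closure_induction with
      | mem u hu =>
        rcases hu with hu | hu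
        · exact ⟨u, hu, 1, one_mem _, by group⟩
        · exact ⟨1, one_mem _, u, hu, by group⟩
      | one => exact ⟨1, one_mem _, 1, one_mem _, by group⟩
      | mul u v _ _ iu iv =>
        obtain ⟨p, hp, q, hq, rfl⟩ := iu
        obtain ⟨p', hp', q', hq', rfl⟩ := iv
        refine ⟨p * p', mul_mem hp hp', q * q', mul_mem hq hq', ?_⟩
        have e := h.comm p' (h.AP _ hp') q (h.cA _ hq)
        calc p * q * (p' * q') = p * (q * p') * q' := by group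
          _ = p * (p' * q) * q' := by rw [e]
          _ = _ := by group
      | inv u _ iu =>
        obtain ⟨p, hp, q, hq, rfl⟩ := iu
        refine ⟨p⁻¹, inv_mem hp, q⁻¹, inv_mem hq, ?_⟩
        rw [← mul_inv_rev, ← h.comm p (h.AP _ hp) q (h.cA _ hq)]
    · rintro ⟨u, hu, v, hv, rfl⟩
      exact mul_mem (mem_sup_left hu) (mem_sup_right hv)
  have h1 : Nat.card (A i) * Nat.card (cjg t (A j)) = 256 := by
    rw [card_cjg, h.cardA, h.cardA]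
  rw [← h1, ← Nat.card_prod]
  refine (Nat.card_congr (Equiv.ofBijective (fun u : A i × cjg t (A j) => (⟨u.1 * u.2, (hmem _).mpr
    ⟨_, u.1.2, _, u.2.2, rfl⟩⟩ : (A i ⊔ cjg t (A j) : Subgroup G))) ⟨?_, ?_⟩)).symm
  · rintro ⟨p, q⟩ ⟨p', q'⟩ e
    have e' := Subtype.ext_iff.mp e
    obtain ⟨e1, e2⟩ := h.uniq (h.AP _ p.2) (h.AP _ p'.2) (h.cA _ q.2) (h.cA _ q'.2) e'
    exact Prod.ext (Subtype.ext e1) (Subtype.ext e2)
  · rintro ⟨j, hj⟩
    obtain ⟨p, hp, q, hq, rfl⟩ := (hmem j).mp hj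
    exact ⟨(⟨p, hp⟩, ⟨q, hq⟩), rfl⟩

theorem AA_sq (h : Dbl S T P Q Z A K a b t x) (i j : Bool) : ∀ y ∈ (A i ⊔ cjg t (A j) : Subgroup G), y * y = 1 := by
  intro y hy
  rw [sup_eq_closure] at hy
  have : y * y = 1 ∧ ∃ u ∈ A i, ∃ v ∈ cjg t (A j), y = u * v := by
    induction hy using closure_induction with
    | mem u hu =>
      rcases hu with hu | hu
      · exact ⟨h.Asq i u hu, u, hu, 1, one_mem _, by group⟩
      · exact ⟨h.symm.Asq j u hu, 1, one_mem _, u, hu, by group⟩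
    | one => exact ⟨by group, 1, one_mem _, 1, one_mem _, by group⟩
    | mul u v _ _ iu iv =>
      obtain ⟨-, p, hp, q, hq, rfl⟩ := iu
      obtain ⟨-, p', hp', q', hq', rfl⟩ := iv
      have e := h.comm p' (h.AP _ hp') q (h.cA _ hq)
      have e0 : p * q * (p' * q') = p * p' * (q * q') := by
        calc p * q * (p' * q') = p * (q * p') * q' := by group
          _ = p * (p' * q) * q' := by rw [e]
          _ = _ := by group
      refine ⟨?_, p * p', mul_mem hp hp', q * q', mul_mem hq hq', e0⟩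
      have e1 := h.comm (p * p') (h.AP _ (mul_mem hp hp')) (q * q') (h.cA _ (mul_mem hq hq'))
      rw [e0]
      calc p * p' * (q * q') * (p * p' * (q * q')) = p * p' * (q * q' * (p * p')) * (q * q') := by group
        _ = p * p' * (p * p' * (q * q')) * (q * q') := by rw [e1]
        _ = (p * p' * (p * p')) * (q * q' * (q * q')) := by group
        _ = 1 := by rw [h.Asq i _ (mul_mem hp hp'), h.symm.Asq j _ (mul_mem hq hq'), mul_one]
    | inv u _ iu =>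
      obtain ⟨e, p, hp, q, hq, rfl⟩ := iu
      refine ⟨?_, p⁻¹, inv_mem hp, q⁻¹, inv_mem hq, ?_⟩
      · rw [← mul_inv_rev, e, inv_one]
      · rw [← mul_inv_rev, ← h.comm p (h.AP _ hp) q (h.cA _ hq)]
  exact this.1

theorem P_le_of (h : Dbl S T P Q Z A K a b t x) {R : Subgroup G} (hR : ∀ i j, A i ⊔ cjg t (A j) ≤ R) :
    P ⊔ Q ≤ R := by
  refine sup_le ?_ ?_
  · intro p hp
    obtain ⟨u, hu, v, hv, rfl⟩ := h.sup p hp
    exact R.mul_mem (hR false false (mem_sup_left hu)) (hR true false (mem_sup_left hv))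
  · intro p hp
    obtain ⟨u, hu, v, hv, rfl⟩ := h.symm.sup p hp
    exact R.mul_mem (hR false false (mem_sup_right hu)) (hR false true (mem_sup_right hv))

theorem cjg_eq_of_le_S (h : Dbl S T P Q Z A K a b t x) {g : G} (hg : cjg g (P ⊔ Q) ≤ S) :
    cjg g (P ⊔ Q) = P ⊔ Q := by
  have h1 : ∀ i j, A i ⊔ cjg t (A j) ≤ cjg g⁻¹ (P ⊔ Q) := by
    intro i j
    have h2 : cjg g (A i ⊔ cjg t (A j)) ≤ P ⊔ Q := by
      refine h.elem_le ?_ ?_ ?_
      · exact (cjg_mono (sup_le_sup (h.AP i) (h.cA j))).trans hg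
      · intro u hu
        obtain ⟨v, hv, rfl⟩ := exists_of_cjg hu
        rw [← conj_mul, h.AA_sq i j v hv]
        group
      · rw [card_cjg, h.card_AA]
    intro u hu
    rw [mem_cjg, inv_inv]
    exact h2 (conj_mem_cjg.mpr hu)
  have h3 := h.P_le_of h1
  have h4 : cjg g (P ⊔ Q) ≤ P ⊔ Q := by
    intro u hu
    obtain ⟨v, hv, rfl⟩ := exists_of_cjg hu
    have := h3 hv
    rwa [mem_cjg, inv_inv] at this
  exact Subgroup.eq_of_le_of_card_ge h4 (by rw [card_cjg])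

/-- `J` is weakly closed in every 2-group containing it -/
theorem wcl (h : Dbl S T P Q Z A K a b t x) {R : Subgroup G} (hR : IsPGroup 2 R) (hJ : P ⊔ Q ≤ R) {g : G}
    (hg : cjg g (P ⊔ Q) ≤ R) : cjg g (P ⊔ Q) = P ⊔ Q := by
  obtain ⟨k, hk⟩ := h.syl R hR
  have h1 : cjg k (P ⊔ Q) = P ⊔ Q := h.cjg_eq_of_le_S (by
    intro u hu
    obtain ⟨v, hv, rfl⟩ := exists_of_cjg hu
    exact hk v (hJ hv))
  have h2 : cjg (k * g) (P ⊔ Q) = P ⊔ Q := h.cjg_eq_of_le_S (by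
    intro u hu
    rw [cjg_mul] at hu
    obtain ⟨v, hv, rfl⟩ := exists_of_cjg hu
    exact hk v (hg hv))
  have h3 : cjg k⁻¹ (cjg (k * g) (P ⊔ Q)) = cjg k⁻¹ (P ⊔ Q) := by rw [h2]
  have h4 : cjg k⁻¹ (cjg k (P ⊔ Q)) = cjg k⁻¹ (P ⊔ Q) := by rw [h1]
  rw [← cjg_mul] at h3 h4
  have e1 : k⁻¹ * (k * g) = g := by group
  have e2 : k⁻¹ * k = 1 := by group
  rw [e1] at h3
  rw [e2, cjg_of_mem (one_mem _)] at h4
  rw [h3, ← h4]

theorem J2 (h : Dbl S T P Q Z A K a b t x) : IsPGroup 2 (P ⊔ Q : Subgroup G) := h.S2.to_le h.JleS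

/-- `N(J)` controls fusion in `C(J)` -/
theorem fus_ZJ (h : Dbl S T P Q Z A K a b t x) {z g : G} (hz : ∀ j ∈ P ⊔ Q, j * z = z * j)
    (hgz : ∀ j ∈ P ⊔ Q, j * (g * z * g⁻¹) = (g * z * g⁻¹) * j) :
    ∃ n, cjg n (P ⊔ Q) = P ⊔ Q ∧ n * z * n⁻¹ = g * z * g⁻¹ := by
  set z' := g * z * g⁻¹ with hz'
  have h1 : P ⊔ Q ≤ centralizer {z'} := by
    intro j hj
    rw [mem_centralizer_singleton_iff]
    exact hgz j hj
  have h2 : cjg g (P ⊔ Q) ≤ centralizer {z'} := by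
    intro j hj
    obtain ⟨v, hv, rfl⟩ := exists_of_cjg hj
    rw [mem_centralizer_singleton_iff, hz']
    exact (commute_iff_conj g).mpr (hz v hv)
  obtain ⟨c, hc, R, hR, -, hR1, hR2⟩ := exists_common h1 h2 h.J2 (h.J2.map _)
  rw [← cjg_mul] at hR2
  refine ⟨c * g, h.wcl hR hR1 hR2, ?_⟩
  rw [mem_centralizer_singleton_iff] at hc
  have e : c * g * z * (c * g)⁻¹ = c * z' * c⁻¹ := by rw [hz']; group
  rw [e, hc]
  group

/-- `[g, J]` as a set -/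
def cs (P Q : Subgroup G) (g : G) : Set G := {w | ∃ j ∈ P ⊔ Q, w = g * j * g⁻¹ * j⁻¹}

theorem cs_conj {n g : G} (hn : cjg n (P ⊔ Q) = P ⊔ Q) :
    cs P Q (n * g * n⁻¹) = (fun w => n * w * n⁻¹) '' cs P Q g := by
  ext w
  constructor
  · rintro ⟨j, hj, rfl⟩
    rw [← hn] at hj
    obtain ⟨j', hj', rfl⟩ := exists_of_cjg hj
    exact ⟨_, ⟨j', hj', rfl⟩, by group⟩
  · rintro ⟨_, ⟨j, hj, rfl⟩, rfl⟩
    exact ⟨n * j * n⁻¹, by rw [← hn]; exact conj_mem_cjg.mpr hj, by group⟩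

theorem comm_mul (h : Dbl S T P Q Z A K a b t x) {p p' q q' : G} (hp : p ∈ P) (hp' : p' ∈ P) (hq : q ∈ Q)
    (hq' : q' ∈ Q) : (p * q) * (p' * q') * (p * q)⁻¹ * (p' * q')⁻¹ =
      (p * p' * p⁻¹ * p'⁻¹) * (q * q' * q⁻¹ * q'⁻¹) := by
  have e1 := h.comm p' hp' q hq
  have e2 := h.comm p⁻¹ (P.inv_mem hp) (q * q' * q⁻¹) (Q.mul_mem (Q.mul_mem hq hq') (Q.inv_mem hq))
  have e3 := h.comm p'⁻¹ (P.inv_mem hp') (q * q' * q⁻¹ * q'⁻¹)
    (Q.mul_mem (Q.mul_mem (Q.mul_mem hq hq') (Q.inv_mem hq)) (Q.inv_mem hq'))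
  calc (p * q) * (p' * q') * (p * q)⁻¹ * (p' * q')⁻¹
      = p * (q * p') * q' * q⁻¹ * p⁻¹ * q'⁻¹ * p'⁻¹ := by group
    _ = p * (p' * q) * q' * q⁻¹ * p⁻¹ * q'⁻¹ * p'⁻¹ := by rw [e1]
    _ = p * p' * ((q * q' * q⁻¹) * p⁻¹) * q'⁻¹ * p'⁻¹ := by group
    _ = p * p' * (p⁻¹ * (q * q' * q⁻¹)) * q'⁻¹ * p'⁻¹ := by rw [e2]
    _ = p * p' * p⁻¹ * ((q * q' * q⁻¹ * q'⁻¹) * p'⁻¹) := by group
    _ = p * p' * p⁻¹ * (p'⁻¹ * (q * q' * q⁻¹ * q'⁻¹)) := by rw [e3]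
    _ = _ := by group

/-- an element of `J` with at most four commutators with `J` has a trivial part modulo the centre -/
theorem ncard_cs (h : Dbl S T P Q Z A K a b t x) {p q : G} (hp : p ∈ P) (hq : q ∈ Q)
    (hc : (cs P Q (p * q)).ncard ≤ 4) : p ∈ Z ∨ q ∈ cjg t Z := by
  by_contra hcon
  push Not at hcon
  have h1 : ∀ u : Z × cjg t Z, (u.1 : G) * u.2 ∈ cs P Q (p * q) := by
    rintro ⟨⟨z, hz⟩, ⟨z', hz'⟩⟩
    obtain ⟨r, hr, e⟩ := h.surj p hp hcon.1 z hz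
    obtain ⟨r', hr', e'⟩ := h.symm.surj q hq hcon.2 z' hz'
    refine ⟨r * r', mul_mem (mem_sup_left hr) (mem_sup_right hr'), ?_⟩
    rw [h.comm_mul hp hr hq hr', e, e']
  have h2 : Nat.card (Z × cjg t Z) ≤ Nat.card (cs P Q (p * q)) := by
    refine Nat.card_le_card_of_injective
      (fun u : Z × cjg t Z => (⟨(u.1 : G) * u.2, h1 u⟩ : cs P Q (p * q))) ?_
    rintro ⟨u, v⟩ ⟨u', v'⟩ e
    have e' := Subtype.ext_iff.mp e
    obtain ⟨e1, e2⟩ := h.uniq (h.ZP u.2) (h.ZP u'.2) (h.symm.ZP v.2) (h.symm.ZP v'.2) e'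
    exact Prod.ext (Subtype.ext e1) (Subtype.ext e2)
  rw [Nat.card_prod, card_cjg, h.cardZ] at h2
  have h3 : Nat.card (cs P Q (p * q)) = (cs P Q (p * q)).ncard := rfl
  omega

theorem cs_of_P (h : Dbl S T P Q Z A K a b t x) {p : G} (hp : p ∈ P) : cs P Q p ⊆ Z := by
  rintro w ⟨j, hj, rfl⟩
  obtain ⟨p', hp', q', hq', rfl⟩ := h.mem_J.mp hj
  have := h.comm_mul hp hp' Q.one_mem hq'
  have e : p * 1 = p := mul_one p
  rw [e] at this
  rw [this]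
  have e2 : (1 : G) * q' * 1⁻¹ * q'⁻¹ = 1 := by group
  rw [e2, mul_one]
  exact h.com p hp p' hp'

/-- `N(J)` normalises the set `Z ∪ Z'`: elements of `Z` go to `Z` or `Z'` -/
theorem perm (h : Dbl S T P Q Z A K a b t x) {n z : G} (hn : cjg n (P ⊔ Q) = P ⊔ Q) (hz : z ∈ Z) :
    n * z * n⁻¹ ∈ Z ∨ n * z * n⁻¹ ∈ cjg t Z := by
  obtain ⟨p, hp, hpZ⟩ := h.exists_not_mem false
  have hpP := h.AP _ hp
  obtain ⟨r, hr, e⟩ := h.surj p hpP hpZ z hz
  have h1 : n * p * n⁻¹ ∈ P ⊔ Q := by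
    rw [← hn]; exact conj_mem_cjg.mpr (mem_sup_left hpP)
  obtain ⟨p', hp', q', hq', e1⟩ := h.mem_J.mp h1
  have h2 : (cs P Q (n * p * n⁻¹)).ncard ≤ 4 := by
    rw [cs_conj hn]
    refine (Set.ncard_image_le (Set.toFinite _)).trans ?_
    refine (Set.ncard_le_ncard (h.cs_of_P hpP) (Set.toFinite _)).trans ?_
    exact h.cardZ.le
  have h3 : n * z * n⁻¹ ∈ cs P Q (n * p * n⁻¹) := by
    rw [cs_conj hn]
    exact ⟨z, ⟨r, mem_sup_left hr, e.symm⟩, rfl⟩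
  rw [e1] at h2 h3
  obtain ⟨j, hj, e2⟩ := h3
  obtain ⟨p'', hp'', q'', hq'', rfl⟩ := h.mem_J.mp hj
  rw [h.comm_mul hp' hp'' hq' hq''] at e2
  rcases h.ncard_cs hp' hq' h2 with h4 | h4
  · right
    have e3 : p' * p'' * p'⁻¹ * p''⁻¹ = 1 := by
      rw [← h.Zcen p' h4 p'' hp'']; group
    rw [e2, e3, one_mul]
    exact h.symm.com q' hq' q'' hq''
  · left
    have e3 : q' * q'' * q'⁻¹ * q''⁻¹ = 1 := by
      rw [← h.symm.Zcen q' h4 q'' hq'']; group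
    rw [e2, e3, mul_one]
    exact h.com p' hp' p'' hp''

theorem cen_J_of_Z (h : Dbl S T P Q Z A K a b t x) {z z' : G} (hz : z ∈ Z) (hz' : z' ∈ cjg t Z) :
    ∀ j ∈ P ⊔ Q, j * (z * z') = (z * z') * j := by
  intro j hj
  obtain ⟨p, hp, q, hq, rfl⟩ := h.mem_J.mp hj
  have e1 := h.Zcen z hz p hp
  have e2 := h.symm.Zcen z' hz' q hq
  have e3 := h.comm z (h.ZP hz) q hq
  have e4 := h.comm p hp z' (h.symm.ZP hz')
  calc p * q * (z * z') = p * (q * z) * z' := by group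
    _ = p * (z * q) * z' := by rw [e3]
    _ = (p * z) * (q * z') := by group
    _ = (z * p) * (z' * q) := by rw [e1, e2]
    _ = z * (p * z') * q := by group
    _ = z * (z' * p) * q := by rw [e4]
    _ = _ := by group

theorem aZ (h : Dbl S T P Q Z A K a b t x) : a ∈ cjg t Z := h.symm.bZ

theorem a_mem_Q (h : Dbl S T P Q Z A K a b t x) : a ∈ Q := h.symm.bP

theorem a_ne (h : Dbl S T P Q Z A K a b t x) : a ≠ 1 := h.symm.b1

theorem a_sq (h : Dbl S T P Q Z A K a b t x) : a * a = 1 := h.symm.bb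

theorem ba (h : Dbl S T P Q Z A K a b t x) : b * a = a * b := h.comm b h.bP a h.a_mem_Q

/-- no element of `Z` is conjugate to a product of nontrivial elements of `Z`, `Z'` -/
theorem not_conj_mixed (h : Dbl S T P Q Z A K a b t x) {z w w' g : G} (hz : z ∈ Z) (hw : w ∈ Z) (hw' : w' ∈ cjg t Z)
    (w1 : w ≠ 1) (w1' : w' ≠ 1) : g * z * g⁻¹ ≠ w * w' := by
  intro e
  have hc1 : ∀ j ∈ P ⊔ Q, j * z = z * j := by
    have := h.cen_J_of_Z hz (one_mem (cjg t Z))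
    rwa [mul_one] at this
  obtain ⟨n, hn, e1⟩ := h.fus_ZJ (z := z) (g := g) hc1 (by rw [e]; exact h.cen_J_of_Z hw hw')
  rw [e] at e1
  rcases h.perm hn hz with h1 | h1
  · rw [e1] at h1
    have : w' ∈ P := by
      have := P.mul_mem (P.inv_mem (h.ZP hw)) (h.ZP h1)
      rwa [inv_mul_cancel_left] at this
    exact w1' (h.disj _ this (h.symm.ZP hw'))
  · rw [e1] at h1
    have : w ∈ Q := by
      have := Q.mul_mem (h.symm.ZP h1) (Q.inv_mem (h.symm.ZP hw'))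
      rwa [mul_inv_cancel_right] at this
    exact w1 (h.disj _ (h.ZP hw) this)

/-- `b` is not conjugate to `b a` -/
theorem not_conj_b (h : Dbl S T P Q Z A K a b t x) (g : G) : g * b * g⁻¹ ≠ a * b := by
  rw [← h.ba]
  exact h.not_conj_mixed h.bZ h.bZ h.aZ h.b1 h.a_ne

theorem not_conj_a (h : Dbl S T P Q Z A K a b t x) (g : G) : g * a * g⁻¹ ≠ a * b := by
  rw [← h.ta]
  have e : g * (t * b * t⁻¹) * g⁻¹ = (g * t) * b * (g * t)⁻¹ := by group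
  rw [e, h.ta]
  exact h.not_conj_b _

/-- involutions of `P`, `Q` are conjugate to `a` -/
theorem pure_P (h : Dbl S T P Q Z A K a b t x) {p : G} (hp : p ∈ P) (hpp : p * p = 1) (hp1 : p ≠ 1) :
    ∃ g : G, g * p * g⁻¹ = a := by
  obtain ⟨k, -, e⟩ := h.cls p hp hpp hp1
  refine ⟨t * k, ?_⟩
  have e1 : t * k * p * (t * k)⁻¹ = t * (k * p * k⁻¹) * t⁻¹ := by group
  rw [e1, e, h.ta]

theorem pure_Q (h : Dbl S T P Q Z A K a b t x) {q : G} (hq : q ∈ Q) (hqq : q * q = 1) (hq1 : q ≠ 1) :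
    ∃ g : G, g * q * g⁻¹ = a := by
  obtain ⟨k, -, e⟩ := h.symm.cls q hq hqq hq1
  exact ⟨k, e⟩

/-- products of involutions of `P`, `Q` are conjugate to `a b` -/
theorem mixed (h : Dbl S T P Q Z A K a b t x) {p q : G} (hp : p ∈ P) (hpp : p * p = 1) (hp1 : p ≠ 1)
    (hq : q ∈ Q) (hqq : q * q = 1) (hq1 : q ≠ 1) : ∃ g : G, g * (p * q) * g⁻¹ = a * b := by
  obtain ⟨k, hk, e⟩ := h.cls p hp hpp hp1
  obtain ⟨l, hl, f⟩ := h.symm.cls q hq hqq hq1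
  refine ⟨l * k, ?_⟩
  have h1 := h.KQ k hk q hq
  have h2 := h.symm.KQ l hl b h.bP
  have e1 : l * k * (p * q) * (l * k)⁻¹ = (l * (k * p * k⁻¹) * l⁻¹) * (l * (k * q * k⁻¹) * l⁻¹) := by group
  have e2 : k * q * k⁻¹ = q := by rw [h1]; group
  have e3 : l * b * l⁻¹ = b := by rw [h2]; group
  rw [e1, e, e2, e3, f, h.ba]

/-- a pure element of `J` lies in `P` or `Q` -/
theorem pure_iff (h : Dbl S T P Q Z A K a b t x) {j : G} (hj : j ∈ P ⊔ Q) (hjj : j * j = 1) (hj1 : j ≠ 1) :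
    (∃ g : G, g * j * g⁻¹ = a) ↔ j ∈ P ∨ j ∈ Q := by
  constructor
  · rintro ⟨g, hg⟩
    obtain ⟨p, hp, q, hq, rfl⟩ := h.mem_J.mp hj
    obtain ⟨e1, e2⟩ := h.sq_of_sq hp hq hjj
    by_cases hp1 : p = 1
    · subst hp1; right; rwa [one_mul]
    by_cases hq1 : q = 1
    · subst hq1; left; rwa [mul_one]
    exfalso
    obtain ⟨k, hk⟩ := h.mixed hp e1 hp1 hq e2 hq1
    apply h.not_conj_a (k * g⁻¹)
    rw [← hg]
    have e : k * g⁻¹ * (g * (p * q) * g⁻¹) * (k * g⁻¹)⁻¹ = k * (p * q) * k⁻¹ := by group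
    rw [e, hk, hg]
  · rintro (h1 | h1)
    · exact h.pure_P h1 hjj hj1
    · exact h.pure_Q h1 hjj hj1

/-- a mixed element of `J` -/
theorem mixed_iff (h : Dbl S T P Q Z A K a b t x) {j : G} (hj : j ∈ P ⊔ Q) (hjj : j * j = 1) (hj1 : j ≠ 1) :
    (∃ g : G, g * j * g⁻¹ = a * b) ↔ j ∉ P ∧ j ∉ Q := by
  constructor
  · rintro ⟨g, hg⟩
    have hcon : ¬ ∃ g : G, g * j * g⁻¹ = a := by
      rintro ⟨k, hk⟩
      apply h.not_conj_a (g * k⁻¹)
      rw [← hk]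
      have e : g * k⁻¹ * (k * j * k⁻¹) * (g * k⁻¹)⁻¹ = g * j * g⁻¹ := by group
      rw [e, hg, hk]
    rw [h.pure_iff hj hjj hj1] at hcon
    push Not at hcon
    exact hcon
  · rintro ⟨h1, h2⟩
    obtain ⟨p, hp, q, hq, rfl⟩ := h.mem_J.mp hj
    obtain ⟨e1, e2⟩ := h.sq_of_sq hp hq hjj
    refine h.mixed hp e1 ?_ hq e2 ?_
    · rintro rfl; rw [one_mul] at h2; exact h2 hq
    · rintro rfl; rw [mul_one] at h1; exact h1 hp

/-- no conjugate of `j` pure is mixed -/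
theorem pure_conj (h : Dbl S T P Q Z A K a b t x) {j g : G} (hj : j ∈ P ∨ j ∈ Q) (hjj : j * j = 1)
    (hj1 : j ≠ 1) (hg : g * j * g⁻¹ ∈ P ⊔ Q) : g * j * g⁻¹ ∈ P ∨ g * j * g⁻¹ ∈ Q := by
  have hjJ : j ∈ P ⊔ Q := hj.elim (fun h => mem_sup_left h) (fun h => mem_sup_right h)
  obtain ⟨k, hk⟩ := (h.pure_iff hjJ hjj hj1).mpr hj
  refine (h.pure_iff hg ?_ ?_).mp ⟨k * g⁻¹, ?_⟩
  · rw [← conj_mul, hjj]; group
  · intro e; exact hj1 (conj_eq_one_iff.mp e)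
  · rw [← hk]; group

theorem mixed_conj (h : Dbl S T P Q Z A K a b t x) {j g : G} (hjJ : j ∈ P ⊔ Q) (h1 : j ∉ P) (h2 : j ∉ Q)
    (hjj : j * j = 1) (hg : g * j * g⁻¹ ∈ P ⊔ Q) : g * j * g⁻¹ ∉ P ∧ g * j * g⁻¹ ∉ Q := by
  have hj1 : j ≠ 1 := by rintro rfl; exact h1 P.one_mem
  obtain ⟨k, hk⟩ := (h.mixed_iff hjJ hjj hj1).mpr ⟨h1, h2⟩
  refine (h.mixed_iff hg ?_ ?_).mp ⟨k * g⁻¹, ?_⟩
  · rw [← conj_mul, hjj]; group
  · intro e; exact hj1 (conj_eq_one_iff.mp e)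
  · rw [← hk]; group

/-- a Heisenberg subgroup of `S` has its centre in `J` -/
theorem Z1_le (h : Dbl S T P Q Z A K a b t x) {R Z1 : Subgroup G} {A1 : Bool → Subgroup G} (hR : Heis R Z1 A1)
    (hRS : R ≤ S) : Z1 ≤ P ⊔ Q := by
  by_cases h1 : R ⊓ (P ⊔ Q) ≤ Z1
  · exfalso
    have h2 := card_le_inf_mul hRS h.relIndex_S
    have h3 := Subgroup.card_le_of_le h1
    rw [hR.cardP] at h2
    rw [hR.cardZ] at h3
    omega
  · obtain ⟨u, hu, huZ⟩ := SetLike.not_le_iff_exists.mp h1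
    obtain ⟨huR, huJ⟩ := mem_inf.mp hu
    exact hR.le_of_normal huJ huR huZ (fun p hp => h.nSJ (hRS hp) huJ)

/-- the involution of `Z(S) ∩ J` is `a b` -/
theorem eq_ab (h : Dbl S T P Q Z A K a b t x) {v : G} (hv : v ∈ P ⊔ Q) (hv1 : v ≠ 1)
    (hc : ∀ s ∈ S, s * v = v * s) : v = a * b := by
  obtain ⟨p, hp, q, hq, rfl⟩ := h.mem_J.mp hv
  obtain ⟨e1, e2⟩ := h.cen_swap h.tS h.tn hp hq (hc t h.tS)
  have hpZ : p ∈ Z := by
    refine h.mem_Z hp ?_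
    intro r hr
    have h1 := hc r (h.JleS (mem_sup_left hr))
    exact (((h.cen_J (h.PT hr) hp hq).mp h1).1).symm
  have hpb : p = 1 ∨ p = b := by
    refine (h.actZ x h.xT).resolve_left h.xZ p hpZ ?_
    exact ((h.cen_J h.xT hp hq).mp (hc x (h.TS h.xT))).1
  rcases hpb with rfl | rfl
  · exfalso
    apply hv1
    rw [e1]; group
  · rw [e1, h.ta, h.ba]

end Dbl

end Cfsg.Agent.UGT.L34T2
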