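import Cfsg.Agent.UGT.L34T2.FrMap

/-!
# Type `L₃(4)`, double frame: symmetry `P ↔ Q`
-/

set_option autoImplicit false

open Subgroup

namespace Cfsg.Agent.UGT.L34T2

variable {G : Type*} [Group G] [Finite G]

theorem cjg_eq_of_le {g : G} {H K : Subgroup G} (h1 : ∀ u ∈ H, g * u * g⁻¹ ∈ K)
    (h2 : Nat.card K ≤ Nat.card H) : cjg g H = K := by
  have hle : cjg g H ≤ K := by
    intro w hw
    obtain ⟨z, hz, rfl⟩ := exists_of_cjg hw
    exact h1 z hz
  exact Subgroup.eq_of_le_of_card_ge hle (by rw [card_cjg]; exact h2)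

omit [Finite G] in
theorem cjg_mul (g k : G) (H : Subgroup G) : cjg (g * k) H = cjg g (cjg k H) := by
  ext y
  rw [mem_cjg, mem_cjg, mem_cjg]
  have : (g * k)⁻¹ * y * (g * k) = k⁻¹ * (g⁻¹ * y * g) * k := by group
  rw [this]

omit [Finite G] in
theorem cjg_mono {g : G} {H K : Subgroup G} (h : H ≤ K) : cjg g H ≤ cjg g K := map_mono h

omit [Finite G] in
theorem cjg_of_mem {g : G} {H : Subgroup G} (h : g ∈ H) : cjg g H = H := by
  ext y
  rw [mem_cjg]
  constructor
  · intro h1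
    have := H.mul_mem (H.mul_mem h h1) (H.inv_mem h)
    have e : g * (g⁻¹ * y * g) * g⁻¹ = y := by group
    rwa [e] at this
  · intro h1
    exact H.mul_mem (H.mul_mem (H.inv_mem h) h1) h

namespace Dbl

variable {S T P Q Z : Subgroup G} {A : Bool → Subgroup G} {K : Subgroup G} {a b t x : G}

omit [Finite G] in
theorem t2 (h : Dbl S T P Q Z A K a b t x) : t * t ∈ T := by
  rcases h.ST (t * t) (S.mul_mem h.tS h.tS) with h1 | h1
  · exact h1
  · exfalso
    have e : t⁻¹ * (t * t) = t := by group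
    rw [e] at h1
    exact h.tn h1

theorem cT (h : Dbl S T P Q Z A K a b t x) : cjg t T = T := cjg_eq_of_le h.tT le_rfl

theorem card_Q (h : Dbl S T P Q Z A K a b t x) : Nat.card Q = 64 := by
  have h1 : Nat.card Q ≤ Nat.card P := by
    rw [← card_cjg t Q]
    refine Subgroup.card_le_of_le ?_
    intro w hw
    obtain ⟨z, hz, rfl⟩ := exists_of_cjg hw
    exact h.tQ z hz
  have h2 : Nat.card P ≤ Nat.card Q := by
    rw [← card_cjg t P]
    refine Subgroup.card_le_of_le ?_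
    intro w hw
    obtain ⟨z, hz, rfl⟩ := exists_of_cjg hw
    exact h.tP z hz
  rw [← h.cardP]
  exact le_antisymm h1 h2

theorem cP (h : Dbl S T P Q Z A K a b t x) : cjg t P = Q :=
  cjg_eq_of_le h.tP (by rw [h.card_Q, h.cardP])

theorem cQ (h : Dbl S T P Q Z A K a b t x) : cjg t Q = P :=
  cjg_eq_of_le h.tQ (by rw [h.card_Q, h.cardP])

theorem mem_T_conj (h : Dbl S T P Q Z A K a b t x) {y : G} : t * y * t⁻¹ ∈ T ↔ y ∈ T := by
  conv_lhs => rw [← h.cT]
  exact conj_mem_cjg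

theorem symm (h : Dbl S T P Q Z A K a b t x) :
    Dbl S T Q P (cjg t Z) (fun i => cjg t (A i)) (cjg t K) b a t x where
  toFr := by
    have h1 := h.toFr.cj t
    rw [h.cT, h.cP, h.cQ, h.ta] at h1
    exact h1
  S2 := h.S2
  TS := h.TS
  tS := h.tS
  tn := h.tn
  ST := h.ST
  tT := h.tT
  tP := h.tQ
  tQ := h.tP
  ta := h.tb
  tb := h.ta
  xT := h.xT
  xx := h.xx
  xZ := by
    intro h1
    apply h.xZ'
    intro z hz
    have h2 := h1 (t * z * t⁻¹) (conj_mem_cjg.mpr hz)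
    rw [← commute_iff_conj t]
    have e : t * (t⁻¹ * x * t) * t⁻¹ = x := by group
    rwa [e]
  xA := by
    intro i u hu
    obtain ⟨v, hv, rfl⟩ := exists_of_cjg hu
    have h1 := h.xA' i v hv
    rw [mem_cjg]
    have e : t⁻¹ * (x * (t * v * t⁻¹) * x⁻¹) * t = t⁻¹ * x * t * v * (t⁻¹ * x * t)⁻¹ := by group
    rwa [e]
  xZ' := by
    intro h1
    apply h.xZ
    intro z hz
    have h2 : (t * t)⁻¹ * z * (t * t) ∈ Z := by
      have := h.toFr.nZ (T.inv_mem h.t2) hz
      rwa [inv_inv] at this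
    have h3 := h1 (t * ((t * t)⁻¹ * z * (t * t)) * t⁻¹) (conj_mem_cjg.mpr h2)
    rw [← commute_iff_conj t] at h3
    have e1 : t * (t⁻¹ * x * t) * t⁻¹ = x := by group
    have e2 : t * (t * ((t * t)⁻¹ * z * (t * t)) * t⁻¹) * t⁻¹ = z := by group
    rwa [e1, e2] at h3
  xA' := by
    intro i u hu
    obtain ⟨v, hv, rfl⟩ := exists_of_cjg hu
    rw [mem_cjg]
    have e : t⁻¹ * (t⁻¹ * x * t * (t * v * t⁻¹) * (t⁻¹ * x * t)⁻¹) * t =
      (t * t)⁻¹ * (x * ((t * t) * v * (t * t)⁻¹) * x⁻¹) * (t * t) := by group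
    rw [e]
    rcases h.actA _ (T.inv_mem h.t2) with h1 | h1
    · have h1' : ∀ i, ∀ u ∈ A i, (t * t) * u * (t * t)⁻¹ ∈ A i := by
        rcases h.actA _ h.t2 with h2 | h2
        · exact h2
        · exfalso
          obtain ⟨u, hu, huZ⟩ := h.exists_not_mem false
          have h3 := h1 _ _ (h2 false u hu)
          have e : (t * t)⁻¹ * (t * t * u * (t * t)⁻¹) * (t * t)⁻¹⁻¹ = u := by group
          rw [e] at h3
          exact huZ (h.inf u hu h3)
      have h2 := h1 _ _ (h.xA i _ (h1' i v hv))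
      rwa [inv_inv] at h2
    · have h1' : ∀ i, ∀ u ∈ A i, (t * t) * u * (t * t)⁻¹ ∈ A (!i) := by
        rcases h.actA _ h.t2 with h2 | h2
        · exfalso
          obtain ⟨u, hu, huZ⟩ := h.exists_not_mem false
          have h3 := h1 _ _ (h2 false u hu)
          have e : (t * t)⁻¹ * (t * t * u * (t * t)⁻¹) * (t * t)⁻¹⁻¹ = u := by group
          rw [e] at h3
          exact huZ (h.inf u hu h3)
        · exact h2
      have h2 := h1 _ _ (h.xA _ _ (h1' i v hv))
      rw [inv_inv, Bool.not_not] at h2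
      exact h2
  syl := h.syl
  sylT := by
    intro R hR hc
    obtain ⟨g, hg, hg2⟩ := h.sylT (cjg t R) (hR.map _) (by
      intro r hr
      obtain ⟨u, hu, rfl⟩ := exists_of_cjg hr
      rw [← h.ta, commute_iff_conj]
      exact hc u hu)
    refine ⟨t⁻¹ * g * t, ?_, ?_⟩
    · rw [← commute_iff_conj t, h.ta]
      have e : t * (t⁻¹ * g * t) * t⁻¹ = g := by group
      rwa [e]
    · intro r hr
      rw [← h.mem_T_conj]
      have h1 := hg2 (t * r * t⁻¹) (conj_mem_cjg.mpr hr)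
      have e : t * (t⁻¹ * g * t * r * (t⁻¹ * g * t)⁻¹) * t⁻¹ = g * (t * r * t⁻¹) * g⁻¹ := by group
      rwa [e]
  Ta := h.bT
  KQ := by
    intro k hk q hq
    obtain ⟨u, hu, rfl⟩ := exists_of_cjg hk
    rw [← h.cQ] at hq
    obtain ⟨v, hv, rfl⟩ := exists_of_cjg hq
    rw [commute_iff_conj]
    exact h.KQ u hu v hv
  PK := by
    rw [← h.cP]
    exact cjg_mono h.PK
  cls := by
    intro p hp hpp hp1
    rw [← h.cP] at hp
    obtain ⟨v, hv, rfl⟩ := exists_of_cjg hp
    have h1 : v * v = 1 := by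
      rw [← conj_mul] at hpp
      exact conj_eq_one_iff.mp hpp
    have h2 : v ≠ 1 := by
      rintro rfl
      apply hp1
      group
    obtain ⟨k, hk, e⟩ := h.cls v hv h1 h2
    refine ⟨t * k * t⁻¹, conj_mem_cjg.mpr hk, ?_⟩
    have e1 : t * k * t⁻¹ * (t * v * t⁻¹) * (t * k * t⁻¹)⁻¹ = t * (k * v * k⁻¹) * t⁻¹ := by group
    rw [e1, e, h.ta]

end Dbl

end Cfsg.Agent.UGT.L34T2
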