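import Cfsg.Agent.UGT.L34T2.Dbl

/-!
# Type `L₃(4)`, frame: basic consequences
-/

set_option autoImplicit false

open Subgroup

namespace Cfsg.Agent.UGT.L34T2

variable {G : Type*} [Group G]

/-- `g H g⁻¹` -/
def cjg (g : G) (H : Subgroup G) : Subgroup G := H.map (MulAut.conj g).toMonoidHom

theorem mem_cjg {g y : G} {H : Subgroup G} : y ∈ cjg g H ↔ g⁻¹ * y * g ∈ H := by
  constructor
  · rintro ⟨h, hh, rfl⟩
    have : g⁻¹ * (g * h * g⁻¹) * g = h := by group
    change g⁻¹ * (g * h * g⁻¹) * g ∈ H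
    rwa [this]
  · intro h
    refine ⟨_, h, ?_⟩
    change g * (g⁻¹ * y * g) * g⁻¹ = y
    group

theorem conj_mem_cjg {g y : G} {H : Subgroup G} : g * y * g⁻¹ ∈ cjg g H ↔ y ∈ H := by
  rw [mem_cjg]
  have : g⁻¹ * (g * y * g⁻¹) * g = y := by group
  rw [this]

theorem card_cjg (g : G) (H : Subgroup G) : Nat.card (cjg g H) = Nat.card H :=
  Subgroup.card_map_of_injective (MulAut.conj g).injective

theorem exists_of_cjg {g y : G} {H : Subgroup G} (h : y ∈ cjg g H) : ∃ u ∈ H, y = g * u * g⁻¹ :=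
  ⟨_, mem_cjg.mp h, by group⟩

theorem conj_mul (g y z : G) : g * (y * z) * g⁻¹ = (g * y * g⁻¹) * (g * z * g⁻¹) := by group

theorem conj_comm {g y z : G} : g * (y * z) * g⁻¹ = g * (z * y) * g⁻¹ ↔ y * z = z * y := by
  constructor
  · intro h; exact mul_left_cancel (mul_right_cancel h)
  · intro h; rw [h]

theorem commute_iff_conj (g : G) {y z : G} :
    (g * y * g⁻¹) * (g * z * g⁻¹) = (g * z * g⁻¹) * (g * y * g⁻¹) ↔ y * z = z * y := by
  rw [← conj_mul, ← conj_mul, conj_comm]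

/-! ### the Heisenberg group -/

namespace Heis

variable {P Z : Subgroup G} {A : Bool → Subgroup G}

theorem ZP (h : Heis P Z A) : Z ≤ P := (h.ZA false).trans (h.AP false)

theorem Zsq (h : Heis P Z A) {z : G} (hz : z ∈ Z) : z * z = 1 := h.Asq false z (h.ZA false hz)

theorem Acomm (h : Heis P Z A) {i : Bool} {u v : G} (hu : u ∈ A i) (hv : v ∈ A i) : u * v = v * u := by
  have h1 := h.Asq i _ ((A i).mul_mem hu hv)
  have h2 := h.Asq i u hu
  have h3 := h.Asq i v hv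
  calc u * v = u * (u * v * (u * v)) * v := by rw [h1, mul_one]
    _ = (u * u) * (v * u) * (v * v) := by group
    _ = v * u := by rw [h2, h3, one_mul, mul_one]

theorem Zcomm (h : Heis P Z A) {z w : G} (hz : z ∈ Z) (hw : w ∈ Z) : z * w = w * z :=
  h.Zcen w hw z (h.ZP hz)

/-- `Z(P) = Z` -/
theorem mem_Z (h : Heis P Z A) {z : G} (hz : z ∈ P) (hc : ∀ p ∈ P, z * p = p * z) : z ∈ Z := by
  by_contra hn
  have h1 : Nat.card Z ≤ 1 := by
    have : Z = ⊥ := by
      rw [eq_bot_iff]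
      intro w hw
      obtain ⟨r, hr, e⟩ := h.surj z hz hn w hw
      rw [mem_bot, ← e, hc r hr]
      group
    rw [this, card_bot]
  rw [h.cardZ] at h1
  omega

theorem exists_not_mem (h : Heis P Z A) (i : Bool) : ∃ u ∈ A i, u ∉ Z := by
  by_contra hcon
  push Not at hcon
  have hZf : Finite Z := Nat.finite_of_card_ne_zero (by rw [h.cardZ]; norm_num)
  have h2 := Subgroup.card_le_of_le (H := A i) (K := Z) hcon
  rw [h.cardA, h.cardZ] at h2
  omega

/-- elements of `A false - Z`, `A true - Z` do not commute -/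
theorem not_comm (h : Heis P Z A) {u v : G} {i : Bool} (hu : u ∈ A i) (huZ : u ∉ Z) (hv : v ∈ A (!i))
    (hvZ : v ∉ Z) : v * u ≠ u * v := by
  intro e
  have h1 := h.cen i u hu huZ v (h.AP _ hv) e
  apply hvZ
  cases i
  · exact h.inf v h1 hv
  · exact h.inf v hv h1

theorem exists_ne (h : Heis P Z A) (z : G) : ∃ w ∈ Z, w ≠ 1 ∧ w ≠ z := by
  classical
  by_contra hcon
  push Not at hcon
  have hZf : Finite Z := Nat.finite_of_card_ne_zero (by rw [h.cardZ]; norm_num)
  have h1 : (Z : Set G) ⊆ {1, z} := by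
    intro w hw
    by_cases hw1 : w = 1
    · exact Or.inl hw1
    · exact Or.inr (hcon w hw hw1)
  have h2 : (Z : Set G).ncard ≤ 2 := by
    refine (Set.ncard_le_ncard h1 (Set.toFinite _)).trans ?_
    exact Set.ncard_insert_le _ _ |>.trans (by rw [Set.ncard_singleton])
  have h3 : (Z : Set G).ncard = 4 := h.cardZ
  omega

/-- `Heis` is invariant under injective homomorphisms -/
theorem map (h : Heis P Z A) {G' : Type*} [Group G'] (f : G →* G') (hf : Function.Injective f) :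
    Heis (P.map f) (Z.map f) (fun i => (A i).map f) where
  cardP := by rw [card_map_of_injective hf, h.cardP]
  cardZ := by rw [card_map_of_injective hf, h.cardZ]
  cardA i := by rw [card_map_of_injective hf, h.cardA]
  ZA i := map_mono (h.ZA i)
  AP i := map_mono (h.AP i)
  Asq := by
    rintro i _ ⟨u, hu, rfl⟩
    rw [← map_mul, h.Asq i u hu, map_one]
  Zcen := by
    rintro _ ⟨z, hz, rfl⟩ _ ⟨p, hp, rfl⟩
    rw [← map_mul, h.Zcen z hz p hp, map_mul]
  inv := by
    rintro _ ⟨p, hp, rfl⟩ e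
    obtain ⟨i, hi⟩ := h.inv p hp (hf (by rw [map_mul, e, map_one]))
    exact ⟨i, mem_map_of_mem _ hi⟩
  inf := by
    rintro _ ⟨u, hu, rfl⟩ ⟨v, hv, e⟩
    rw [hf e] at hv
    exact mem_map_of_mem _ (h.inf u hu hv)
  sup := by
    rintro _ ⟨p, hp, rfl⟩
    obtain ⟨u, hu, v, hv, rfl⟩ := h.sup p hp
    exact ⟨_, mem_map_of_mem _ hu, _, mem_map_of_mem _ hv, map_mul _ _ _⟩
  com := by
    rintro _ ⟨p, hp, rfl⟩ _ ⟨r, hr, rfl⟩
    rw [← map_inv, ← map_inv, ← map_mul, ← map_mul, ← map_mul]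
    exact mem_map_of_mem _ (h.com p hp r hr)
  sq := by
    rintro _ ⟨p, hp, rfl⟩
    rw [← map_mul]
    exact mem_map_of_mem _ (h.sq p hp)
  surj := by
    rintro _ ⟨p, hp, rfl⟩ hn _ ⟨z, hz, rfl⟩
    obtain ⟨r, hr, e⟩ := h.surj p hp (fun h' => hn (mem_map_of_mem _ h')) z hz
    refine ⟨_, mem_map_of_mem _ hr, ?_⟩
    rw [← map_inv, ← map_inv, ← map_mul, ← map_mul, ← map_mul, e]
  cen := by
    rintro i _ ⟨u, hu, rfl⟩ hn _ ⟨p, hp, rfl⟩ e
    rw [← map_mul, ← map_mul] at e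
    exact mem_map_of_mem _ (h.cen i u hu (fun h' => hn (mem_map_of_mem _ h')) p hp (hf e))

theorem cj (h : Heis P Z A) (g : G) : Heis (cjg g P) (cjg g Z) (fun i => cjg g (A i)) :=
  h.map _ (MulAut.conj g).injective

/-- a normal subgroup of `P` not inside `Z` contains `Z` -/
theorem le_of_normal (h : Heis P Z A) {N : Subgroup G} {u : G} (hu : u ∈ N) (huP : u ∈ P) (huZ : u ∉ Z)
    (hN : ∀ p ∈ P, p * u * p⁻¹ ∈ N) : Z ≤ N := by
  intro z hz
  obtain ⟨r, hr, e⟩ := h.surj u huP huZ z⁻¹ (Z.inv_mem hz)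
  have h1 := N.mul_mem (hN r hr) (N.inv_mem hu)
  have h2 : r * u * r⁻¹ * u⁻¹ = z := by
    have := congrArg (fun y => y⁻¹) e
    simp only [inv_inv] at this
    rw [← this]; group
  rwa [h2] at h1

end Heis

end Cfsg.Agent.UGT.L34T2
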