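import Cfsg.Agent.UGT.L34.TwoGp

/-!
# Facts on the explicit group `E` of order 256, for the frame `Fr`

`AA false = A1`, `AA true = A2`.
-/

set_option autoImplicit false

open Subgroup

namespace Cfsg.Agent.UGT.L34T2.FrE

open Cfsg.Agent.UGT.L34 Cfsg.Agent.SporadicA.FieldFour

/-- the two elementary abelian subgroups of order 16 -/
def AA (i : Bool) : Subgroup E := cond i A2 A1

theorem AA_false : AA false = A1 := rfl
theorem AA_true : AA true = A2 := rfl

theorem ZU_le_U : ZU ≤ U := fun _ h => h.1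

theorem A1_le_U : A1 ≤ U := fun _ h => h.1

theorem A2_le_U : A2 ≤ U := fun _ h => h.1

theorem AA_le (i : Bool) : AA i ≤ U := by
  cases i
  · exact A1_le_U
  · exact A2_le_U

theorem ZU_le (i : Bool) : ZU ≤ AA i := by
  cases i
  · exact fun _ h => ⟨h.1, h.2.1⟩
  · exact fun _ h => ⟨h.1, h.2.2⟩

theorem card_AA (i : Bool) : Nat.card (AA i) = 16 := by
  cases i
  · exact card_A1
  · exact card_A2

theorem AA_sq (i : Bool) {u : E} (hu : u ∈ AA i) : u * u = 1 := by
  cases i
  · exact forall_A1 (p := fun u => u * u = 1) (by decide +kernel) hu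
  · exact forall_A2 (p := fun u => u * u = 1) (by decide +kernel) hu

theorem Z_cen {z u : E} (hz : z ∈ ZU) (hu : u ∈ U) : u * z = z * u := cent_g u z hu.1 hz

theorem inf_AA {u : E} (h1 : u ∈ AA false) (h2 : u ∈ AA true) : u ∈ ZU := ⟨h1.1, h1.2, h2.2⟩

theorem sup_AA {u : E} (hu : u ∈ U) : ∃ v ∈ AA false, ∃ w ∈ AA true, u = v * w := by
  have key : ∀ a b c : F4, ∃ b' c' a' : F4,
      el a b c false false = el 0 b' c' false false * el a' 0 0 false false := by decide +kernel
  refine forall_U (p := fun u => ∃ v ∈ AA false, ∃ w ∈ AA true, u = v * w) ?_ hu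
  intro a b c
  obtain ⟨b', c', a', h⟩ := key a b c
  exact ⟨_, ⟨mk_mem_U _ _ _, rfl⟩, _, ⟨mk_mem_U _ _ _, rfl⟩, h⟩

theorem com_U {u v : E} (hu : u ∈ U) (hv : v ∈ U) : u * v * u⁻¹ * v⁻¹ ∈ ZU := by
  have key : ∀ a b c a' b' c' : F4, (el a b c false false * el a' b' c' false false *
      (el a b c false false)⁻¹ * (el a' b' c' false false)⁻¹).h.a = 0 ∧
      (el a b c false false * el a' b' c' false false *
      (el a b c false false)⁻¹ * (el a' b' c' false false)⁻¹).h.b = 0 := by decide +kernel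
  refine ⟨U.mul_mem (U.mul_mem (U.mul_mem hu hv) (U.inv_mem hu)) (U.inv_mem hv), ?_⟩
  have e1 : u = el u.h.a u.h.b u.h.c false false := by conv_lhs => rw [eta u, hu.1, hu.2]
  have e2 : v = el v.h.a v.h.b v.h.c false false := by conv_lhs => rw [eta v, hv.1, hv.2]
  rw [e1, e2]
  exact key _ _ _ _ _ _

theorem sq_U {u : E} (hu : u ∈ U) : u * u ∈ ZU := by
  refine ⟨U.mul_mem hu hu, ?_⟩
  exact forall_U (p := fun u => (u * u).h.a = 0 ∧ (u * u).h.b = 0) (by decide +kernel) hu

theorem surj_U {u z : E} (hu : u ∈ U) (hn : u ∉ ZU) (hz : z ∈ ZU) :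
    ∃ v ∈ U, u * v * u⁻¹ * v⁻¹ = z := by
  have key : ∀ a b c d : F4, ¬ (a = 0 ∧ b = 0) → ∃ a' b' : F4, el a b c false false * el a' b' 0 false false *
      (el a b c false false)⁻¹ * (el a' b' 0 false false)⁻¹ = el 0 0 d false false := by decide +kernel
  have e1 : u = el u.h.a u.h.b u.h.c false false := by conv_lhs => rw [eta u, hu.1, hu.2]
  have e2 : z = el 0 0 z.h.c false false := by
    conv_lhs => rw [eta z, hz.1.1, hz.1.2, hz.2.1, hz.2.2]
  rw [e1, e2]
  obtain ⟨a', b', h⟩ := key u.h.a u.h.b u.h.c z.h.c (fun h => hn ⟨hu, h⟩)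
  exact ⟨_, mk_mem_U _ _ _, h⟩

theorem cen_AA (i : Bool) {u v : E} (hu : u ∈ AA i) (hn : u ∉ ZU) (hv : v ∈ U) (h : v * u = u * v) :
    v ∈ AA i := by
  have h1 := comm_U hv (AA_le i hu) h
  cases i
  · have hu' : u.h.a = 0 := hu.2
    rw [hu', zero_mul] at h1
    rcases mul_eq_zero.mp h1 with h2 | h2
    · exact ⟨hv, h2⟩
    · exact absurd ⟨hu.1, hu', h2⟩ hn
  · have hu' : u.h.b = 0 := hu.2
    rw [hu', mul_zero] at h1
    rcases mul_eq_zero.mp h1.symm with h2 | h2
    · exact absurd ⟨hu.1, h2, hu'⟩ hn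
    · exact ⟨hv, h2⟩

theorem cen_U (z : E) (hU : ∀ u ∈ U, z * u = u * z) : z ∈ ZU := by
  have h1 := hU _ (mk_mem_U .o .z .z)
  have h2 := hU _ (mk_mem_U .w .z .z)
  have h3 := hU _ (mk_mem_U .z .o .z)
  have h4 := hU _ (mk_mem_U .z .w .z)
  have h5 := hU _ (mk_mem_U .z .z .w)
  have key : ∀ (a b c : F4) (f g : Bool),
      el a b c f g * el .o .z .z false false = el .o .z .z false false * el a b c f g →
      el a b c f g * el .w .z .z false false = el .w .z .z false false * el a b c f g →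
      el a b c f g * el .z .o .z false false = el .z .o .z false false * el a b c f g →
      el a b c f g * el .z .w .z false false = el .z .w .z false false * el a b c f g →
      (f = false ∧ g = false) ∧ a = 0 ∧ b = 0 := by decide +kernel
  exact key z.h.a z.h.b z.h.c z.f z.g h1 h2 h3 h4

/-- elements fix or swap `A1`, `A2` -/
theorem act_fix {s : E} (hg : s.g = false) (i : Bool) {u : E} (hu : u ∈ AA i) : s * u * s⁻¹ ∈ AA i := by
  have e : s = el s.h.a s.h.b s.h.c s.f false := by conv_lhs => rw [eta s, hg]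
  have hU := conj_mem_U (s := s) (AA_le i hu)
  cases i
  · refine ⟨hU, ?_⟩
    have key : ∀ (a b c : F4) (f : Bool) (b' c' : F4),
        (el a b c f false * el 0 b' c' false false * (el a b c f false)⁻¹).h.a = 0 := by decide +kernel
    rw [e]
    exact forall_A1 (p := fun u => (el s.h.a s.h.b s.h.c s.f false * u *
      (el s.h.a s.h.b s.h.c s.f false)⁻¹).h.a = 0) (fun b c => key _ _ _ _ _ _) hu
  · refine ⟨hU, ?_⟩
    have key : ∀ (a b c : F4) (f : Bool) (a' c' : F4),
        (el a b c f false * el a' 0 c' false false * (el a b c f false)⁻¹).h.b = 0 := by decide +kernel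
    rw [e]
    exact forall_A2 (p := fun u => (el s.h.a s.h.b s.h.c s.f false * u *
      (el s.h.a s.h.b s.h.c s.f false)⁻¹).h.b = 0) (fun b c => key _ _ _ _ _ _) hu

theorem act_swap {s : E} (hg : s.g = true) (i : Bool) {u : E} (hu : u ∈ AA i) : s * u * s⁻¹ ∈ AA (!i) := by
  have e : s = el s.h.a s.h.b s.h.c s.f true := by conv_lhs => rw [eta s, hg]
  have hU := conj_mem_U (s := s) (AA_le i hu)
  cases i
  · refine ⟨hU, ?_⟩
    have key : ∀ (a b c : F4) (f : Bool) (b' c' : F4),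
        (el a b c f true * el 0 b' c' false false * (el a b c f true)⁻¹).h.b = 0 := by decide +kernel
    rw [e]
    exact forall_A1 (p := fun u => (el s.h.a s.h.b s.h.c s.f true * u *
      (el s.h.a s.h.b s.h.c s.f true)⁻¹).h.b = 0) (fun b c => key _ _ _ _ _ _) hu
  · refine ⟨hU, ?_⟩
    have key : ∀ (a b c : F4) (f : Bool) (a' c' : F4),
        (el a b c f true * el a' 0 c' false false * (el a b c f true)⁻¹).h.a = 0 := by decide +kernel
    rw [e]
    exact forall_A2 (p := fun u => (el s.h.a s.h.b s.h.c s.f true * u *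
      (el s.h.a s.h.b s.h.c s.f true)⁻¹).h.a = 0) (fun b c => key _ _ _ _ _ _) hu

/-- an element with `g = true` does not fix `A1` -/
theorem g_of_fix {s : E} (h : ∀ u ∈ AA false, s * u * s⁻¹ ∈ AA false) : s.g = false := by
  by_contra hg
  have hg : s.g = true := by revert hg; cases s.g <;> simp
  have h1 := h (el 0 1 0 false false) ⟨mk_mem_U _ _ _, rfl⟩
  have h2 := act_swap hg false (u := el 0 1 0 false false) ⟨mk_mem_U _ _ _, rfl⟩
  have h3 := inf_AA h1 h2
  have e : s = el s.h.a s.h.b s.h.c s.f s.g := eta s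
  have key : ∀ (a b c : F4) (f g : Bool),
      ¬ ((el a b c f g * el 0 1 0 false false * (el a b c f g)⁻¹).h.a = 0 ∧
      (el a b c f g * el 0 1 0 false false * (el a b c f g)⁻¹).h.b = 0) := by decide +kernel
  exact key s.h.a s.h.b s.h.c s.f s.g h3.2

/-- an element with `f = true` does not centralise `Z` -/
theorem cen_Z {s : E} (hf : s.f = true) {z : E} (hz : z ∈ ZU) (h : s * z = z * s) : z = 1 ∨ z = pb := by
  have e : s = el s.h.a s.h.b s.h.c true s.g := by conv_lhs => rw [eta s, hf]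
  have key : ∀ (a b c : F4) (g : Bool) (d : F4), el a b c true g * el 0 0 d false false =
      el 0 0 d false false * el a b c true g → (el 0 0 d false false = 1 ∨ el 0 0 d false false = pb) := by
    decide +kernel
  rw [e] at h
  exact forall_ZU (p := fun z => el s.h.a s.h.b s.h.c true s.g * z = z * el s.h.a s.h.b s.h.c true s.g →
    (z = 1 ∨ z = pb)) (fun d => key _ _ _ _ d) hz h

theorem f_of_cen {s : E} (h : ∀ z ∈ ZU, s * z = z * s) : s.f = false := by
  by_contra hf
  have hf : s.f = true := by revert hf; cases s.f <;> simp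
  have h1 := cen_Z hf (z := el 0 0 .w false false) ⟨mk_mem_U _ _ _, rfl, rfl⟩
    (h _ ⟨mk_mem_U _ _ _, rfl, rfl⟩)
  revert h1; decide

theorem outer_U {s : E} (h : ∀ u ∈ U, s * u * s⁻¹ * u⁻¹ ∈ ZU) : s ∈ U := by
  have h1 := (h _ (mk_mem_U .w .z .z)).2
  have h2 := (h _ (mk_mem_U .z .w .z)).2
  have key : ∀ (a b c : F4) (f g : Bool),
      ((el a b c f g * el .w .z .z false false * (el a b c f g)⁻¹ * (el .w .z .z false false)⁻¹).h.a = 0 ∧
      (el a b c f g * el .w .z .z false false * (el a b c f g)⁻¹ * (el .w .z .z false false)⁻¹).h.b = 0) →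
      ((el a b c f g * el .z .w .z false false * (el a b c f g)⁻¹ * (el .z .w .z false false)⁻¹).h.a = 0 ∧
      (el a b c f g * el .z .w .z false false * (el a b c f g)⁻¹ * (el .z .w .z false false)⁻¹).h.b = 0) →
      f = false ∧ g = false := by decide +kernel
  exact key s.h.a s.h.b s.h.c s.f s.g h1 h2

/-- the standard involutions of the outer cosets -/
def po (f g : Bool) : E := el 0 0 0 f g

theorem po_sq (f g : Bool) : po f g * po f g = 1 := by revert f g; decide

theorem po_comm (f g f' g' : Bool) : po f g * po f' g' = po f' g' * po f g := by revert f g f' g'; decide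

theorem mem_U_of_labels {s t : E} (h1 : s.f = t.f) (h2 : s.g = t.g) : s⁻¹ * t ∈ U := by
  refine ⟨?_, ?_⟩
  · change xor s.f t.f = false
    rw [h1]; exact Bool.xor_self _
  · change xor s.g t.g = false
    rw [h2]; exact Bool.xor_self _

theorem labels_mul {s u : E} (hu : u ∈ U) : (s * u).f = s.f ∧ (s * u).g = s.g := by
  refine ⟨?_, ?_⟩
  · change xor s.f u.f = s.f
    rw [hu.1]; exact Bool.xor_false _
  · change xor s.g u.g = s.g
    rw [hu.2]; exact Bool.xor_false _

theorem labels_conj (s v : E) : (v * s * v⁻¹).f = s.f ∧ (v * s * v⁻¹).g = s.g := by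
  refine ⟨?_, ?_⟩
  · change xor (xor v.f s.f) v.f = s.f
    cases v.f <;> cases s.f <;> rfl
  · change xor (xor v.g s.g) v.g = s.g
    cases v.g <;> cases s.g <;> rfl

theorem inv2_E (s : E) : ∃ u ∈ U, (s * u) * (s * u) = 1 := by
  refine ⟨s⁻¹ * po s.f s.g, mem_U_of_labels rfl rfl, ?_⟩
  rw [mul_inv_cancel_left, po_sq]

/-- outer involutions are conjugate to the standard ones -/
theorem conj_po {s : E} (hs : s ∉ U) (hss : s * s = 1) : ∃ u ∈ U, u * po s.f s.g * u⁻¹ = s := by
  rcases hf : s.f with _ | _ <;> rcases hg : s.g with _ | _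
  · exact absurd ⟨hf, hg⟩ hs
  · exact conj_g s hf hg hss
  · exact conj_f s hf hg hss
  · exact conj_x s hf hg hss

theorem conj_E {s u : E} (hs : s ∉ U) (hss : s * s = 1) (hu : u ∈ U) (h : (s * u) * (s * u) = 1) :
    ∃ v ∈ U, v * s * v⁻¹ = s * u := by
  obtain ⟨v1, hv1, e1⟩ := conj_po hs hss
  have hsu : s * u ∉ U := by
    intro h1
    apply hs
    have := U.mul_mem h1 (U.inv_mem hu)
    rwa [mul_inv_cancel_right] at this
  obtain ⟨v2, hv2, e2⟩ := conj_po hsu h
  rw [(labels_mul hu).1, (labels_mul hu).2] at e2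
  refine ⟨v2 * v1⁻¹, U.mul_mem hv2 (U.inv_mem hv1), ?_⟩
  rw [← e2]
  conv_lhs => rw [← e1]
  group

/-- `C_U(s)` for a conjugate of a standard involution -/
theorem card_cen (s v : E) (hv : v ∈ U) :
    Nat.card {u : E // u ∈ U ∧ (v * s * v⁻¹) * u = u * (v * s * v⁻¹)} =
      Nat.card {u : E // u ∈ U ∧ s * u = u * s} := by
  refine Nat.card_congr ⟨fun u => ⟨v⁻¹ * u.1 * v, U.mul_mem (U.mul_mem (U.inv_mem hv) u.2.1) hv, ?_⟩,
    fun u => ⟨v * u.1 * v⁻¹, U.mul_mem (U.mul_mem hv u.2.1) (U.inv_mem hv), ?_⟩, ?_, ?_⟩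
  · calc s * (v⁻¹ * u.1 * v) = v⁻¹ * ((v * s * v⁻¹) * u.1) * v := by group
      _ = v⁻¹ * (u.1 * (v * s * v⁻¹)) * v := by rw [u.2.2]
      _ = _ := by group
  · calc v * s * v⁻¹ * (v * u.1 * v⁻¹) = v * (s * u.1) * v⁻¹ := by group
      _ = v * (u.1 * s) * v⁻¹ := by rw [u.2.2]
      _ = _ := by group
  · intro u
    apply Subtype.ext
    change v * (v⁻¹ * u.1 * v) * v⁻¹ = u.1
    group
  · intro u
    apply Subtype.ext
    change v⁻¹ * (v * u.1 * v⁻¹) * v = u.1
    group

theorem card_cen_el (s : E) : Nat.card {u : E // u ∈ U ∧ s * u = u * s} =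
    Nat.card {t : F4 × F4 × F4 // s * el t.1 t.2.1 t.2.2 false false = el t.1 t.2.1 t.2.2 false false * s} := by
  refine Nat.card_congr ⟨fun u => ⟨(u.1.h.a, u.1.h.b, u.1.h.c), ?_⟩,
    fun t => ⟨el t.1.1 t.1.2.1 t.1.2.2 false false, mk_mem_U _ _ _, t.2⟩, ?_, ?_⟩
  · have e : el u.1.h.a u.1.h.b u.1.h.c false false = u.1 := by
      conv_rhs => rw [eta u.1, u.2.1.1, u.2.1.2]
    change s * el u.1.h.a u.1.h.b u.1.h.c false false = el u.1.h.a u.1.h.b u.1.h.c false false * s
    rw [e]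
    exact u.2.2
  · intro u
    apply Subtype.ext
    change el u.1.h.a u.1.h.b u.1.h.c false false = u.1
    conv_rhs => rw [eta u.1, u.2.1.1, u.2.1.2]
  · intro t
    rfl

theorem card_cen_po (g : Bool) : Nat.card {u : E // u ∈ U ∧ po true g * u = u * po true g} = 8 := by
  rw [card_cen_el, Nat.card_eq_fintype_card]
  revert g
  decide +kernel

theorem card8_E {s : E} (hf : s.f = true) (hss : s * s = 1) :
    Nat.card {u : E // u ∈ U ∧ s * u = u * s} = 8 := by
  obtain ⟨v, hv, e⟩ := conj_po (s := s) (by intro h; rw [h.1] at hf; exact absurd hf (by decide)) hss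
  rw [hf] at e
  rw [← e, card_cen _ _ hv, card_cen_po]

theorem der_po (g : Bool) : ∃ c ∈ U, ∃ d ∈ U, po true g * c = c * po true g ∧ po true g * d = d * po true g ∧
    c * d * c⁻¹ * d⁻¹ = pb := by
  cases g
  · exact ⟨el 1 0 0 false false, mk_mem_U _ _ _, el 0 1 0 false false, mk_mem_U _ _ _, by decide, by decide,
      by decide⟩
  · exact ⟨q1, q1_mem, q2, q2_mem, q1_px.symm, q2_px.symm, q_comm⟩

theorem der_E {s : E} (hf : s.f = true) (hss : s * s = 1) : ∃ c ∈ U, ∃ d ∈ U, s * c = c * s ∧ s * d = d * s ∧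
    c * d * c⁻¹ * d⁻¹ = pb := by
  obtain ⟨v, hv, e⟩ := conj_po (s := s) (by intro h; rw [h.1] at hf; exact absurd hf (by decide)) hss
  rw [hf] at e
  obtain ⟨c, hc, d, hd, h1, h2, h3⟩ := der_po s.g
  refine ⟨v * c * v⁻¹, U.mul_mem (U.mul_mem hv hc) (U.inv_mem hv), v * d * v⁻¹,
    U.mul_mem (U.mul_mem hv hd) (U.inv_mem hv), ?_, ?_, ?_⟩
  · conv_lhs => rw [← e]
    conv_rhs => rw [← e]
    calc v * po true s.g * v⁻¹ * (v * c * v⁻¹) = v * (po true s.g * c) * v⁻¹ := by group
      _ = v * (c * po true s.g) * v⁻¹ := by rw [h1]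
      _ = _ := by group
  · conv_lhs => rw [← e]
    conv_rhs => rw [← e]
    calc v * po true s.g * v⁻¹ * (v * d * v⁻¹) = v * (po true s.g * d) * v⁻¹ := by group
      _ = v * (d * po true s.g) * v⁻¹ := by rw [h2]
      _ = _ := by group
  · calc v * c * v⁻¹ * (v * d * v⁻¹) * (v * c * v⁻¹)⁻¹ * (v * d * v⁻¹)⁻¹ =
        v * (c * d * c⁻¹ * d⁻¹) * v⁻¹ := by group
      _ = v * pb * v⁻¹ := by rw [h3]
      _ = pb := by rw [← pb_central, mul_inv_cancel_right]

theorem xQ8_E {s : E} (hf : s.f = true) (hg : s.g = true) (hss : s * s = 1) {u : E} (hu : u ∈ U)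
    (h : s * u = u * s) (huu : u * u = 1) : u = 1 ∨ u = pb := by
  obtain ⟨v, hv, e⟩ := conj_x s hf hg hss
  have h1 : (v⁻¹ * u * v) * px = px * (v⁻¹ * u * v) := by
    calc (v⁻¹ * u * v) * px = v⁻¹ * (u * (v * px * v⁻¹)) * v := by group
      _ = v⁻¹ * ((v * px * v⁻¹) * u) * v := by rw [e, h]
      _ = _ := by group
  rcases inv_cent_x (v⁻¹ * u * v) (U.mul_mem (U.mul_mem (U.inv_mem hv) hu) hv) h1 (by
    calc (v⁻¹ * u * v) * (v⁻¹ * u * v) = v⁻¹ * (u * u) * v := by group
      _ = 1 := by rw [huu]; group) with h2 | h2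
  · left
    calc u = v * (v⁻¹ * u * v) * v⁻¹ := by group
      _ = 1 := by rw [h2]; group
  · right
    calc u = v * (v⁻¹ * u * v) * v⁻¹ := by group
      _ = v * pb * v⁻¹ := by rw [h2]
      _ = pb := by rw [← pb_central, mul_inv_cancel_right]

theorem fD8_E {s : E} (hf : s.f = true) (hg : s.g = false) (hss : s * s = 1) :
    ∃ u ∈ U, s * u = u * s ∧ u * u = 1 ∧ u ≠ 1 ∧ u ≠ pb := by
  obtain ⟨v, hv, e⟩ := conj_f s hf hg hss
  have h1 : pf * el 1 0 0 false false = el 1 0 0 false false * pf := by decide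
  have h2 : el 1 0 0 false false * el 1 0 0 false false = (1 : E) := by decide
  have h3 : el 1 0 0 false false ≠ (1 : E) := by decide
  have h4 : el 1 0 0 false false ≠ pb := by decide
  refine ⟨v * el 1 0 0 false false * v⁻¹, U.mul_mem (U.mul_mem hv (mk_mem_U _ _ _)) (U.inv_mem hv), ?_, ?_,
    ?_, ?_⟩
  · rw [← e]
    calc v * pf * v⁻¹ * (v * el 1 0 0 false false * v⁻¹) = v * (pf * el 1 0 0 false false) * v⁻¹ := by group
      _ = v * (el 1 0 0 false false * pf) * v⁻¹ := by rw [h1]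
      _ = _ := by group
  · calc v * el 1 0 0 false false * v⁻¹ * (v * el 1 0 0 false false * v⁻¹) =
        v * (el 1 0 0 false false * el 1 0 0 false false) * v⁻¹ := by group
      _ = 1 := by rw [h2]; group
  · intro h5
    apply h3
    calc el 1 0 0 false false = v⁻¹ * (v * el 1 0 0 false false * v⁻¹) * v := by group
      _ = 1 := by rw [h5]; group
  · intro h5
    apply h4
    calc el 1 0 0 false false = v⁻¹ * (v * el 1 0 0 false false * v⁻¹) * v := by group
      _ = v⁻¹ * (pb * v) := by rw [h5, mul_assoc]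
      _ = pb := by rw [pb_central]; group

theorem gZ_E {s : E} (hf : s.f = false) (hg : s.g = true) (hss : s * s = 1) {u : E} (hu : u ∈ U)
    (h : s * u = u * s) : u ∈ ZU := by
  obtain ⟨v, hv, e⟩ := conj_g s hf hg hss
  have h1 : (v⁻¹ * u * v) * pg = pg * (v⁻¹ * u * v) := by
    calc (v⁻¹ * u * v) * pg = v⁻¹ * (u * (v * pg * v⁻¹)) * v := by group
      _ = v⁻¹ * ((v * pg * v⁻¹) * u) * v := by rw [e, h]
      _ = _ := by group
  have h2 : v⁻¹ * u * v ∈ ZU :=
    ⟨U.mul_mem (U.mul_mem (U.inv_mem hv) hu) hv, cent_pg _ h1⟩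
  have h3 : u = v⁻¹ * u * v := by
    have h4 := Z_cen h2 hv
    calc u = v * (v⁻¹ * u * v) * v⁻¹ := by group
      _ = (v⁻¹ * u * v) * v * v⁻¹ := by rw [h4]
      _ = _ := by group
  rw [h3]; exact h2

theorem comx_E {w : E} (hf : w.f = true) (hg : w.g = true) (hww : w * w = 1) (s : E) :
    ∃ u ∈ U, (s * u) * (s * u) = 1 ∧ (s * u) * w = w * (s * u) := by
  obtain ⟨v, hv, e⟩ := conj_x w hf hg hww
  refine ⟨s⁻¹ * (v * po s.f s.g * v⁻¹), mem_U_of_labels ?_ ?_, ?_, ?_⟩
  · rw [(labels_conj _ _).1]; rfl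
  · rw [(labels_conj _ _).2]; rfl
  · rw [mul_inv_cancel_left]
    calc v * po s.f s.g * v⁻¹ * (v * po s.f s.g * v⁻¹) = v * (po s.f s.g * po s.f s.g) * v⁻¹ := by group
      _ = 1 := by rw [po_sq]; group
  · rw [mul_inv_cancel_left, ← e]
    have h1 : po s.f s.g * px = px * po s.f s.g := po_comm _ _ _ _
    calc v * po s.f s.g * v⁻¹ * (v * px * v⁻¹) = v * (po s.f s.g * px) * v⁻¹ := by group
      _ = v * (px * po s.f s.g) * v⁻¹ := by rw [h1]
      _ = _ := by group

end Cfsg.Agent.UGT.L34T2.FrE
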