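import Cfsg.Agent.UGT.L34T2.FrJ

/-!
# Type `L₃(4)`, frame: transport under injective homomorphisms
-/

set_option autoImplicit false

open Subgroup

namespace Cfsg.Agent.UGT.L34T2

variable {G : Type*} [Group G]

namespace Fr

variable {T P Q Z : Subgroup G} {A : Bool → Subgroup G} {b : G}

theorem map (h : Fr T P Q Z A b) {G' : Type*} [Group G'] (f : G →* G') (hf : Function.Injective f) :
    Fr (T.map f) (P.map f) (Q.map f) (Z.map f) (fun i => (A i).map f) (f b) := by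
  have hmem : ∀ {H : Subgroup G} {y : G}, f y ∈ H.map f ↔ y ∈ H := by
    intro H y
    constructor
    · rintro ⟨u, hu, e⟩
      rwa [← hf e]
    · exact mem_map_of_mem f
  have hconj : ∀ y u : G, f y * f u * (f y)⁻¹ = f (y * u * y⁻¹) := by
    intro y u; rw [map_mul, map_mul, map_inv]
  have hcm : ∀ y u : G, f y * f u = f u * f y ↔ y * u = u * y := by
    intro y u
    rw [← map_mul, ← map_mul]
    exact hf.eq_iff
  have hfix : ∀ y : G, (∀ i, ∀ u ∈ (A i).map f, f y * u * (f y)⁻¹ ∈ (A i).map f) ↔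
      ∀ i, ∀ u ∈ A i, y * u * y⁻¹ ∈ A i := by
    intro y
    constructor
    · intro h1 i u hu
      have := h1 i _ (mem_map_of_mem f hu)
      rwa [hconj, hmem] at this
    · rintro h1 i _ ⟨u, hu, rfl⟩
      rw [hconj, hmem]
      exact h1 i u hu
  have hswap : ∀ y : G, (∀ i, ∀ u ∈ (A i).map f, f y * u * (f y)⁻¹ ∈ (A (!i)).map f) ↔
      ∀ i, ∀ u ∈ A i, y * u * y⁻¹ ∈ A (!i) := by
    intro y
    constructor
    · intro h1 i u hu
      have := h1 i _ (mem_map_of_mem f hu)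
      rwa [hconj, hmem] at this
    · rintro h1 i _ ⟨u, hu, rfl⟩
      rw [hconj, hmem]
      exact h1 i u hu
  have hz : ∀ y : G, (∀ z ∈ Z.map f, f y * z = z * f y) ↔ ∀ z ∈ Z, y * z = z * y := by
    intro y
    constructor
    · intro h1 z hz
      exact (hcm _ _).mp (h1 _ (mem_map_of_mem f hz))
    · rintro h1 _ ⟨z, hz, rfl⟩
      exact (hcm _ _).mpr (h1 z hz)
  have hPc : ∀ y : G, (∀ p ∈ P.map f, f y * p = p * f y) ↔ ∀ p ∈ P, y * p = p * y := by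
    intro y
    constructor
    · intro h1 z hz
      exact (hcm _ _).mp (h1 _ (mem_map_of_mem f hz))
    · rintro h1 _ ⟨z, hz, rfl⟩
      exact (hcm _ _).mpr (h1 z hz)
  have hin : ∀ y : G, (∃ p ∈ P.map f, ∃ q ∈ Q.map f, f y = p * q) ↔ ∃ p ∈ P, ∃ q ∈ Q, y = p * q := by
    intro y
    constructor
    · rintro ⟨_, ⟨p, hp, rfl⟩, _, ⟨q, hq, rfl⟩, e⟩
      rw [← map_mul] at e
      exact ⟨p, hp, q, hq, hf e⟩
    · rintro ⟨p, hp, q, hq, rfl⟩
      exact ⟨_, mem_map_of_mem f hp, _, mem_map_of_mem f hq, map_mul _ _ _⟩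
  refine { h.toHeis.map f hf with
    two := ?_, PT := map_mono h.PT, QT := map_mono h.QT, nP := ?_, nQ := ?_, disj := ?_, comm := ?_,
    bZ := mem_map_of_mem f h.bZ, b1 := ?_, bT := ?_, cenP := ?_, actA := ?_, actZ := ?_, inner := ?_,
    outer := ?_, inv2 := ?_, conj := ?_, card8 := ?_, der := ?_, xQ8 := ?_, fD8 := ?_, gZ := ?_, comx := ?_ }
  · exact h.two.map f
  · rintro _ ⟨y, hy, rfl⟩ _ ⟨p, hp, rfl⟩
    rw [hconj, hmem]; exact h.nP y hy p hp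
  · rintro _ ⟨y, hy, rfl⟩ _ ⟨p, hp, rfl⟩
    rw [hconj, hmem]; exact h.nQ y hy p hp
  · rintro _ ⟨y, hy, rfl⟩ h1
    rw [hmem] at h1
    rw [h.disj y hy h1, map_one]
  · rintro _ ⟨y, hy, rfl⟩ _ ⟨p, hp, rfl⟩
    exact (hcm _ _).mpr (h.comm y hy p hp)
  · intro e
    exact h.b1 (hf (e.trans (map_one f).symm))
  · rintro _ ⟨y, hy, rfl⟩
    exact (hcm _ _).mpr (h.bT y hy)
  · rintro _ ⟨y, hy, rfl⟩ h1
    rw [hPc] at h1
    obtain ⟨z, hz, q, hq, rfl⟩ := h.cenP y hy h1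
    exact ⟨_, mem_map_of_mem f hz, _, mem_map_of_mem f hq, map_mul _ _ _⟩
  · rintro _ ⟨y, hy, rfl⟩
    rw [hfix, hswap]
    exact h.actA y hy
  · rintro _ ⟨y, hy, rfl⟩
    rw [hz]
    rcases h.actZ y hy with h1 | h1
    · exact Or.inl h1
    · right
      rintro _ ⟨z, hz, rfl⟩ e
      rcases h1 z hz ((hcm _ _).mp e) with rfl | rfl
      · exact Or.inl (map_one f)
      · exact Or.inr rfl
  · rintro _ ⟨y, hy, rfl⟩
    rw [hfix, hz, hin]
    exact h.inner y hy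
  · rintro _ ⟨y, hy, rfl⟩ h1
    rw [hin]
    refine h.outer y hy ?_
    intro p hp
    have := h1 _ (mem_map_of_mem f hp)
    rwa [hconj, ← map_inv, ← map_mul, hmem] at this
  · rintro _ ⟨y, hy, rfl⟩ h1
    rw [hin] at h1
    obtain ⟨p, hp, e⟩ := h.inv2 y hy h1
    refine ⟨_, mem_map_of_mem f hp, ?_⟩
    rwa [← map_mul, ← map_mul, hmem]
  · rintro _ ⟨y, hy, rfl⟩ h1 h2 _ ⟨p, hp, rfl⟩ e
    rw [hin] at h1
    rw [← map_mul, hmem] at h2
    have e' : y⁻¹ * p * y * p = 1 := by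
      rw [← map_inv, ← map_mul, ← map_mul, ← map_mul] at e
      exact hf (e.trans (map_one f).symm)
    obtain ⟨r, hr, e1⟩ := h.conj y hy h1 h2 p hp e'
    exact ⟨_, mem_map_of_mem f hr, by rw [hconj, e1, map_mul]⟩
  · rintro _ ⟨y, hy, rfl⟩ h1 h2
    rw [← map_mul, hmem] at h1
    rw [hz] at h2
    rw [← h.card8 y hy h1 h2]
    symm
    refine Nat.card_congr (Equiv.ofBijective
      (fun u : {p : G // p ∈ P ∧ y * p = p * y} =>
        (⟨f u.1, mem_map_of_mem f u.2.1, (hcm _ _).mpr u.2.2⟩ :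
          {p : G' // p ∈ P.map f ∧ f y * p = p * f y})) ⟨?_, ?_⟩)
    · rintro u v e
      exact Subtype.ext (hf (Subtype.ext_iff.mp e))
    · rintro ⟨_, ⟨p, hp, rfl⟩, e⟩
      exact ⟨⟨p, hp, (hcm _ _).mp e⟩, rfl⟩
  · rintro _ ⟨y, hy, rfl⟩ h1 h2
    rw [← map_mul, hmem] at h1
    rw [hz] at h2
    obtain ⟨c, hc, d, hd, e1, e2, e3⟩ := h.der y hy h1 h2
    refine ⟨_, mem_map_of_mem f hc, _, mem_map_of_mem f hd, (hcm _ _).mpr e1, (hcm _ _).mpr e2, ?_⟩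
    rw [hconj, ← map_inv, ← map_mul, e3]
  · rintro _ ⟨y, hy, rfl⟩ h1 h2 h3 _ ⟨p, hp, rfl⟩ e1 e2
    rw [← map_mul, hmem] at h1
    rw [hz] at h2
    rw [hswap] at h3
    rw [hcm] at e1
    rw [← map_mul] at e2
    rcases h.xQ8 y hy h1 h2 h3 p hp e1 (hf (e2.trans (map_one f).symm)) with rfl | rfl
    · exact Or.inl (map_one f)
    · exact Or.inr rfl
  · rintro _ ⟨y, hy, rfl⟩ h1 h2 h3
    rw [← map_mul, hmem] at h1
    rw [hz] at h2
    rw [hfix] at h3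
    obtain ⟨p, hp, e1, e2, n1, n2⟩ := h.fD8 y hy h1 h2 h3
    refine ⟨_, mem_map_of_mem f hp, (hcm _ _).mpr e1, by rw [← map_mul, e2, map_one], ?_, ?_⟩
    · intro e; exact n1 (hf (e.trans (map_one f).symm))
    · intro e; exact n2 (hf e)
  · rintro _ ⟨y, hy, rfl⟩ h1 h2 h3 _ ⟨p, hp, rfl⟩ e
    rw [hin] at h1
    rw [hz] at h2
    rw [← map_mul, hmem] at h3
    rw [hcm] at e
    rw [hmem]
    exact h.gZ y hy h1 h2 h3 p hp e
  · rintro _ ⟨w, hw, rfl⟩ h1 h2 h3 _ ⟨y, hy, rfl⟩ h4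
    rw [← map_mul, hmem] at h1
    rw [hz] at h2
    rw [hswap] at h3
    rw [hin] at h4
    obtain ⟨p, hp, e1, e2⟩ := h.comx w hw h1 h2 h3 y hy h4
    refine ⟨_, mem_map_of_mem f hp, ?_, ?_⟩
    · rwa [← map_mul, ← map_mul, hmem]
    · rwa [← map_mul, hconj, ← map_inv, ← map_mul, hmem]

theorem cj (h : Fr T P Q Z A b) (g : G) :
    Fr (cjg g T) (cjg g P) (cjg g Q) (cjg g Z) (fun i => cjg g (A i)) (g * b * g⁻¹) :=
  h.map _ (MulAut.conj g).injective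

end Fr

end Cfsg.Agent.UGT.L34T2
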