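import Cfsg.Agent.UGT.L34T2.FrMod
import Cfsg.Agent.UGT.L34.Inst
import Cfsg.Agent.UGT.TMC

/-!
# The frame `Fr` of a 2-component of type `L₃(4)`

* `exists_mod`: `L` with `L / O(L) ≅ L₃(4)`, `T ≤ N(L)` a 2-group, `T ∩ L` Sylow in `L`, `x ∈ T` acting as a
  unitary polarity: `ψ : T → E`.
* `exists_frame`: the frame `Fr T (T ⊓ L) (fix T L) Z A b`, `x` of type `x`.
* `exists_torus`: an element of order 3 normalizing a Sylow 2-subgroup of `L₃(4)`.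
* `K_spec`: `K = O^{2'}(C_L(Q))`, `ρ ∈ K`.
-/

set_option autoImplicit false
set_option linter.unusedVariables false

open Cfsg Subgroup
open Cfsg.Agent.SignalizersComponents Cfsg.Agent.Lib
open Cfsg.Agent.SignalizersComponents.IntrinsicBasic
open Cfsg.Agent.SignalizersComponents.IntrinsicIntr
open Cfsg.Agent.SignalizersComponents.PLayerAut
open Cfsg.Agent.Intrinsic.Basic Cfsg.Agent.Intrinsic.Cen Cfsg.Agent.Intrinsic.Diag
open Cfsg.Agent.McLLyComp.Act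
open Cfsg.Agent.UGT.Triple Cfsg.Agent.UGT.TriBase
open Cfsg.Agent.UGT.Iface (Bar IsL34)
open Cfsg.Agent.UGT.LTF.Defs (KF34 FT OddC)
open Cfsg.Agent.UGT.L34 hiding act

namespace Cfsg.Agent.UGT.L34T2.FrOf

open FrMod FrE

universe u

variable {G : Type u} [Group G] [Finite G] {x a : G} {L T : Subgroup G}

/-- **The map `ψ : T → E`.** -/
theorem exists_mod (h34 : IsL34 (Bar L)) (h2 : IsPGroup 2 ↥T) (hN : T ≤ normalizer (L : Set G))
    (hsyl : IsSyl L (T ⊓ L)) (hx : x ∈ T) (F : FT (act L ⟨x, hN hx⟩)) :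
    ∃ ψ : ↥T →* E, Mod ψ (L.subgroupOf T) ∧ ψ ⟨x, hx⟩ = px ∧
      (∀ s : ↥T, ψ s = 1 ↔ Fixes (s : G) L) ∧
      (∀ s : ↥T, ψ s ∈ U ↔ ∃ l : Bar L, act L ⟨s, hN s.2⟩ = MulAut.conj l) := by
  let ρ : ↥T →* MulAut (Bar L) := (act L).comp (inclusion hN)
  have hT : IsPGroup 2 ρ.range := h2.of_surjective ρ.rangeRestrict ρ.rangeRestrict_surjective
  obtain ⟨ψ0, hi, hU, hx0⟩ := LSup.exists_model h34 ρ.range hT (act L ⟨x, hN hx⟩) ⟨⟨x, hx⟩, rfl⟩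
    F.xx F.comm
  let ψ : ↥T →* E := ψ0.comp ρ.rangeRestrict
  have h1 : ∀ s : ↥T, ψ s = 1 ↔ Fixes (s : G) L := by
    intro s
    rw [← act_eq_one_iff (hN s.2)]
    constructor
    · intro hs
      have := hi (hs.trans (map_one ψ0).symm)
      exact congrArg Subtype.val this
    · intro hs
      have : ρ.rangeRestrict s = 1 := Subtype.ext hs
      change ψ0 (ρ.rangeRestrict s) = 1
      rw [this, map_one]
  have h3 : ∀ s : ↥T, ψ s ∈ U ↔ ∃ l : Bar L, act L ⟨s, hN s.2⟩ = MulAut.conj l :=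
    fun s => hU (ρ.rangeRestrict s)
  have hinj : ∀ p ∈ L.subgroupOf T, ψ p = 1 → p = 1 := by
    intro p hp hp1
    have hpL : (p : G) ∈ L := hp
    have h3 : MulAut.conj (QuotientGroup.mk ⟨(p : G), hpL⟩ : Bar L) = 1 := by
      rw [← act_of_mem hpL, act_eq_one_iff]
      exact (h1 p).mp hp1
    have h4 := F.cl _ h3
    rw [mk_eq_one_iff hpL] at h4
    exact Subtype.ext (LSup.eq_one_of_core h4 h2 p.2)
  have hmem : ∀ p ∈ L.subgroupOf T, ψ p ∈ U := by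
    intro p hp
    have hpL : (p : G) ∈ L := hp
    rw [h3]
    exact ⟨_, act_of_mem hpL⟩
  have hnorm : ∀ t : ↥T, ∀ p ∈ L.subgroupOf T, t * p * t⁻¹ ∈ L.subgroupOf T := by
    intro t p hp
    have hpL : (p : G) ∈ L := hp
    have h3 : (t : G) * p * (t : G)⁻¹ ∈ L := conj_mem (hN t.2) hpL
    exact h3
  have hcard : 64 ≤ Nat.card ↥(L.subgroupOf T) := by
    have h3 := hsyl.dvd_card (k := 6) (LSup.card_dvd h34)
    have h4 : Nat.card ↥(L.subgroupOf T) = Nat.card ↥(T ⊓ L) := by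
      rw [← card_map_of_injective T.subtype_injective, subgroupOf_map_subtype, inf_comm]
    rw [h4]
    exact Nat.le_of_dvd Nat.card_pos h3
  have hmap : (L.subgroupOf T).map ψ = U := by
    apply Subgroup.eq_of_le_of_card_ge
    · rintro _ ⟨p, hp, rfl⟩
      exact hmem p hp
    · have h3 : Nat.card ↥((L.subgroupOf T).map ψ) = Nat.card ↥(L.subgroupOf T) := by
        have h4 := card_eq_inf_mul_map ψ (L.subgroupOf T)
        have h5 : L.subgroupOf T ⊓ ψ.ker = ⊥ := by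
          rw [eq_bot_iff]
          rintro p ⟨hp, hk⟩
          exact hinj p hp hk
        rw [h5, card_bot, one_mul] at h4
        exact h4.symm
      rw [card_U, h3]
      exact hcard
  have hsurj : ∀ u ∈ U, ∃ p ∈ L.subgroupOf T, ψ p = u := by
    intro u hu
    rw [← hmap] at hu
    obtain ⟨p, hp, hpu⟩ := hu
    exact ⟨p, hp, hpu⟩
  have hcomm : ∀ p ∈ L.subgroupOf T, ∀ q, ψ q = 1 → p * q = q * p := by
    intro p hp q hq
    have h3 : q * p * q⁻¹ * p⁻¹ ∈ L.subgroupOf T :=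
      mul_mem (hnorm q p hp) (inv_mem hp)
    have h4 := hinj _ h3 (by
      rw [map_mul, map_mul, map_mul, map_inv, map_inv, hq]; group)
    calc p * q = (q * p * q⁻¹ * p⁻¹) * (p * q) := by rw [h4, one_mul]
      _ = q * p := by group
  exact ⟨ψ, ⟨hmem, hsurj, hinj, hcomm, hnorm⟩, hx0, h1, h3⟩

/-- **The frame.** -/
theorem exists_frame (h34 : IsL34 (Bar L)) (h2 : IsPGroup 2 ↥T) (hN : T ≤ normalizer (L : Set G))
    (hsyl : IsSyl L (T ⊓ L)) (hx : x ∈ T) (F : FT (act L ⟨x, hN hx⟩)) :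
    ∃ (Z : Subgroup G) (A : Bool → Subgroup G) (b : G), Fr T (T ⊓ L) (fix T L) Z A b ∧
      (¬ ∀ z ∈ Z, x * z = z * x) ∧ (∀ i, ∀ u ∈ A i, x * u * x⁻¹ ∈ A (!i)) ∧
      (∀ y (hy : y ∈ T), (∃ p ∈ T ⊓ L, ∃ q ∈ fix T L, y = p * q) ↔
        ∃ l : Bar L, act L ⟨y, hN hy⟩ = MulAut.conj l) := by
  obtain ⟨ψ, M, hψx, h1, h3⟩ := exists_mod h34 h2 hN hsyl hx F
  obtain ⟨b, hbP, hb, H⟩ := exists_fr M h2
  have e1 : (L.subgroupOf T).map T.subtype = T ⊓ L := by rw [subgroupOf_map_subtype, inf_comm]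
  have e2 : ψ.ker.map T.subtype = fix T L := by
    ext q
    rw [mem_fix]
    constructor
    · rintro ⟨q, hq, rfl⟩
      exact ⟨q.2, (h1 q).mp hq⟩
    · rintro ⟨hq, hf⟩
      exact ⟨⟨q, hq⟩, (h1 ⟨q, hq⟩).mpr hf, rfl⟩
  have hin : ∀ y (hy : y ∈ T), (∃ p ∈ (L.subgroupOf T).map T.subtype, ∃ q ∈ ψ.ker.map T.subtype, y = p * q) ↔
      ∃ l : Bar L, act L ⟨y, hN hy⟩ = MulAut.conj l := by
    intro y hy
    rw [← h3 ⟨y, hy⟩]
    exact inner_iff M (y := ⟨y, hy⟩)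
  rw [e1, e2] at H hin
  refine ⟨_, _, _, H, ?_, ?_, hin⟩
  · intro h
    have h4 := (cenZ_iff M (y := ⟨x, hx⟩)).mp h
    rw [hψx] at h4
    exact absurd h4 (by decide)
  · exact (swap_iff M (y := ⟨x, hx⟩)).mpr (by rw [hψx]; rfl)

section torus

open Cfsg.Agent.SporadicA.FieldFour Cfsg.Agent.LThreeFour
open Cfsg.Agent.ONType.Psl (kap)

variable {D : Type*} [Group D]

/-- action of the torus on codes -/
def kp (p : Code) : Code := ⟨kap 0 1 * p.a, kap 1 2 * p.b, kap 0 2 * p.c⟩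

theorem kp_fix (p : Code) (h : kp p = p) : p = cone := by
  have key : ∀ a b c : F4, kp ⟨a, b, c⟩ = ⟨a, b, c⟩ → (⟨a, b, c⟩ : Code) = cone := by decide +kernel
  exact key p.a p.b p.c h

theorem code_central (r : Code) (h : ∀ q, cmul r q = cmul q r) : r.a = 0 ∧ r.b = 0 := by
  have h1 := h ⟨1, 0, 0⟩
  have h2 := h ⟨0, 1, 0⟩
  have key : ∀ a b c : F4, cmul ⟨a, b, c⟩ ⟨1, 0, 0⟩ = cmul ⟨1, 0, 0⟩ ⟨a, b, c⟩ →
      cmul ⟨a, b, c⟩ ⟨0, 1, 0⟩ = cmul ⟨0, 1, 0⟩ ⟨a, b, c⟩ → a = 0 ∧ b = 0 := by decide +kernel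
  exact key r.a r.b r.c h1 h2

theorem code_central' (r : Code) (h : r.a = 0 ∧ r.b = 0) : ∀ q, cmul r q = cmul q r := by
  intro q
  have key : ∀ c x y z : F4, cmul ⟨0, 0, c⟩ ⟨x, y, z⟩ = cmul ⟨x, y, z⟩ ⟨0, 0, c⟩ := by decide +kernel
  have e : r = ⟨0, 0, r.c⟩ := by
    obtain ⟨a, b, c⟩ := r
    obtain ⟨h1, h2⟩ := h
    simp only at h1 h2
    rw [h1, h2]
  rw [e]
  exact key _ _ _ _

theorem kp_comm (p : Code) (h : (cmul (kp p) (cinv p)).a = 0 ∧ (cmul (kp p) (cinv p)).b = 0) :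
    p.a = 0 ∧ p.b = 0 := by
  have key : ∀ a b c : F4, ((cmul (kp ⟨a, b, c⟩) (cinv ⟨a, b, c⟩)).a = 0 ∧
      (cmul (kp ⟨a, b, c⟩) (cinv ⟨a, b, c⟩)).b = 0) → a = 0 ∧ b = 0 := by decide +kernel
  exact key p.a p.b p.c h

/-- the torus -/
theorem exists_torus (A : Dat D) : ∃ h : D, h ^ 3 = 1 ∧ (∀ t ∈ A.T, h * t * h⁻¹ ∈ A.T) ∧
    (∀ t ∈ A.T, h * t = t * h → t = 1) ∧
    (∀ t ∈ A.T, (∀ s ∈ A.T, (h * t * h⁻¹ * t⁻¹) * s = s * (h * t * h⁻¹ * t⁻¹)) →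
      ∀ s ∈ A.T, t * s = s * t) := by
  have hact : ∀ p, A.h⁻¹ * A.el p * A.h = A.el (kp p) := by
    intro p
    have e1 := A.h_x 0 1 (by decide) p.a
    have e2 := A.h_x 1 2 (by decide) p.b
    have e3 := A.h_x 0 2 (by decide) p.c
    rw [A.el_eq, A.el_eq]
    calc A.h⁻¹ * (A.x 0 1 p.a * A.x 1 2 p.b * A.x 0 2 p.c) * A.h =
        (A.h⁻¹ * A.x 0 1 p.a * A.h) * (A.h⁻¹ * A.x 1 2 p.b * A.h) * (A.h⁻¹ * A.x 0 2 p.c * A.h) := by group
      _ = _ := by rw [e1, e2, e3]; rfl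
  have hact' : ∀ p, A.h⁻¹ * A.el p * A.h⁻¹⁻¹ = A.el (kp p) := by
    intro p; rw [inv_inv]; exact hact p
  refine ⟨A.h⁻¹, by rw [inv_pow, A.h_pow, inv_one], ?_, ?_, ?_⟩
  · rintro _ ⟨p, rfl⟩
    rw [hact']
    exact A.el_mem _
  · rintro _ ⟨p, rfl⟩ h
    have h1 : A.el (kp p) = A.el p := by
      rw [← hact, h]; group
    rw [kp_fix p (A.inj h1), A.el_one]
  · rintro _ ⟨p, rfl⟩ h
    have h1 : A.h⁻¹ * A.el p * A.h⁻¹⁻¹ * (A.el p)⁻¹ = A.el (cmul (kp p) (cinv p)) := by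
      rw [hact', A.el_inv, A.el_mul]
    rw [h1] at h
    have h2 := code_central (cmul (kp p) (cinv p)) (fun q => A.inj (by
      rw [← A.el_mul (cmul (kp p) (cinv p)) q, ← A.el_mul q (cmul (kp p) (cinv p))]
      exact h _ (A.el_mem q)))
    have h3 := kp_comm p h2
    rintro _ ⟨q, rfl⟩
    rw [A.el_mul, A.el_mul, code_central' p h3 q]

/-- the torus for a 2-subgroup of order 64 -/
theorem exists_torus_of (hD : IsL34 D) {R : Subgroup D} (hR : IsPGroup 2 ↥R) (hc : 64 ≤ Nat.card ↥R) :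
    ∃ h : D, h ^ 3 = 1 ∧ (∀ t ∈ R, h * t * h⁻¹ ∈ R) ∧
    (∀ t ∈ R, h * t = t * h → t = 1) ∧
    (∀ t ∈ R, (∀ s ∈ R, (h * t * h⁻¹ * t⁻¹) * s = s * (h * t * h⁻¹ * t⁻¹)) →
      ∀ s ∈ R, t * s = s * t) := by
  obtain ⟨A⟩ := LSup.exists_dat hD
  have hfin : Finite D := Nat.finite_of_card_ne_zero (by rw [A.card]; norm_num)
  have hp : Fact (Nat.Prime 2) := ⟨Nat.prime_two⟩
  have hA2 : IsPGroup 2 ↥A.T := IsPGroup.of_card (n := 6) (by rw [A.card_T]; norm_num)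
  let S0 : Sylow 2 D := hA2.toSylow A.T_index
  obtain ⟨S1, hS1⟩ := hR.exists_le_sylow
  obtain ⟨g, hg⟩ := MulAction.exists_smul_eq D S1 S0
  have hgR : ∀ t ∈ R, g * t * g⁻¹ ∈ A.T := by
    intro t ht
    have h1 : g * t * g⁻¹ ∈ ((g • S1 : Sylow 2 D) : Subgroup D) := by
      rw [Sylow.coe_subgroup_smul]
      exact ⟨t, hS1 ht, rfl⟩
    rw [hg] at h1
    exact h1
  have hcj : R.map (MulAut.conj g).toMonoidHom = A.T := by
    apply Subgroup.eq_of_le_of_card_ge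
    · rintro _ ⟨t, ht, rfl⟩
      exact hgR t ht
    · rw [A.card_T, card_map_of_injective (MulAut.conj g).injective]
      exact hc
  have hback : ∀ t ∈ A.T, g⁻¹ * t * g ∈ R := by
    intro t ht
    rw [← hcj] at ht
    obtain ⟨r, hr, rfl⟩ := ht
    have : g⁻¹ * (g * r * g⁻¹) * g = r := by group
    change g⁻¹ * (g * r * g⁻¹) * g ∈ R
    rw [this]; exact hr
  obtain ⟨h, h3, h4, h5, h6⟩ := exists_torus A
  refine ⟨g⁻¹ * h * g, ?_, ?_, ?_, ?_⟩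
  · have : (g⁻¹ * h * g) ^ 3 = g⁻¹ * h ^ 3 * g := by
      simp only [pow_succ, pow_zero, one_mul]; group
    rw [this, h3]; group
  · intro t ht
    have h7 := hback _ (h4 _ (hgR t ht))
    have e : g⁻¹ * (h * (g * t * g⁻¹) * h⁻¹) * g = g⁻¹ * h * g * t * (g⁻¹ * h * g)⁻¹ := by group
    rwa [e] at h7
  · intro t ht hc'
    have h7 := h5 _ (hgR t ht) (by
      calc h * (g * t * g⁻¹) = g * ((g⁻¹ * h * g) * t) * g⁻¹ := by group
        _ = g * (t * (g⁻¹ * h * g)) * g⁻¹ := by rw [hc']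
        _ = _ := by group)
    calc t = g⁻¹ * (g * t * g⁻¹) * g := by group
      _ = 1 := by rw [h7]; group
  · intro t ht hs s hs'
    have h7 := h6 _ (hgR t ht) (by
      intro r hr
      have h8 := hs _ (hback r hr)
      calc h * (g * t * g⁻¹) * h⁻¹ * (g * t * g⁻¹)⁻¹ * r =
          g * ((g⁻¹ * h * g * t * (g⁻¹ * h * g)⁻¹ * t⁻¹) * (g⁻¹ * r * g)) * g⁻¹ := by group
        _ = g * ((g⁻¹ * r * g) * (g⁻¹ * h * g * t * (g⁻¹ * h * g)⁻¹ * t⁻¹)) * g⁻¹ := by rw [h8]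
        _ = _ := by group) _ (hgR s hs')
    calc t * s = g⁻¹ * ((g * t * g⁻¹) * (g * s * g⁻¹)) * g := by group
      _ = g⁻¹ * ((g * s * g⁻¹) * (g * t * g⁻¹)) * g := by rw [h7]
      _ = _ := by group

end torus

/-- **`K = O^{2'}(C_L(Q))` and `ρ`.** -/
theorem K_spec {Z : Subgroup G} {A : Bool → Subgroup G} {b : G} (h34 : IsL34 (Bar L))
    (hL : IsComp (centralizer ({a} : Set G)) L) (hTa : T ≤ centralizer ({a} : Set G))
    (hcl : ∀ s t : Bar L, s * s = 1 → s ≠ 1 → t * t = 1 → t ≠ 1 → ∃ g, g * s * g⁻¹ = t)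
    (hsyl : IsSyl L (T ⊓ L)) (H : Fr T (T ⊓ L) (fix T L) Z A b) :
    ∃ K : Subgroup G, K ≤ L ∧ K ⊔ core L = L ∧ IsComp K K ∧ (∀ k ∈ K, ∀ q ∈ fix T L, k * q = q * k) ∧
      T ⊓ L ≤ K ∧ (∀ p ∈ T ⊓ L, p * p = 1 → p ≠ 1 → ∃ k ∈ K, k * p * k⁻¹ = b) ∧
      ∃ ρ ∈ K, Odd (orderOf ρ) ∧ (∀ p ∈ T ⊓ L, ρ * p * ρ⁻¹ ∈ T ⊓ L) ∧
        (∀ p ∈ T ⊓ L, ρ * p = p * ρ → p = 1) ∧ (∀ p ∈ T ⊓ L, ρ * p * ρ⁻¹ * p⁻¹ ∈ Z → p ∈ Z) := by
  have hQ2 : IsPGroup 2 ↥(fix T L) := H.two.to_le (fix_le T L)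
  obtain ⟨K, hK⟩ : ∃ K, K = TMC.KK L (fix T L) := ⟨_, rfl⟩
  have hKL : K ≤ L := hK ▸ TMC.KK_le _ _
  have hsup : K ⊔ core L = L := by
    rw [hK]
    refine TMC.KK_sup hL hQ2 ?_
    intro q hq
    exact ⟨mem_centralizer_singleton_iff.mp (hTa hq.1), hq.2⟩
  have hcomm : ∀ k ∈ K, ∀ q ∈ fix T L, k * q = q * k := by
    intro k hk q hq
    rw [hK] at hk
    exact (TMC.KK_comm hk hq).symm
  have hPK : T ⊓ L ≤ K := by
    intro p hp
    obtain ⟨n, hn⟩ := H.two ⟨p, hp.1⟩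
    rw [hK]
    refine PComponents.mem_pElem (n := n) ⟨hp.2, ?_⟩ (congrArg Subtype.val hn)
    exact mem_centralizer_iff.mpr fun q hq => (H.comm p hp q hq).symm
  have hcompK : IsComp K K := by
    refine TMC.isComp_self hL hsup ?_
    rw [hK]
    exact TMC.pElem_pElem _
  -- lifting to `K`
  have hlift : ∀ d : Bar L, ∃ (k : G) (hk : k ∈ K), d = QuotientGroup.mk ⟨k, hKL hk⟩ := by
    intro d
    obtain ⟨⟨l, hl⟩, rfl⟩ := QuotientGroup.mk_surjective d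
    obtain ⟨k, hk, h3⟩ := exists_mul_of_sup hsup hl
    refine ⟨k, hk, ?_⟩
    rw [eq_comm, mk_eq_iff]
    exact h3
  have hcoreK : ∀ c ∈ K, c ∈ core L → c ∈ core K := by
    have h1 : K ⊓ core L ≤ core K := by
      refine le_core inf_le_left ?_ ?_
      · intro k hk
        change k ∈ normalizer ((K ⊓ core L : Subgroup G) : Set G)
        rw [mem_normalizer_iff_cj, cj_inf, mem_normalizer_iff_cj.mp (le_normalizer hk),
          mem_normalizer_iff_cj.mp (le_normalizer_core L (hKL hk))]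
      · exact Odd.of_dvd_nat (odd_card_core L) (card_dvd_of_le inf_le_right)
    exact fun c hc hc' => h1 ⟨hc, hc'⟩
  have hcoreKL : core K ≤ core L := core_le_of_sup hsup
  have hone : ∀ p ∈ T ⊓ L, p ∈ core L → p = 1 := fun p hp hc => LSup.eq_one_of_core hc H.two hp.1
  refine ⟨K, hKL, hsup, hcompK, hcomm, hPK, ?_, ?_⟩
  · -- fusion
    intro p hp hpp hp1
    have hbP : b ∈ T ⊓ L := H.AP false (H.ZA false H.bZ)
    have hbb : b * b = 1 := H.Asq false b (H.ZA false H.bZ)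
    have hb1 := H.b1
    have hne : ∀ p, ∀ hp : p ∈ T ⊓ L, p ≠ 1 → (QuotientGroup.mk ⟨p, hp.2⟩ : Bar L) ≠ 1 := by
      intro p hp hp1 h1
      rw [mk_eq_one_iff hp.2] at h1
      exact hp1 (hone p hp h1)
    have hsq : ∀ p, ∀ hp : p ∈ T ⊓ L, p * p = 1 →
        (QuotientGroup.mk ⟨p, hp.2⟩ : Bar L) * QuotientGroup.mk ⟨p, hp.2⟩ = 1 := by
      intro p hp hpp
      rw [← QuotientGroup.mk_mul]
      have : (⟨p, hp.2⟩ * ⟨p, hp.2⟩ : ↥L) = 1 := Subtype.ext hpp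
      rw [this]; rfl
    obtain ⟨g', hg'⟩ := hcl _ _ (hsq p hp hpp) (hne p hp hp1) (hsq b hbP hbb) (hne b hbP hb1)
    obtain ⟨k, hk, rfl⟩ := hlift g'
    have h2 : (QuotientGroup.mk ⟨k * p * k⁻¹, mul_mem (mul_mem (hKL hk) hp.2) (inv_mem (hKL hk))⟩ : Bar L) =
        QuotientGroup.mk ⟨b, hbP.2⟩ := hg'
    rw [mk_eq_iff] at h2
    have h3 : (k * p * k⁻¹)⁻¹ = k * p * k⁻¹ := by
      apply inv_eq_of_mul_eq_one_left
      calc k * p * k⁻¹ * (k * p * k⁻¹) = k * (p * p) * k⁻¹ := by group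
        _ = 1 := by rw [hpp]; group
    rw [h3] at h2
    let s : ↥K := ⟨k * p * k⁻¹, mul_mem (mul_mem hk (hPK hp)) (inv_mem hk)⟩
    let t : ↥K := ⟨b, hPK hbP⟩
    have hs : s * s = 1 := Subtype.ext (by
      change k * p * k⁻¹ * (k * p * k⁻¹) = 1
      nth_rewrite 1 [← h3]
      exact inv_mul_cancel _)
    have ht : t * t = 1 := Subtype.ext hbb
    have h5 : (s * t) ^ Nat.card ↥(core L) = 1 := by
      apply Subtype.ext
      have := pow_card_eq_one' (x := (⟨_, h2⟩ : ↥(core L)))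
      have h7 : (k * p * k⁻¹ * b) ^ Nat.card ↥(core L) = 1 := congrArg Subtype.val this
      rw [SubgroupClass.coe_pow]
      exact h7
    have h6 := LTF.Link.isConj_of_odd hs ht (odd_card_core L) h5
    rw [isConj_comm, isConj_iff] at h6
    obtain ⟨c, hc⟩ := h6
    refine ⟨c * k, mul_mem c.2 hk, ?_⟩
    have h7 : (c : G) * (k * p * k⁻¹) * (c : G)⁻¹ = b := congrArg Subtype.val hc
    rw [← h7]; group
  · -- the torus
    have hR2 : IsPGroup 2 ↥(((T ⊓ L).subgroupOf L).map (QuotientGroup.mk' (oddCore ↥L))) := by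
      refine IsPGroup.map ?_ _
      exact (H.two.to_le inf_le_left).comap_of_injective _ L.subtype_injective
    obtain ⟨R, hR⟩ : ∃ R : Subgroup (Bar L), R = ((T ⊓ L).subgroupOf L).map (QuotientGroup.mk' (oddCore ↥L)) :=
      ⟨_, rfl⟩
    rw [← hR] at hR2
    have hmemR : ∀ p (hp : p ∈ T ⊓ L), (QuotientGroup.mk ⟨p, hp.2⟩ : Bar L) ∈ R := by
      intro p hp
      rw [hR]
      exact ⟨⟨p, hp.2⟩, hp, rfl⟩
    have hRmem : ∀ d ∈ R, ∃ (p : G) (hp : p ∈ T ⊓ L), d = QuotientGroup.mk ⟨p, hp.2⟩ := by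
      intro d hd
      rw [hR] at hd
      obtain ⟨⟨p, hpL⟩, hp, rfl⟩ := hd
      exact ⟨p, hp, rfl⟩
    have hinj : ∀ p p' (hp : p ∈ T ⊓ L) (hp' : p' ∈ T ⊓ L), (QuotientGroup.mk ⟨p, hp.2⟩ : Bar L) =
        QuotientGroup.mk ⟨p', hp'.2⟩ → p = p' := by
      intro p p' hp hp' h1
      rw [mk_eq_iff] at h1
      exact inv_mul_eq_one.mp (hone _ (mul_mem (inv_mem hp) hp') h1)
    have hRc : 64 ≤ Nat.card ↥R := by
      rw [← H.cardP]
      refine Nat.card_le_card_of_injective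
        (fun p : ↥(T ⊓ L) => (⟨QuotientGroup.mk ⟨p.1, p.2.2⟩, hmemR p.1 p.2⟩ : ↥R)) ?_
      intro p p' h1
      exact Subtype.ext (hinj p.1 p'.1 p.2 p'.2 (congrArg Subtype.val h1))
    obtain ⟨h, h3, h4, h5, h6⟩ := exists_torus_of h34 hR2 hRc
    obtain ⟨k, hk, rfl⟩ := hlift h
    -- `k P k⁻¹ ≤ P O(K)`
    obtain ⟨E0, hE0⟩ : ∃ E0, E0 = (T ⊓ L) ⊔ core K := ⟨_, rfl⟩
    have hE0K : E0 ≤ K := hE0 ▸ sup_le hPK (core_le K)
    have hkP : cj k (T ⊓ L) ≤ E0 := by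
      intro y hy
      rw [mem_cj] at hy
      obtain ⟨p, hp, hpy⟩ : ∃ p ∈ T ⊓ L, y = k * p * k⁻¹ := ⟨_, hy, by group⟩
      obtain ⟨p', hp', h7⟩ := hRmem _ (h4 _ (hmemR p hp))
      have h8 : (QuotientGroup.mk ⟨p', hp'.2⟩ : Bar L) =
          QuotientGroup.mk ⟨k * p * k⁻¹, mul_mem (mul_mem (hKL hk) hp.2) (inv_mem (hKL hk))⟩ := h7.symm
      rw [mk_eq_iff, ← hpy] at h8
      have hyK : y ∈ K := hpy ▸ mul_mem (mul_mem hk (hPK hp)) (inv_mem hk)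
      have h9 : p'⁻¹ * y ∈ core K := hcoreK _ (mul_mem (inv_mem (hPK hp')) hyK) h8
      have h10 : y = p' * (p'⁻¹ * y) := by group
      rw [h10, hE0]
      exact mul_mem (mem_sup_left hp') (mem_sup_right h9)
    have hsE : IsSyl E0 (T ⊓ L) := by
      refine ⟨hsyl.two, hE0 ▸ le_sup_left, fun R' h1 h2 h3 => hsyl.max R' h1 (h2.trans (hE0K.trans hKL)) h3⟩
    obtain ⟨g, hg, hg2⟩ := hsE.conj (isPGroup_cj hsyl.two) hkP
    -- `g = c p`
    have hPn : T ⊓ L ≤ normalizer (core K : Set G) := hPK.trans (le_normalizer_core K)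
    obtain ⟨c, hc, p0, hp0, rfl⟩ : ∃ c ∈ core K, ∃ p0 ∈ T ⊓ L, g = c * p0 := by
      rw [hE0] at hg
      have h1 : g ∈ (((T ⊓ L) ⊔ core K : Subgroup G) : Set G) := hg
      rw [Subgroup.coe_mul_of_left_le_normalizer_right _ _ hPn] at h1
      obtain ⟨p0, hp0, c, hc, rfl⟩ := Set.mem_mul.mp h1
      refine ⟨p0 * c * p0⁻¹, (mem_normalizer_iff.mp (hPn hp0) c).mp hc, p0, hp0, by group⟩
    have h7 : cj (c⁻¹ * k) (T ⊓ L) ≤ T ⊓ L := by
      rw [cj_mul]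
      have h8 := cj_mono (g := c⁻¹) hg2
      rw [cj_mul, cj_inv_cj, mem_normalizer_iff_cj.mp (le_normalizer hp0)] at h8
      exact h8
    have hcL : c ∈ core L := hcoreKL hc
    have hckK : c⁻¹ * k ∈ K := mul_mem (inv_mem (core_le K hc)) hk
    have hmk : (QuotientGroup.mk ⟨c⁻¹ * k, hKL hckK⟩ : Bar L) = QuotientGroup.mk ⟨k, hKL hk⟩ := by
      rw [mk_eq_iff]
      have h8 : (c⁻¹ * k)⁻¹ * k = k⁻¹ * c * k := by group
      rw [h8]
      have h9 := conj_mem_core (x := k⁻¹) (le_normalizer (inv_mem (hKL hk))) hcL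
      rwa [inv_inv] at h9
    refine ⟨c⁻¹ * k, hckK, ?_, ?_, ?_, ?_⟩
    · have h8 : (c⁻¹ * k) ^ 3 ∈ core L := by
        rw [← mk_eq_one_iff (pow_mem (hKL hckK) 3)]
        have h9 : (QuotientGroup.mk ⟨c⁻¹ * k, hKL hckK⟩ : Bar L) ^ 3 = 1 := by rw [hmk, h3]
        exact h9
      have h9 : ((c⁻¹ * k) ^ 3) ^ Nat.card ↥(core L) = 1 := by
        have := pow_card_eq_one' (x := (⟨_, h8⟩ : ↥(core L)))
        exact congrArg Subtype.val this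
      rw [← pow_mul] at h9
      refine Odd.of_dvd_nat ?_ (orderOf_dvd_of_pow_eq_one h9)
      exact Odd.mul (by decide) (odd_card_core L)
    · intro p hp
      have h8 : (c⁻¹ * k) * p * (c⁻¹ * k)⁻¹ ∈ cj (c⁻¹ * k) (T ⊓ L) := conj_mem_cj hp
      exact h7 h8
    · intro p hp h8
      have h9 := h5 _ (hmemR p hp) (by
        rw [← hmk]
        have h10 : (⟨c⁻¹ * k, hKL hckK⟩ : ↥L) * ⟨p, hp.2⟩ = ⟨p, hp.2⟩ * ⟨c⁻¹ * k, hKL hckK⟩ := Subtype.ext h8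
        rw [← QuotientGroup.mk_mul, ← QuotientGroup.mk_mul, h10])
      rw [mk_eq_one_iff hp.2] at h9
      exact hone p hp h9
    · intro p hp h8
      obtain ⟨w, hw⟩ : ∃ w, w = (c⁻¹ * k) * p * (c⁻¹ * k)⁻¹ * p⁻¹ := ⟨_, rfl⟩
      rw [← hw] at h8
      have hwP : w ∈ T ⊓ L := H.AP false (H.ZA false h8)
      have h9 := h6 _ (hmemR p hp) (by
        intro s hs
        obtain ⟨s, hs', rfl⟩ := hRmem s hs
        have e1 : (QuotientGroup.mk ⟨k, hKL hk⟩ : Bar L) * QuotientGroup.mk ⟨p, hp.2⟩ *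
            (QuotientGroup.mk ⟨k, hKL hk⟩)⁻¹ * (QuotientGroup.mk ⟨p, hp.2⟩)⁻¹ =
            QuotientGroup.mk ⟨w, hwP.2⟩ := by
          rw [← hmk]
          have h10 : (⟨c⁻¹ * k, hKL hckK⟩ : ↥L) * ⟨p, hp.2⟩ * (⟨c⁻¹ * k, hKL hckK⟩ : ↥L)⁻¹ *
              (⟨p, hp.2⟩ : ↥L)⁻¹ = ⟨w, hwP.2⟩ := Subtype.ext hw.symm
          rw [← h10]; rfl
        rw [e1]
        have h11 : (⟨w, hwP.2⟩ : ↥L) * ⟨s, hs'.2⟩ = ⟨s, hs'.2⟩ * ⟨w, hwP.2⟩ :=
          Subtype.ext (H.Zcen w h8 s hs').symm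
        rw [← QuotientGroup.mk_mul, ← QuotientGroup.mk_mul, h11])
      have h10 : ∀ s ∈ T ⊓ L, p * s = s * p := by
        intro s hs
        have h11 := h9 _ (hmemR s hs)
        exact hinj (p * s) (s * p) (mul_mem hp hs) (mul_mem hs hp) h11
      obtain ⟨z, hz, q, hq, h12⟩ := H.cenP p hp.1 h10
      have hzP : z ∈ T ⊓ L := H.AP false (H.ZA false hz)
      have h13 : q = 1 := by
        apply H.disj q ?_ hq
        have : q = z⁻¹ * p := by rw [h12]; group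
        rw [this]; exact mul_mem (inv_mem hzP) hp
      rw [h12, h13, mul_one]; exact hz

end Cfsg.Agent.UGT.L34T2.FrOf
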