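import Cfsg.Agent.UGT.L34T2.Fr

/-!
# Transport of the 2-local frame along a map which is an injective homomorphism on `T`
-/

set_option autoImplicit false

namespace Cfsg.Agent.UGT.L34T2

variable {G H : Type*} [Group G] [Group H]

/-- `φ` is an injective homomorphism on `T` with image `T'` -/
structure IsoOn (φ : G → H) (T : Subgroup G) (T' : Subgroup H) : Prop where
  mul : ∀ s ∈ T, ∀ t ∈ T, φ (s * t) = φ s * φ t
  inj : ∀ s ∈ T, ∀ t ∈ T, φ s = φ t → s = t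
  mem : ∀ y, y ∈ T' ↔ ∃ t ∈ T, φ t = y

/-- `V' = φ(V)` -/
def Img (φ : G → H) (V : Subgroup G) (V' : Subgroup H) : Prop := ∀ y, y ∈ V' ↔ ∃ v ∈ V, φ v = y

namespace IsoOn

variable {φ : G → H} {T : Subgroup G} {T' : Subgroup H} (I : IsoOn φ T T')

include I

theorem one : φ 1 = 1 := by
  have h := I.mul 1 T.one_mem 1 T.one_mem
  rw [mul_one] at h
  exact (left_eq_mul.1 h)

theorem inv {t : G} (ht : t ∈ T) : φ t⁻¹ = (φ t)⁻¹ := by
  have h := I.mul t ht t⁻¹ (T.inv_mem ht)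
  rw [mul_inv_cancel, I.one] at h
  exact (inv_eq_of_mul_eq_one_right h.symm).symm

theorem conj {s t : G} (hs : s ∈ T) (ht : t ∈ T) : φ (s * t * s⁻¹) = φ s * φ t * (φ s)⁻¹ := by
  rw [I.mul _ (T.mul_mem hs ht) _ (T.inv_mem hs), I.mul _ hs _ ht, I.inv hs]

theorem comm {s t : G} (hs : s ∈ T) (ht : t ∈ T) : φ (s * t * s⁻¹ * t⁻¹) = φ s * φ t * (φ s)⁻¹ * (φ t)⁻¹ := by
  rw [I.mul _ (T.mul_mem (T.mul_mem hs ht) (T.inv_mem hs)) _ (T.inv_mem ht), I.conj hs ht, I.inv ht]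

theorem comm_iff {s t : G} (hs : s ∈ T) (ht : t ∈ T) : φ s * φ t = φ t * φ s ↔ s * t = t * s := by
  rw [← I.mul _ hs _ ht, ← I.mul _ ht _ hs]
  exact ⟨fun h => I.inj _ (T.mul_mem hs ht) _ (T.mul_mem ht hs) h, fun h => by rw [h]⟩

theorem sq_iff {s : G} (hs : s ∈ T) : φ s * φ s = 1 ↔ s * s = 1 := by
  rw [← I.mul _ hs _ hs, ← I.one]
  exact ⟨fun h => I.inj _ (T.mul_mem hs hs) _ T.one_mem h, fun h => by rw [h]⟩

theorem one_iff {s : G} (hs : s ∈ T) : φ s = 1 ↔ s = 1 := by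
  nth_rewrite 1 [← I.one]
  exact ⟨fun h => I.inj _ hs _ T.one_mem h, fun h => by rw [h]⟩

theorem mem_iff {V : Subgroup G} {V' : Subgroup H} (hV : Img φ V V') (hVT : V ≤ T) {t : G} (ht : t ∈ T) :
    φ t ∈ V' ↔ t ∈ V := by
  rw [hV]
  constructor
  · rintro ⟨v, hv, h⟩
    rw [← I.inj _ (hVT hv) _ ht h]
    exact hv
  · exact fun h => ⟨t, h, rfl⟩

end IsoOn

theorem Img.map {φ : G → H} {V : Subgroup G} {V' : Subgroup H} (hV : Img φ V V') {v : G} (hv : v ∈ V) :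
    φ v ∈ V' := (hV _).2 ⟨v, hv, rfl⟩

theorem card_img {φ : G → H} {T : Subgroup G} {T' : Subgroup H} (I : IsoOn φ T T') {V : Subgroup G}
    {V' : Subgroup H} (hV : Img φ V V') (hVT : V ≤ T) : Nat.card V' = Nat.card V := by
  refine (Nat.card_congr (Equiv.ofBijective (fun v : V => (⟨φ v, hV.map v.2⟩ : V')) ⟨?_, ?_⟩)).symm
  · intro v w h
    exact Subtype.ext (I.inj _ (hVT v.2) _ (hVT w.2) (congrArg Subtype.val h))
  · rintro ⟨y, hy⟩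
    obtain ⟨v, hv, h⟩ := (hV y).1 hy
    exact ⟨⟨v, hv⟩, Subtype.ext h⟩

theorem Heis.transfer {φ : G → H} {T : Subgroup G} {T' : Subgroup H} (I : IsoOn φ T T') {P Z : Subgroup G}
    {P' Z' : Subgroup H} {A : Bool → Subgroup G} {A' : Bool → Subgroup H} (h : Heis P Z A) (hPT : P ≤ T)
    (hP : Img φ P P') (hZ : Img φ Z Z') (hA : ∀ i, Img φ (A i) (A' i)) : Heis P' Z' A' := by
  have hAP : ∀ i, ∀ u ∈ A i, u ∈ P := fun i u hu => h.AP i hu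
  have hZP : ∀ u ∈ Z, u ∈ P := fun u hu => h.AP false (h.ZA false hu)
  have hAT : ∀ i, A i ≤ T := fun i u hu => hPT (h.AP i hu)
  have hZT : Z ≤ T := fun u hu => hPT (hZP u hu)
  have mP : ∀ {t : G}, t ∈ T → (φ t ∈ P' ↔ t ∈ P) := fun ht => I.mem_iff hP hPT ht
  have mZ : ∀ {t : G}, t ∈ T → (φ t ∈ Z' ↔ t ∈ Z) := fun ht => I.mem_iff hZ hZT ht
  have mA : ∀ i, ∀ {t : G}, t ∈ T → (φ t ∈ A' i ↔ t ∈ A i) := fun i _ ht => I.mem_iff (hA i) (hAT i) ht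
  refine
    { cardP := by rw [card_img I hP hPT, h.cardP]
      cardZ := by rw [card_img I hZ hZT, h.cardZ]
      cardA := fun i => by rw [card_img I (hA i) (hAT i), h.cardA]
      ZA := ?_, AP := ?_, Asq := ?_, Zcen := ?_, inv := ?_, inf := ?_, sup := ?_, com := ?_, sq := ?_
      surj := ?_, cen := ?_ }
  · intro i y hy
    obtain ⟨z, hz, rfl⟩ := (hZ y).1 hy
    exact (hA i).map (h.ZA i hz)
  · intro i y hy
    obtain ⟨z, hz, rfl⟩ := (hA i y).1 hy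
    exact hP.map (h.AP i hz)
  · intro i y hy
    obtain ⟨z, hz, rfl⟩ := (hA i y).1 hy
    exact (I.sq_iff (hAT i hz)).2 (h.Asq i z hz)
  · intro z hz p hp
    obtain ⟨z, hz', rfl⟩ := (hZ z).1 hz
    have hz := hz'
    obtain ⟨p, hp', rfl⟩ := (hP p).1 hp
    have hp := hp'
    exact (I.comm_iff (hPT hp) (hZT hz)).2 (h.Zcen z hz p hp)
  · intro p hp hpp
    obtain ⟨p, hp', rfl⟩ := (hP p).1 hp
    have hp := hp'
    obtain ⟨i, hi⟩ := h.inv p hp ((I.sq_iff (hPT hp)).1 hpp)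
    exact ⟨i, (hA i).map hi⟩
  · intro p h0 h1
    obtain ⟨p, hp, rfl⟩ := (hA false p).1 h0
    exact hZ.map (h.inf p hp ((mA true (hAT _ hp)).1 h1))
  · intro p hp
    obtain ⟨p, hp', rfl⟩ := (hP p).1 hp
    have hp := hp'
    obtain ⟨u, hu, v, hv, rfl⟩ := h.sup p hp
    exact ⟨φ u, (hA _).map hu, φ v, (hA _).map hv, I.mul _ (hAT _ hu) _ (hAT _ hv)⟩
  · intro p hp r hr
    obtain ⟨p, hp', rfl⟩ := (hP p).1 hp
    have hp := hp'
    obtain ⟨r, hr', rfl⟩ := (hP r).1 hr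
    have hr := hr'
    rw [← I.comm (hPT hp) (hPT hr)]
    exact hZ.map (h.com p hp r hr)
  · intro p hp
    obtain ⟨p, hp', rfl⟩ := (hP p).1 hp
    have hp := hp'
    rw [← I.mul _ (hPT hp) _ (hPT hp)]
    exact hZ.map (h.sq p hp)
  · intro p hp hpZ z hz
    obtain ⟨p, hp', rfl⟩ := (hP p).1 hp
    have hp := hp'
    obtain ⟨z, hz', rfl⟩ := (hZ z).1 hz
    have hz := hz'
    obtain ⟨r, hr, h1⟩ := h.surj p hp (fun h2 => hpZ (hZ.map h2)) z hz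
    exact ⟨φ r, hP.map hr, by rw [← I.comm (hPT hp) (hPT hr), h1]⟩
  · intro i u hu huZ p hp hpu
    obtain ⟨u, hu', rfl⟩ := (hA i u).1 hu
    have hu := hu'
    obtain ⟨p, hp', rfl⟩ := (hP p).1 hp
    have hp := hp'
    exact (hA i).map (h.cen i u hu (fun h2 => huZ (hZ.map h2)) p hp
      ((I.comm_iff (hPT hp) (hAT i hu)).1 hpu))

theorem Fr.transfer {φ : G → H} {T : Subgroup G} {T' : Subgroup H} (I : IsoOn φ T T') {P Q Z : Subgroup G}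
    {P' Q' Z' : Subgroup H} {A : Bool → Subgroup G} {A' : Bool → Subgroup H} {b : G}
    (h : Fr T P Q Z A b) (hT' : IsPGroup 2 T') (hP : Img φ P P') (hQ : Img φ Q Q') (hZ : Img φ Z Z')
    (hA : ∀ i, Img φ (A i) (A' i)) : Fr T' P' Q' Z' A' (φ b) := by
  have hPT := h.PT
  have hQT := h.QT
  have hZP : ∀ u ∈ Z, u ∈ P := fun u hu => h.AP false (h.ZA false hu)
  have hAT : ∀ i, A i ≤ T := fun i u hu => hPT (h.AP i hu)
  have hZT : Z ≤ T := fun u hu => hPT (hZP u hu)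
  have hbT : b ∈ T := hZT h.bZ
  have mP : ∀ {t : G}, t ∈ T → (φ t ∈ P' ↔ t ∈ P) := fun ht => I.mem_iff hP hPT ht
  have mQ : ∀ {t : G}, t ∈ T → (φ t ∈ Q' ↔ t ∈ Q) := fun ht => I.mem_iff hQ hQT ht
  have mZ : ∀ {t : G}, t ∈ T → (φ t ∈ Z' ↔ t ∈ Z) := fun ht => I.mem_iff hZ hZT ht
  have mA : ∀ i, ∀ {t : G}, t ∈ T → (φ t ∈ A' i ↔ t ∈ A i) := fun i _ ht => I.mem_iff (hA i) (hAT i) ht
  -- recurring conditions
  have cZ : ∀ {y : G}, y ∈ T → (∀ z ∈ Z', φ y * z = z * φ y) → ∀ z ∈ Z, y * z = z * y :=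
    fun hy h1 z hz => (I.comm_iff hy (hZT hz)).1 (h1 _ (hZ.map hz))
  have cZ' : ∀ {y : G}, y ∈ T → (∀ z ∈ Z, y * z = z * y) → ∀ z ∈ Z', φ y * z = z * φ y := by
    intro y hy h1 z hz
    obtain ⟨z, hz', rfl⟩ := (hZ z).1 hz
    have hz := hz'
    exact (I.comm_iff hy (hZT hz)).2 (h1 z hz)
  have cA : ∀ {y : G}, y ∈ T → (∀ i, ∀ u ∈ A' i, φ y * u * (φ y)⁻¹ ∈ A' i) →
      ∀ i, ∀ u ∈ A i, y * u * y⁻¹ ∈ A i := by
    intro y hy h1 i u hu
    have h2 := h1 i _ ((hA i).map hu)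
    rw [← I.conj hy (hAT i hu)] at h2
    exact (mA i (T.mul_mem (T.mul_mem hy (hAT i hu)) (T.inv_mem hy))).1 h2
  have cA' : ∀ {y : G}, y ∈ T → (∀ i, ∀ u ∈ A' i, φ y * u * (φ y)⁻¹ ∈ A' (!i)) →
      ∀ i, ∀ u ∈ A i, y * u * y⁻¹ ∈ A (!i) := by
    intro y hy h1 i u hu
    have h2 := h1 i _ ((hA i).map hu)
    rw [← I.conj hy (hAT i hu)] at h2
    exact (mA _ (T.mul_mem (T.mul_mem hy (hAT i hu)) (T.inv_mem hy))).1 h2
  have cI : ∀ {y : G}, y ∈ T → (∃ p ∈ P, ∃ q ∈ Q, y = p * q) → ∃ p ∈ P', ∃ q ∈ Q', φ y = p * q := by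
    rintro y hy ⟨p, hp, q, hq, rfl⟩
    exact ⟨_, hP.map hp, _, hQ.map hq, I.mul _ (hPT hp) _ (hQT hq)⟩
  have sQ : ∀ {y : G}, y ∈ T → φ y * φ y ∈ Q' → y * y ∈ Q := by
    intro y hy h1
    rw [← I.mul _ hy _ hy] at h1
    exact (mQ (T.mul_mem hy hy)).1 h1
  have sQ' : ∀ {y : G}, y ∈ T → y * y ∈ Q → φ y * φ y ∈ Q' := by
    intro y hy h1
    rw [← I.mul _ hy _ hy]
    exact hQ.map h1
  refine
    { toHeis := h.toHeis.transfer I hPT hP hZ hA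
      two := hT'
      PT := ?_, QT := ?_, nP := ?_, nQ := ?_, disj := ?_, comm := ?_, bZ := hZ.map h.bZ
      b1 := fun h1 => h.b1 ((I.one_iff hbT).1 h1)
      bT := ?_, cenP := ?_, actA := ?_, actZ := ?_, inner := ?_, outer := ?_, inv2 := ?_, conj := ?_
      card8 := ?_, der := ?_, xQ8 := ?_, fD8 := ?_, gZ := ?_, comx := ?_ }
  · intro y hy
    obtain ⟨p, hp, rfl⟩ := (hP y).1 hy
    exact (I.mem _).2 ⟨p, hPT hp, rfl⟩
  · intro y hy
    obtain ⟨p, hp, rfl⟩ := (hQ y).1 hy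
    exact (I.mem _).2 ⟨p, hQT hp, rfl⟩
  · intro y hy p hp
    obtain ⟨y, hy', rfl⟩ := (I.mem y).1 hy
    have hy := hy'
    obtain ⟨p, hp', rfl⟩ := (hP p).1 hp
    have hp := hp'
    rw [← I.conj hy (hPT hp)]
    exact hP.map (h.nP y hy p hp)
  · intro y hy p hp
    obtain ⟨y, hy', rfl⟩ := (I.mem y).1 hy
    have hy := hy'
    obtain ⟨p, hp', rfl⟩ := (hQ p).1 hp
    have hp := hp'
    rw [← I.conj hy (hQT hp)]
    exact hQ.map (h.nQ y hy p hp)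
  · intro g hg hg'
    obtain ⟨p, hp, rfl⟩ := (hP g).1 hg
    exact (I.one_iff (hPT hp)).2 (h.disj p hp ((mQ (hPT hp)).1 hg'))
  · intro p hp q hq
    obtain ⟨p, hp', rfl⟩ := (hP p).1 hp
    have hp := hp'
    obtain ⟨q, hq', rfl⟩ := (hQ q).1 hq
    have hq := hq'
    exact (I.comm_iff (hPT hp) (hQT hq)).2 (h.comm p hp q hq)
  · intro y hy
    obtain ⟨y, hy', rfl⟩ := (I.mem y).1 hy
    have hy := hy'
    exact (I.comm_iff hy hbT).2 (h.bT y hy)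
  · intro y hy h1
    obtain ⟨y, hy', rfl⟩ := (I.mem y).1 hy
    have hy := hy'
    obtain ⟨z, hz, q, hq, rfl⟩ := h.cenP y hy (fun p hp => (I.comm_iff hy (hPT hp)).1 (h1 _ (hP.map hp)))
    exact ⟨_, hZ.map hz, _, hQ.map hq, I.mul _ (hZT hz) _ (hQT hq)⟩
  · intro y hy
    obtain ⟨y, hy', rfl⟩ := (I.mem y).1 hy
    have hy := hy'
    rcases h.actA y hy with h1 | h1
    · left
      intro i u hu
      obtain ⟨u, hu', rfl⟩ := (hA i u).1 hu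
      have hu := hu'
      rw [← I.conj hy (hAT i hu)]
      exact (hA i).map (h1 i u hu)
    · right
      intro i u hu
      obtain ⟨u, hu', rfl⟩ := (hA i u).1 hu
      have hu := hu'
      rw [← I.conj hy (hAT i hu)]
      exact (hA _).map (h1 i u hu)
  · intro y hy
    obtain ⟨y, hy', rfl⟩ := (I.mem y).1 hy
    have hy := hy'
    rcases h.actZ y hy with h1 | h1
    · exact Or.inl (cZ' hy h1)
    · right
      intro z hz h2
      obtain ⟨z, hz', rfl⟩ := (hZ z).1 hz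
      have hz := hz'
      rcases h1 z hz ((I.comm_iff hy (hZT hz)).1 h2) with h3 | h3
      · left; rw [h3, I.one]
      · right; rw [h3]
  · intro y hy h1 h2
    obtain ⟨y, hy', rfl⟩ := (I.mem y).1 hy
    have hy := hy'
    exact cI hy (h.inner y hy (cA hy h1) (cZ hy h2))
  · intro y hy h1
    obtain ⟨y, hy', rfl⟩ := (I.mem y).1 hy
    have hy := hy'
    apply cI hy
    apply h.outer y hy
    intro p hp
    have h2 := h1 _ (hP.map hp)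
    rw [← I.comm hy (hPT hp)] at h2
    exact (mZ (T.mul_mem (T.mul_mem (T.mul_mem hy (hPT hp)) (T.inv_mem hy)) (T.inv_mem (hPT hp)))).1 h2
  · intro y hy h1
    obtain ⟨y, hy', rfl⟩ := (I.mem y).1 hy
    have hy := hy'
    obtain ⟨p, hp, h2⟩ := h.inv2 y hy (fun h3 => h1 (cI hy h3))
    refine ⟨φ p, hP.map hp, ?_⟩
    rw [← I.mul _ hy _ (hPT hp)]
    exact sQ' (T.mul_mem hy (hPT hp)) h2
  · intro y hy h1 h2 p hp h3
    obtain ⟨y, hy', rfl⟩ := (I.mem y).1 hy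
    have hy := hy'
    obtain ⟨p, hp', rfl⟩ := (hP p).1 hp
    have hp := hp'
    have hpT := hPT hp
    have h4 : y⁻¹ * p * y * p = 1 := by
      rw [← I.one_iff (T.mul_mem (T.mul_mem (T.mul_mem (T.inv_mem hy) hpT) hy) hpT),
        I.mul _ (T.mul_mem (T.mul_mem (T.inv_mem hy) hpT) hy) _ hpT,
        I.mul _ (T.mul_mem (T.inv_mem hy) hpT) _ hy, I.mul _ (T.inv_mem hy) _ hpT, I.inv hy]
      exact h3
    obtain ⟨r, hr, h5⟩ := h.conj y hy (fun h6 => h1 (cI hy h6)) (sQ hy h2) p hp h4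
    exact ⟨φ r, hP.map hr, by rw [← I.conj (hPT hr) hy, h5, I.mul _ hy _ hpT]⟩
  · intro y hy h1 h2
    obtain ⟨y, hy', rfl⟩ := (I.mem y).1 hy
    have hy := hy'
    rw [← h.card8 y hy (sQ hy h1) (fun h3 => h2 (cZ' hy h3))]
    refine (Nat.card_congr (Equiv.ofBijective (fun p : {p : G // p ∈ P ∧ y * p = p * y} =>
      (⟨φ p, hP.map p.2.1, (I.comm_iff hy (hPT p.2.1)).2 p.2.2⟩ :
        {p : H // p ∈ P' ∧ φ y * p = p * φ y})) ⟨?_, ?_⟩)).symm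
    · intro p q hpq
      exact Subtype.ext (I.inj _ (hPT p.2.1) _ (hPT q.2.1) (congrArg Subtype.val hpq))
    · rintro ⟨p, hp, hpy⟩
      obtain ⟨p, hp', rfl⟩ := (hP p).1 hp
      have hp := hp'
      exact ⟨⟨p, hp, (I.comm_iff hy (hPT hp)).1 hpy⟩, rfl⟩
  · intro y hy h1 h2
    obtain ⟨y, hy', rfl⟩ := (I.mem y).1 hy
    have hy := hy'
    obtain ⟨c, hc, d, hd, h3, h4, h5⟩ := h.der y hy (sQ hy h1) (fun h3 => h2 (cZ' hy h3))
    exact ⟨φ c, hP.map hc, φ d, hP.map hd, (I.comm_iff hy (hPT hc)).2 h3, (I.comm_iff hy (hPT hd)).2 h4,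
      by rw [← I.comm (hPT hc) (hPT hd), h5]⟩
  · intro y hy h1 h2 h3 p hp h4 h5
    obtain ⟨y, hy', rfl⟩ := (I.mem y).1 hy
    have hy := hy'
    obtain ⟨p, hp', rfl⟩ := (hP p).1 hp
    have hp := hp'
    rcases h.xQ8 y hy (sQ hy h1) (fun h6 => h2 (cZ' hy h6)) (cA' hy h3) p hp
      ((I.comm_iff hy (hPT hp)).1 h4) ((I.sq_iff (hPT hp)).1 h5) with h7 | h7
    · left; rw [h7, I.one]
    · right; rw [h7]
  · intro y hy h1 h2 h3
    obtain ⟨y, hy', rfl⟩ := (I.mem y).1 hy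
    have hy := hy'
    obtain ⟨p, hp, h4, h5, h6, h7⟩ := h.fD8 y hy (sQ hy h1) (fun h6 => h2 (cZ' hy h6)) (cA hy h3)
    exact ⟨φ p, hP.map hp, (I.comm_iff hy (hPT hp)).2 h4, (I.sq_iff (hPT hp)).2 h5,
      fun h8 => h6 ((I.one_iff (hPT hp)).1 h8), fun h8 => h7 (I.inj _ (hPT hp) _ hbT h8)⟩
  · intro y hy h1 h2 h3 p hp h4
    obtain ⟨y, hy', rfl⟩ := (I.mem y).1 hy
    have hy := hy'
    obtain ⟨p, hp', rfl⟩ := (hP p).1 hp
    have hp := hp'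
    exact hZ.map (h.gZ y hy (fun h6 => h1 (cI hy h6)) (cZ hy h2) (sQ hy h3) p hp
      ((I.comm_iff hy (hPT hp)).1 h4))
  · intro w hw h1 h2 h3 y hy h4
    obtain ⟨w, hw', rfl⟩ := (I.mem w).1 hw
    have hw := hw'
    obtain ⟨y, hy', rfl⟩ := (I.mem y).1 hy
    have hy := hy'
    obtain ⟨p, hp, h5, h6⟩ := h.comx w hw (sQ hw h1) (fun h6 => h2 (cZ' hw h6)) (cA' hw h3) y hy
      (fun h6 => h4 (cI hy h6))
    have hyp := T.mul_mem hy (hPT hp)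
    refine ⟨φ p, hP.map hp, ?_, ?_⟩
    · rw [← I.mul _ hy _ (hPT hp)]
      exact sQ' hyp h5
    · rw [← I.mul _ hy _ (hPT hp), ← I.comm hyp hw]
      exact hQ.map h6

end Cfsg.Agent.UGT.L34T2
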