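import Cfsg.Agent.LThreeFour.Facts
import Cfsg.Agent.UGT.L34T2.Fr

/-!
# NodeL34, T2: `L₃(4) = ⟨N(A false), N(A true)⟩`

`gen_of_heis`: `D ≅ L₃(4)` (coordinates `Dat D`), `P ≤ D` the Heisenberg group of order 64, `A false`, `A true` its two
elementary abelian subgroups of order 16. A subgroup containing the normalizers of both is `D`.
-/

set_option autoImplicit false
set_option linter.constructorNameAsVariable false

open Subgroup

namespace Cfsg.Agent.UGT.L34T2.Gen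

open Cfsg.Agent.SporadicA.FieldFour
open Cfsg.Agent.LThreeFour

variable {D : Type*} [Group D] (A : Dat D)

/-- `g` normalises `V` (elementwise) -/
def Nm (V : Subgroup D) (g : D) : Prop := ∀ v, v ∈ V ↔ g * v * g⁻¹ ∈ V

/-- the elements of the Sylow 2-subgroup with `a = 0`, resp. `b = 0` -/
def AA (i : Bool) : Subgroup D where
  carrier := {l | ∃ p : Code, A.el p = l ∧ (cond i p.b p.a) = 0}
  mul_mem' := by
    rintro _ _ ⟨p, rfl, hp⟩ ⟨q, rfl, hq⟩
    refine ⟨cmul p q, (A.el_mul p q).symm, ?_⟩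
    cases i
    · simp only [cond_false] at hp hq ⊢
      show p.a + q.a = 0
      rw [hp, hq, add_zero]
    · simp only [cond_true] at hp hq ⊢
      show p.b + q.b = 0
      rw [hp, hq, add_zero]
  one_mem' := ⟨cone, A.el_one, by cases i <;> rfl⟩
  inv_mem' := by
    rintro _ ⟨p, rfl, hp⟩
    refine ⟨cinv p, (A.el_inv p).symm, ?_⟩
    cases i
    · exact hp
    · exact hp

theorem mem_AA {i : Bool} {l : D} : l ∈ AA A i ↔ ∃ p : Code, A.el p = l ∧ (cond i p.b p.a) = 0 := Iff.rfl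

theorem AA_le (i : Bool) : AA A i ≤ A.T := by
  rintro _ ⟨p, rfl, -⟩
  exact A.el_mem p

theorem el_AA_false (b c : F4) : A.x 1 2 b * A.x 0 2 c ∈ AA A false :=
  ⟨⟨0, b, c⟩, by rw [A.el_eq, A.x_zero 0 1 (by decide), one_mul], rfl⟩

theorem el_AA_true (a c : F4) : A.x 0 1 a * A.x 0 2 c ∈ AA A true :=
  ⟨⟨a, 0, c⟩, by rw [A.el_eq, A.x_zero 1 2 (by decide), mul_one], rfl⟩

theorem AA_false_form {l : D} (h : l ∈ AA A false) : ∃ b c, l = A.x 1 2 b * A.x 0 2 c := by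
  obtain ⟨p, rfl, hp⟩ := h
  refine ⟨p.b, p.c, ?_⟩
  simp only [cond_false] at hp
  rw [A.el_eq, hp, A.x_zero 0 1 (by decide), one_mul]

theorem AA_true_form {l : D} (h : l ∈ AA A true) : ∃ a c, l = A.x 0 1 a * A.x 0 2 c := by
  obtain ⟨p, rfl, hp⟩ := h
  refine ⟨p.a, p.c, ?_⟩
  simp only [cond_true] at hp
  rw [A.el_eq, hp, A.x_zero 1 2 (by decide), mul_one]

/-- an involution normalising in one direction normalises -/
theorem nm_of_sq {V : Subgroup D} {g : D} (hg : g * g = 1) (h : ∀ v ∈ V, g * v * g⁻¹ ∈ V) : Nm V g := by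
  intro v
  refine ⟨h v, fun hv => ?_⟩
  have h1 := h _ hv
  have h2 : g * (g * v * g⁻¹) * g⁻¹ = (g * g) * v * (g * g)⁻¹ := by group
  rw [h2, hg, one_mul, inv_one, mul_one] at h1
  exact h1

theorem nm_10 (u : F4) : Nm (AA A false) (A.x 1 0 u) := by
  apply nm_of_sq (A.x_sq 1 0 (by decide) u)
  intro v hv
  obtain ⟨b, c, rfl⟩ := AA_false_form A hv
  have e1 : A.x 1 0 u * A.x 1 2 b = A.x 1 2 b * A.x 1 0 u := A.x_row 1 0 2 (by decide) (by decide) u b
  have e2 : A.x 1 0 u * A.x 0 2 c = A.x 0 2 c * A.x 1 0 u * A.x 1 2 (u * c) :=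
    A.x_sum 1 2 0 (by decide) (by decide) (by decide) u c
  have e3 : A.x 1 0 u * A.x 1 2 (u * c) = A.x 1 2 (u * c) * A.x 1 0 u :=
    A.x_row 1 0 2 (by decide) (by decide) u (u * c)
  have e4 : A.x 1 0 u * (A.x 1 2 b * A.x 0 2 c) * (A.x 1 0 u)⁻¹ =
      A.x 1 2 b * (A.x 0 2 c * A.x 1 2 (u * c)) := by
    calc A.x 1 0 u * (A.x 1 2 b * A.x 0 2 c) * (A.x 1 0 u)⁻¹
        = (A.x 1 0 u * A.x 1 2 b) * A.x 0 2 c * (A.x 1 0 u)⁻¹ := by group
      _ = A.x 1 2 b * (A.x 1 0 u * A.x 0 2 c) * (A.x 1 0 u)⁻¹ := by rw [e1]; group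
      _ = A.x 1 2 b * (A.x 0 2 c * (A.x 1 0 u * A.x 1 2 (u * c))) * (A.x 1 0 u)⁻¹ := by
          rw [e2]; group
      _ = _ := by rw [e3]; group
  rw [e4]
  have m1 : A.x 0 2 c ∈ AA A false := by
    have := el_AA_false A 0 c
    rwa [A.x_zero 1 2 (by decide), one_mul] at this
  have m2 : ∀ b, A.x 1 2 b ∈ AA A false := by
    intro b
    have := el_AA_false A b 0
    rwa [A.x_zero 0 2 (by decide), mul_one] at this
  exact mul_mem (m2 _) (mul_mem m1 (m2 _))

theorem nm_21 (u : F4) : Nm (AA A true) (A.x 2 1 u) := by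
  apply nm_of_sq (A.x_sq 2 1 (by decide) u)
  intro v hv
  obtain ⟨b, c, rfl⟩ := AA_true_form A hv
  have e1 : A.x 2 1 u * A.x 0 1 b = A.x 0 1 b * A.x 2 1 u := A.x_col 2 1 0 (by decide) (by decide) u b
  have e2 : A.x 0 2 c * A.x 2 1 u = A.x 2 1 u * A.x 0 2 c * A.x 0 1 (c * u) :=
    A.x_sum 0 1 2 (by decide) (by decide) (by decide) c u
  have e4 : A.x 2 1 u * (A.x 0 1 b * A.x 0 2 c) * (A.x 2 1 u)⁻¹ =
      A.x 0 1 b * (A.x 0 2 c * (A.x 0 1 (c * u))⁻¹) := by
    have e5 : A.x 2 1 u * A.x 0 2 c = A.x 0 2 c * A.x 2 1 u * (A.x 0 1 (c * u))⁻¹ := by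
      rw [e2]; group
    have e6 : (A.x 0 1 (c * u))⁻¹ * (A.x 2 1 u)⁻¹ = (A.x 2 1 u)⁻¹ * (A.x 0 1 (c * u))⁻¹ := by
      rw [← mul_inv_rev, ← mul_inv_rev, A.x_col 2 1 0 (by decide) (by decide) u (c * u)]
    calc A.x 2 1 u * (A.x 0 1 b * A.x 0 2 c) * (A.x 2 1 u)⁻¹
        = (A.x 2 1 u * A.x 0 1 b) * A.x 0 2 c * (A.x 2 1 u)⁻¹ := by group
      _ = A.x 0 1 b * (A.x 2 1 u * A.x 0 2 c) * (A.x 2 1 u)⁻¹ := by rw [e1]; group
      _ = A.x 0 1 b * A.x 0 2 c * A.x 2 1 u * ((A.x 0 1 (c * u))⁻¹ * (A.x 2 1 u)⁻¹) := by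
          rw [e5]; group
      _ = _ := by rw [e6]; group
  rw [e4]
  have m1 : A.x 0 2 c ∈ AA A true := by
    have := el_AA_true A 0 c
    rwa [A.x_zero 0 1 (by decide), one_mul] at this
  have m2 : ∀ b, A.x 0 1 b ∈ AA A true := by
    intro b
    have := el_AA_true A b 0
    rwa [A.x_zero 0 2 (by decide), mul_one] at this
  exact mul_mem (m2 _) (mul_mem m1 (inv_mem (m2 _)))

/-- `A.T` normalises `AA i` -/
theorem nm_T (i : Bool) (p : Code) : Nm (AA A i) (A.el p) := by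
  have key : ∀ p : Code, ∀ v ∈ AA A i, A.el p * v * (A.el p)⁻¹ ∈ AA A i := by
    rintro p _ ⟨q, rfl, hq⟩
    refine ⟨cmul (cmul p q) (cinv p), ?_, ?_⟩
    · rw [← A.el_mul, ← A.el_mul, A.el_inv]
    · cases i
      · simp only [cond_false] at hq ⊢
        show p.a + q.a + p.a = 0
        rw [hq, add_zero, Dat.add_self]
      · simp only [cond_true] at hq ⊢
        show p.b + q.b + p.b = 0
        rw [hq, add_zero, Dat.add_self]
  intro v
  refine ⟨key p v, fun hv => ?_⟩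
  have h1 := key (cinv p) _ hv
  rw [← A.el_inv, inv_inv] at h1
  have h2 : (A.el p)⁻¹ * (A.el p * v * (A.el p)⁻¹) * A.el p = v := by group
  rwa [h2] at h1

/-- **the standard position** -/
theorem gen_std {K : Subgroup D} (h : ∀ i, ∀ g, Nm (AA A i) g → g ∈ K) : K = ⊤ := by
  have h01 : ∀ u, A.x 0 1 u ∈ K := fun u => h true _ (A.el_x01 u ▸ nm_T A true _)
  have h12 : ∀ u, A.x 1 2 u ∈ K := fun u => h true _ (A.el_x12 u ▸ nm_T A true _)
  have h02 : ∀ u, A.x 0 2 u ∈ K := fun u => h true _ (A.el_x02 u ▸ nm_T A true _)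
  have h10 : ∀ u, A.x 1 0 u ∈ K := fun u => h false _ (nm_10 A u)
  have h21 : ∀ u, A.x 2 1 u ∈ K := fun u => h true _ (nm_21 A u)
  have h20 : ∀ u, A.x 2 0 u ∈ K := by
    intro u
    have e := A.x_sum 2 0 1 (by decide) (by decide) (by decide) u 1
    rw [mul_one] at e
    have e2 : A.x 2 0 u = (A.x 1 0 1 * A.x 2 1 u)⁻¹ * (A.x 2 1 u * A.x 1 0 1) := by rw [e]; group
    rw [e2]
    exact K.mul_mem (K.inv_mem (K.mul_mem (h10 _) (h21 _))) (K.mul_mem (h21 _) (h10 _))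
  rw [eq_top_iff, ← A.gen, closure_le]
  rintro _ ⟨i, j, u, hij, rfl⟩
  fin_cases i <;> fin_cases j
  · exact absurd rfl hij
  · exact h01 u
  · exact h02 u
  · exact h10 u
  · exact absurd rfl hij
  · exact h12 u
  · exact h20 u
  · exact h21 u
  · exact absurd rfl hij

/-- a subgroup of `A.T` with all squares trivial is in `AA false` or `AA true` -/
theorem le_AA {V : Subgroup D} (hV : V ≤ A.T) (h2 : ∀ v ∈ V, v * v = 1) : ∃ i, V ≤ AA A i := by
  have key : ∀ v ∈ V, v ∈ AA A false ∨ v ∈ AA A true := by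
    intro v hv
    obtain ⟨p, rfl⟩ := hV hv
    have h3 := h2 _ hv
    rw [A.el_mul, A.el_eq_one] at h3
    have h4 := congrArg Code.c h3
    have h5 : ∀ a b c : F4, a * b + c + c = 0 → a = 0 ∨ b = 0 := by decide
    rcases h5 _ _ _ h4 with h6 | h6
    · exact Or.inl ⟨p, rfl, h6⟩
    · exact Or.inr ⟨p, rfl, h6⟩
  by_contra hcon
  push Not at hcon
  obtain ⟨u, hu, hu1⟩ := SetLike.not_le_iff_exists.1 (hcon false)
  obtain ⟨v, hv, hv1⟩ := SetLike.not_le_iff_exists.1 (hcon true)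
  have hu2 : u ∈ AA A true := (key u hu).resolve_left hu1
  have hv2 : v ∈ AA A false := (key v hv).resolve_right hv1
  rcases key _ (V.mul_mem hu hv) with h | h
  · exact hu1 (((AA A false).mul_mem_cancel_right hv2).1 h)
  · exact hv1 (((AA A true).mul_mem_cancel_left hu2).1 h)

theorem card_AA (i : Bool) : Nat.card (AA A i) = 16 := by
  let S : Finset Code := Finset.univ.filter (fun p => cond i p.b p.a = 0)
  have hS : S.card = 16 := by
    cases i
    · decide +kernel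
    · decide +kernel
  let e : S ≃ AA A i := Equiv.ofBijective
    (fun p => ⟨A.el p.1, p.1, rfl, (Finset.mem_filter.1 p.2).2⟩)
    ⟨fun p q h => Subtype.ext (A.inj (congrArg Subtype.val h)), fun ⟨_, p, hp, h0⟩ =>
      ⟨⟨p, Finset.mem_filter.2 ⟨Finset.mem_univ _, h0⟩⟩, Subtype.ext hp⟩⟩
  rw [← Nat.card_congr e, Nat.card_eq_fintype_card, Fintype.card_coe, hS]

/-- **`D = ⟨N(A false), N(A true)⟩`** -/
theorem gen_of_heis (A : Dat D) {P Z : Subgroup D} {B : Bool → Subgroup D} (h : Heis P Z B) {K : Subgroup D}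
    (hK : ∀ i, ∀ g, Nm (B i) g → g ∈ K) : K = ⊤ := by
  have hp : Fact (Nat.Prime 2) := ⟨Nat.prime_two⟩
  have hfin : Finite D := Nat.finite_of_card_ne_zero (by rw [A.card]; norm_num)
  -- conjugate `P` to `A.T`
  have hP2 : IsPGroup 2 P := IsPGroup.of_card (n := 6) (by rw [h.cardP]; norm_num)
  have hT2 : IsPGroup 2 A.T := IsPGroup.of_card (n := 6) (by rw [A.card_T]; norm_num)
  obtain ⟨S0, hS0⟩ := hP2.exists_le_sylow
  let S1 : Sylow 2 D := hT2.toSylow A.T_index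
  obtain ⟨g, hg⟩ := MulAction.exists_smul_eq D S0 S1
  have hgT : ∀ p ∈ P, g * p * g⁻¹ ∈ A.T := by
    intro p hpP
    have h1 : g * p * g⁻¹ ∈ (S1 : Subgroup D) := by
      rw [← hg]
      exact ⟨p, hS0 hpP, rfl⟩
    exact h1
  let c : D ≃* D := MulAut.conj g
  have hmap : ∀ i, ∃ j, (B i).map c.toMonoidHom = AA A j := by
    intro i
    have h1 : (B i).map c.toMonoidHom ≤ A.T := by
      rintro _ ⟨u, hu, rfl⟩
      exact hgT u (h.AP i hu)
    obtain ⟨j, hj⟩ := le_AA A h1 (by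
      rintro _ ⟨u, hu, rfl⟩
      rw [← map_mul, h.Asq i u hu, map_one])
    refine ⟨j, Subgroup.eq_of_le_of_card_ge hj ?_⟩
    rw [card_AA, card_map_of_injective c.injective, h.cardA]
  have hne : (B false).map c.toMonoidHom ≠ (B true).map c.toMonoidHom := by
    intro he
    have h1 : B false = B true := Subgroup.map_injective c.injective he
    have h2 : B false ≤ Z := fun u hu => h.inf u hu (h1 ▸ hu)
    have h3 := Subgroup.card_le_of_le h2
    rw [h.cardA, h.cardZ] at h3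
    omega
  -- every `AA j` is the image of some `B i`
  have hsurj : ∀ j, ∃ i, (B i).map c.toMonoidHom = AA A j := by
    obtain ⟨j0, h0⟩ := hmap false
    obtain ⟨j1, h1⟩ := hmap true
    intro j
    by_cases hj : j = j0
    · exact ⟨false, by rw [h0, hj]⟩
    · refine ⟨true, ?_⟩
      have h2 : j1 = j := by
        have h3 : j1 ≠ j0 := fun h4 => hne (by rw [h0, h1, h4])
        revert hj h3
        cases j <;> cases j0 <;> cases j1 <;> simp
      rw [h1, h2]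
  have hKc : K.map c.toMonoidHom = ⊤ := by
    apply gen_std A
    intro j y hy
    obtain ⟨i, hi⟩ := hsurj j
    refine ⟨c.symm y, hK i _ ?_, c.apply_symm_apply y⟩
    intro v
    have h1 := hy (c v)
    rw [← hi] at h1
    have h2 : ∀ w, c w ∈ (B i).map c.toMonoidHom ↔ w ∈ B i := by
      intro w
      exact Subgroup.mem_map_iff_mem c.injective
    rw [h2] at h1
    have h3 : y * c v * y⁻¹ = c (c.symm y * v * (c.symm y)⁻¹) := by
      rw [map_mul, map_mul, map_inv, c.apply_symm_apply]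
    rw [h3, h2] at h1
    exact h1
  rw [eq_top_iff]
  intro y _
  have h1 : c y ∈ K.map c.toMonoidHom := by rw [hKc]; exact mem_top _
  exact (Subgroup.mem_map_iff_mem c.injective).1 h1

end Cfsg.Agent.UGT.L34T2.Gen
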