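import Cfsg.Agent.UGT.L34T2.BigZeta
import Cfsg.Agent.UGT.TriBase
import Cfsg.Agent.UGT.Iface
import Cfsg.Agent.LThreeFour.Exists
import Cfsg.Agent.TwoFusion.CentResidualBasic
import Cfsg.Agent.S0249

/-!
# Type `L₃(4)`, `T < S`, case BIG: supply of `Inn`, `Fix` (GLUE of UGT #14882)

* `LC e M`: `M` is a 2-component of `C(e)` of type `L₃(4)`.
* `Inn e`, `Fix e`: elements of `C(e)` inducing inner automorphisms resp. trivial on `M / O(M)` for all `M` with `LC e M`.
* `CT T P Q K L a`: `L` is the only `M` with `LC a M`, `T ∈ Syl₂(C(a))`, `P = T ∩ L`, `Q = C_T(L / O(L))`, `K ≤ L`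
  perfect, `L = K O(L)`.
* `CT.InnQ`, `CT.FixQ`: the fields of `DblX`.
-/

set_option autoImplicit false

open Cfsg Subgroup
open Cfsg.Agent.SignalizersComponents Cfsg.Agent.Lib
open Cfsg.Agent.SignalizersComponents.IntrinsicBasic
open Cfsg.Agent.SignalizersComponents.IntrinsicIntr
open Cfsg.Agent.SignalizersComponents.PLayerAut
open Cfsg.Agent.Intrinsic.Basic Cfsg.Agent.Intrinsic.Cen Cfsg.Agent.Intrinsic.Diag
open Cfsg.Agent.McLLyComp.Act
open Cfsg.Agent.UGT.Triple Cfsg.Agent.UGT.TriBase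
open Cfsg.Agent.UGT.Iface (Bar IsL34)
open Cfsg.Agent.TwoFusion
open scoped commutatorElement

namespace Cfsg.Agent.UGT.L34T2.IF

universe u

/-! ### facts on `L₃(4)` -/

theorem card_l34 {D : Type*} [Group D] (h : IsL34 D) : Nat.card D = 20160 := by
  obtain ⟨F, i, j, hF, ⟨e⟩⟩ := h
  obtain ⟨A⟩ := LThreeFour.exists_dat hF e
  exact A.card

theorem center_l34 {D : Type*} [Group D] (h : IsL34 D) {z : D} (hz : ∀ d, z * d = d * z) : z = 1 := by
  have hc := card_l34 h
  obtain ⟨F, i, j, hF, ⟨e⟩⟩ := h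
  have hs : IsSimpleGroup (Matrix.ProjectiveSpecialLinearGroup (Fin 3) F) := S0249.result 3 le_rfl
  have hs' : IsSimpleGroup D := e.isSimpleGroup
  have hn : (center D).Normal := inferInstance
  have hzc : z ∈ center D := mem_center_iff.mpr fun d => (hz d).symm
  rcases hn.eq_bot_or_eq_top with h1 | h1
  · rwa [h1, mem_bot] at hzc
  · exfalso
    have hcomm : ∀ x y : D, x * y = y * x := by
      intro x y
      have : y ∈ center D := by rw [h1]; trivial
      exact mem_center_iff.mp this x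
    let : CommGroup D := { (inferInstance : Group D) with mul_comm := hcomm }
    have : Finite D := Nat.finite_of_card_ne_zero (by rw [hc]; norm_num)
    have hp : (Nat.card D).Prime := IsSimpleGroup.prime_card
    rw [hc] at hp
    exact absurd hp (by norm_num)

theorem isL34_congr {A B : Type*} [Group A] [Group B] (e : A ≃* B) (h : IsL34 A) : IsL34 B := by
  obtain ⟨F, i, j, hF, ⟨f⟩⟩ := h
  exact ⟨F, i, j, hF, ⟨e.symm.trans f⟩⟩

section

variable {G : Type u} [Group G]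

/-- `M` is a 2-component of `C(e)` of type `L₃(4)`. -/
def LC (e : G) (M : Subgroup G) : Prop := IsComp (centralizer ({e} : Set G)) M ∧ IsL34 (Bar M)

theorem LC.conj [Finite G] {e : G} {M : Subgroup G} (h : LC e M) (g : G) : LC (g * e * g⁻¹) (cj g M) := by
  refine ⟨?_, isL34_congr (cjQuot g M) h.2⟩
  have h1 := h.1.cj g
  rwa [cj_centralizer] at h1

/-- the elements of `C(e)` which induce inner automorphisms on all `L₃(4)`-components of `C(e)` -/
def Inn (e : G) : Subgroup G where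
  carrier := {y | y * e = e * y ∧ ∀ M, LC e M → ∃ r ∈ M, Fixes (y * r⁻¹) M}
  one_mem' := ⟨by simp, fun M _ => ⟨1, M.one_mem, by rw [inv_one, mul_one]; exact fixes_one M⟩⟩
  mul_mem' := by
    rintro y y' ⟨h1, h2⟩ ⟨h1', h2'⟩
    refine ⟨by rw [mul_assoc, h1', ← mul_assoc, h1, mul_assoc], fun M hM => ?_⟩
    obtain ⟨r, hr, hf⟩ := h2 M hM
    obtain ⟨r', hr', hf'⟩ := h2' M hM
    refine ⟨r * r', M.mul_mem hr hr', ?_⟩
    have hy : y ∈ normalizer (M : Set G) := by
      have := mul_mem hf.1 (le_normalizer hr)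
      rwa [inv_mul_cancel_right] at this
    have h3 : y * y' * (r * r')⁻¹ = (y * (y' * r'⁻¹) * y⁻¹) * (y * r⁻¹) := by group
    rw [h3]
    exact fixes_mul (fixes_conj hf' hy) hf
  inv_mem' := by
    rintro y ⟨h1, h2⟩
    refine ⟨(show Commute y e from h1).inv_left.eq, fun M hM => ?_⟩
    obtain ⟨r, hr, hf⟩ := h2 M hM
    refine ⟨r⁻¹, M.inv_mem hr, ?_⟩
    have hy : y ∈ normalizer (M : Set G) := by
      have := mul_mem hf.1 (le_normalizer hr)
      rwa [inv_mul_cancel_right] at this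
    have h3 : y⁻¹ * r⁻¹⁻¹ = y⁻¹ * (y * r⁻¹)⁻¹ * y⁻¹⁻¹ := by group
    rw [h3]
    exact fixes_conj (fixes_inv hf) (inv_mem hy)

/-- the elements of `C(e)` which are trivial on all `L₃(4)`-components of `C(e)` -/
def Fix (e : G) : Subgroup G where
  carrier := {y | y * e = e * y ∧ ∀ M, LC e M → Fixes y M}
  one_mem' := ⟨by simp, fun M _ => fixes_one M⟩
  mul_mem' := by
    rintro y y' ⟨h1, h2⟩ ⟨h1', h2'⟩
    exact ⟨by rw [mul_assoc, h1', ← mul_assoc, h1, mul_assoc], fun M hM => fixes_mul (h2 M hM) (h2' M hM)⟩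
  inv_mem' := by
    rintro y ⟨h1, h2⟩
    exact ⟨(show Commute y e from h1).inv_left.eq,
      fun M hM => fixes_inv (h2 M hM)⟩

theorem mem_Inn {e y : G} : y ∈ Inn e ↔ y * e = e * y ∧ ∀ M, LC e M → ∃ r ∈ M, Fixes (y * r⁻¹) M := Iff.rfl

theorem mem_Fix {e y : G} : y ∈ Fix e ↔ y * e = e * y ∧ ∀ M, LC e M → Fixes y M := Iff.rfl

variable [Finite G]

theorem LC.conj' {g e : G} {M : Subgroup G} (h : LC (g * e * g⁻¹) M) : LC e (cj g⁻¹ M) := by
  have := h.conj g⁻¹
  have h1 : g⁻¹ * (g * e * g⁻¹) * g⁻¹⁻¹ = e := by group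
  rwa [h1] at this

theorem Innc (g e y : G) (hy : y ∈ Inn e) : g * y * g⁻¹ ∈ Inn (g * e * g⁻¹) := by
  obtain ⟨h1, h2⟩ := hy
  refine ⟨by rw [commute_iff_conj]; exact h1, fun M hM => ?_⟩
  obtain ⟨r, hr, hf⟩ := h2 _ hM.conj'
  have h3 := hf.cj g
  rw [show cj g (cj g⁻¹ M) = M by rw [← cj_mul, mul_inv_cancel, cj_one]] at h3
  refine ⟨g * r * g⁻¹, ?_, ?_⟩
  · rw [mem_cj, inv_inv] at hr
    exact hr
  · have h4 : g * y * g⁻¹ * (g * r * g⁻¹)⁻¹ = g * (y * r⁻¹) * g⁻¹ := by group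
    rw [h4]; exact h3

theorem Fixc (g e y : G) (hy : y ∈ Fix e) : g * y * g⁻¹ ∈ Fix (g * e * g⁻¹) := by
  obtain ⟨h1, h2⟩ := hy
  refine ⟨by rw [commute_iff_conj]; exact h1, fun M hM => ?_⟩
  have h3 := (h2 _ hM.conj').cj g
  rwa [show cj g (cj g⁻¹ M) = M by rw [← cj_mul, mul_inv_cancel, cj_one]] at h3

end

/-! ### the fields of `DblX` -/

section

variable {G : Type u} [Group G] [Finite G]

omit [Finite G] in
theorem card_eq_inf_mul_map' {X Y : Type*} [Group X] [Group Y] [Finite X] (ψ : X →* Y) (V : Subgroup X) :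
    Nat.card V = Nat.card (V ⊓ ψ.ker : Subgroup X) * Nat.card (V.map ψ) := by
  have h1 := (Subgroup.card_eq_card_quotient_mul_card_subgroup (ψ.comp V.subtype).ker)
  have h2 : Nat.card (V ⧸ (ψ.comp V.subtype).ker) = Nat.card (V.map ψ) := by
    rw [Nat.card_congr (QuotientGroup.quotientKerEquivRange (ψ.comp V.subtype)).toEquiv]
    rw [MonoidHom.range_comp, range_subtype]
  have h3 : Nat.card (ψ.comp V.subtype).ker = Nat.card (V ⊓ ψ.ker : Subgroup X) := by
    rw [← card_map_of_injective V.subtype_injective]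
    congr 2
    ext y
    constructor
    · rintro ⟨z, hz, rfl⟩
      exact ⟨z.2, hz⟩
    · rintro ⟨h1, h2⟩
      exact ⟨⟨y, h1⟩, h2, rfl⟩
  rw [h1, h2, h3, mul_comm]

theorem eq_one_of_core' {M T : Subgroup G} {p : G} (hp : p ∈ core M) (hT : IsPGroup 2 ↥T) (hpT : p ∈ T) :
    p = 1 := by
  obtain ⟨k, hk⟩ := hT ⟨p, hpT⟩
  have h1 : p ^ (2 ^ k) = 1 := congrArg Subtype.val hk
  exact eq_one_of_mem_core hp h1

/-- the component data at `a` -/
structure CT (T P Q K L : Subgroup G) (a : G) : Prop where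
  lc : LC a L
  uniq : ∀ M, LC a M → M = L
  syl : IsSyl (centralizer ({a} : Set G)) T
  P : P = T ⊓ L
  Q : Q = fix T L
  KL : K ≤ L
  Kp : ⁅K, K⁆ = K
  Kc : L ≤ K ⊔ core L

variable {S T P Q Z K L : Subgroup G} {A : Bool → Subgroup G} {a b t x : G}

/-- `C(a)` normalises `L` -/
theorem CT.norm (c : CT T P Q K L a) {g : G} (hg : g * a = a * g) : cj g L = L := by
  apply c.uniq
  have h1 := c.lc.conj g
  have h2 : g * a * g⁻¹ = a := by rw [hg]; group
  rwa [h2] at h1

/-- **the component of `C(e)`**, `e ∈ I(Q)` -/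
theorem CT.exists_comp (FT : ∀ (K : Type u) [Group K] [Finite K], Odd (Nat.card K) → Group.IsSolvable K)
    (c : CT T P Q K L a) (h : Dbl S T P Q Z A K a b t x) {e : G} (he : e ∈ Q) (hee : e * e = 1)
    (he1 : e ≠ 1) : ∃ M, LC e M ∧ (∀ M', LC e M' → M' = M) ∧ P ≤ M ∧ K ≤ M ∧
      ∀ m ∈ M, ∃ k ∈ K, k⁻¹ * m ∈ core M := by
  obtain ⟨k, hk, hke⟩ := h.clsQ he hee he1
  obtain ⟨g, hg⟩ : ∃ g, g = t * k * t⁻¹ := ⟨_, rfl⟩
  rw [← hg] at hke
  -- `g` centralises `P`
  have hgP : ∀ p ∈ P, g * p = p * g := by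
    intro p hp
    have h1 := h.KQ k hk _ (h.tP' hp)
    rw [hg]
    calc t * k * t⁻¹ * p = t * (k * (t⁻¹ * p * t)) * t⁻¹ := by group
      _ = t * ((t⁻¹ * p * t) * k) * t⁻¹ := by rw [h1]
      _ = p * (t * k * t⁻¹) := by group
  obtain ⟨M, hM⟩ : ∃ M, M = cj g⁻¹ L := ⟨_, rfl⟩
  have hMe : LC e M := by
    have h1 := c.lc.conj g⁻¹
    have h2 : g⁻¹ * a * g⁻¹⁻¹ = e := by rw [← hke]; group
    rw [h2, ← hM] at h1
    exact h1
  have huniq : ∀ M', LC e M' → M' = M := by
    intro M' hM'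
    have h1 := hM'.conj g
    rw [hke] at h1
    have h2 := c.uniq _ h1
    rw [hM, ← h2, ← cj_mul, inv_mul_cancel, cj_one]
  have hPM : P ≤ M := by
    intro p hp
    rw [hM, mem_cj, inv_inv]
    have h1 : g * p * g⁻¹ = p := by rw [hgP p hp, mul_inv_cancel_right]
    rw [h1]
    rw [c.P] at hp
    exact hp.2
  -- `K` normalises `M`
  have hKn : K ≤ normalizer (M : Set G) := by
    intro k' hk'
    rw [mem_normalizer_iff_cj]
    apply huniq
    have h1 := hMe.conj k'
    have h2 : k' * e * k'⁻¹ = e := by rw [h.KQ k' hk' e he, mul_inv_cancel_right]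
    rwa [h2] at h1
  -- `P` is a Sylow 2-subgroup of `L`
  have hLn : centralizer ({a} : Set G) ≤ normalizer (L : Set G) := by
    intro y hy
    rw [mem_normalizer_iff_cj]
    exact c.norm (comm_c hy)
  have hPS : IsSyl L P := by
    rw [c.P]
    exact c.syl.inf c.lc.1.le hLn
  have hodd : Odd (P.relIndex L) := by
    obtain ⟨R, hR⟩ := hPS.exists_sylow
    have hp : Fact (Nat.Prime 2) := ⟨Nat.prime_two⟩
    have h1 : P.relIndex L = (R : Subgroup L).index := by
      rw [← hR, relIndex, subgroupOf, comap_map_eq_self_of_injective L.subtype_injective]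
    rw [h1, ← Nat.not_even_iff_odd, even_iff_two_dvd]
    exact R.not_dvd_index
  have hKM : K ≤ M := by
    refine CentResidual.perfect_le_of_odd FT c.Kp.ge hKn ?_
    refine Odd.of_dvd_nat hodd ?_
    have h1 : M.relIndex K ∣ P.relIndex K := relIndex_dvd_of_le_left K hPM
    have h2 : P.relIndex K * K.relIndex L = P.relIndex L := relIndex_mul_relIndex P K L h.PK c.KL
    exact h1.trans ⟨_, h2.symm⟩
  refine ⟨M, hMe, huniq, hPM, hKM, ?_⟩
  -- `K ∩ O(M) ≤ O(L)`
  have h1 : K ⊓ core M ≤ core L := by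
    have h2 : K ≤ normalizer ((K ⊓ core M : Subgroup G) : Set G) := by
      intro y hy
      rw [mem_normalizer_iff_cj, cj_inf, cj_eq_self_of_mem hy,
        mem_normalizer_iff_cj.mp (normalizer_le_normalizer_core M (hKn hy))]
    have h3 : core L ≤ normalizer ((K ⊓ core M ⊔ core L : Subgroup G) : Set G) := fun y hy =>
      le_normalizer (mem_sup_right hy)
    have h4 : K ≤ normalizer ((K ⊓ core M ⊔ core L : Subgroup G) : Set G) := by
      intro y hy
      rw [mem_normalizer_iff_cj]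
      have h5 := mem_normalizer_iff_cj.mp (h2 hy)
      have h6 := mem_normalizer_iff_cj.mp (le_normalizer_core L (c.KL hy))
      rw [cj_def] at h5 h6 ⊢
      rw [Subgroup.map_sup, h5, h6]
    have h5 : L ≤ normalizer ((K ⊓ core M ⊔ core L : Subgroup G) : Set G) :=
      c.Kc.trans (sup_le h4 h3)
    have h6 : Odd (Nat.card ↥(K ⊓ core M ⊔ core L : Subgroup G)) := by
      have h7 : (K ⊓ core M : Subgroup G) ≤ normalizer (core L : Set G) :=
        inf_le_left.trans (c.KL.trans (le_normalizer_core L))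
      have h8 := CoprimeBasic.card_sup_dvd h7
      rw [sup_comm] at h8
      refine Odd.of_dvd_nat (Odd.mul (odd_card_core L) ?_) h8
      exact Odd.of_dvd_nat (odd_card_core M) (card_dvd_of_le inf_le_right)
    refine le_sup_left.trans (le_core (sup_le (inf_le_left.trans c.KL) (core_le L)) h5 h6)
  -- the orders
  have hker : ∀ (N : Subgroup G) (hKN : K ≤ N), Nat.card ↥K =
      Nat.card ↥(K ⊓ core N : Subgroup G) *
        Nat.card ↥((K.subgroupOf N).map (QuotientGroup.mk' (oddCore ↥N))) := by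
    intro N hKN
    have h2 := card_eq_inf_mul_map' (QuotientGroup.mk' (oddCore ↥N)) (K.subgroupOf N)
    have h3 : Nat.card ↥(K.subgroupOf N) = Nat.card ↥K :=
      Nat.card_congr (subgroupOfEquivOfLe hKN).toEquiv
    have h4 : Nat.card ↥(K.subgroupOf N ⊓ (QuotientGroup.mk' (oddCore ↥N)).ker : Subgroup ↥N) =
        Nat.card ↥(K ⊓ core N : Subgroup G) := by
      rw [QuotientGroup.ker_mk', ← card_map_of_injective N.subtype_injective,
        Subgroup.map_inf _ _ _ N.subtype_injective, subgroupOf_map_subtype, inf_of_le_left hKN]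
      rfl
    rw [← h3, h2, h4]
  have hL := hker L c.KL
  have hM' := hker M hKM
  have htopL : (K.subgroupOf L).map (QuotientGroup.mk' (oddCore ↥L)) = ⊤ := by
    rw [eq_top_iff]
    rintro y -
    obtain ⟨⟨l, hl⟩, rfl⟩ := QuotientGroup.mk'_surjective _ y
    have h2 : K ⊔ core L = L := le_antisymm (sup_le c.KL (core_le L)) c.Kc
    obtain ⟨k', hk', hk2⟩ := exists_mul_of_sup h2 hl
    exact ⟨⟨k', c.KL hk'⟩, hk', (mk_eq_iff (c.KL hk') hl).mpr hk2⟩
  rw [htopL, card_top, card_l34 c.lc.2] at hL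
  have htopM : (K.subgroupOf M).map (QuotientGroup.mk' (oddCore ↥M)) = ⊤ := by
    apply Subgroup.eq_top_of_le_card
    rw [card_l34 hMe.2]
    have h2 : Nat.card ↥(K ⊓ core M : Subgroup G) ≤ Nat.card ↥(K ⊓ core L : Subgroup G) :=
      Subgroup.card_le_of_le (le_inf inf_le_left h1)
    by_contra hcon
    rw [not_le] at hcon
    have h4 := Nat.mul_lt_mul_of_le_of_lt h2 hcon Nat.card_pos
    rw [← hM', ← hL] at h4
    exact lt_irrefl _ h4
  intro m hm
  have h2 : (QuotientGroup.mk' (oddCore ↥M)) ⟨m, hm⟩ ∈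
      (K.subgroupOf M).map (QuotientGroup.mk' (oddCore ↥M)) := by rw [htopM]; trivial
  obtain ⟨⟨k', hk'⟩, hk2, e1⟩ := h2
  exact ⟨k', hk2, (mk_eq_iff hk' hm).mp e1⟩

/-- the field `FixQ` of `DblX` -/
theorem CT.FixQ (FT : ∀ (K : Type u) [Group K] [Finite K], Odd (Nat.card K) → Group.IsSolvable K)
    (c : CT T P Q K L a) (h : Dbl S T P Q Z A K a b t x) {e : G} (he : e ∈ Q) (hee : e * e = 1)
    (he1 : e ≠ 1) {y : G} (hy : y ∈ T) (hye : y * e = e * y) : y ∈ Fix e ↔ y ∈ Q := by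
  obtain ⟨M, hM, huniq, hPM, hKM, hcov⟩ := c.exists_comp FT h he hee he1
  -- elements of `C_Q(e)` fix `M`
  have hQ : ∀ q ∈ Q, q * e = e * q → Fixes q M := by
    intro q hq hqe
    have hqM : q ∈ normalizer (M : Set G) := by
      rw [mem_normalizer_iff_cj]
      apply huniq
      have h1 := hM.conj q
      have h2 : q * e * q⁻¹ = e := by rw [hqe, mul_inv_cancel_right]
      rwa [h2] at h1
    refine ⟨hqM, fun m hm => ?_⟩
    obtain ⟨k, hk, hkm⟩ := hcov m hm
    obtain ⟨o, ho⟩ : ∃ o, o = k⁻¹ * m := ⟨_, rfl⟩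
    rw [← ho] at hkm
    have h1 : m = k * o := by rw [ho]; group
    have h2 := h.KQ k hk q hq
    have h3 : ⁅q, m⁆ = k * ((q * o * q⁻¹) * o⁻¹) * k⁻¹ := by
      rw [commutatorElement_def, h1, mul_inv_rev]
      calc q * (k * o) * q⁻¹ * (o⁻¹ * k⁻¹) = (q * k) * (o * q⁻¹ * o⁻¹) * k⁻¹ := by group
        _ = (k * q) * (o * q⁻¹ * o⁻¹) * k⁻¹ := by rw [h2]
        _ = k * ((q * o * q⁻¹) * o⁻¹) * k⁻¹ := by group
    rw [h3]
    exact conj_mem_core (le_normalizer (hKM hk)) (mul_mem (conj_mem_core hqM hkm) (inv_mem hkm))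
  constructor
  · rintro ⟨-, h1⟩
    have h2 := h1 M hM
    -- `y` centralises `P`
    have h3 : ∀ p ∈ P, y * p = p * y := by
      intro p hp
      have h4 := h2.2 p (hPM hp)
      have h5 : ⁅y, p⁆ ∈ T := mul_mem (h.PT (h.nP y hy p hp)) (T.inv_mem (h.PT hp))
      have h6 : ⁅y, p⁆ = 1 := eq_one_of_core' h4 h.two h5
      rw [commutatorElement_eq_one_iff_mul_comm] at h6
      exact h6
    obtain ⟨z, hz, q, hq, e1⟩ := h.cenP y hy h3
    have hzP := h.toHeis.ZP hz
    have hqe : q * e = e * q := by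
      have h4 : q = z⁻¹ * y := by rw [e1]; group
      have h5 : z * e = e * z := h.comm z hzP e he
      have h6 : Commute q e := by
        rw [h4]
        exact (Commute.inv_left (show Commute z e from h5)).mul_left hye
      exact h6.eq
    have h4 : Fixes z M := by
      have h5 : z = y * q⁻¹ := by rw [e1]; group
      rw [h5]
      exact fixes_mul h2 (fixes_inv (hQ q hq hqe))
    have h5 : z ∈ core M := by
      rw [mem_core_iff (hPM hzP), ← QuotientGroup.eq_one_iff]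
      apply center_l34 hM.2
      intro d
      obtain ⟨⟨m, hm⟩, rfl⟩ := QuotientGroup.mk_surjective d
      have h6 := h4.2 m hm
      rw [← QuotientGroup.mk_mul, ← QuotientGroup.mk_mul, eq_comm, QuotientGroup.eq]
      have h7 : (((⟨m, hm⟩ : ↥M) * ⟨z, hPM hzP⟩)⁻¹ * (⟨z, hPM hzP⟩ * ⟨m, hm⟩) : ↥M) ∈ oddCore ↥M := by
        rw [← mem_core_iff]
        have h8 : (m * z)⁻¹ * (z * m) = (m * z)⁻¹ * ⁅z, m⁆ * (m * z)⁻¹⁻¹ := by
          rw [commutatorElement_def]; group
        change (m * z)⁻¹ * (z * m) ∈ core M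
        rw [h8]
        exact conj_mem_core (inv_mem (le_normalizer (mul_mem hm (hPM hzP)))) h6
      exact h7
    have h6 : z = 1 := eq_one_of_core' h5 h.two (h.PT hzP)
    rw [e1, h6, one_mul]
    exact hq
  · intro hq
    refine ⟨hye, fun M' hM' => ?_⟩
    rw [huniq M' hM']
    exact hQ y hq hye

/-- the field `InnQ` of `DblX` -/
theorem CT.InnQ (FT : ∀ (K : Type u) [Group K] [Finite K], Odd (Nat.card K) → Group.IsSolvable K)
    (c : CT T P Q K L a) (h : Dbl S T P Q Z A K a b t x) {e : G} (he : e ∈ Q) (hee : e * e = 1)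
    (he1 : e ≠ 1) {y : G} (hy : y ∈ T) (hye : y * e = e * y) :
    y ∈ Inn e ↔ ∃ p ∈ P, ∃ q ∈ Q, y = p * q := by
  obtain ⟨M, hM, huniq, hPM, hKM, hcov⟩ := c.exists_comp FT h he hee he1
  constructor
  · rintro ⟨-, h1⟩
    obtain ⟨r, hr, hf⟩ := h1 M hM
    have hyM : y ∈ normalizer (M : Set G) := by
      have := mul_mem hf.1 (le_normalizer hr)
      rwa [inv_mul_cancel_right] at this
    -- the image `R` of `P` in `M / O(M)`
    obtain ⟨π, hπ⟩ : ∃ π, π = QuotientGroup.mk' (oddCore ↥M) := ⟨_, rfl⟩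
    obtain ⟨R, hR⟩ : ∃ R, R = (P.subgroupOf M).map π := ⟨_, rfl⟩
    have hR64 : Nat.card R = 64 := by
      have h2 := card_eq_inf_mul_map' π (P.subgroupOf M)
      have h3 : Nat.card ↥(P.subgroupOf M) = 64 := by
        rw [Nat.card_congr (subgroupOfEquivOfLe hPM).toEquiv]
        exact h.toHeis.cardP
      have h4 : P.subgroupOf M ⊓ π.ker = ⊥ := by
        rw [eq_bot_iff]
        rintro ⟨p, hpM⟩ ⟨hp, hk⟩
        rw [hπ, QuotientGroup.ker_mk'] at hk
        have h5 : p ∈ core M := (mem_core_iff hpM).mpr hk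
        exact Subtype.ext (eq_one_of_core' h5 h.two (h.PT hp))
      rw [h4, card_bot, one_mul, h3] at h2
      rw [hR]
      exact h2.symm
    have hR2 : IsPGroup 2 R := IsPGroup.of_card (n := 6) (by rw [hR64]; norm_num)
    -- the action of `r` and `y`
    have hact : act M ⟨y, hyM⟩ = MulAut.conj (QuotientGroup.mk ⟨r, hr⟩ : Bar M) := by
      have h2 : y = (y * r⁻¹) * r := by group
      have h3 : act M ⟨y, hyM⟩ = act M ⟨(y * r⁻¹) * r, by rw [← h2]; exact hyM⟩ := act_congr _ h2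
      rw [h3, act_mul hf.1 (le_normalizer hr), (act_eq_one_iff hf.1).mpr hf, one_mul, act_of_mem hr]
    obtain ⟨ρ, hρ⟩ : ∃ ρ : Bar M, ρ = QuotientGroup.mk ⟨r, hr⟩ := ⟨_, rfl⟩
    rw [← hρ] at hact
    -- `ρ` is a 2-element
    obtain ⟨n, hn⟩ := h.two ⟨y, hy⟩
    have hn' : y ^ (2 ^ n) = 1 := congrArg Subtype.val hn
    have hρn : ρ ^ (2 ^ n) = 1 := by
      apply center_l34 hM.2
      intro d
      have h2 : (MulAut.conj ρ) ^ (2 ^ n) = 1 := by
        rw [← hact, ← map_pow]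
        have h3 : (⟨y, hyM⟩ : ↥(normalizer (M : Set G))) ^ (2 ^ n) = 1 := Subtype.ext hn'
        rw [h3, map_one]
      rw [← map_pow] at h2
      have h3 : ρ ^ (2 ^ n) * d * (ρ ^ (2 ^ n))⁻¹ = d := by
        have h4 := congrArg (fun f : MulAut (Bar M) => f d) h2
        exact h4
      rw [← mul_inv_eq_iff_eq_mul]
      exact h3
    have hρ2 : IsPGroup 2 (zpowers ρ) := by
      rintro ⟨_, i, rfl⟩
      refine ⟨n, Subtype.ext ?_⟩
      change (ρ ^ i) ^ (2 ^ n) = 1
      rw [← zpow_natCast, ← zpow_mul, mul_comm, zpow_mul, zpow_natCast, hρn, one_zpow]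
    -- `ρ` normalises `R`
    have hρR : ∀ s ∈ R, ρ * s * ρ⁻¹ ∈ R := by
      intro s hs
      rw [hR] at hs
      obtain ⟨⟨p, hpM⟩, hp, rfl⟩ := hs
      have hp' : p ∈ P := hp
      have h2 : ρ * π ⟨p, hpM⟩ * ρ⁻¹ = act M ⟨y, hyM⟩ (π ⟨p, hpM⟩) := by rw [hact]; rfl
      rw [h2, hπ, QuotientGroup.mk'_apply, act_mk hyM hpM]
      rw [hR]
      refine ⟨⟨y * p * y⁻¹, hPM (h.nP y hy p hp')⟩, h.nP y hy p hp', ?_⟩
      rw [hπ]
      rfl
    have hρN : zpowers ρ ≤ normalizer (R : Set (Bar M)) := by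
      rw [zpowers_le, mem_normalizer_iff_map_conj_eq]
      apply Subgroup.eq_of_le_of_card_ge
      · rintro _ ⟨s, hs, rfl⟩
        exact hρR s hs
      · rw [card_map_of_injective (MulAut.conj ρ).injective]
    have h2 : IsPGroup 2 (R ⊔ zpowers ρ : Subgroup (Bar M)) := hR2.to_sup_of_normal_left' hρ2 hρN
    have h3 : R ⊔ zpowers ρ = R := by
      symm
      apply Subgroup.eq_of_le_of_card_ge le_sup_left
      rw [hR64]
      obtain ⟨k, hk⟩ := IsPGroup.iff_card.mp h2
      have h4 : 2 ^ k ∣ 20160 := by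
        rw [← hk, ← card_l34 hM.2]
        exact Subgroup.card_subgroup_dvd_card _
      rw [hk]
      by_contra hcon
      have h5 : 7 ≤ k := by
        by_contra h6
        have h7 : k ≤ 6 := by omega
        have := Nat.pow_le_pow_right (show 0 < 2 by norm_num) h7
        omega
      have h6 : 2 ^ 7 ∣ 20160 := (pow_dvd_pow 2 h5).trans h4
      norm_num at h6
    have h4 : ρ ∈ R := by
      rw [← h3]
      exact mem_sup_right (mem_zpowers ρ)
    rw [hR] at h4
    obtain ⟨⟨p, hpM⟩, hp, e1⟩ := h4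
    have hp' : p ∈ P := hp
    -- `y p⁻¹` fixes `M`
    have h5 : p⁻¹ * r ∈ core M := by
      rw [← mk_eq_iff hpM hr, ← hρ, ← e1, hπ]
      rfl
    have h6 : Fixes (y * p⁻¹) M := by
      have h7 : y * p⁻¹ = (y * r⁻¹) * (p * (p⁻¹ * r) * p⁻¹) := by group
      rw [h7]
      refine fixes_mul hf ?_
      exact hM.1.fixes_of_core (hM.1.core_le_core (conj_mem_core (le_normalizer hpM) h5))
    have h7 : (y * p⁻¹) * e = e * (y * p⁻¹) := by
      have h8 : p * e = e * p := h.comm p hp' e he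
      exact ((show Commute y e from hye).mul_left (show Commute p e from h8).inv_left).eq
    have h8 : y * p⁻¹ ∈ Q := by
      refine (c.FixQ FT h he hee he1 (T.mul_mem hy (T.inv_mem (h.PT hp'))) h7).mp ⟨h7, fun M' hM' => ?_⟩
      rw [huniq M' hM']
      exact h6
    refine ⟨p, hp', y * p⁻¹, h8, ?_⟩
    rw [h.comm p hp' _ h8]; group
  · rintro ⟨p, hp, q, hq, rfl⟩
    refine ⟨hye, fun M' hM' => ?_⟩
    rw [huniq M' hM']
    refine ⟨p, hPM hp, ?_⟩
    have h1 : p * q * p⁻¹ = q := by rw [h.comm p hp q hq]; group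
    rw [h1]
    have h2 : q * e = e * q := by
      have h3 : q = p⁻¹ * (p * q) := by group
      rw [h3]
      exact ((show Commute p e from h.comm p hp e he).inv_left.mul_left hye).eq
    exact ((c.FixQ FT h he hee he1 (h.QT hq) h2).mpr hq).2 M hM

end

end Cfsg.Agent.UGT.L34T2.IF
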