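import Cfsg.Agent.UGT.L34T2.NormW
import Cfsg.Agent.LThreeFour.Solv
import Mathlib.GroupTheory.Transfer

/-!
# NodeL34, T2, SMALL (6): the quotient `M / W`

* `Pair a b L T P Q Z A`: the abstract pair `(a, L)`: `C(a)` core-free, `L ≅ L₃(4)` normal in `C(a)`,
  `C(a) ∩ C(L) = Q`, perfect subgroups of `C(a)` lie in `L`, `T ∈ Syl₂(C(a))`, `Fr T P Q Z A b`.
* `exists_small`: `X` with a Sylow 2-subgroup `Q` of exponent 2, `|Q| ≤ 4`, containing a central involution: `X = O(X) Q`.
* `pair_of`: `f : M → H` surjective with kernel `W`, `C(a) ≤ M`, `W ∩ C(a) = O(C(a))`: the image is a pair.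
-/

set_option autoImplicit false
set_option linter.unusedSectionVars false

open Cfsg Subgroup
open Cfsg.Agent.SignalizersComponents Cfsg.Agent.Lib
open Cfsg.Agent.SignalizersComponents.IntrinsicBasic
open Cfsg.Agent.SignalizersComponents.IntrinsicIntr
open Cfsg.Agent.Intrinsic Cfsg.Agent.Intrinsic.Basic Cfsg.Agent.Intrinsic.Cen Cfsg.Agent.Intrinsic.Diag
open Cfsg.Agent.UGT.Triple Cfsg.Agent.UGT.TriBase Cfsg.Agent.McLLyComp.Act
open Cfsg.Agent.UGT.Iface (Bar IsL34)
open scoped commutatorElement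

namespace Cfsg.Agent.UGT.L34T2

universe u

/-- The pair `(a, L)` with `C(a)` core-free. -/
structure Pair {H : Type*} [Group H] (a b : H) (L T P Q Z : Subgroup H) (A : Bool → Subgroup H) : Prop where
  fr : Fr T P Q Z A b
  l34 : IsL34 ↥L
  aa : a * a = 1
  a1 : a ≠ 1
  aQ : a ∈ Q
  syl : IsSyl (centralizer ({a} : Set H)) T
  PL : P = T ⊓ L
  La : L ≤ centralizer ({a} : Set H)
  Ln : centralizer ({a} : Set H) ≤ normalizer (L : Set H)
  fixQ : ∀ g, g * a = a * g → (∀ l ∈ L, g * l = l * g) → g ∈ Q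
  Qfix : ∀ q ∈ Q, ∀ l ∈ L, q * l = l * q
  perf : ∀ K ≤ centralizer ({a} : Set H), ⁅K, K⁆ = K → K ≤ L
  core : core (centralizer ({a} : Set H)) = ⊥

namespace MHat

open NormW (ext ext_apply ext_coe im img_im isoOn_ext two_subgroupOf)

/-! ### a small central Sylow 2-subgroup -/

section

variable {X : Type*} [Group X] [Finite X]

/-- `N(P) ≤ C(P)` -/
theorem norm_le_cent (P : Sylow 2 X) {a : X} (haP : a ∈ P) (ha1 : a ≠ 1) (hac : ∀ g : X, g * a = a * g)
    (hsq : ∀ q ∈ P, q * q = 1) (h4 : Nat.card P ≤ 4) :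
    normalizer ((P : Subgroup X) : Set X) ≤ centralizer ((P : Subgroup X) : Set X) := by
  have hcomm : ∀ p ∈ P, ∀ q ∈ P, p * q = q * p := by
    intro p hp q hq
    have h1 := hsq _ (mul_mem hp hq)
    have h2 : p⁻¹ = p := inv_eq_of_mul_eq_one_right (hsq p hp)
    have h3 : q⁻¹ = q := inv_eq_of_mul_eq_one_right (hsq q hq)
    have h4 : (p * q)⁻¹ = p * q := inv_eq_of_mul_eq_one_right h1
    rw [← h4, mul_inv_rev, h2, h3]
  have haa := hsq a haP
  -- the elements of `P`
  have hP4 : ∀ p ∈ P, p ≠ 1 → p ≠ a → ∀ q ∈ P, q = 1 ∨ q = a ∨ q = p ∨ q = a * p := by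
    classical
    intro p hp hp1 hpa q hq
    by_contra hcon
    push Not at hcon
    obtain ⟨q1, q2, q3, q4⟩ := hcon
    let S : Finset P := {1, ⟨a, haP⟩, ⟨p, hp⟩, ⟨a * p, mul_mem haP hp⟩, ⟨q, hq⟩}
    have hS : S.card = 5 := by
      have e1 : a * p ≠ 1 := fun h => hpa (by
        rw [← inv_eq_of_mul_eq_one_right h, inv_eq_of_mul_eq_one_right haa])
      have e2 : a * p ≠ a := fun h => hp1 (mul_eq_left.1 h)
      have e3 : a * p ≠ p := fun h => ha1 (mul_eq_right.1 h)
      have f1 : (1 : P) ∉ ({⟨a, haP⟩, ⟨p, hp⟩, ⟨a * p, mul_mem haP hp⟩, ⟨q, hq⟩} : Finset P) := by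
        simp only [Finset.mem_insert, Finset.mem_singleton, not_or]
        exact ⟨fun h => ha1 (congrArg Subtype.val h).symm, fun h => hp1 (congrArg Subtype.val h).symm,
          fun h => e1 (congrArg Subtype.val h).symm, fun h => q1 (congrArg Subtype.val h).symm⟩
      have f2 : (⟨a, haP⟩ : P) ∉ ({⟨p, hp⟩, ⟨a * p, mul_mem haP hp⟩, ⟨q, hq⟩} : Finset P) := by
        simp only [Finset.mem_insert, Finset.mem_singleton, not_or]
        exact ⟨fun h => hpa (congrArg Subtype.val h).symm,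
          fun h => e2 (congrArg Subtype.val h).symm, fun h => q2 (congrArg Subtype.val h).symm⟩
      have f3 : (⟨p, hp⟩ : P) ∉ ({⟨a * p, mul_mem haP hp⟩, ⟨q, hq⟩} : Finset P) := by
        simp only [Finset.mem_insert, Finset.mem_singleton, not_or]
        exact ⟨fun h => e3 (congrArg Subtype.val h).symm, fun h => q3 (congrArg Subtype.val h).symm⟩
      have f4 : (⟨a * p, mul_mem haP hp⟩ : P) ∉ ({⟨q, hq⟩} : Finset P) := by
        simp only [Finset.mem_singleton]
        exact fun h => q4 (congrArg Subtype.val h).symm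
      rw [Finset.card_insert_of_notMem f1, Finset.card_insert_of_notMem f2,
        Finset.card_insert_of_notMem f3, Finset.card_insert_of_notMem f4, Finset.card_singleton]
    have h5 : S.card ≤ Nat.card P := by
      have : Fintype P := Fintype.ofFinite P
      rw [Nat.card_eq_fintype_card]
      exact Finset.card_le_univ S
    omega
  intro n hn
  rw [mem_centralizer_iff]
  intro p hp
  have hn' := mem_normalizer_iff.1 hn
  by_cases hp1 : p = 1
  · rw [hp1, one_mul, mul_one]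
  by_cases hpa : p = a
  · rw [hpa]; exact (hac n).symm
  -- `n p n⁻¹ ∈ {p, a p}`
  have h1 : n * p * n⁻¹ ∈ P := (hn' p).1 hp
  rcases hP4 p hp hp1 hpa _ h1 with h2 | h2 | h2 | h2
  · exfalso
    apply hp1
    calc p = n⁻¹ * (n * p * n⁻¹) * n := by group
      _ = 1 := by rw [h2]; group
  · exfalso
    apply hpa
    calc p = n⁻¹ * (n * p * n⁻¹) * n := by group
      _ = n⁻¹ * (a * n) := by rw [h2, mul_assoc]
      _ = a := by rw [← hac n]; group
  · exact (mul_inv_eq_iff_eq_mul.1 h2).symm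
  · exfalso
    -- the odd power `n ^ m` is a 2-element
    obtain ⟨k, m, hm, hkm⟩ := Nat.exists_eq_two_pow_mul_odd (orderOf_pos n).ne'
    have h3 : IsPGroup 2 (zpowers (n ^ m)) := by
      apply IsPGroup.of_card (n := k)
      rw [Nat.card_zpowers, orderOf_pow, hkm, Nat.gcd_eq_right (Dvd.intro_left _ rfl),
        Nat.mul_div_cancel _ hm.pos]
    have h4 : zpowers (n ^ m) ≤ normalizer ((P : Subgroup X) : Set X) := by
      rw [zpowers_le]; exact pow_mem hn m
    have h5 : IsPGroup 2 ↥((P : Subgroup X) ⊔ zpowers (n ^ m) : Subgroup X) :=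
      P.isPGroup'.to_sup_of_normal_left' h3 h4
    have h6 := P.is_maximal' h5 le_sup_left
    have h7 : n ^ m ∈ P := by
      have h8 : n ^ m ∈ ((P : Subgroup X) ⊔ zpowers (n ^ m) : Subgroup X) :=
        (le_sup_right : zpowers (n ^ m) ≤ _) (mem_zpowers _)
      rw [h6] at h8
      exact h8
    -- `n ^ j p n ^ -j = a ^ j p`
    have h8 : ∀ j : ℕ, n ^ j * p * (n ^ j)⁻¹ = a ^ j * p := by
      intro j
      induction j with
      | zero => simp
      | succ j ih =>
        calc n ^ (j + 1) * p * (n ^ (j + 1))⁻¹ = n * (n ^ j * p * (n ^ j)⁻¹) * n⁻¹ := by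
              rw [pow_succ']; group
          _ = (n * a ^ j) * p * n⁻¹ := by rw [ih]; group
          _ = (a ^ j * n) * p * n⁻¹ := by rw [(show Commute n a from hac n).pow_right j]
          _ = a ^ j * (n * p * n⁻¹) := by group
          _ = a ^ (j + 1) * p := by rw [h2, pow_succ]; group
    have h9 := h8 m
    rw [hcomm _ h7 p hp, mul_inv_cancel_right] at h9
    have h10 : a ^ m = 1 := (right_eq_mul.1 h9)
    obtain ⟨j, hj⟩ := hm
    rw [hj, pow_succ, pow_mul, pow_two, haa, one_pow, one_mul] at h10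
    exact ha1 h10

/-- every element is `o q`, `o` in a normal subgroup of odd order, `q ∈ P` -/
theorem exists_small (P : Sylow 2 X) {a : X} (haP : a ∈ P) (ha1 : a ≠ 1) (hac : ∀ g : X, g * a = a * g)
    (hsq : ∀ q ∈ P, q * q = 1) (h4 : Nat.card P ≤ 4) :
    ∃ N : Subgroup X, N.Normal ∧ Odd (Nat.card N) ∧ ∀ g : X, ∃ n ∈ N, ∃ q ∈ P, g = n * q := by
  have hp : Fact (Nat.Prime 2) := ⟨Nat.prime_two⟩
  have hP := norm_le_cent P haP ha1 hac hsq h4
  have hc := MonoidHom.ker_transferSylow_isComplement' P hP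
  refine ⟨(MonoidHom.transferSylow P hP).ker, inferInstance, ?_, ?_⟩
  · have h1 := MonoidHom.not_dvd_card_ker_transferSylow P hP
    exact Nat.not_even_iff_odd.1 (fun h => h1 (even_iff_two_dvd.1 h))
  · intro g
    obtain ⟨⟨n, q⟩, h⟩ := hc.2 g
    exact ⟨n, n.2, q, q.2, h.symm⟩

end

/-! ### perfect subgroups of `C(a)` -/

theorem perf_le {H : Type*} [Group H] {C L Q K : Subgroup H} (Dd : LThreeFour.Dat ↥L)
    (Ln : C ≤ normalizer (L : Set H)) (fixQ : ∀ g ∈ C, (∀ l ∈ L, g * l = l * g) → g ∈ Q) (LC : L ≤ C)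
    (Qfix : ∀ q ∈ Q, ∀ l ∈ L, q * l = l * q) (Qcomm : ∀ q ∈ Q, ∀ r ∈ Q, q * r = r * q) (hKC : K ≤ C)
    (hK : ⁅K, K⁆ = K) : K ≤ L := by
  let φ : ↥K →* LThreeFour.TyG :=
    (Dd.tyHom).comp ((L.normalizerMonoidHom).comp (inclusion (hKC.trans Ln)))
  have hKp : Group.IsPerfect ↥K := by
    rw [isPerfect_iff]
    exact hK
  have hφ : ∀ k, φ k = 1 := by
    by_contra hcon
    push Not at hcon
    obtain ⟨k, hk⟩ := hcon
    have h1 : Nontrivial ↥φ.range := by
      refine ⟨⟨⟨φ k, k, rfl⟩, 1, fun h => hk ?_⟩⟩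
      exact congrArg Subtype.val h
    have h2 : Group.IsPerfect ↥φ.range := Group.IsPerfect.ofSurjective φ.rangeRestrict_surjective
    have h3 := LThreeFour.TyG.isSolvable
    exact Group.IsPerfect.not_isSolvable ↥φ.range inferInstance
  have key : ∀ k ∈ K, ∃ l ∈ L, ∃ q ∈ Q, k = l * q := by
    intro k hk
    have h1 := hφ ⟨k, hk⟩
    have h2 : Dd.tyHom (L.normalizerMonoidHom ⟨k, Ln (hKC hk)⟩) = 1 := h1
    rw [LThreeFour.Dat.inner_iff] at h2
    obtain ⟨l, hl⟩ := h2
    refine ⟨l, l.2, (l : H)⁻¹ * k, ?_, by group⟩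
    apply fixQ _ (C.mul_mem (C.inv_mem (LC l.2)) (hKC hk))
    intro y hy
    have h3 : k * y * k⁻¹ = (l : H) * y * (l : H)⁻¹ := by
      have h4 := congrArg (fun α : MulAut ↥L => ((α ⟨y, hy⟩ : ↥L) : H)) hl
      exact h4
    calc (l : H)⁻¹ * k * y = (l : H)⁻¹ * (k * y * k⁻¹) * k := by group
      _ = (l : H)⁻¹ * ((l : H) * y * (l : H)⁻¹) * k := by rw [h3]
      _ = y * ((l : H)⁻¹ * k) := by group
  rw [← hK, commutator_le]
  intro k hk k' hk'
  obtain ⟨l, hl, q, hq, rfl⟩ := key k hk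
  obtain ⟨l', hl', q', hq', rfl⟩ := key k' hk'
  have h1 : ⁅l * q, l' * q'⁆ = ⁅l, l'⁆ := by
    rw [commutatorElement_def, commutatorElement_def, mul_inv_rev, mul_inv_rev]
    have c1 := Qfix q hq l' hl'
    have c2 : q' * l⁻¹ = l⁻¹ * q' := Qfix q' hq' _ (L.inv_mem hl)
    have c3 := Qcomm q hq q' hq'
    have c4 : q * l⁻¹ = l⁻¹ * q := Qfix q hq _ (L.inv_mem hl)
    calc l * q * (l' * q') * (q⁻¹ * l⁻¹) * (q'⁻¹ * l'⁻¹)
        = l * (q * l') * q' * q⁻¹ * l⁻¹ * q'⁻¹ * l'⁻¹ := by group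
      _ = l * l' * (q * q') * q⁻¹ * l⁻¹ * q'⁻¹ * l'⁻¹ := by rw [c1]; group
      _ = l * l' * (q' * l⁻¹) * q'⁻¹ * l'⁻¹ := by rw [c3]; group
      _ = l * l' * l⁻¹ * l'⁻¹ := by rw [c2]; group
  rw [h1, commutatorElement_def]
  exact L.mul_mem (L.mul_mem (L.mul_mem hl hl') (L.inv_mem hl)) (L.inv_mem hl')

/-! ### the image of `C(a)` -/

/-- the quotient `N(W) → N(W) / W` -/
theorem exists_hom {G : Type u} [Group G] (W : Subgroup G) :
    ∃ (H : Type u) (_ : Group H) (f : ↥(normalizer (W : Set G)) →* H), Function.Surjective f ∧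
      ∀ m : ↥(normalizer (W : Set G)), m ∈ f.ker ↔ (m : G) ∈ W := by
  have hn : (W.subgroupOf (normalizer (W : Set G))).Normal := inferInstance
  refine ⟨_, inferInstance, QuotientGroup.mk' (W.subgroupOf (normalizer (W : Set G))),
    QuotientGroup.mk'_surjective _, fun m => ?_⟩
  rw [QuotientGroup.ker_mk', mem_subgroupOf]

theorem card_eq_inf_mul_map' {X Y : Type*} [Group X] [Group Y] (g : X →* Y) (N : Subgroup X) :
    Nat.card N = Nat.card (N ⊓ g.ker : Subgroup X) * Nat.card (N.map g) := by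
  let g' : ↥N →* Y := g.comp N.subtype
  have h1 : Nat.card g'.ker * g'.ker.index = Nat.card N := g'.ker.card_mul_index
  rw [Subgroup.index_ker] at h1
  have h2 : g'.range = N.map g := by
    rw [MonoidHom.range_comp, range_subtype]
  have h3 : Nat.card g'.ker = Nat.card (N ⊓ g.ker : Subgroup X) := by
    have h4 : g'.ker.map N.subtype = N ⊓ g.ker := by
      ext x
      constructor
      · rintro ⟨n, hn, rfl⟩
        exact ⟨n.2, hn⟩
      · rintro ⟨hx, hx'⟩
        exact ⟨⟨x, hx⟩, hx', rfl⟩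
    rw [← h4, card_map_of_injective N.subtype_injective]
  rw [← h1, h2, h3]

section

variable {G : Type u} {H : Type u} [Group G] [Finite G] [Group H] {M W : Subgroup G} {f : ↥M →* H}

theorem odd_ker (hW : Odd (Nat.card ↥W)) (hker : ∀ m : ↥M, m ∈ f.ker ↔ (m : G) ∈ W) :
    Odd (Nat.card f.ker) := by
  have h1 : f.ker.map M.subtype ≤ W := by
    rintro _ ⟨m, hm, rfl⟩
    exact (hker m).1 hm
  rw [← card_map_of_injective M.subtype_injective]
  exact Odd.of_dvd_nat hW (card_dvd_of_le h1)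

theorem ext_mul {g h : G} (hg : g ∈ M) (hh : h ∈ M) : ext f (g * h) = ext f g * ext f h := by
  rw [ext_apply f hg, ext_apply f hh, ext_apply f (M.mul_mem hg hh), ← map_mul]
  rfl

theorem ext_inv {g : G} (hg : g ∈ M) : ext f g⁻¹ = (ext f g)⁻¹ := by
  rw [ext_apply f hg, ext_apply f (M.inv_mem hg), ← map_inv]
  rfl

theorem ext_one : ext f (1 : G) = 1 := by
  rw [ext_apply f M.one_mem]
  exact map_one f

theorem ext_eq_one (hker : ∀ m : ↥M, m ∈ f.ker ↔ (m : G) ∈ W) {g : G} (hg : g ∈ M) :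
    ext f g = 1 ↔ g ∈ W := by
  rw [ext_apply f hg]
  exact hker ⟨g, hg⟩

theorem im_mono {V U : Subgroup G} (h : V ≤ U) : im f V ≤ im f U :=
  Subgroup.map_mono (fun _ hv => h hv)

theorem mem_im_of {V : Subgroup G} (hV : V ≤ M) {v : G} (hv : v ∈ V) : ext f v ∈ im f V :=
  (img_im f hV).map hv

theorem two_zpowers {x : G} (hx : x ∈ M) (h : IsPGroup 2 (zpowers x)) :
    IsPGroup 2 (zpowers (⟨x, hx⟩ : ↥M)) := by
  refine h.of_injective ((M.subtype.comp (zpowers (⟨x, hx⟩ : ↥M)).subtype).codRestrict (zpowers x) ?_) ?_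
  · rintro ⟨_, k, rfl⟩
    exact ⟨k, rfl⟩
  · intro y z hyz
    apply Subtype.ext
    apply Subtype.ext
    exact congrArg (fun w : zpowers x => (w : G)) hyz

theorem isSyl_subgroupOf {E R : Subgroup G} (h : IsSyl E R) (hE : E ≤ M) :
    IsSyl (E.subgroupOf M) (R.subgroupOf M) := by
  refine ⟨two_subgroupOf h.two, fun r hr => h.le hr, fun R' h1 h2 h3 => ?_⟩
  have h4 : R'.map M.subtype = R := by
    refine h.max _ (h1.map _) ?_ ?_
    · rintro _ ⟨r, hr, rfl⟩
      exact h2 hr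
    · intro r hr
      exact ⟨⟨r, hE (h.le hr)⟩, h3 hr, rfl⟩
  ext r
  rw [mem_subgroupOf, ← h4]
  exact (Subgroup.mem_map_iff_mem M.subtype_injective).symm

theorem isSyl_im (hodd : Odd (Nat.card f.ker)) {E R : Subgroup G} (h : IsSyl E R) (hE : E ≤ M) :
    IsSyl (im f E) (im f R) := Quo.isSyl_map hodd (isSyl_subgroupOf h hE)

theorem le_normalizer_map_normal {X : Subgroup G} {N : Subgroup ↥X} (hN : N.Normal) :
    X ≤ normalizer (N.map X.subtype : Set G) := by
  have key : ∀ x ∈ X, ∀ y ∈ N.map X.subtype, x * y * x⁻¹ ∈ N.map X.subtype := by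
    rintro x hx _ ⟨n, hn, rfl⟩
    exact ⟨⟨x, hx⟩ * n * ⟨x, hx⟩⁻¹, hN.conj_mem n hn ⟨x, hx⟩, rfl⟩
  intro x hx
  rw [mem_normalizer_iff]
  intro y
  refine ⟨key x hx y, fun hy => ?_⟩
  have h1 := key x⁻¹ (inv_mem hx) _ hy
  have h2 : x⁻¹ * (x * y * x⁻¹) * x⁻¹⁻¹ = y := by group
  rwa [h2] at h1

/-- `C(π x) = π(C_M(x))` -/
theorem cent_im (hodd : Odd (Nat.card f.ker)) (hs : Function.Surjective f) {x : G} (hx : x ∈ M)
    (h2 : IsPGroup 2 (zpowers x)) :
    centralizer ({ext f x} : Set H) = im f (centralizer ({x} : Set G) ⊓ M) := by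
  rw [ext_apply f hx, Quo.map_centralizer hodd hs (two_zpowers hx h2), im]
  congr 1
  ext m
  rw [mem_subgroupOf, mem_inf, mem_centralizer_singleton_iff, mem_centralizer_singleton_iff]
  constructor
  · intro h
    exact ⟨congrArg Subtype.val h, m.2⟩
  · intro h
    exact Subtype.ext h.1

/-- `N(π R) = π(N_M(R))` -/
theorem norm_im (hodd : Odd (Nat.card f.ker)) (hs : Function.Surjective f) {R : Subgroup G} (hR : R ≤ M)
    (h2 : IsPGroup 2 ↥R) :
    normalizer (im f R : Set H) = im f (normalizer (R : Set G) ⊓ M) := by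
  rw [im, Quo.map_normalizer hodd hs (two_subgroupOf h2), im]
  congr 1
  ext m
  rw [mem_subgroupOf, mem_inf, mem_normalizer_iff, mem_normalizer_iff]
  constructor
  · intro h
    refine ⟨fun y => ?_, m.2⟩
    constructor
    · intro hy
      exact (h ⟨y, hR hy⟩).1 hy
    · intro hy
      have hyM : y ∈ M := by
        have h6 := M.mul_mem (M.mul_mem (M.inv_mem m.2) (hR hy)) m.2
        have h7 : (m : G)⁻¹ * (m * y * (m : G)⁻¹) * m = y := by group
        rwa [h7] at h6
      exact (h ⟨y, hyM⟩).2 hy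
  · intro h y
    exact h.1 y

/-- conjugate 2-elements of the image are conjugate in `M` -/
theorem conj_im (hodd : Odd (Nat.card f.ker)) (hker : ∀ m : ↥M, m ∈ f.ker ↔ (m : G) ∈ W) {x y g : G}
    (hx : x ∈ M) (hy : y ∈ M) (hg : g ∈ M) (hx2 : IsPGroup 2 (zpowers x)) (hy2 : IsPGroup 2 (zpowers y))
    (h : ext f g * ext f x * (ext f g)⁻¹ = ext f y) :
    ∃ w ∈ W, w ∈ M ∧ (w * g) * x * (w * g)⁻¹ = y := by
  rw [ext_apply f hx, ext_apply f hy, ext_apply f hg] at h
  obtain ⟨k, hk, h1⟩ := Quo.exists_conj hodd (two_zpowers hx hx2) (two_zpowers hy hy2) h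
  exact ⟨k, (hker k).1 hk, k.2, congrArg Subtype.val h1⟩

variable {a b : G} {L T Z : Subgroup G} {A : Bool → Subgroup G}

/-- **(6)** The image of `(a, L)` in `M / W` is a pair. -/
theorem pair_of (hs : Function.Surjective f) (hker : ∀ m : ↥M, m ∈ f.ker ↔ (m : G) ∈ W)
    (hW : Odd (Nat.card ↥W)) (hCM : centralizer ({a} : Set G) ≤ M)
    (hCW : W ⊓ centralizer ({a} : Set G) = core (centralizer ({a} : Set G)))
    (ha : orderOf a = 2) (hL : IsComp (centralizer ({a} : Set G)) L)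
    (hLn : centralizer ({a} : Set G) ≤ normalizer (L : Set G)) (h34 : IsL34 (Bar L))
    (hT : IsSyl (centralizer ({a} : Set G)) T) (haT : a ∈ T)
    (h : Fr T (T ⊓ L) (fix T L) Z A b) (hQ2 : ∀ q ∈ fix T L, q * q = 1) (hQ4 : Nat.card (fix T L) ≤ 4) :
    Pair (ext f a) (ext f b) (im f L) (im f T) (im f (T ⊓ L)) (im f (fix T L)) (im f Z)
      (fun i => im f (A i)) := by
  have hodd := odd_ker hW hker
  have hfinH : Finite H := Finite.of_surjective f hs
  have hTM : T ≤ M := hT.le.trans hCM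
  have hLM : L ≤ M := hL.le.trans hCM
  have haC : a ∈ centralizer ({a} : Set G) := mem_centralizer_singleton_iff.2 rfl
  have haM : a ∈ M := hCM haC
  have hI := isoOn_ext (f := f) hodd hTM hT.two
  have hZT : Z ≤ T := fun z hz => h.PT (h.AP false (h.ZA false hz))
  have hAT : ∀ i, A i ≤ T := fun i u hu => h.PT (h.AP i hu)
  have haa := sq_of_order ha
  have haQ : a ∈ fix T L := ⟨haT, fixes_self' hL.le⟩
  have ha2 : IsPGroup 2 (zpowers a) := by
    apply IsPGroup.of_card (n := 1)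
    rw [Nat.card_zpowers, ha, pow_one]
  -- `C(π a) = π(C(a))`
  have hcent : centralizer ({ext f a} : Set H) = im f (centralizer ({a} : Set G)) := by
    rw [cent_im hodd hs haM ha2, inf_eq_left.2 hCM]
  have hcW : core (centralizer ({a} : Set G)) ≤ W := by rw [← hCW]; exact inf_le_left
  -- elements
  have hex : ∀ y ∈ centralizer ({ext f a} : Set H), ∃ g ∈ centralizer ({a} : Set G), ext f g = y := by
    intro y hy
    rw [hcent] at hy
    exact (img_im f hCM y).1 hy
  have hexL : ∀ y ∈ im f L, ∃ l ∈ L, ext f l = y := fun y hy => (img_im f hLM y).1 hy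
  -- `L ∩ W = O(L)`
  have hLW : ∀ l ∈ L, l ∈ W → l ∈ core L := by
    intro l hl hlW
    have h1 : l ∈ core (centralizer ({a} : Set G)) := by
      rw [← hCW]; exact ⟨hlW, hL.le hl⟩
    have h2 : core (centralizer ({a} : Set G)) ⊓ L ≤ core L := by
      refine le_core inf_le_right ?_ (Odd.of_dvd_nat (odd_card_core _) (card_dvd_of_le inf_le_left))
      intro g hg
      rw [mem_normalizer_iff_cj, cj_inf, mem_normalizer_iff_cj.1 (le_normalizer hg),
        mem_normalizer_iff_cj.1 (le_normalizer_core _ (hL.le hg))]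
    exact h2 ⟨h1, hl⟩
  have hcLC : core L ≤ core (centralizer ({a} : Set G)) :=
    le_core ((core_le L).trans hL.le) (hLn.trans (normalizer_le_normalizer_core L)) (odd_card_core L)
  -- `L^ ≅ L / O(L)`
  have hiso : Nonempty (Bar L ≃* ↥(im f L)) := by
    let ψ : ↥L →* ↥(im f L) := (f.comp (inclusion hLM)).codRestrict (im f L)
      (fun l => ⟨inclusion hLM l, l.2, rfl⟩)
    have hψ : Function.Surjective ψ := by
      rintro ⟨_, l, hl, rfl⟩
      exact ⟨⟨l, hl⟩, rfl⟩
    have hk : ψ.ker = oddCore ↥L := by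
      ext l
      have h1 : l ∈ ψ.ker ↔ ext f (l : G) = 1 := by
        rw [MonoidHom.mem_ker, ext_apply f (hLM l.2)]
        constructor
        · intro h2; exact congrArg Subtype.val h2
        · intro h2; exact Subtype.ext h2
      rw [h1, ext_eq_one hker (hLM l.2), ← mem_core_iff l.2]
      exact ⟨hLW l l.2, fun h2 => hcW (hcLC h2)⟩
    exact ⟨(QuotientGroup.quotientMulEquivOfEq hk.symm).trans
      (QuotientGroup.quotientKerEquivOfSurjective ψ hψ)⟩
  obtain ⟨eL⟩ := hiso
  have hl34 : IsL34 ↥(im f L) := by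
    obtain ⟨F, i, j, hF, ⟨e⟩⟩ := h34
    exact ⟨F, i, j, hF, ⟨eL.symm.trans e⟩⟩
  -- `C(a) ∩ C(L / O(L)) = O(C(a)) Q`
  have hfixG : ∀ g ∈ centralizer ({a} : Set G), Fixes g L →
      ∃ o ∈ core (centralizer ({a} : Set G)), ∃ q ∈ fix T L, g = o * q := by
    have hp : Fact (Nat.Prime 2) := ⟨Nat.prime_two⟩
    obtain ⟨X, hX⟩ : ∃ X, X = fix (centralizer ({a} : Set G)) L := ⟨_, rfl⟩
    have hXC : X ≤ centralizer ({a} : Set G) := by rw [hX]; exact fix_le _ _
    have hXn : centralizer ({a} : Set G) ≤ normalizer (X : Set G) := by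
      intro c hc
      have key : ∀ c ∈ centralizer ({a} : Set G), ∀ y ∈ X, c * y * c⁻¹ ∈ X := by
        intro c hc y hy
        rw [hX] at hy ⊢
        exact conj_mem_fix (le_normalizer hc) (hLn hc) hy
      rw [mem_normalizer_iff]
      intro y
      refine ⟨key c hc y, fun hy => ?_⟩
      have h1 := key c⁻¹ (inv_mem hc) _ hy
      have h2 : c⁻¹ * (c * y * c⁻¹) * c⁻¹⁻¹ = y := by group
      rwa [h2] at h1
    have hXs := hT.inf hXC hXn
    have hTX : T ⊓ X = fix T L := by
      ext y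
      rw [mem_inf, hX, mem_fix, mem_fix]
      exact ⟨fun h1 => ⟨h1.1, h1.2.2⟩, fun h1 => ⟨h1.1, hT.le h1.1, h1.2⟩⟩
    rw [hTX] at hXs
    obtain ⟨P, hP⟩ := hXs.exists_sylow
    have haX : a ∈ X := by rw [hX]; exact ⟨haC, haQ.2⟩
    have hPm : ∀ y : ↥X, y ∈ P ↔ (y : G) ∈ fix T L := by
      intro y
      rw [← hP]
      exact (Subgroup.mem_map_iff_mem X.subtype_injective).symm
    obtain ⟨N, hN, hNo, hNP⟩ := exists_small P (a := (⟨a, haX⟩ : ↥X)) ((hPm _).2 haQ)
      (fun h1 => ne_one_of_order ha (congrArg Subtype.val h1))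
      (fun g => Subtype.ext (mem_centralizer_singleton_iff.1 (hXC g.2)))
      (fun q hq => Subtype.ext (hQ2 _ ((hPm q).1 hq)))
      (by
        have h1 : Nat.card P = Nat.card (fix T L) := by
          rw [← hP]
          exact (card_map_of_injective X.subtype_injective).symm
        rw [h1]; exact hQ4)
    -- `N ≤ O(X) ≤ O(C(a))`
    have hNX : N.map X.subtype ≤ core X := by
      refine le_core (map_subtype_le N) ?_ ?_
      · exact le_normalizer_map_normal hN
      · rwa [card_map_of_injective X.subtype_injective]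
    have hXc : core X ≤ core (centralizer ({a} : Set G)) :=
      le_core ((core_le X).trans hXC) (hXn.trans (normalizer_le_normalizer_core X)) (odd_card_core X)
    intro g hg hgf
    have hgX : g ∈ X := by rw [hX]; exact ⟨hg, hgf⟩
    obtain ⟨n, hn, q, hq, h1⟩ := hNP ⟨g, hgX⟩
    exact ⟨n, hXc (hNX ⟨n, hn, rfl⟩), q, (hPm q).1 hq, congrArg Subtype.val h1⟩
  have hcomm : ∀ g ∈ M, ∀ k ∈ M, (ext f g * ext f k = ext f k * ext f g ↔ ⁅g, k⁆ ∈ W) := by
    intro g hg k hk
    rw [← ext_eq_one hker (show ⁅g, k⁆ ∈ M from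
      M.mul_mem (M.mul_mem (M.mul_mem hg hk) (M.inv_mem hg)) (M.inv_mem hk)), commutatorElement_def,
      ext_mul (M.mul_mem (M.mul_mem hg hk) (M.inv_mem hg)) (M.inv_mem hk),
      ext_mul (M.mul_mem hg hk) (M.inv_mem hg), ext_mul hg hk, ext_inv hg, ext_inv hk,
      mul_inv_eq_one, mul_inv_eq_iff_eq_mul]
  have hQT : fix T L ≤ T := fix_le T L
  have hQM : fix T L ≤ M := hQT.trans hTM
  have hfixQ : ∀ g ∈ centralizer ({ext f a} : Set H), (∀ l ∈ im f L, g * l = l * g) →
      g ∈ im f (fix T L) := by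
    intro g hg hgl
    obtain ⟨g, hgC, rfl⟩ := hex g hg
    have h1 : Fixes g L := by
      refine ⟨hLn hgC, fun l hl => ?_⟩
      have h2 : ⁅g, l⁆ ∈ W := (hcomm g (hCM hgC) l (hLM hl)).1 (hgl _ (mem_im_of hLM hl))
      have h3 : ⁅g, l⁆ ∈ L := by
        rw [commutatorElement_def]
        exact L.mul_mem ((mem_normalizer_iff.1 (hLn hgC) l).1 hl) (L.inv_mem hl)
      exact hLW _ h3 h2
    obtain ⟨o, ho, q, hq, rfl⟩ := hfixG g hgC h1
    have ho' := hcW ho
    have hoM : o ∈ M := hCM (core_le _ ho)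
    rw [ext_mul hoM (hQM hq), (ext_eq_one hker hoM).2 ho', one_mul]
    exact mem_im_of hQM hq
  have hQfix : ∀ q ∈ im f (fix T L), ∀ l ∈ im f L, q * l = l * q := by
    intro q hq l hl
    obtain ⟨q, hq', rfl⟩ := (img_im f hQM q).1 hq
    obtain ⟨l, hl', rfl⟩ := hexL l hl
    rw [hcomm q (hQM hq') l (hLM hl')]
    exact hcW (hcLC (hq'.2.2 l hl'))
  have hQsq : ∀ q ∈ im f (fix T L), q * q = 1 := by
    intro q hq
    obtain ⟨q, hq', rfl⟩ := (img_im f hQM q).1 hq
    rw [← ext_mul (hQM hq') (hQM hq'), hQ2 q hq', ext_one]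
  have hQcomm : ∀ p ∈ im f (fix T L), ∀ q ∈ im f (fix T L), p * q = q * p := by
    intro p hp q hq
    have h1 := hQsq _ (mul_mem hp hq)
    have h2 : p⁻¹ = p := inv_eq_of_mul_eq_one_right (hQsq p hp)
    have h3 : q⁻¹ = q := inv_eq_of_mul_eq_one_right (hQsq q hq)
    have h4 : (p * q)⁻¹ = p * q := inv_eq_of_mul_eq_one_right h1
    rw [← h4, mul_inv_rev, h2, h3]
  have hLa : im f L ≤ centralizer ({ext f a} : Set H) := by
    rw [hcent]; exact im_mono hL.le
  have hLn' : centralizer ({ext f a} : Set H) ≤ normalizer (im f L : Set H) := by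
    have key : ∀ g ∈ centralizer ({ext f a} : Set H), ∀ l ∈ im f L, g * l * g⁻¹ ∈ im f L := by
      intro g hg l hl
      obtain ⟨g, hgC, rfl⟩ := hex g hg
      obtain ⟨l, hl', rfl⟩ := hexL l hl
      rw [← ext_mul (hCM hgC) (hLM hl'), ← ext_inv (hCM hgC),
        ← ext_mul (M.mul_mem (hCM hgC) (hLM hl')) (M.inv_mem (hCM hgC))]
      exact mem_im_of hLM ((mem_normalizer_iff.1 (hLn hgC) l).1 hl')
    intro g hg
    rw [mem_normalizer_iff]
    intro y
    refine ⟨key g hg y, fun hy => ?_⟩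
    have h1 := key g⁻¹ (inv_mem hg) _ hy
    have h2 : g⁻¹ * (g * y * g⁻¹) * g⁻¹⁻¹ = y := by group
    rwa [h2] at h1
  have hT' : IsSyl (centralizer ({ext f a} : Set H)) (im f T) := by
    rw [hcent]; exact isSyl_im hodd hT hCM
  obtain ⟨Dd⟩ := LSup.exists_dat hl34
  refine
    { fr := h.transfer hI hT'.two (img_im f (inf_le_left.trans hTM)) (img_im f hQM)
        (img_im f (hZT.trans hTM)) (fun i => img_im f ((hAT i).trans hTM))
      l34 := hl34
      aa := by rw [← ext_mul haM haM, haa, ext_one]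
      a1 := ?_
      aQ := mem_im_of hQM haQ
      syl := hT'
      PL := ?_
      La := hLa
      Ln := hLn'
      fixQ := fun g hg hgl => hfixQ g (mem_centralizer_singleton_iff.2 hg) hgl
      Qfix := hQfix
      perf := fun K hK hKK => perf_le Dd hLn' hfixQ hLa hQfix hQcomm hK hKK
      core := ?_ }
  · intro h1
    rw [ext_eq_one hker haM] at h1
    have h2 : a ∈ core (centralizer ({a} : Set G)) := by rw [← hCW]; exact ⟨h1, haC⟩
    exact ne_one_of_order ha (eq_one_of_mem_core_sq h2 haa)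
  · have hPs := isSyl_im (f := f) hodd (hT.inf hL.le hLn) hLM
    exact (hPs.max _ (hT'.two.to_le inf_le_left) inf_le_right
      (le_inf (im_mono inf_le_left) (im_mono inf_le_right))).symm
  · -- the core
    obtain ⟨R, hR⟩ : ∃ R, R = core (centralizer ({ext f a} : Set H)) := ⟨_, rfl⟩
    have hRC : R ≤ centralizer ({ext f a} : Set H) := by rw [hR]; exact core_le _
    have hRn : centralizer ({ext f a} : Set H) ≤ normalizer (R : Set H) := by
      rw [hR]; exact le_normalizer_core _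
    have hRo : Odd (Nat.card R) := by rw [hR]; exact odd_card_core _
    let g : ↥(centralizer ({a} : Set G)) →* H := f.comp (inclusion hCM)
    have hg : ∀ c, g c = ext f c := fun c => (ext_apply f (hCM c.2)).symm
    obtain ⟨N, hN⟩ : ∃ N, N = R.comap g := ⟨_, rfl⟩
    have hNn : N.Normal := by
      constructor
      intro n hn c
      rw [hN, mem_comap] at hn ⊢
      rw [map_mul, map_mul, map_inv]
      refine (mem_normalizer_iff.1 (hRn ?_) _).1 hn
      rw [hcent, hg]
      exact mem_im_of hCM c.2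
    have hNo : Odd (Nat.card N) := by
      have h1 := card_eq_inf_mul_map' g N
      rw [h1]
      refine Odd.mul ?_ ?_
      · have h2 : (N ⊓ g.ker).map (centralizer ({a} : Set G)).subtype ≤ W := by
          rintro _ ⟨n, hn, rfl⟩
          have h3 : ext f (n : G) = 1 := by rw [← hg]; exact hn.2
          exact (ext_eq_one hker (hCM n.2)).1 h3
        rw [← card_map_of_injective (centralizer ({a} : Set G)).subtype_injective]
        exact Odd.of_dvd_nat hW (card_dvd_of_le h2)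
      · have h2 : N.map g ≤ R := by
          rw [hN]; exact map_comap_le g R
        exact Odd.of_dvd_nat hRo (card_dvd_of_le h2)
    have hNc : N.map (centralizer ({a} : Set G)).subtype ≤ core (centralizer ({a} : Set G)) := by
      refine le_core (map_subtype_le N) (le_normalizer_map_normal hNn) ?_
      rwa [card_map_of_injective (centralizer ({a} : Set G)).subtype_injective]
    rw [← hR, eq_bot_iff]
    intro y hy
    obtain ⟨c, hc, rfl⟩ := hex y (hRC hy)
    rw [mem_bot, ext_eq_one hker (hCM hc)]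
    apply hcW
    refine hNc ⟨⟨c, hc⟩, ?_, rfl⟩
    rw [SetLike.mem_coe, hN, mem_comap, hg]
    exact hy

end

end MHat

end Cfsg.Agent.UGT.L34T2
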