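import Cfsg.Agent.UGT.L34.Supply
import Cfsg.Agent.UGT.L34T2.Good
import Cfsg.Agent.UGT.L34T2.Gen
import Cfsg.Agent.UGT.L34T2.Quo
import Cfsg.Agent.UGT.L34T2.FrTransfer
import Cfsg.Agent.UGT.L34T2.FrBase

/-!
# NodeL34, T2, SMALL (6): `C(a) ≤ N(W)`, `C_W(a) = O(C(a))`

* `ext f`: a homomorphism `f : M → H` extended by 1; `isoOn_ext`.
* `le_of_normalizers`: `L / O(L) ≅ L₃(4)`, `O(L) ≤ K`, `N_L(A i) ≤ K` ⟹ `L ≤ K`.
* `cent_le`, `cent_inf`, `normalizer_le`: `Fun Z (A false) (A true) W` ⟹ `C(a) ≤ N(W)`, `W ∩ C(a) = O(C(a))`,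
  `N(P), N(P Q) ≤ N(W)`.
-/

set_option autoImplicit false
set_option linter.unusedSectionVars false

open Cfsg Subgroup
open Cfsg.Agent.SignalizersComponents Cfsg.Agent.Lib
open Cfsg.Agent.SignalizersComponents.IntrinsicBasic
open Cfsg.Agent.SignalizersComponents.IntrinsicIntr
open Cfsg.Agent.Intrinsic Cfsg.Agent.Intrinsic.Basic Cfsg.Agent.Intrinsic.Cen Cfsg.Agent.Intrinsic.Diag
open Cfsg.Agent.UGT.TriBase Cfsg.Agent.McLLyComp.Act
open Cfsg.Agent.UGT.Iface (Bar IsL34)

namespace Cfsg.Agent.UGT.L34T2.NormW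

universe u

section

variable {G H : Type*} [Group G] [Group H]

open Classical in
/-- a homomorphism on `M` extended by 1 -/
noncomputable def ext {M : Subgroup G} (f : ↥M →* H) (g : G) : H := if h : g ∈ M then f ⟨g, h⟩ else 1

theorem ext_apply {M : Subgroup G} (f : ↥M →* H) {g : G} (h : g ∈ M) : ext f g = f ⟨g, h⟩ := by
  unfold ext
  rw [dif_pos h]

theorem ext_coe {M : Subgroup G} (f : ↥M →* H) (g : ↥M) : ext f g = f g := ext_apply f g.2

/-- the image of a subgroup of `G` under `f : M → H` -/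
def im {M : Subgroup G} (f : ↥M →* H) (V : Subgroup G) : Subgroup H := (V.subgroupOf M).map f

theorem img_im {M : Subgroup G} (f : ↥M →* H) {V : Subgroup G} (hV : V ≤ M) : Img (ext f) V (im f V) := by
  intro y
  constructor
  · rintro ⟨v, hv, rfl⟩
    exact ⟨v, hv, ext_coe f v⟩
  · rintro ⟨v, hv, rfl⟩
    exact ⟨⟨v, hV hv⟩, hv, (ext_apply f (hV hv)).symm⟩

theorem isoOn_ext [Finite G] {M : Subgroup G} {f : ↥M →* H} (hf : Odd (Nat.card f.ker)) {T : Subgroup G}
    (hTM : T ≤ M) (hT : IsPGroup 2 ↥T) : IsoOn (ext f) T (im f T) := by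
  have hT' : IsPGroup 2 ↥(T.subgroupOf M) :=
    hT.of_injective (subgroupOfEquivOfLe hTM).toMonoidHom (subgroupOfEquivOfLe hTM).injective
  refine ⟨?_, ?_, img_im f hTM⟩
  · intro s hs t ht
    rw [ext_apply f (hTM hs), ext_apply f (hTM ht), ext_apply f (hTM (T.mul_mem hs ht)), ← map_mul]
    rfl
  · intro s hs t ht h
    rw [ext_apply f (hTM hs), ext_apply f (hTM ht)] at h
    exact congrArg Subtype.val (Quo.inj_on hf hT' (r := ⟨s, hTM hs⟩) (s := ⟨t, hTM ht⟩) hs ht h)

theorem two_subgroupOf {M T : Subgroup G} (hT : IsPGroup 2 ↥T) : IsPGroup 2 ↥(T.subgroupOf M) := by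
  rintro ⟨t, ht⟩
  obtain ⟨k, hk⟩ := hT ⟨t, ht⟩
  refine ⟨k, Subtype.ext (Subtype.ext ?_)⟩
  have h1 : ((t : G) ^ 2 ^ k : G) = 1 := congrArg Subtype.val hk
  exact h1

end

variable {G : Type u} [Group G] [Finite G]

theorem odd_ker_mk (L : Subgroup G) : Odd (Nat.card (QuotientGroup.mk' (oddCore ↥L)).ker) := by
  rw [QuotientGroup.ker_mk']
  have h := odd_card_core L
  rwa [core, card_map_of_injective L.subtype_injective] at h

/-- `L = O(L) ⟨N_L(A false), N_L(A true)⟩` -/
theorem le_of_normalizers {L P Z K : Subgroup G} {A : Bool → Subgroup G} (h34 : IsL34 (Bar L))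
    (hP : P ≤ L) (h2 : IsPGroup 2 ↥P) (h : Heis P Z A) (hc : core L ≤ K)
    (hK : ∀ i, ∀ g ∈ L, g ∈ normalizer (A i : Set G) → g ∈ K) : L ≤ K := by
  obtain ⟨Dd⟩ := LSup.exists_dat h34
  obtain ⟨f, hf⟩ : ∃ f : ↥L →* Bar L, f = QuotientGroup.mk' (oddCore ↥L) := ⟨_, rfl⟩
  have hodd : Odd (Nat.card f.ker) := by rw [hf]; exact odd_ker_mk L
  have hs : Function.Surjective f := by rw [hf]; exact QuotientGroup.mk'_surjective _
  have hker : ∀ k : ↥L, k ∈ f.ker → (k : G) ∈ core L := by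
    intro k hk
    rw [hf, QuotientGroup.ker_mk'] at hk
    exact (mem_core_iff k.2).2 hk
  have hAL : ∀ i, A i ≤ L := fun i => (h.AP i).trans hP
  have hH : Heis (im f P) (im f Z) (fun i => im f (A i)) :=
    h.transfer (isoOn_ext hodd hP h2) le_rfl (img_im f hP) (img_im f (h.ZP.trans hP))
      (fun i => img_im f (hAL i))
  have htop : im f K = ⊤ := by
    refine Gen.gen_of_heis Dd hH ?_
    intro i y hy
    obtain ⟨g, rfl⟩ := hs y
    have h1 : f g ∈ normalizer (((A i).subgroupOf L).map f : Set (Bar L)) := by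
      rw [mem_normalizer_iff]
      exact hy
    have hA2 : IsPGroup 2 ↥((A i).subgroupOf L) := two_subgroupOf (h2.to_le (h.AP i))
    obtain ⟨n, hn, h3⟩ := Quo.exists_normalizer hodd hA2 h1
    have h4 : (n : G) ∈ normalizer (A i : Set G) := by
      rw [mem_normalizer_iff]
      intro v
      have h5 := mem_normalizer_iff.1 hn
      constructor
      · intro hv
        exact (h5 ⟨v, hAL i hv⟩).1 hv
      · intro hv
        have hvL : v ∈ L := by
          have h6 := L.mul_mem (L.mul_mem (L.inv_mem n.2) (hAL i hv)) n.2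
          have h7 : (n : G)⁻¹ * (n * v * (n : G)⁻¹) * n = v := by group
          rwa [h7] at h6
        exact (h5 ⟨v, hvL⟩).2 hv
    have h5 : f n = f g := by
      have h6 := (MonoidHom.mem_ker).1 h3
      rw [map_mul, map_inv] at h6
      exact mul_inv_eq_one.1 h6
    exact ⟨n, hK i n n.2 h4, h5⟩
  intro l hl
  have h1 : f ⟨l, hl⟩ ∈ im f K := by rw [htop]; exact mem_top _
  obtain ⟨k, hk, h2⟩ := h1
  have h3 : (⟨l, hl⟩ : ↥L) * k⁻¹ ∈ f.ker := by
    rw [MonoidHom.mem_ker, map_mul, map_inv, h2, mul_inv_cancel]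
  have h4 : (l * (k : G)⁻¹) * (k : G) ∈ K := K.mul_mem (hc (hker _ h3)) hk
  rwa [inv_mul_cancel_right] at h4

section

variable {a : G} {L P T Z W : Subgroup G} {A : Bool → Subgroup G}

/-- `N(P) ≤ N(Z)` -/
theorem normalizer_P_le (h : Heis P Z A) : normalizer (P : Set G) ≤ normalizer (Z : Set G) := by
  have key : ∀ n ∈ normalizer (P : Set G), ∀ z ∈ Z, n * z * n⁻¹ ∈ Z := by
    intro n hn z hz
    have hn' := mem_normalizer_iff.1 hn
    refine h.mem_Z ((hn' z).1 (h.ZP hz)) ?_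
    intro p hp
    have h1 : n⁻¹ * p * n ∈ P := by
      have := mem_normalizer_iff.1 (inv_mem hn) p
      rw [inv_inv] at this
      exact this.1 hp
    have h2 := h.Zcen z hz _ h1
    calc n * z * n⁻¹ * p = n * (z * (n⁻¹ * p * n)) * n⁻¹ := by group
      _ = n * ((n⁻¹ * p * n) * z) * n⁻¹ := by rw [h2]
      _ = p * (n * z * n⁻¹) := by group
  intro n hn
  rw [mem_normalizer_iff]
  intro z
  refine ⟨key n hn z, fun hz => ?_⟩
  have h1 := key n⁻¹ (inv_mem hn) _ hz
  have h2 : n⁻¹ * (n * z * n⁻¹) * n⁻¹⁻¹ = z := by group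
  rwa [h2] at h1

theorem normalizer_Z_le (h : Heis P Z A) (hF : Good.Fun Z (A false) (A true) W) :
    normalizer (Z : Set G) ≤ normalizer (W : Set G) :=
  hF.nor Z (Or.inl (h.ZA false)) h.cardZ.ge

theorem normalizer_A_le (h : Heis P Z A) (hF : Good.Fun Z (A false) (A true) W) (i : Bool) :
    normalizer (A i : Set G) ≤ normalizer (W : Set G) := by
  refine hF.nor (A i) ?_ (by rw [h.cardA]; norm_num)
  cases i
  · exact Or.inl le_rfl
  · exact Or.inr le_rfl

/-- `O(C(a)) ≤ W` -/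
theorem core_le_W (ha : orderOf a = 2) (h : Heis P Z A) (hF : Good.Fun Z (A false) (A true) W)
    (hP : P ≤ centralizer ({a} : Set G)) : core (centralizer ({a} : Set G)) ≤ W := by
  refine hF.core (A false) a (Or.inl le_rfl) (by rw [h.cardA]; norm_num) ha ?_
  intro u hu
  exact (mem_centralizer_singleton_iff.1 (hP (h.AP false hu))).symm

/-- **(6)** `C(a) ≤ N(W)` -/
theorem cent_le (ha : orderOf a = 2) (hL : IsComp (centralizer ({a} : Set G)) L)
    (hLn : centralizer ({a} : Set G) ≤ normalizer (L : Set G)) (h34 : IsL34 (Bar L))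
    (hT : IsSyl (centralizer ({a} : Set G)) T) (hPT : P = T ⊓ L) (h : Heis P Z A)
    (hF : Good.Fun Z (A false) (A true) W) : centralizer ({a} : Set G) ≤ normalizer (W : Set G) := by
  have hP : P ≤ L := by rw [hPT]; exact inf_le_right
  have hPs : IsSyl L P := by rw [hPT]; exact hT.inf hL.le hLn
  have hcW := core_le_W ha h hF (hP.trans hL.le)
  -- `L ≤ N(W)`
  have hLW : L ≤ normalizer (W : Set G) := by
    refine le_of_normalizers h34 hP hPs.two h ?_ ?_
    · refine le_trans ?_ (hcW.trans le_normalizer)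
      refine le_core ((core_le L).trans hL.le) ?_ (odd_card_core L)
      exact hLn.trans (normalizer_le_normalizer_core L)
    · intro i g _ hg
      exact normalizer_A_le h hF i hg
  -- Frattini
  intro g hg
  have h1 : cj g P ≤ L := by
    have h2 := cj_mono (g := g) hP
    rwa [mem_normalizer_iff_cj.1 (hLn hg)] at h2
  have h2 : IsPGroup 2 ↥(cj g P) := by
    rw [cj_def]; exact hPs.two.map _
  obtain ⟨l, hl, h3⟩ := hPs.conj h2 h1
  have h4 : cj g P = cj l P := by
    refine Subgroup.eq_of_le_of_card_ge h3 ?_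
    rw [cj_def, cj_def, card_map_of_injective (MulAut.conj l).injective,
      card_map_of_injective (MulAut.conj g).injective]
  have h5 : l⁻¹ * g ∈ normalizer (P : Set G) := by
    rw [mem_normalizer_iff_cj, cj_mul, h4, ← cj_mul, inv_mul_cancel, cj_one]
  have h6 : l⁻¹ * g ∈ normalizer (W : Set G) := normalizer_Z_le h hF (normalizer_P_le h h5)
  have h7 := mul_mem (hLW hl) h6
  rwa [mul_inv_cancel_left] at h7

/-- **(6)** `W ∩ C(a) = O(C(a))` -/
theorem cent_inf (ha : orderOf a = 2) (hL : IsComp (centralizer ({a} : Set G)) L)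
    (hLn : centralizer ({a} : Set G) ≤ normalizer (L : Set G)) (h34 : IsL34 (Bar L))
    (hT : IsSyl (centralizer ({a} : Set G)) T) (hPT : P = T ⊓ L) (h : Heis P Z A)
    (hF : Good.Fun Z (A false) (A true) W) :
    W ⊓ centralizer ({a} : Set G) = core (centralizer ({a} : Set G)) := by
  have hP : P ≤ L := by rw [hPT]; exact inf_le_right
  exact Good.inf_eq hF.odd (core_le_W ha h hF (hP.trans hL.le)) (cent_le ha hL hLn h34 hT hPT h hF)

end

end Cfsg.Agent.UGT.L34T2.NormW
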