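import Cfsg.Agent.UGT.L34T2.OddSEmb
import Cfsg.Agent.UGT.L34T2.Good

/-!
# NodeL34, T2, SMALL, `|Q| = 2` (text #14883 (8) of helper231; piece [F5], typed by helper473)

`a` an involution, `L` a 2-component of type `L₃(4)`, normal in `C(a)`, `T ∈ Syl₂(C(a))`,
`C_T(L / O(L)) = {1, a}`, `W` an odd group with `C(a) ≤ N(W)`, `C_W(a) = O(C(a))` (`W = 1` allowed if `O(C(a)) = 1`),
`t ∈ N(W)` normalising `⟨a⟩(T ∩ L)` and not centralising `a`, and `g ∈ N(W)` if `Z`, `g Z g⁻¹` commute.  Then `a ∉ G'`.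

* `notMem_commutator`: the general form; `of_fun`: with helper138's `Fun`.
-/

set_option autoImplicit false
set_option linter.unusedSectionVars false

open Cfsg Subgroup
open Cfsg.Agent.SignalizersComponents Cfsg.Agent.Lib
open Cfsg.Agent.SignalizersComponents.IntrinsicBasic
open Cfsg.Agent.Intrinsic Cfsg.Agent.Intrinsic.Basic Cfsg.Agent.Intrinsic.Cen Cfsg.Agent.Intrinsic.Diag
open Cfsg.Agent.UGT.Triple Cfsg.Agent.UGT.TriBase
open Cfsg.Agent.UGT.Iface (Bar IsL34)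
open Cfsg.Agent.UGT.L34T2.Good
open scoped commutatorElement

namespace Cfsg.Agent.UGT.L34T2.OddEnd

open Cfsg.Agent.StdLThreeFour.Base (L0 S0 Z0)
open Cfsg.Agent.StdLThreeFour

universe u

variable {G : Type u} [Group G] [Finite G]

omit [Finite G] in
theorem exists_equiv {D : Type*} [Group D] (hD : IsL34 D) : Nonempty (D ≃* L0) := by
  obtain ⟨F, i, j, hF, ⟨e⟩⟩ := hD
  obtain ⟨f⟩ := Cfsg.Agent.SporadicA.FieldFour.nonempty_psl_equiv (n := Fin 3) F hF
  exact ⟨e.trans f.symm⟩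

theorem mem_Z0_iff {z : L0} : z ∈ Z0 ↔ z ∈ S0 ∧ ∀ s ∈ S0, z * s = s * z := by
  constructor
  · intro hz
    exact ⟨Facts1.Z0_le_S0 hz, fun s hs => (Facts1.Z0_comm hz hs).symm⟩
  · rintro ⟨hz, hc⟩
    by_contra hn
    have h1 : Z0 = ⊥ := by
      rw [eq_bot_iff]
      intro w hw
      obtain ⟨s, hs, e⟩ := Facts1.exists_comm hz hn hw
      rw [mem_bot, ← e, ← hc s hs]; group
    have h2 := Facts1.card_Z0
    rw [h1, card_bot] at h2
    omega

/-- an embedding of `L₃(4)` with given image and given Sylow 2-subgroup -/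
theorem exists_iota {L P : Subgroup G} {Γ : Type*} [Group Γ] [Finite Γ] (lam : ↥L →* Γ)
    (hker : ∀ l : ↥L, lam l = 1 ↔ l ∈ oddCore ↥L) (h34 : IsL34 (Bar L)) (hP : IsSyl L P) :
    ∃ ι : L0 →* Γ, Function.Injective ι ∧ ι.range = lam.range ∧
      S0.map ι = (P.subgroupOf L).map lam := by
  classical
  obtain ⟨e⟩ := exists_equiv h34
  let lam' : Bar L →* Γ := QuotientGroup.lift (oddCore ↥L) lam (fun l hl => (hker l).mpr hl)
  have hlam' : ∀ l : ↥L, lam' (QuotientGroup.mk l) = lam l := fun l => rfl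
  have hinj : Function.Injective lam' := by
    rw [injective_iff_map_eq_one]
    intro q hq
    obtain ⟨l, rfl⟩ := QuotientGroup.mk_surjective q
    rw [hlam'] at hq
    exact (QuotientGroup.eq_one_iff l).mpr ((hker l).mp hq)
  let ι0 : L0 →* Γ := lam'.comp e.symm.toMonoidHom
  have hι0 : Function.Injective ι0 := hinj.comp e.symm.injective
  have hran : ι0.range = lam.range := by
    ext y
    constructor
    · rintro ⟨x, rfl⟩
      obtain ⟨l, hl⟩ := QuotientGroup.mk_surjective (e.symm x)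
      refine ⟨l, ?_⟩
      rw [← hlam' l, hl]; rfl
    · rintro ⟨l, rfl⟩
      refine ⟨e (QuotientGroup.mk l), ?_⟩
      show lam' (e.symm (e (QuotientGroup.mk l))) = _
      rw [e.symm_apply_apply, hlam']
  have hP2 : IsPGroup 2 ↥(P.subgroupOf L) :=
    hP.two.of_equiv (subgroupOfEquivOfLe hP.le).symm
  set P1 : Subgroup Γ := (P.subgroupOf L).map lam with hP1
  have hP1ran : P1 ≤ ι0.range := by
    rw [hran]
    rintro _ ⟨x, _, rfl⟩
    exact ⟨x, rfl⟩
  set P0 : Subgroup L0 := P1.comap ι0 with hP0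
  have hP0map : P0.map ι0 = P1 := by
    rw [hP0, map_comap_eq, inf_eq_right]
    exact hP1ran
  have hP02 : IsPGroup 2 ↥P0 := by
    have h1 : IsPGroup 2 ↥P1 := hP2.map _
    exact h1.comap_of_injective ι0 hι0
  -- the order of `P`
  have hodd : Odd (Nat.card lam.ker) := by
    have h1 : lam.ker = oddCore ↥L := by
      ext l; exact hker l
    rw [h1]
    have h2 := odd_card_core L
    have h3 : Nat.card (core L) = Nat.card (oddCore ↥L) :=
      card_map_of_injective L.subtype_injective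
    rwa [h3] at h2
  have hcardP : 64 ≤ Nat.card ↥P := by
    have h1 : 2 ^ 6 ∣ Nat.card ↥L := by
      have h2 : Nat.card (Bar L) ∣ Nat.card ↥L := card_quotient_dvd_card _
      have h3 : Nat.card (Bar L) = 20160 := by
        rw [Nat.card_congr e.toEquiv]
        exact Cfsg.Agent.ONType.PslCard.card_PSL3
      rw [h3] at h2
      exact (by norm_num : (2 ^ 6 : ℕ) ∣ 20160).trans h2
    have h4 := hP.dvd_card h1
    exact Nat.le_of_dvd Nat.card_pos h4
  have hcardP0 : 64 ≤ Nat.card ↥P0 := by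
    have h1 : Nat.card ↥P0 = Nat.card ↥P1 := by
      rw [← hP0map, card_map_of_injective hι0]
    rw [h1, hP1, OddLift.card_map lam hodd hP2,
      Nat.card_congr (subgroupOfEquivOfLe hP.le).toEquiv]
    exact hcardP
  obtain ⟨l, hl⟩ := Facts1.exists_conj_S0 hP02
  have hS0 : P0.map (MulAut.conj l).toMonoidHom = S0 := by
    apply eq_of_le_of_card_ge
    · rintro _ ⟨x, hx, rfl⟩
      exact hl x hx
    · rw [card_map_of_injective (MulAut.conj l).injective, Facts1.card_S0]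
      exact hcardP0
  refine ⟨ι0.comp (MulAut.conj l⁻¹).toMonoidHom, hι0.comp (MulAut.conj l⁻¹).injective, ?_, ?_⟩
  · rw [← hran]
    ext y
    constructor
    · rintro ⟨x, rfl⟩
      exact ⟨_, rfl⟩
    · rintro ⟨x, rfl⟩
      refine ⟨l * x * l⁻¹, ?_⟩
      show ι0 (l⁻¹ * (l * x * l⁻¹) * l⁻¹⁻¹) = ι0 x
      congr 1; group
  · rw [← hS0, map_map]
    have h1 : (ι0.comp (MulAut.conj l⁻¹).toMonoidHom).comp (MulAut.conj l).toMonoidHom = ι0 := by
      ext x
      show ι0 (l⁻¹ * (l * x * l⁻¹) * l⁻¹⁻¹) = ι0 x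
      congr 1; group
    rw [h1, hP0map]

/-- **T2, SMALL, `|Q| = 2`.** -/
theorem notMem_commutator {a t : G} {L P W Z T : Subgroup G} (ha : orderOf a = 2)
    (hL : IsComp (centralizer ({a} : Set G)) L)
    (hLn : centralizer ({a} : Set G) ≤ normalizer (L : Set G)) (h34 : IsL34 (Bar L))
    (hT : IsSyl (centralizer ({a} : Set G)) T) (haT : a ∈ T)
    (hQ : ∀ y ∈ T, Fixes y L → y = 1 ∨ y = a) (hPT : P = T ⊓ L)
    (hW : Odd (Nat.card ↥W)) (hCW : centralizer ({a} : Set G) ≤ normalizer (W : Set G))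
    (hWa : W ⊓ centralizer ({a} : Set G) = core (centralizer ({a} : Set G)))
    (hZ : ∀ z, z ∈ Z ↔ z ∈ P ∧ ∀ p ∈ P, z * p = p * z)
    (htW : t ∈ normalizer (W : Set G)) (hta : t * a ≠ a * t)
    (htP : ∀ x ∈ zpowers a ⊔ P, t * x * t⁻¹ ∈ zpowers a ⊔ P)
    (hcom : ∀ g : G, (∀ x ∈ Z, ∀ y ∈ Z, x * (g * y * g⁻¹) = g * y * g⁻¹ * x) →
      g ∈ normalizer (W : Set G)) : a ∉ commutator G := by
  classical
  have hp2 : Fact (Nat.Prime 2) := ⟨Nat.prime_two⟩
  have haa : a * a = 1 := by rw [← pow_two, ← ha, pow_orderOf_eq_one]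
  have ha1 : a ≠ 1 := by
    rintro rfl
    rw [orderOf_one] at ha
    omega
  have hPL : P ≤ L := by rw [hPT]; exact inf_le_right
  have hPT' : P ≤ T := by rw [hPT]; exact inf_le_left
  have hPsyl : IsSyl L P := by
    rw [hPT]
    exact hT.inf hL.le hLn
  have hP2 : IsPGroup 2 ↥P := hPsyl.two
  have hLC : ∀ l ∈ L, l * a = a * l := fun l hl => comm_c (hL.le hl)
  -- the quotient
  set M : Subgroup G := normalizer (W : Set G) with hM
  have hWM : W ≤ M := le_normalizer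
  set N : Subgroup ↥M := W.subgroupOf M with hN
  have hNn : N.Normal := by
    rw [hN]
    exact normal_subgroupOf_of_le_normalizer le_rfl
  let π : ↥M →* ↥M ⧸ N := QuotientGroup.mk' N
  have hπ : Function.Surjective π := QuotientGroup.mk'_surjective N
  have hker : ∀ m : ↥M, π m = 1 ↔ (m : G) ∈ W := by
    intro m
    rw [show π m = (m : ↥M ⧸ N) from rfl, QuotientGroup.eq_one_iff, hN, mem_subgroupOf]
  have hodd : Odd (Nat.card π.ker) := by
    have h1 : π.ker = N := QuotientGroup.ker_mk' N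
    rw [h1, hN, Nat.card_congr (subgroupOfEquivOfLe hWM).toEquiv]
    exact hW
  have hC : ∀ x : G, x * a = a * x → x ∈ M := fun x hx => hCW (mem_c hx)
  have haM : a ∈ M := hC a rfl
  have hLM : L ≤ M := fun l hl => hC l (hLC l hl)
  -- the embedding
  let lam : ↥L →* ↥M ⧸ N := π.comp (inclusion hLM)
  have hlam : ∀ (l : G) (hl : l ∈ L), lam ⟨l, hl⟩ = π ⟨l, hLM hl⟩ := fun l hl => rfl
  have hlamker : ∀ l : ↥L, lam l = 1 ↔ l ∈ oddCore ↥L := by
    rintro ⟨l, hl⟩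
    rw [hlam, hker, ← mem_core_iff hl, hL.core_eq, ← hWa]
    constructor
    · intro h
      exact ⟨hl, h, hL.le hl⟩
    · rintro ⟨_, h, _⟩
      exact h
  obtain ⟨ι, hι, hιran, hιP⟩ := exists_iota lam hlamker h34 hPsyl
  have hι1 : ∀ y, ∃ l, ∃ hl : l ∈ L, ι y = π ⟨l, hLM hl⟩ := by
    intro y
    have h1 : ι y ∈ lam.range := by rw [← hιran]; exact ⟨y, rfl⟩
    obtain ⟨⟨l, hl⟩, e⟩ := h1
    exact ⟨l, hl, e.symm⟩
  have hι2 : ∀ l, ∀ hl : l ∈ L, ∃ y, ι y = π ⟨l, hLM hl⟩ := by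
    intro l hl
    have h1 : lam ⟨l, hl⟩ ∈ ι.range := by rw [hιran]; exact ⟨_, rfl⟩
    obtain ⟨y, e⟩ := h1
    exact ⟨y, e⟩
  have haaM : (⟨a, haM⟩ : ↥M) * ⟨a, haM⟩ = 1 := Subtype.ext haa
  have hin : OddSEmb.In ι (π ⟨a, haM⟩) := {
    inj := hι
    aa := by rw [← map_mul, haaM, map_one]
    a1 := by
      intro h
      rw [hker] at h
      apply ha1
      have h1 : IsPGroup 2 ↥(zpowers (⟨a, haM⟩ : ↥M)) := by
        apply Syl.isPGroup_zpowers (n := 1)
        rw [pow_one, pow_two, haaM]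
      have h2 := OddLift.eq_one_of_two π hodd h1 (mem_zpowers _) ((hker _).mpr h)
      exact congrArg Subtype.val h2
    com := by
      intro y
      obtain ⟨l, hl, e⟩ := hι1 y
      rw [e]
      show π _ * π _ = π _ * π _
      rw [← map_mul, ← map_mul]
      congr 1
      exact Subtype.ext (hLC l hl).symm
    nor := by
      intro c hc y
      obtain ⟨c', hc', rfl⟩ := OddSEmb.exists_cent M π hπ hodd haaM hc
      obtain ⟨l, hl, e⟩ := hι1 y
      have hc2 : (c' : G) * a = a * c' := congrArg Subtype.val hc'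
      have h1 : (c' : G) * l * (c' : G)⁻¹ ∈ L := (mem_normalizer_iff.mp (hLn (mem_c hc2)) l).mp hl
      obtain ⟨y', e'⟩ := hι2 _ h1
      refine ⟨y', ?_⟩
      rw [e', e, ← map_inv, ← map_mul, ← map_mul]
      rfl
    two := by
      rintro c hc ⟨k, hk⟩ hcι
      -- a lift of `⟨c, a⟩`
      have h2a : IsPGroup 2 ↥(zpowers (π ⟨a, haM⟩)) := by
        apply Syl.isPGroup_zpowers (n := 1)
        rw [pow_one, pow_two, ← map_mul, haaM, map_one]
      have h2c : IsPGroup 2 ↥(zpowers c) := Syl.isPGroup_zpowers hk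
      have hnorm : zpowers c ≤ normalizer ((zpowers (π ⟨a, haM⟩) : Subgroup (↥M ⧸ N)) : Set (↥M ⧸ N)) := by
        rw [zpowers_le, mem_normalizer_iff]
        have key : ∀ d : ↥M ⧸ N, d * π ⟨a, haM⟩ = π ⟨a, haM⟩ * d → ∀ z ∈ zpowers (π ⟨a, haM⟩),
            d * z * d⁻¹ ∈ zpowers (π ⟨a, haM⟩) := by
          rintro d hd _ ⟨n, rfl⟩
          have h3 : Commute d (π ⟨a, haM⟩) := hd
          have h4 : d * (π ⟨a, haM⟩) ^ n * d⁻¹ = (π ⟨a, haM⟩) ^ n := by
            rw [(h3.zpow_right n).eq]; group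
          show d * (π ⟨a, haM⟩) ^ n * d⁻¹ ∈ _
          rw [h4]
          exact ⟨n, rfl⟩
        intro z
        constructor
        · exact key c hc z
        · intro hz
          have h3 : c⁻¹ * π ⟨a, haM⟩ = π ⟨a, haM⟩ * c⁻¹ := by
            have : Commute c (π ⟨a, haM⟩) := hc
            exact this.inv_left.eq
          have h4 := key c⁻¹ h3 _ hz
          have e : c⁻¹ * (c * z * c⁻¹) * c⁻¹⁻¹ = z := by group
          rwa [e] at h4
      have hB' : IsPGroup 2 ↥(zpowers c ⊔ zpowers (π ⟨a, haM⟩) : Subgroup (↥M ⧸ N)) :=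
        h2c.to_sup_of_normal_right' h2a hnorm
      have hP0 : IsPGroup 2 ↥(zpowers (⟨a, haM⟩ : ↥M)) := by
        apply Syl.isPGroup_zpowers (n := 1)
        rw [pow_one, pow_two, haaM]
      obtain ⟨B, hB, haB, hBm⟩ := OddLift.exists_lift π hπ hB' hP0 (by
        rw [MonoidHom.map_zpowers]
        exact le_sup_right)
      have haB' : (⟨a, haM⟩ : ↥M) ∈ B := haB (mem_zpowers _)
      obtain ⟨c', hc'B, hc'⟩ : c ∈ B.map π := by
        rw [hBm]
        exact (le_sup_left : zpowers c ≤ _) (mem_zpowers c)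
      have hc'a : c' * ⟨a, haM⟩ = ⟨a, haM⟩ * c' := by
        apply OddLift.inj_on π hodd hB (B.mul_mem hc'B haB') (B.mul_mem haB' hc'B)
        rw [map_mul, map_mul, hc', hc]
      have hc'a' : (c' : G) * a = a * c' := congrArg Subtype.val hc'a
      have hfix : Fixes (c' : G) L := by
        refine ⟨hLn (mem_c hc'a'), fun l hl => ?_⟩
        obtain ⟨y, e⟩ := hι2 l hl
        have h1 := (hcι y).eq
        rw [e, ← hc', ← map_mul, ← map_mul] at h1
        have hlM := hLM hl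
        have h2 : π (c' * ⟨l, hLM hl⟩ * c'⁻¹ * (⟨l, hLM hl⟩ : ↥M)⁻¹) = 1 := by
          rw [map_mul, map_mul, map_inv, map_inv, h1, map_mul]; group
        rw [hker] at h2
        have h3 : ⁅(c' : G), l⁆ ∈ W := h2
        have h4 : ⁅(c' : G), l⁆ ∈ L := by
          rw [commutatorElement_def]
          exact L.mul_mem ((mem_normalizer_iff.mp (hLn (mem_c hc'a')) l).mp hl) (L.inv_mem hl)
        rw [hL.core_eq, ← hWa]
        exact ⟨h4, h3, hL.le h4⟩
      -- conjugate into `T`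
      have h2c' : IsPGroup 2 ↥(zpowers (c' : G)) := by
        obtain ⟨k', hk'⟩ := Syl.two_of_isPGroup hB hc'B
        exact Syl.isPGroup_zpowers (n := k') (congrArg (Subtype.val : ↥M → G) hk')
      obtain ⟨g, hg, hle⟩ := hT.conj h2c' (by
        rw [zpowers_le]; exact mem_c hc'a')
      have h5 : g⁻¹ * (c' : G) * g ∈ T := mem_cj.mp (hle (mem_zpowers _))
      have hgL : cj g⁻¹ L = L := mem_normalizer_iff_cj.mp (inv_mem (hLn hg))
      have h6 := hfix.cj g⁻¹
      rw [inv_inv, hgL] at h6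
      have hga : g * a = a * g := comm_c hg
      rcases hQ _ h5 h6 with h7 | h7
      · left
        have h8 : (c' : G) = 1 := by
          calc (c' : G) = g * (g⁻¹ * (c' : G) * g) * g⁻¹ := by group
            _ = 1 := by rw [h7]; group
        have h9 : c' = 1 := Subtype.ext h8
        rw [← hc', h9, map_one]
      · right
        have h8 : (c' : G) = a := by
          calc (c' : G) = g * (g⁻¹ * (c' : G) * g) * g⁻¹ := by group
            _ = g * a * g⁻¹ := by rw [h7]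
            _ = a := by rw [hga]; group
        have h9 : c' = ⟨a, haM⟩ := Subtype.ext h8
        rw [← hc', h9] }
  -- the group `⟨a⟩ P`
  have hTM : T ≤ M := fun x hx => hCW (hT.le hx)
  have haPT : zpowers a ⊔ P ≤ T := sup_le (by rw [zpowers_le]; exact haT) hPT'
  have hmapP : ∀ K : Subgroup G, ∀ hK : K ≤ M, ∀ y, y ∈ (K.subgroupOf M).map π ↔
      ∃ x, ∃ hx : x ∈ K, π ⟨x, hK hx⟩ = y := by
    intro K hK y
    constructor
    · rintro ⟨x, hx, rfl⟩
      exact ⟨x, mem_subgroupOf.mp hx, rfl⟩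
    · rintro ⟨x, hx, rfl⟩
      exact ⟨⟨x, hK hx⟩, mem_subgroupOf.mpr hx, rfl⟩
  have hS0 : ∀ y, y ∈ S0.map ι ↔ ∃ x, ∃ hx : x ∈ P, π ⟨x, hLM (hPL hx)⟩ = y := by
    intro y
    rw [hιP]
    constructor
    · rintro ⟨⟨x, hxL⟩, hx, rfl⟩
      exact ⟨x, mem_subgroupOf.mp hx, rfl⟩
    · rintro ⟨x, hx, rfl⟩
      exact ⟨⟨x, hPL hx⟩, mem_subgroupOf.mpr hx, rfl⟩
  have haPM : zpowers a ⊔ P ≤ M := haPT.trans hTM
  have hsup : zpowers (π ⟨a, haM⟩) ⊔ S0.map ι = ((zpowers a ⊔ P).subgroupOf M).map π := by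
    apply le_antisymm
    · apply sup_le
      · rw [zpowers_le, hmapP _ haPM]
        exact ⟨a, (le_sup_left : zpowers a ≤ _) (mem_zpowers a), rfl⟩
      · intro y hy
        obtain ⟨x, hx, rfl⟩ := (hS0 y).mp hy
        rw [hmapP _ haPM]
        exact ⟨x, (le_sup_right : P ≤ _) hx, rfl⟩
    · have h1 : (zpowers a ⊔ P).subgroupOf M ≤
          (zpowers (π ⟨a, haM⟩) ⊔ S0.map ι).comap π := by
        have h2 : zpowers a ⊔ P ≤ ((zpowers (π ⟨a, haM⟩) ⊔ S0.map ι).comap π).map M.subtype := by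
          apply sup_le
          · rw [zpowers_le]
            exact ⟨⟨a, haM⟩, (le_sup_left : zpowers (π ⟨a, haM⟩) ≤ _) (mem_zpowers _), rfl⟩
          · intro x hx
            exact ⟨⟨x, hLM (hPL hx)⟩, (le_sup_right : S0.map ι ≤ _) ((hS0 _).mpr ⟨x, hx, rfl⟩), rfl⟩
        intro x hx
        obtain ⟨y, hy, e⟩ := h2 (mem_subgroupOf.mp hx)
        have : y = x := Subtype.ext e
        rwa [← this]
      rintro _ ⟨x, hx, rfl⟩
      exact h1 hx
  have haP2 : IsPGroup 2 ↥((zpowers a ⊔ P).subgroupOf M) :=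
    (hT.two.to_le haPT).of_equiv (subgroupOfEquivOfLe haPM).symm
  have hπt : π ⟨t, htW⟩ * π ⟨a, haM⟩ ≠ π ⟨a, haM⟩ * π ⟨t, htW⟩ := by
    intro h
    apply hta
    have h1 : t * a * t⁻¹ ∈ zpowers a ⊔ P := htP a ((le_sup_left : zpowers a ≤ _) (mem_zpowers a))
    have h2 : (⟨t * a * t⁻¹, haPM h1⟩ : ↥M) = ⟨a, haM⟩ := by
      apply OddLift.inj_on π hodd haP2 (mem_subgroupOf.mpr h1)
        (mem_subgroupOf.mpr ((le_sup_left : zpowers a ≤ _) (mem_zpowers a)))
      have h3 : (⟨t * a * t⁻¹, haPM h1⟩ : ↥M) = ⟨t, htW⟩ * ⟨a, haM⟩ * ⟨t, htW⟩⁻¹ := rfl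
      rw [h3, map_mul, map_mul, map_inv, h]; group
    have h4 : t * a * t⁻¹ = a := congrArg Subtype.val h2
    calc t * a = t * a * t⁻¹ * t := by group
      _ = a * t := by rw [h4]
  -- `Z`
  have hZP : Z ≤ P := fun z hz => ((hZ z).mp hz).1
  have hZM : Z ≤ M := hZP.trans (hPL.trans hLM)
  have hZ2 : IsPGroup 2 ↥(Z.subgroupOf M) :=
    (hP2.to_le hZP).of_equiv (subgroupOfEquivOfLe hZM).symm
  have hPM : P ≤ M := hPL.trans hLM
  have hPM2 : IsPGroup 2 ↥(P.subgroupOf M) := hP2.of_equiv (subgroupOfEquivOfLe hPM).symm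
  have hZmap : (Z.subgroupOf M).map π = Z0.map ι := by
    ext y
    rw [hmapP _ hZM]
    constructor
    · rintro ⟨z, hz, rfl⟩
      obtain ⟨hzP, hzc⟩ := (hZ z).mp hz
      obtain ⟨s, hs, e⟩ : π ⟨z, hZM hz⟩ ∈ S0.map ι := (hS0 _).mpr ⟨z, hzP, rfl⟩
      refine ⟨s, mem_Z0_iff.mpr ⟨hs, fun r hr => ?_⟩, e⟩
      obtain ⟨p, hp, e'⟩ := (hS0 (ι r)).mp ⟨r, hr, rfl⟩
      apply hι
      rw [map_mul, map_mul, e, ← e', ← map_mul, ← map_mul]
      congr 1
      exact Subtype.ext (hzc p hp)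
    · rintro ⟨s, hs, rfl⟩
      obtain ⟨hsS, hsc⟩ := mem_Z0_iff.mp hs
      obtain ⟨z, hz, e⟩ := (hS0 (ι s)).mp ⟨s, hsS, rfl⟩
      refine ⟨z, (hZ z).mpr ⟨hz, fun p hp => ?_⟩, e⟩
      obtain ⟨r, hr, e'⟩ : π ⟨p, hPM hp⟩ ∈ S0.map ι := (hS0 _).mpr ⟨p, hp, rfl⟩
      have h1 : (⟨z, hPM hz⟩ * ⟨p, hPM hp⟩ : ↥M) = ⟨p, hPM hp⟩ * ⟨z, hPM hz⟩ := by
        apply OddLift.inj_on π hodd hPM2
          (mul_mem (mem_subgroupOf.mpr hz) (mem_subgroupOf.mpr hp))
          (mul_mem (mem_subgroupOf.mpr hp) (mem_subgroupOf.mpr hz))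
        rw [map_mul, map_mul, ← e']
        have e2 : π ⟨z, hPM hz⟩ = ι s := e
        rw [e2, ← map_mul, ← map_mul, hsc r hr]
      exact congrArg Subtype.val h1
  exact OddSEmb.main M π hπ hodd haM haa hC hin hπt (by
    intro x hx
    rw [hsup] at hx ⊢
    rw [hmapP _ haPM] at hx ⊢
    obtain ⟨y, hy, rfl⟩ := hx
    refine ⟨_, htP y hy, ?_⟩
    rw [← map_inv, ← map_mul, ← map_mul]
    rfl) (Z.subgroupOf M) hZ2 hZmap (by
    intro g hg
    apply hcom
    intro x hx y hy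
    exact hg ⟨x, hZM hx⟩ (mem_subgroupOf.mpr hx) ⟨y, hZM hy⟩ (mem_subgroupOf.mpr hy))

/-- the same with helper138's functor `Fun`: `W = W_Z`. -/
theorem of_fun {a t : G} {L P Z T W : Subgroup G} {A₁ A₂ : Subgroup G} (ha : orderOf a = 2)
    (hL : IsComp (centralizer ({a} : Set G)) L)
    (hLn : centralizer ({a} : Set G) ≤ normalizer (L : Set G)) (h34 : IsL34 (Bar L))
    (hT : IsSyl (centralizer ({a} : Set G)) T) (haT : a ∈ T)
    (hQ : ∀ y ∈ T, Fixes y L → y = 1 ∨ y = a) (hPT : P = T ⊓ L)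
    (hF : Fun Z A₁ A₂ W) (hZA : Z ≤ A₁) (hZe : Elem Z) (hZ4 : 4 ≤ Nat.card ↥Z)
    (hCW : centralizer ({a} : Set G) ≤ normalizer (W : Set G))
    (hWa : W ⊓ centralizer ({a} : Set G) = core (centralizer ({a} : Set G)))
    (hZ : ∀ z, z ∈ Z ↔ z ∈ P ∧ ∀ p ∈ P, z * p = p * z)
    (htZ : ∀ z ∈ Z, t * z * t⁻¹ ∈ Z) (hta : t * a ≠ a * t)
    (htP : ∀ x ∈ zpowers a ⊔ P, t * x * t⁻¹ ∈ zpowers a ⊔ P) : a ∉ commutator G := by
  have hcj : ∀ g : G, Functor.W (cj g Z) = W → g ∈ normalizer (W : Set G) := by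
    intro g hg
    rw [mem_normalizer_iff_cj]
    conv_lhs => rw [hF.eq]
    rw [Functor.cj_W]
    exact hg
  refine notMem_commutator ha hL hLn h34 hT haT hQ hPT hF.odd hCW hWa hZ ?_ hta htP ?_
  · apply hcj
    have h1 : cj t Z = Z := by
      apply eq_of_le_of_card_ge
      · rintro _ ⟨z, hz, rfl⟩
        exact htZ z hz
      · exact (card_cj t Z).ge
    rw [h1]
    exact hF.eq.symm
  · intro g hg
    apply hcj
    apply hF.comm Z (cj g Z) (Or.inl hZA) hZ4 (hZe.cj g) (by rw [card_cj]; exact hZ4)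
    intro x hx y hy
    have h1 : y = g * (g⁻¹ * y * g) * g⁻¹ := by group
    rw [h1]
    exact hg x hx _ (mem_cj.mp hy)

end Cfsg.Agent.UGT.L34T2.OddEnd
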