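import Cfsg.Agent.UGT.L34T2.Small
import Cfsg.Agent.UGT.L34T2.CQ

/-!
# T2 small (#14882 (2)): `J(T) = Q P`, the action of `t`

* `norm_JJ_of`: `ker ψ` elementary abelian, `n⁻¹ (QP) n ≤ T` imply that `n` normalizes `QP`.
* `Cx.norm_J`, `Cx.t_norm`, `Cx.conj_Z`, `Cx.tb`, `Cx.ta_eq`.
-/

set_option autoImplicit false

open Subgroup
open Cfsg.Agent.SignalizersComponents.IntrinsicBasic
open Cfsg.Agent.UGT.TriBase
open Cfsg.Agent.UGT.Res.ThH (mem_normalizer_of_le)
open Cfsg.Agent.UGT.L34 (E U ZU A1 A2 px pb Mod Elem el)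

namespace Cfsg.Agent.UGT.L34T2.Small

variable {G : Type*} [Group G]

section model

variable {T : Subgroup G} {ψ : ↥T →* E} {P : Subgroup ↥T}

theorem comm_of_sq {w w' : ↥T} (hk : ∀ w, ψ w = 1 → w * w = 1) (h : ψ w = 1) (h' : ψ w' = 1) :
    w * w' = w' * w := by
  have h1 := hk (w * w') (by rw [map_mul, h, h', mul_one])
  have h2 := hk w h
  have h3 := hk w' h'
  calc w * w' = w * (w * w' * (w * w')) * w' := by rw [h1, mul_one]
    _ = (w * w) * (w' * w) * (w' * w') := by group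
    _ = w' * w := by rw [h2, h3, one_mul, mul_one]

/-- elements of `V` with images in `A` -/
theorem elem_comap (M : Mod ψ P) (hk : ∀ w, ψ w = 1 → w * w = 1) {A : Subgroup E} (hA : Elem A)
    (hAU : A ≤ U) : Elem (A.comap ψ) := by
  constructor
  · intro t ht
    obtain ⟨p, hp, w, hw, rfl⟩ := M.split (hAU ht)
    have h1 : ψ p ∈ A := by
      have h2 : ψ (p * w) ∈ A := ht
      rwa [map_mul, hw, mul_one] at h2
    have h3 : p * p = 1 := M.inj _ (P.mul_mem hp hp) (by rw [map_mul, hA.1 _ h1])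
    calc p * w * (p * w) = p * (w * p) * w := by group
      _ = (p * p) * (w * w) := by rw [← M.comm p hp w hw]; group
      _ = 1 := by rw [h3, hk w hw, one_mul]
  · intro t ht s hs
    obtain ⟨p, hp, w, hw, rfl⟩ := M.split (hAU ht)
    obtain ⟨p', hp', w', hw', rfl⟩ := M.split (hAU hs)
    have h1 : ψ p ∈ A := by
      have h2 : ψ (p * w) ∈ A := ht
      rwa [map_mul, hw, mul_one] at h2
    have h1' : ψ p' ∈ A := by
      have h2 : ψ (p' * w') ∈ A := hs
      rwa [map_mul, hw', mul_one] at h2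
    have h3 : p * p' = p' * p := M.ext (P.mul_mem hp hp') (P.mul_mem hp' hp)
      (by rw [map_mul, hA.2 _ h1 _ h1', map_mul])
    calc p * w * (p' * w') = p * (w * p') * w' := by group
      _ = (p * p') * (w * w') := by rw [← M.comm p' hp' w hw]; group
      _ = (p' * p) * (w' * w) := by rw [h3, comm_of_sq hk hw hw']
      _ = p' * (p * w') * w := by group
      _ = p' * (w' * p) * w := by rw [M.comm p hp w' hw']
      _ = _ := by group

/-- **`J(T)`**: if `n⁻¹ (QP) n ≤ T` then `n` normalizes `QP`. -/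
theorem norm_JJ_of [Finite G] (M : Mod ψ P) (hk : ∀ w, ψ w = 1 → w * w = 1) {n : G}
    (hn : ∀ g ∈ JJ ψ, n⁻¹ * g * n ∈ T) : n ∈ normalizer (JJ ψ : Set G) := by
  have key : ∀ A : Subgroup E, Elem A → A ≤ U → Nat.card A = 16 → ∀ t : ↥T, ψ t ∈ A →
      n⁻¹ * (t : G) * n ∈ JJ ψ := by
    intro A hA hAU h16 t ht
    set V : Subgroup ↥T := A.comap ψ with hV
    have hVe : Elem V := elem_comap M hk hA hAU
    set V' : Subgroup G := cj n⁻¹ (V.map T.subtype) with hV'
    have hV'T : V' ≤ T := by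
      intro g hg
      rw [hV', mem_cj, inv_inv] at hg
      obtain ⟨s, hs, hsg⟩ := hg
      have h1 := hn (s : G) (mem_JJ_of (hAU hs))
      have h2 : n⁻¹ * (s : G) * n = g := by
        change (s : G) = _ at hsg
        rw [hsg]; group
      rwa [h2] at h1
    set W : Subgroup ↥T := V'.subgroupOf T with hW
    have hV'e : Elem V' := L34.elem_map (L34.elem_map hVe T.subtype) _
    have hWe : Elem W := by
      constructor
      · intro u hu
        exact Subtype.ext (hV'e.1 _ hu)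
      · intro u hu v hv
        exact Subtype.ext (hV'e.2 _ hu _ hv)
    have hcW : Nat.card W = Nat.card V := by
      have h1 : Nat.card W = Nat.card V' := Nat.card_congr (subgroupOfEquivOfLe hV'T).toEquiv
      rw [h1, hV', card_cj, card_map_of_injective T.subtype_injective]
    have hcV : Nat.card V = Nat.card ψ.ker * 16 := by
      rw [L34.card_eq_inf_mul_map ψ V]
      have h1 : (V ⊓ ψ.ker : Subgroup ↥T) = ψ.ker := by
        apply inf_of_le_right
        intro w hw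
        change ψ w ∈ A
        rw [show ψ w = 1 from hw]
        exact A.one_mem
      have h2 : V.map ψ = A := by
        rw [hV, map_comap_eq, inf_eq_right]
        intro u hu
        obtain ⟨p, -, rfl⟩ := M.surj u (hAU hu)
        exact ⟨p, rfl⟩
      rw [h1, h2, h16]
    have h16' : 16 ≤ Nat.card (W.map ψ) := by
      have h1 := L34.card_eq_inf_mul_map ψ W
      rw [hcW, hcV] at h1
      have h2 : Nat.card (W ⊓ ψ.ker : Subgroup ↥T) ≤ Nat.card ψ.ker := card_le_of_le inf_le_right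
      have h3 : Nat.card ψ.ker * 16 ≤ Nat.card ψ.ker * Nat.card (W.map ψ) := by
        rw [h1]; exact Nat.mul_le_mul_right _ h2
      exact Nat.le_of_mul_le_mul_left h3 Nat.card_pos
    have hWU : W.map ψ ≤ U := by
      rcases L34.elem_big (L34.elem_map hWe ψ) h16' with h1 | h1
      · rw [h1]; exact fun s hs => hs.1
      · rw [h1]; exact fun s hs => hs.1
    have h4 : n⁻¹ * (t : G) * n ∈ T := hn _ (mem_JJ_of (hAU ht))
    have h5 : (⟨_, h4⟩ : ↥T) ∈ W := by
      rw [hW, mem_subgroupOf, hV', mem_cj, inv_inv]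
      refine ⟨t, ht, ?_⟩
      change (t : G) = n * (n⁻¹ * (t : G) * n) * n⁻¹
      group
    exact mem_JJ.mpr ⟨⟨_, h4⟩, hWU ⟨_, h5, rfl⟩, rfl⟩
  have h1 : n⁻¹ ∈ normalizer (JJ ψ : Set G) := by
    apply mem_normalizer_of_le
    intro g hg
    obtain ⟨t, ht, rfl⟩ := mem_JJ.mp hg
    obtain ⟨v, hv, w, hw, hvw⟩ := split_U ht
    obtain ⟨p, hp, hpv⟩ := M.surj v hv.1
    have h2 := key A1 L34.elem_A1 (fun s hs => hs.1) L34.card_A1 p (by rw [hpv]; exact hv)
    have h3 := key A2 L34.elem_A2 (fun s hs => hs.1) L34.card_A2 (p⁻¹ * t) (by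
      rw [map_mul, map_inv, hpv, hvw, inv_mul_cancel_left]; exact hw)
    have h4 := mul_mem h2 h3
    have h5 : n⁻¹ * (p : G) * n * (n⁻¹ * ((p⁻¹ * t : ↥T) : G) * n) = n⁻¹ * (t : G) * n⁻¹⁻¹ := by
      rw [inv_inv]
      push_cast
      group
    rwa [h5] at h4
  have h2 := inv_mem h1
  rwa [inv_inv] at h2

/-- `JJ ψ = P Q` -/
theorem JJ_eq (M : Mod ψ P) : JJ ψ = P.map T.subtype ⊔ ψ.ker.map T.subtype := by
  apply le_antisymm
  · intro g hg
    obtain ⟨t, ht, rfl⟩ := mem_JJ.mp hg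
    obtain ⟨p, hp, w, hw, rfl⟩ := M.split ht
    exact mul_mem (mem_sup_left ⟨p, hp, rfl⟩) (mem_sup_right ⟨w, hw, rfl⟩)
  · apply sup_le
    · rintro _ ⟨p, hp, rfl⟩
      exact mem_JJ_of (M.mem p hp)
    · rintro _ ⟨w, hw, rfl⟩
      exact mem_JJ_of (t := w) (by rw [show ψ w = 1 from hw]; exact U.one_mem)

end model

section

variable {T P Q Z : Subgroup G} {A : Bool → Subgroup G} {b a x t : G}

/-- **`J(T)`** in the frame -/
theorem Cx.norm_J [Finite G] (C : Cx T P Q Z A b a x t) (hs : Sm P Q Z t) {ψ : ↥T →* E}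
    {P₀ : Subgroup ↥T} (M : Mod ψ P₀) (hP : P₀.map T.subtype = P) (hQ : ψ.ker.map T.subtype = Q) {n : G}
    (hn : ∀ g ∈ P ⊔ Q, n⁻¹ * g * n ∈ T) : n ∈ normalizer ((P ⊔ Q : Subgroup G) : Set G) := by
  have h1 : JJ ψ = P ⊔ Q := by rw [JJ_eq M, hP, hQ]
  rw [← h1] at hn ⊢
  refine norm_JJ_of M (fun w hw => ?_) hn
  have h2 : (w : G) ∈ Q := by rw [← hQ]; exact ⟨w, hw, rfl⟩
  exact Subtype.ext (C.sq hs h2)

/-- `t` normalizes `PQ` -/
theorem Cx.t_norm [Finite G] (C : Cx T P Q Z A b a x t) (hs : Sm P Q Z t) {ψ : ↥T →* E}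
    {P₀ : Subgroup ↥T} (M : Mod ψ P₀) (hP : P₀.map T.subtype = P) (hQ : ψ.ker.map T.subtype = Q) :
    t ∈ normalizer ((P ⊔ Q : Subgroup G) : Set G) :=
  C.norm_J hs M hP hQ (fun g hg => C.tn' g (C.fr.JT hg))

/-- the elements of `N(PQ)` normalize `Z` -/
theorem Cx.conj_Z [Finite G] (C : Cx T P Q Z A b a x t) (hs : Sm P Q Z t) {n : G}
    (hn : n ∈ normalizer ((P ⊔ Q : Subgroup G) : Set G)) {z : G} (hz : z ∈ Z) : n * z * n⁻¹ ∈ Z := by
  obtain ⟨p, hpA, hpZ⟩ := C.fr.exists_not_mem false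
  have hp : p ∈ P := C.fr.AP false hpA
  obtain ⟨r, hr, rfl⟩ := C.fr.surj p hp hpZ z hz
  have h1 : ∀ g ∈ P, n * g * n⁻¹ ∈ P ⊔ Q := fun g hg =>
    (mem_normalizer_iff.mp hn g).mp (mem_sup_left hg)
  obtain ⟨p', hp', q', hq', e1⟩ := C.fr.mem_J.mp (h1 p hp)
  obtain ⟨r', hr', s', hs', e2⟩ := C.fr.mem_J.mp (h1 r hr)
  have e3 : n * (p * r * p⁻¹ * r⁻¹) * n⁻¹ = p' * r' * p'⁻¹ * r'⁻¹ := by
    have c1 := C.fr.comm r' hr' q' hq'
    have c2 := C.fr.comm p' hp' s' hs'
    have c3 := C.commQ hs hq' hs'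
    have e4 : (p' * q') * (r' * s') = (p' * r') * (q' * s') := by
      calc (p' * q') * (r' * s') = p' * (q' * r') * s' := by group
        _ = p' * (r' * q') * s' := by rw [c1]
        _ = _ := by group
    have e5 : (r' * s') * (p' * q') = (r' * p') * (q' * s') := by
      calc (r' * s') * (p' * q') = r' * (s' * p') * q' := by group
        _ = r' * (p' * s') * q' := by rw [c2]
        _ = (r' * p') * (s' * q') := by group
        _ = _ := by rw [c3]
    calc n * (p * r * p⁻¹ * r⁻¹) * n⁻¹ =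
        ((n * p * n⁻¹) * (n * r * n⁻¹)) * ((n * r * n⁻¹) * (n * p * n⁻¹))⁻¹ := by group
      _ = ((p' * q') * (r' * s')) * ((r' * s') * (p' * q'))⁻¹ := by rw [e1, e2]
      _ = ((p' * r') * (q' * s')) * ((r' * p') * (q' * s'))⁻¹ := by rw [e4, e5]
      _ = p' * r' * p'⁻¹ * r'⁻¹ := by group
  rw [e3]
  exact C.fr.com p' hp' r' hr'

theorem Cx.tb [Finite G] (C : Cx T P Q Z A b a x t) (hs : Sm P Q Z t)
    (ht : t ∈ normalizer ((P ⊔ Q : Subgroup G) : Set G)) : t * b * t⁻¹ = b := by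
  have h1 := C.conj_Z hs ht C.fr.bZ
  have h2 : x * (t * b * t⁻¹) = (t * b * t⁻¹) * x := by
    have h3 := C.fr.bT _ (C.tn' x C.xT)
    calc x * (t * b * t⁻¹) = t * ((t⁻¹ * x * t) * b) * t⁻¹ := by group
      _ = t * (b * (t⁻¹ * x * t)) * t⁻¹ := by rw [h3]
      _ = t * b * t⁻¹ * x := by group
  rcases C.xcx h1 h2 with h | h
  · exact absurd (conj_eq_one_iff.mp h) C.fr.b1
  · exact h

/-- `a^t = ab` -/
theorem Cx.ta_eq [Finite G] (C : Cx T P Q Z A b a x t) (hs : Sm P Q Z t)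
    (ht : t ∈ normalizer ((P ⊔ Q : Subgroup G) : Set G)) : t * a * t⁻¹ = a * b := by
  rcases C.ta_cases with h | h
  · exfalso
    have h1 : t * a * t⁻¹ = t * b * t⁻¹ := by rw [h, C.tb hs ht]
    have h2 : a = b := mul_left_cancel (mul_right_cancel h1)
    exact C.b_notin (h2 ▸ C.aQ)
  · exact h

end

end Cfsg.Agent.UGT.L34T2.Small
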