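import Cfsg.Agent.UGT.L34T2.Pre34

/-!
# UGT #14883 (9): the switch

`X` normal of index 2, `x ∉ X`, `c = a x ∈ X`, `(x, a, L)` a triple of type `L₃(4)`, `C(a)`, `C(c)` core-free. Then
some `(x, c, J)` is a triple of type `L₃(4)`.
-/

set_option autoImplicit false

open Cfsg Subgroup
open Cfsg.Agent.SignalizersComponents Cfsg.Agent.Lib
open Cfsg.Agent.SignalizersComponents.IntrinsicBasic
open Cfsg.Agent.SignalizersComponents.IntrinsicIntr
open Cfsg.Agent.SignalizersComponents.PLayerAut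
open Cfsg.Agent.Intrinsic.Basic Cfsg.Agent.Intrinsic.Cen Cfsg.Agent.Intrinsic.Diag
open Cfsg.Agent.McLLyComp.Act
open Cfsg.Agent.UGT.Triple Cfsg.Agent.UGT.TriBase Cfsg.Agent.UGT.Res.Base
open Cfsg.Agent.UGT.Iface (Bar IsL2 IsL34 IsAltOdd)
open Cfsg.Agent.UGT.LTF.Defs
open Cfsg.Agent.UGT.LTF.Basics (comm_of_fixes fixes_of_comm center_of_bar mk_inj act_fix act_fix'
  core_of_comp comm_of_ne comp_cj img mem_img img_ne oddC exists_inv isPGroup_zpowers)
open Cfsg.Agent.UGT.LTF.Comp (act_sq ft_of_triple center_of_ft center_typ pow_three pow_three'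
  sq_bar ne_bar)
open Cfsg.Agent.UGT.LTF.EightB (exists_adj cj_triple)
open Cfsg.Agent.UGT.LTF.EightD (DD odd_DD conj_DD DD_le conj_inj mk_comm mk_comm')
open Cfsg.Agent.UGT.LTF.EightE (sq_comm)
open Cfsg.Agent.UGT.LTF.EightF (span)
open Cfsg.Agent.UGT.L34T2.Pre34 Cfsg.Agent.UGT.L34T2.SwitchK
open scoped commutatorElement

namespace Cfsg.Agent.UGT.L34T2.Switch

universe u

/-- The hypotheses of the switch. -/
structure Sw {G : Type u} [Group G] (X : Subgroup G) (x a : G) (L : Subgroup G) : Prop where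
  Xn : X.Normal
  xX : x ∉ X
  two : ∀ g, g ∈ X ∨ x * g ∈ X
  T : IsTriple x a L
  cX : a * x ∈ X
  l34 : IsL34 (Bar L)
  ca : core (centralizer ({a} : Set G)) = ⊥
  cc : core (centralizer ({a * x} : Set G)) = ⊥
  typ : ∀ c J, c = a ∨ c = a * x → IsTriple x c J →
    IsL2 (Bar J) ∨ IsAltOdd (Bar J) ∨ IsL34 (Bar J)
  /-- `a` is the only involution of `C_K(x)`, `K = C(a) ∩ C(L)` -/
  uniq : ∀ k, k * a = a * k → Fixes k L → k * k = 1 → k ≠ 1 → k * x = x * k → k = a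
  /-- `m(C(a, x)) ≤ 4` -/
  rank : ∀ E : Subgroup G, E ≤ centralizer ({a} : Set G) ⊓ centralizer ({x} : Set G) →
    (∀ e ∈ E, e * e = 1) → Nat.card ↥E ≤ 16

variable {G : Type u} [Group G] [Finite G] {X : Subgroup G} {x a : G} {L J : Subgroup G}

theorem exists_b (h : Sw X x a L) : ∃ b, Pre x a b L := by
  obtain ⟨b, hb, ho, hc⟩ := exists_inv (isPGroup_zpowers h.T.invx) (zpowers_le.mpr h.T.x_mem)
    h.T.comp.even
  exact ⟨b, h.T, h.l34, h.ca, fun J T => h.typ a J (Or.inl rfl) T, h.uniq, hb, ho,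
    (hc x (mem_zpowers x)).symm⟩

omit [Finite G] in
theorem le_X (h : Sw X x a L) {H : Subgroup G} [Finite G] (hJ : IsComp H J) : J ≤ X := by
  rw [← hJ.perfect, commutator_le]
  intro g _ k _
  have hn := h.Xn
  rw [← QuotientGroup.eq_one_iff (N := X)]
  have hq : ∀ g : G, (QuotientGroup.mk g : G ⧸ X) = 1 ∨ (QuotientGroup.mk g : G ⧸ X) =
      QuotientGroup.mk x⁻¹ := by
    intro g
    rcases h.two g with h1 | h1
    · exact Or.inl ((QuotientGroup.eq_one_iff _).mpr h1)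
    · right
      rw [QuotientGroup.eq, ← inv_mem_iff]
      have : (g⁻¹ * x⁻¹)⁻¹ = x * g := by group
      rwa [this]
  have h1 : (QuotientGroup.mk ⁅g, k⁆ : G ⧸ X) =
      ⁅(QuotientGroup.mk g : G ⧸ X), (QuotientGroup.mk k : G ⧸ X)⁆ := rfl
  rw [h1, commutatorElement_eq_one_iff_mul_comm]
  rcases hq g with h2 | h2 <;> rcases hq k with h3 | h3 <;> rw [h2, h3] <;> simp

theorem c2 (h : Sw X x a L) : orderOf (a * x) = 2 := by
  have haa := sq_of_order h.T.inva
  have hxx := sq_of_order h.T.invx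
  apply orderOf_eq_prime
  · rw [pow_two]
    calc a * x * (a * x) = a * (x * a) * x := by group
      _ = (a * a) * (x * x) := by rw [← h.T.comm]; group
      _ = 1 := by rw [haa, hxx, one_mul]
  · intro h1
    have h2 : a = x := by
      calc a = (a * x) * x := by rw [mul_assoc, hxx, mul_one]
        _ = x := by rw [h1, one_mul]
    apply h.T.not_fixes
    apply fixes_of_comm
    intro j hj
    rw [← h2]
    exact (comm_c (h.T.comp.le hj)).symm

theorem c_iff (h : Sw X x a L) {g : G} (hx : g * x = x * g) :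
    g * (a * x) = a * x * g ↔ g * a = a * g := by
  constructor
  · intro h1
    have h2 : g * a * x = a * g * x := by
      calc g * a * x = g * (a * x) := by group
        _ = a * x * g := h1
        _ = a * (x * g) := by group
        _ = _ := by rw [← hx]; group
    exact mul_right_cancel h2
  · intro h1
    calc g * (a * x) = (g * a) * x := by group
      _ = a * (g * x) := by rw [h1]; group
      _ = _ := by rw [hx]; group

/-- no three simple components of `C(c)`, normalized by `x` -/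
theorem three_comps (h : Sw X x a L)
    {J₁ J₂ J₃ : Subgroup G} (h1 : IsComp (centralizer ({a * x} : Set G)) J₁)
    (h2 : IsComp (centralizer ({a * x} : Set G)) J₂) (h3 : IsComp (centralizer ({a * x} : Set G)) J₃)
    (hy1 : x ∈ normalizer (J₁ : Set G)) (hy2 : x ∈ normalizer (J₂ : Set G))
    (hy3 : x ∈ normalizer (J₃ : Set G))
    (hc1 : ∀ z ∈ J₁, (∀ j ∈ J₁, z * j = j * z) → z = 1)
    (hc2 : ∀ z ∈ J₂, (∀ j ∈ J₂, z * j = j * z) → z = 1)
    (hc3 : ∀ z ∈ J₃, (∀ j ∈ J₃, z * j = j * z) → z = 1)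
    (h12 : J₁ ≠ J₂) (h13 : J₁ ≠ J₃) (h23 : J₂ ≠ J₃) : False := by
  obtain ⟨t, ht⟩ : ∃ t, t = a * x := ⟨_, rfl⟩
  have hct := h.cc
  have ht2 := c2 h
  have htX := h.cX
  have hiff := fun {g : G} (hg : g * x = x * g) => c_iff h hg
  rw [← ht] at h1 h2 h3 hct ht2 htX
  have htt := sq_of_order ht2
  have hcomm := fun {A B : Subgroup G} (hA : IsComp (centralizer ({t} : Set G)) A)
    (hB : IsComp (centralizer ({t} : Set G)) B) (hne : A ≠ B) {i j : G} (hi : i ∈ A) (hj : j ∈ B) =>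
      comm_of_ne hA hB hct hne hi hj
  have hxx := sq_of_order h.T.invx
  have key : ∀ {J : Subgroup G}, IsComp (centralizer ({t} : Set G)) J →
      x ∈ normalizer (J : Set G) → ∃ e ∈ J, orderOf e = 2 ∧ x * e = e * x := by
    intro J hJ hyJ
    obtain ⟨e, he, ho, hce⟩ := exists_inv (isPGroup_zpowers h.T.invx) (zpowers_le.mpr hyJ) hJ.even
    exact ⟨e, he, ho, hce x (mem_zpowers x)⟩
  obtain ⟨e₁, he1, ho1, hye1⟩ := key h1 hy1
  obtain ⟨e₂, he2, ho2, hye2⟩ := key h2 hy2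
  obtain ⟨e₃, he3, ho3, hye3⟩ := key h3 hy3
  have hyt : x * t = t * x := by
    rw [ht]
    calc x * (a * x) = (x * a) * x := by group
      _ = _ := by rw [← h.T.comm]
  obtain ⟨E1, -, htE, hE1, hk1, hu1⟩ := exists_adj (E := ⊥) (u := t) (by
      intro e he; rw [mem_bot.mp he, one_mul]) htt (by
      intro e he; rw [mem_bot.mp he, one_mul, mul_one]) (by
      intro h4; exact ne_one_of_order ht2 (mem_bot.mp h4))
  have hcen : ∀ {J : Subgroup G}, IsComp (centralizer ({t} : Set G)) J →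
      t ∈ centralizer (J : Set G) := fun hJ => mem_centralizer_iff.mpr fun j hj => comm_c (hJ.le hj)
  have hmul : ∀ {A B : Subgroup G}, IsComp (centralizer ({t} : Set G)) A →
      IsComp (centralizer ({t} : Set G)) B → A ≠ B → ∀ {i : G}, i ∈ A →
      i ∈ centralizer (B : Set G) := fun hA hB hne i hi =>
    mem_centralizer_iff.mpr fun j hj => (hcomm hA hB hne hi hj).symm
  have hout : ∀ {J : Subgroup G} {e : G}, (∀ z ∈ J, (∀ j ∈ J, z * j = j * z) → z = 1) → e ∈ J →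
      orderOf e = 2 → ∀ E : Subgroup G, E ≤ centralizer (J : Set G) → e ∉ E := by
    intro J e hcJ he ho E hE heE
    apply ne_one_of_order ho
    apply hcJ e he
    intro j hj
    exact (mem_centralizer_iff.mp (hE heE) j hj).symm
  obtain ⟨E2, hE12, he1E, hE2, hk2, hu2⟩ := exists_adj (E := E1) (u := e₁) hE1 (sq_of_order ho1)
    (fun e he => (mem_centralizer_iff.mp (hu1 _ bot_le (hcen h1) he) e₁ he1).symm)
    (hout hc1 he1 ho1 E1 (hu1 _ bot_le (hcen h1)))
  have hE2J2 : E2 ≤ centralizer (J₂ : Set G) :=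
    hu2 _ (hu1 _ bot_le (hcen h2)) (hmul h1 h2 h12 he1)
  have hE2J3 : E2 ≤ centralizer (J₃ : Set G) :=
    hu2 _ (hu1 _ bot_le (hcen h3)) (hmul h1 h3 h13 he1)
  obtain ⟨E3, hE23, he2E, hE3, hk3, hu3⟩ := exists_adj (E := E2) (u := e₂) hE2 (sq_of_order ho2)
    (fun e he => (mem_centralizer_iff.mp (hE2J2 he) e₂ he2).symm) (hout hc2 he2 ho2 E2 hE2J2)
  have hE3J3 : E3 ≤ centralizer (J₃ : Set G) := hu3 _ hE2J3 (hmul h2 h3 h23 he2)
  obtain ⟨E4, hE34, he3E, hE4, hk4, hu4⟩ := exists_adj (E := E3) (u := e₃) hE3 (sq_of_order ho3)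
    (fun e he => (mem_centralizer_iff.mp (hE3J3 he) e₃ he3).symm) (hout hc3 he3 ho3 E3 hE3J3)
  have hE4y : E4 ≤ centralizer ({x} : Set G) := hu4 _ (hu3 _ (hu2 _ (hu1 _ bot_le
    (mem_c hyt.symm)) (mem_c hye1.symm)) (mem_c hye2.symm)) (mem_c hye3.symm)
  have hE4t : E4 ≤ centralizer ({t} : Set G) := hu4 _ (hu3 _ (hu2 _ (hu1 _ bot_le
    (mem_c rfl)) (h1.le he1)) (h2.le he2)) (h3.le he3)
  have hE4X : E4 ≤ X := hu4 _ (hu3 _ (hu2 _ (hu1 _ bot_le htX) (le_X h h1 he1))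
    (le_X h h2 he2)) (le_X h h3 he3)
  obtain ⟨E5, hE45, hyE, hE5, hk5, hu5⟩ := exists_adj (E := E4) (u := x) hE4 hxx
    (fun e he => comm_c (hE4y he)) (fun h4 => h.xX (hE4X h4))
  have hE5y : E5 ≤ centralizer ({a} : Set G) ⊓ centralizer ({x} : Set G) := by
    have h5 : E5 ≤ centralizer ({x} : Set G) := hu5 _ hE4y (mem_c rfl)
    have h6 : E5 ≤ centralizer ({t} : Set G) := hu5 _ hE4t (mem_c hyt)
    intro e he
    refine ⟨mem_c ((hiff (comm_c (h5 he))).mp (ht ▸ comm_c (h6 he))), h5 he⟩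
  have hr := h.rank E5 hE5y hE5
  rw [card_bot] at hk1
  omega

/-- `D = O(C(x)) ∩ C(a)` is elementary abelian of order 9 -/
theorem D_facts (kf : KF34.{u}) (kf2 : KF2.{u}) (kfa : KFA.{u}) {b : G} (h : Pre x a b L) :
    (∀ d ∈ DD x a, d ^ 3 = 1) ∧ (∀ d ∈ DD x a, ∀ e ∈ DD x a, d * e = e * d) ∧
      Nat.card ↥(DD x a) = 9 := by
  have hc := h.cL
  have F := ft kf h
  have hxL := h.T.x_mem
  have hmem : ∀ d ∈ DD x a, d ∈ L ∧ d ^ 3 = 1 ∧ x * d = d * x := fun d hd => by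
    obtain ⟨h1, h2⟩ := mem_Y kf kf2 kfa h hd.1 (comm_c hd.2)
    exact ⟨h1, h2, (comm_c (core_le _ hd.1)).symm⟩
  refine ⟨fun d hd => (hmem d hd).2.1, ?_, ?_⟩
  · intro d hd e he
    obtain ⟨h1, h2, h3⟩ := hmem d hd
    obtain ⟨h4, h5, h6⟩ := hmem e he
    exact mk_comm hc h1 h4 (F.ycomm _ _ (pow_three' h1 h2) (act_fix' hxL h1 h3) (pow_three' h4 h5)
      (act_fix' hxL h4 h6))
  · obtain ⟨Y, hY9, hY⟩ := F.nine
    have h1 : Y = ((DD x a).subgroupOf L).map (QuotientGroup.mk' (oddCore ↥L)) := by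
      ext z
      rw [hY]
      constructor
      · rintro ⟨h1, h2⟩
        obtain ⟨⟨d, hd⟩, rfl⟩ := QuotientGroup.mk_surjective z
        have h3 := pow_three hc hd h1
        have h4 := act_fix hc hxL hd h2
        refine ⟨⟨d, hd⟩, ⟨mem_core kf kf2 kfa h hd h3 h4, mem_c (Y_comm h hd)⟩, rfl⟩
      · rintro ⟨⟨d, hdL⟩, hd, rfl⟩
        obtain ⟨h1, h2, h3⟩ := hmem d hd
        exact ⟨pow_three' hdL h2, act_fix' hxL hdL h3⟩
    have hinj : Function.Injective (QuotientGroup.mk' (oddCore ↥L)) := by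
      rintro ⟨u, hu⟩ ⟨v, hv⟩ huv
      exact Subtype.ext (mk_inj hc hu hv huv)
    have h2 := card_map_of_injective (K := (DD x a).subgroupOf L) hinj
    rw [← h1, hY9] at h2
    rw [h2]
    exact (Nat.card_congr (subgroupOfEquivOfLe fun d hd => (hmem d hd).1).toEquiv).symm

/-- `D = O(C(x)) ∩ C(c)` -/
theorem DD_eq (h : Sw X x a L) : DD x (a * x) = DD x a := by
  ext d
  constructor
  · rintro ⟨h1, h2⟩
    exact ⟨h1, mem_c ((c_iff h (comm_c (core_le _ h1))).mp (comm_c h2))⟩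
  · rintro ⟨h1, h2⟩
    exact ⟨h1, mem_c ((c_iff h (comm_c (core_le _ h1))).mpr (comm_c h2))⟩

/-- `J` is alternating or `L₂(q)` and normalized by `b`: some `g ∈ D` centralizes `J` -/
theorem exists_ker (kf : KF34.{u}) (kf2 : KF2.{u}) (kfa : KFA.{u}) (h : Sw X x a L) {b : G}
    (hp : Pre x a b L) (T : IsTriple x (a * x) J) (hbJ : b ∈ normalizer (J : Set G))
    (ht : IsL2 (Bar J) ∨ IsAltOdd (Bar J)) : ∃ g ∈ DD x a, g ≠ 1 ∧ Fixes g J := by
  have hcore : core J = ⊥ := core_of_comp T.comp h.cc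
  obtain ⟨hD3, -, hD9⟩ := D_facts kf kf2 kfa hp
  have hDe := DD_eq h
  have hDJ : DD x a ≤ normalizer (J : Set G) := hDe ▸ DD_le T
  have hodd := oddC T hcore
  have hxx := sq_of_order h.T.invx
  have hcard : Nat.card ↥(img x (a * x) J) ≤ 3 := by
    rcases ht with h2 | h2
    · -- the elements of `D` are inner
      have hc := (kf2 _ h2).1
      have hξ : act J ⟨x, T.x_mem⟩ ≠ 1 := by
        intro h3
        rw [act_eq_one_iff] at h3
        exact T.not_fixes h3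
      have hin : ∀ e ∈ img x (a * x) J, ∃ l, e = MulAut.conj l := by
        intro e he
        obtain ⟨d, hdJ, hd, hdc, rfl⟩ := mem_img.mp he
        have hdD : d ∈ DD x a := hDe ▸ (⟨hd, mem_c hdc⟩ : d ∈ DD x (a * x))
        obtain ⟨hdL, hd3⟩ := mem_Y kf kf2 kfa hp hdD.1 (comm_c hdD.2)
        have hxd : x * d = d * x := (comm_c (core_le _ hd)).symm
        have hinv := inv_Y kf hp hp.bx hdL hd3 hxd
        apply l2_out h2 (α := act J ⟨b, hbJ⟩)
        · have h3 : act J ⟨d, hdJ⟩ ^ 3 = 1 := by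
            rw [← map_pow]
            have h4 : (⟨d, hdJ⟩ : normalizer (J : Set G)) ^ 3 = 1 := Subtype.ext hd3
            rw [h4, map_one]
          exact Odd.of_dvd_nat (by decide : Odd 3) (orderOf_dvd_of_pow_eq_one h3)
        · rw [← act_mul hbJ, ← act_inv hbJ, ← act_mul (mul_mem hbJ hdJ), ← act_inv hdJ]
          exact act_congr _ hinv
      have hcyc := l2_cyc h2 (act_sq T.x_mem hxx) hξ
        (E := (img x (a * x) J).comap MulAut.conj)
        (Odd.of_dvd_nat hodd.odd (card_comap_dvd_of_injective _ _ (conj_inj hc)))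
        (by
          intro e he
          have h1 := hodd.com _ he
          apply conj_inj hc
          rw [← ThEL34.conj_conj, ← h1, mul_inv_cancel_right])
        (by
          intro m hm e he
          have h1 := hodd.nor m hm _ he
          change MulAut.conj (m * e * m⁻¹) ∈ img x (a * x) J
          rwa [map_mul, map_mul, map_inv])
      obtain ⟨⟨g, hg⟩, hgen⟩ := hcyc.exists_generator
      have hg3 : g ^ 3 = 1 := by
        apply conj_inj hc
        have hg' : MulAut.conj g ∈ img x (a * x) J := hg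
        obtain ⟨d, hdJ, hd, hdc, hde⟩ := mem_img.mp hg'
        have hdD : d ∈ DD x a := hDe ▸ (⟨hd, mem_c hdc⟩ : d ∈ DD x (a * x))
        rw [map_pow, ← hde, ← map_pow, map_one]
        have h4 : (⟨d, hdJ⟩ : normalizer (J : Set G)) ^ 3 = 1 := Subtype.ext (hD3 d hdD)
        rw [h4, map_one]
      have himg : img x (a * x) J = (zpowers g).map MulAut.conj := by
        ext e
        constructor
        · intro he
          obtain ⟨l, rfl⟩ := hin e he
          obtain ⟨n, hn⟩ := mem_zpowers_iff.mp (hgen ⟨l, he⟩)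
          exact ⟨l, mem_zpowers_iff.mpr ⟨n, congrArg Subtype.val hn⟩, rfl⟩
        · rintro ⟨l, hl, rfl⟩
          obtain ⟨n, rfl⟩ := mem_zpowers_iff.mp hl
          have hg' : MulAut.conj g ∈ img x (a * x) J := hg
          change MulAut.conj (g ^ n) ∈ img x (a * x) J
          rw [map_zpow]
          exact zpow_mem hg' n
      rw [himg, card_map_of_injective (conj_inj hc), Nat.card_zpowers]
      exact Nat.le_of_dvd (by norm_num) (orderOf_dvd_of_pow_eq_one hg3)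
    · exact alt_small h2 (act_sq T.x_mem hxx) hodd
  by_contra hcon
  push Not at hcon
  have h1 : Nat.card ↥(DD x a) ≤ Nat.card ↥(img x (a * x) J) := by
    refine Nat.card_le_card_of_injective (fun d : ↥(DD x a) =>
      (⟨act J ⟨d, hDJ d.2⟩, mem_img.mpr ⟨d, hDJ d.2, d.2.1, ?_, rfl⟩⟩ :
        ↥(img x (a * x) J))) ?_
    · exact (c_iff h (comm_c (core_le _ d.2.1))).mpr (comm_c d.2.2)
    · intro d e hde
      have h2 : act J ⟨d, hDJ d.2⟩ = act J ⟨e, hDJ e.2⟩ := congrArg Subtype.val hde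
      rw [act_eq_iff] at h2
      by_contra hne
      apply hcon ((d : G) * (e : G)⁻¹) (mul_mem d.2 (inv_mem e.2)) ?_ h2
      intro h3
      exact hne (Subtype.ext (mul_inv_eq_one.mp h3))
  omega

/-- **(9)** the switch -/
theorem switch (kf : KF34.{u}) (kf2 : KF2.{u}) (kfa : KFA.{u}) (h : Sw X x a L) :
    ∃ J, IsTriple x (a * x) J ∧ IsL34 (Bar J) := by
  obtain ⟨b, hp⟩ := exists_b h
  obtain ⟨y, hy, hya, hfy⟩ := h.T.bad
  obtain ⟨hyL, hy3⟩ := mem_Y kf kf2 kfa hp hy (comm_c hya)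
  have hyx : y * x = x * y := comm_c (core_le _ hy)
  have hy1 : y ≠ 1 := by
    rintro rfl
    exact hfy (fixes_one L)
  have hcx : a * x * x = x * (a * x) := by
    calc a * x * x = (a * x) * x := rfl
      _ = (x * a) * x := by rw [h.T.comm]
      _ = _ := by group
  obtain ⟨J, T, hfJ⟩ := exists_triple h.T.invx (c2 h) hcx hy
    (mem_c ((c_iff h hyx).mpr (comm_c hya))) (by rw [h.cc, mem_bot]; exact hy1)
  have hcore : core J = ⊥ := core_of_comp T.comp h.cc
  have hcen : ∀ {J : Subgroup G}, IsTriple x (a * x) J → ∀ z ∈ J, (∀ j ∈ J, z * j = j * z) → z = 1 :=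
    fun T => center_typ kf kf2 kfa T (core_of_comp T.comp h.cc) (h.typ _ _ (Or.inr rfl) T)
  by_cases h34 : IsL34 (Bar J)
  · exact ⟨J, T, h34⟩
  exfalso
  have ht : IsL2 (Bar J) ∨ IsAltOdd (Bar J) := by
    rcases h.typ _ _ (Or.inr rfl) T with h1 | h1 | h1
    · exact Or.inl h1
    · exact Or.inr h1
    · exact (h34 h1).elim
  obtain ⟨w₁, w₂, hw1L, hw2L, hw1x, hw2x, h1, h2, h3⟩ := exists_q8 kf hp
  obtain ⟨hD3, hDc, hD9⟩ := D_facts kf kf2 kfa hp
  -- an element `w` with `w² = b` does not normalize `J`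
  have key : ∀ w ∈ L, w * x = x * w → w * w = b → w ∉ normalizer (J : Set G) := by
    intro w hwL hwx hww hwJ
    have hbJ : b ∈ normalizer (J : Set G) := hww ▸ mul_mem hwJ hwJ
    obtain ⟨g, hg, hg1, hfg⟩ := exists_ker kf kf2 kfa h hp T hbJ ht
    obtain ⟨k, hk⟩ : ∃ k, k = w * g * w⁻¹ := ⟨_, rfl⟩
    have hkD : k ∈ DD x a := hk ▸ conj_DD hwx (Y_comm hp hwL) hg
    have hfk : Fixes k J := hk ▸ fixes_conj hfg hwJ
    have hkr : w * k * w⁻¹ = g⁻¹ := by
      obtain ⟨hgL, hg3⟩ := mem_Y kf kf2 kfa hp hg.1 (comm_c hg.2)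
      rw [← inv_Y kf hp hp.bx hgL hg3 (comm_c (core_le _ hg.1)).symm, hk, ← hww]
      group
    obtain ⟨i, j, hij⟩ := span hD3 hD9.le hg hkD hg1 (hDc g hg k hkD) hk.symm hkr y ⟨hy, hya⟩
    apply hfJ
    rw [hij]
    obtain ⟨M, hM⟩ : ∃ M : Subgroup G, ∀ u, u ∈ M ↔ Fixes u J :=
      ⟨{ carrier := {u | Fixes u J}
         mul_mem' := fun h1 h2 => fixes_mul h1 h2
         one_mem' := fixes_one J
         inv_mem' := fun h1 => fixes_inv h1 }, fun u => Iff.rfl⟩
    exact (hM _).mp (mul_mem (zpow_mem ((hM g).mpr hfg) i) (zpow_mem ((hM k).mpr hfk) j))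
  have hbb := sq_of_order hp.b2
  have hw12 : w₁⁻¹ * w₂ * (w₁⁻¹ * w₂) = b := by
    have h4 : w₂ * w₁⁻¹ * w₂⁻¹ = w₁ := by
      calc w₂ * w₁⁻¹ * w₂⁻¹ = (w₂ * w₁ * w₂⁻¹)⁻¹ := by group
        _ = w₁ := by rw [h3, inv_inv]
    calc w₁⁻¹ * w₂ * (w₁⁻¹ * w₂) = w₁⁻¹ * (w₂ * w₁⁻¹ * w₂⁻¹) * (w₂ * w₂) := by group
      _ = b := by rw [h4, h2]; group
  have hc1 : w₁ * (a * x) = a * x * w₁ := (c_iff h hw1x).mpr (Y_comm hp hw1L)
  have hc2 : w₂ * (a * x) = a * x * w₂ := (c_iff h hw2x).mpr (Y_comm hp hw2L)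
  have T₁ := cj_triple T hw1x hc1
  have T₂ := cj_triple T hw2x hc2
  refine three_comps h T.comp T₁.comp T₂.comp T.x_mem T₁.x_mem T₂.x_mem (hcen T) (hcen T₁)
    (hcen T₂) ?_ ?_ ?_
  · intro h4
    exact key w₁ hw1L hw1x h1 (mem_normalizer_iff_cj.mpr h4.symm)
  · intro h4
    exact key w₂ hw2L hw2x h2 (mem_normalizer_iff_cj.mpr h4.symm)
  · intro h4
    apply key (w₁⁻¹ * w₂) (mul_mem (inv_mem hw1L) hw2L)
      (comm_c (mul_mem (inv_mem (mem_c hw1x)) (mem_c hw2x))) hw12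
    rw [mem_normalizer_iff_cj, cj_mul, ← h4, cj_inv_cj]

end Cfsg.Agent.UGT.L34T2.Switch
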