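import Cfsg.Agent.UGT.L34T2.WorldGood
import Cfsg.Agent.UGT.L34T2.SmallJ
import Cfsg.Agent.UGT.L34T2.NormW
import Cfsg.Agent.UGT.L34T2.OddEnd
import Cfsg.Agent.UGT.L34T2.Switch

/-!
# Node `L₃(4)`, T2, SMALL, `|Q| = 2` (#14883 (8), (9))

* `Str.cx`: the situation `Small.Cx` of helper646's file from a 2-group `U > T`.
* `notMem`: `|Q| = 2`, `T` not Sylow in `G`: `a ∉ G'`, so `a ∉ X = F*(G)`.
* `switch`: then there is a triple `(x, a x, J)` of type `L₃(4)`, `a x ∈ X`.
-/

set_option autoImplicit false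

open Cfsg Subgroup
open Cfsg.Agent.SignalizersComponents Cfsg.Agent.Lib
open Cfsg.Agent.SignalizersComponents.IntrinsicBasic
open Cfsg.Agent.SignalizersComponents.IntrinsicIntr
open Cfsg.Agent.SignalizersComponents.PLayerAut
open Cfsg.Agent.Intrinsic Cfsg.Agent.Intrinsic.Basic Cfsg.Agent.Intrinsic.Cen Cfsg.Agent.Intrinsic.Diag
open Cfsg.Agent.McLLyComp.Act
open Cfsg.Agent.UGT.Triple Cfsg.Agent.UGT.TriBase
open Cfsg.Agent.UGT.Iface (Bar IsL2 IsL34 IsAltOdd MinCex)
open Cfsg.Agent.UGT.L34T2.Good (Cf Elem Fun)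
open Cfsg.Agent.UGT.L34T2.Small (Cx Sm)
open Cfsg.Agent.UGT.LTF.Basics (isPGroup_zpowers)
open scoped commutatorElement

namespace Cfsg.Agent.UGT.L34T2.World

universe u

local notation "Fs" => generalizedFittingSubgroup

variable {G : Type u} [Group G] [Finite G] {x a : G} {L T Z : Subgroup G} {A : Bool → Subgroup G} {b : G}

/-- the situation of `Small.lean` -/
theorem Frm.cx (w : W1 x a L) (h : Frm x a L T Z A b) {t : G} (tn : ∀ y ∈ T, t * y * t⁻¹ ∈ T)
    (tn' : ∀ y ∈ T, t⁻¹ * y * t ∈ T) (tt : t * t ∈ T) (ta : t * a ≠ a * t) :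
    Cx T (T ⊓ L) (fix T L) Z A b a x t where
  fr := h.fr
  aQ := h.a_fix
  aa := sq_of_order h.tri.inva
  a1 := ne_one_of_order h.tri.inva
  aT := fun _ hy => comm_c (h.syl.le hy)
  xT := h.xT
  xx := sq_of_order h.tri.invx
  xZ := h.xZ
  xA := h.xA
  uniq := fun _ hq hxq hqq => h.uniq w hq hxq hqq
  tn := tn
  tn' := tn'
  tt := tt
  ta := ta

/-- `T` is not Sylow: the element `t` -/
theorem Frm.exists_cx (w : W1 x a L) (h : Frm x a L T Z A b) {U : Subgroup G} (hU : IsPGroup 2 ↥U)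
    (hTU : T ≤ U) (hne : ¬ U ≤ T) : ∃ t ∈ U, t ∉ T ∧ IsPGroup 2 ↥(T ⊔ zpowers t : Subgroup G) ∧
      Cx T (T ⊓ L) (fix T L) Z A b a x t := by
  obtain ⟨t, htU, htT, h1, h2, h3⟩ := exists_t hU hTU hne
  have h4 : IsPGroup 2 ↥(T ⊔ zpowers t : Subgroup G) :=
    hU.to_le (sup_le hTU (zpowers_le.mpr htU))
  exact ⟨t, htU, htT, h4, h.cx w h1 h2 h3 (h.ta h4 htT)⟩

omit [Finite G] in
/-- `|Q| = 2` is a small case -/
theorem sm_of_two {P Q : Subgroup G} {t : G} (C : Cx T P Q Z A b a x t) (h2 : ∀ q ∈ Q, q = 1 ∨ q = a) :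
    Sm P Q Z t := by
  have key : ∀ p ∈ P, ∀ p' ∈ P, ∀ q' ∈ Q, p' = p * q' → p = p' := by
    intro p hp p' hp' q' hq' e
    have h1 : q' = 1 := by
      apply C.fr.disj q' _ hq'
      have h3 : q' = p⁻¹ * p' := by rw [e]; group
      rw [h3]
      exact mul_mem (inv_mem hp) hp'
    rw [e, h1, mul_one]
  have hbP := C.fr.toHeis.ZP C.fr.bZ
  intro q hq p hp q' hq' e
  rcases h2 q hq with rfl | rfl
  · rw [key p hp 1 (one_mem _) q' hq' (by rw [← e]; group)]
    exact one_mem _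
  · rcases C.ta_cases with h3 | h3
    · rw [key p hp b hbP q' hq' (by rw [← h3, e])]
      exact C.fr.bZ
    · have h4 : p = b := by
        apply key p hp b hbP (q' * q⁻¹) (mul_mem hq' (inv_mem hq))
        have h5 : q * b = p * q' := by rw [← h3, e]
        have h6 : q * b = b * q := (C.fr.comm b hbP q hq).symm
        calc b = (b * q) * q⁻¹ := by group
          _ = (p * q') * q⁻¹ := by rw [← h6, h5]
          _ = _ := by group
      rw [h4]
      exact C.fr.bZ

/-- **(8)** -/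
theorem Frm.notMem (w : W1 x a L) (h : Frm x a L T Z A b) {t : G} (C : Cx T (T ⊓ L) (fix T L) Z A b a x t)
    (hT : IsPGroup 2 ↥(T ⊔ zpowers t : Subgroup G)) (h2 : ∀ q ∈ fix T L, q = 1 ∨ q = a) :
    a ∉ commutator G ∧ core (centralizer ({a} : Set G)) ≤ Functor.W Z := by
  have hs := sm_of_two C h2
  obtain ⟨ψ, M, -, -, e1, e2⟩ := h.exists_psi w
  have ht := C.t_norm hs M e1 e2
  have htb : t * b = b * t := by
    have h1 := C.tb hs ht
    calc t * b = (t * b * t⁻¹) * t := by group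
      _ = b * t := by rw [h1]
  have hb := h.good_b w hT htb (C.ta_eq hs ht)
  have hF := h.fn w hb
  have hLn := norm_L w h.tri h.l34
  have hZ4 : 4 ≤ Nat.card ↥Z := h.fr.toHeis.cardZ.ge
  have h3 := NormW.cent_le h.tri.inva h.tri.comp hLn h.l34 h.syl rfl h.fr.toHeis hF
  have h4 := NormW.cent_inf h.tri.inva h.tri.comp hLn h.l34 h.syl rfl h.fr.toHeis hF
  have eQ : fix T L = zpowers a := by
    apply le_antisymm
    · intro q hq
      rcases h2 q hq with rfl | rfl
      · exact one_mem _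
      · exact mem_zpowers _
    · exact zpowers_le.mpr h.a_fix
  refine ⟨OddEnd.of_fun h.tri.inva h.tri.comp hLn h.l34 h.syl h.aT (fun y hy hf => h2 y ⟨hy, hf⟩) rfl hF
    (h.fr.toHeis.ZA false) (h.elemZ w hb) hZ4 h3 h4 h.Z_iff (fun z hz => C.conj_Z hs ht hz)
    C.ta ?_, ?_⟩
  · intro y hy
    rw [sup_comm, ← eQ] at hy ⊢
    exact (mem_normalizer_iff.mp ht y).mp hy
  · rw [← h4]
    exact inf_le_left

/-! ### (9) -/

/-- `m(C(a, x)) ≤ 4` -/
theorem rank_le (w : W1 x a L) (T : IsTriple x a L) (h34 : IsL34 (Bar L)) {V : Subgroup G}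
    (hV : V ≤ centralizer ({a} : Set G) ⊓ centralizer ({x} : Set G)) (hsq : ∀ v ∈ V, v * v = 1) :
    Nat.card ↥V ≤ 16 := by
  have hcomm : ∀ u ∈ V, ∀ v ∈ V, u * v = v * u := by
    intro u hu v hv
    calc u * v = u * (u * v * (u * v)) * v := by rw [hsq _ (mul_mem hu hv), mul_one]
      _ = (u * u) * (v * u) * (v * v) := by group
      _ = v * u := by rw [hsq u hu, hsq v hv, one_mul, mul_one]
  have hV2 : IsPGroup 2 ↥V := fun v => ⟨1, Subtype.ext (by
    change (v : G) ^ 2 ^ 1 = 1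
    rw [pow_one, pow_two, hsq _ v.2])⟩
  have h1 : IsPGroup 2 ↥(V ⊔ zpowers x : Subgroup G) := by
    refine hV2.to_sup_of_normal_left' (isPGroup_zpowers T.invx) (zpowers_le.mpr ?_)
    refine centralizer_le_normalizer _ (mem_centralizer_iff.mpr fun v hv => ?_)
    exact comm_c (hV hv).2
  obtain ⟨S, h, hVS⟩ := exists_str T h34 h1
    (sup_le (hV.trans inf_le_left) (zpowers_le.mpr (mem_c T.comm.symm))) (mem_sup_right (mem_zpowers x))
  obtain ⟨ψ, M, hψx, hψ, -, -⟩ := h.exists_psi w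
  have hVS' : V ≤ S := le_sup_left.trans hVS
  have hc : Nat.card ↥(V.subgroupOf S) = Nat.card ↥V :=
    Nat.card_congr (subgroupOfEquivOfLe hVS').toEquiv
  have hE : L34.Elem (V.subgroupOf S) :=
    ⟨fun u hu => Subtype.ext (hsq _ hu), fun u hu v hv => Subtype.ext (hcomm _ hu _ hv)⟩
  rw [← hc, L34.card_eq_inf_mul_map ψ (V.subgroupOf S)]
  have h3 : Nat.card ((V.subgroupOf S).map ψ) ≤ 8 := by
    apply L34.card_le_eight (L34.elem_map hE ψ)
    rintro _ ⟨v, hv, rfl⟩
    rw [← hψx, ← map_mul, ← map_mul]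
    congr 1
    exact Subtype.ext (comm_c (hV hv).2)
  have h4 : Nat.card (V.subgroupOf S ⊓ ψ.ker : Subgroup ↥S) ≤ 2 := by
    classical
    have hf : ∀ s : (V.subgroupOf S ⊓ ψ.ker : Subgroup ↥S), (s.1 : G) = 1 ∨ (s.1 : G) = a := by
      intro s
      exact h.uniq w ⟨s.1.2, (hψ s.1).mp s.2.2⟩ (comm_c (hV s.2.1).2).symm (hsq _ s.2.1)
    have hinj : Function.Injective
        (fun s : (V.subgroupOf S ⊓ ψ.ker : Subgroup ↥S) => decide ((s.1 : G) = 1)) := by
      intro s t hst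
      have h' : decide ((s.1 : G) = 1) = decide ((t.1 : G) = 1) := hst
      rw [decide_eq_decide] at h'
      apply Subtype.ext
      apply Subtype.ext
      rcases hf s with h1 | h1
      · rw [h1, h'.mp h1]
      · rcases hf t with h2 | h2
        · rw [h'.mpr h2, h2]
        · rw [h1, h2]
    have h5 := Nat.card_le_card_of_injective _ hinj
    have h6 : Nat.card Bool = 2 := by rw [Nat.card_eq_fintype_card]; rfl
    rwa [h6] at h5
  calc _ ≤ 2 * 8 := Nat.mul_le_mul h4 h3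
    _ = 16 := by norm_num

/-- `X ≤ G'` -/
theorem fs_le_commutator (h : MinCex G) : Fs G ≤ commutator G := by
  have hs := h.simple
  have h1 : commutator ↥(Fs G) = ⊤ := by
    rcases (inferInstance : (commutator ↥(Fs G)).Normal).eq_bot_or_eq_top with h2 | h2
    · exfalso
      apply h.nonab
      refine ⟨⟨fun u v => ?_⟩⟩
      have h3 : ⁅u, v⁆ ∈ commutator ↥(Fs G) := commutator_mem_commutator (mem_top u) (mem_top v)
      rw [h2, mem_bot, commutatorElement_eq_one_iff_mul_comm] at h3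
      exact h3
    · exact h2
  intro g hg
  have h2 : (⟨g, hg⟩ : ↥(Fs G)) ∈ commutator ↥(Fs G) := h1 ▸ mem_top _
  have h3 : (commutator ↥(Fs G)).map (Fs G).subtype ≤ commutator G := by
    rw [commutator_def, commutator_def, map_commutator]
    exact commutator_mono le_top le_top
  exact h3 ⟨_, h2, rfl⟩

theorem le_Fs (h : MinCex G) (T : IsTriple x a L) : L ≤ Fs G :=
  NoGamma.le_fs T.invx (Trich.sup_eq_top h T.invx (LSup.core_ne_bot T)) T.comp

/-- **(8), (9)** `|Q| = 2`, `T` not Sylow in `G`: `a ∉ X = F*(G)`, and there is a triple `(x, a x, J)` of type `L₃(4)`,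
`a x ∈ X`. -/
theorem switch (w : W1 x a L) (h : Str x a L T) (h2 : ∀ q ∈ fix T L, q = 1 ∨ q = a) {U : Subgroup G}
    (hU : IsPGroup 2 ↥U) (hTU : T ≤ U) (hne : ¬ U ≤ T) :
    a ∉ Fs G ∧ x ∉ Fs G ∧ a * x ∈ Fs G ∧ ∃ J, IsTriple x (a * x) J ∧ IsL34 (Bar J) := by
  obtain ⟨Z, A, b, hf⟩ := h.exists_frm w
  obtain ⟨t, -, -, hT, C⟩ := hf.exists_cx w hU hTU hne
  obtain ⟨h3, h4⟩ := hf.notMem w C hT h2
  have haX : a ∉ Fs G := fun ha => h3 (fs_le_commutator w.min ha)
  rcases LSup.dichotomy34 FL34.KF.kf34 w.min h.tri h.l34 with h5 | ⟨hx, htwo, hcore⟩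
  · exact absurd (h5 ▸ mem_top a) haX
  have hXn : (Fs G).Normal := Trich.normal_fs
  have hax : a * x ∈ Fs G := by
    rcases htwo a with h5 | h5
    · exact absurd h5 haX
    · rw [h.tri.comm]; exact h5
  have haa := sq_of_order h.tri.inva
  have hxx := sq_of_order h.tri.invx
  have ho : orderOf (a * x) = 2 := by
    apply Good.order_of
    · calc a * x * (a * x) = a * (x * a) * x := by group
        _ = a * (a * x) * x := by rw [← h.tri.comm]
        _ = (a * a) * (x * x) := by group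
        _ = 1 := by rw [haa, hxx, one_mul]
    · intro h5
      apply h.tri.not_fixes
      have h6 : x = a := by
        calc x = (a * a) * x := by rw [haa, one_mul]
          _ = a * (a * x) := by group
          _ = a := by rw [h5, mul_one]
      rw [h6]
      exact fixes_self' h.tri.comp.le
  have hW : Functor.W Z = ⊥ := by
    rw [eq_bot_iff]
    refine Functor.W_le fun z hz hz1 => ?_
    have h5 : z ∈ Fs G := le_Fs w.min h.tri (hf.fr.toHeis.ZP hz).2
    exact (hcore z h5 (Good.order_of (hf.fr.toHeis.Zsq hz) hz1)).le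
  have hca : core (centralizer ({a} : Set G)) = ⊥ := by
    rw [eq_bot_iff, ← hW]
    exact h4
  refine ⟨haX, hx, hax, ?_⟩
  refine Switch.switch FL34.KF.kf34 LTF.KF2.kf2 LTF.KFA.kfa (X := Fs G) (L := L)
    ⟨hXn, hx, htwo, h.tri, hax, h.l34, hca, hcore _ hax ho, fun c J _ T => w.typ x c J T,
      w.uniq, fun E hE hsq => rank_le w h.tri h.l34 hE hsq⟩

end Cfsg.Agent.UGT.L34T2.World
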