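import Cfsg.Agent.UGT.L34T2.V4Hyp
import Cfsg.Agent.UGT.L34T2.HStar

/-!
# T2 small, `Q = V₄`: the inputs `eta`, `all`, `lf` of `HypQ` from `HStar.HS`
-/

set_option autoImplicit false

open Cfsg Subgroup

namespace Cfsg.Agent.UGT.L34T2.V4

open Cfsg.Agent.UGT.L34T2.HStar

variable {G : Type*} [Group G] {J Q Z : Subgroup G} {a b q ρ x t : G}

/-- **(i)** -/
theorem eta_HS (h : HS J Q Z a b q ρ x) {g : G} (hg : g ∈ normalizer (J : Set G)) (hgq : cv g q = q)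
    {z : G} (hz : z ∈ Z) (hga : cv g a = a * z) : z = 1 := by
  -- we may assume `b^g = b`
  have key : ∀ g : G, g ∈ normalizer (J : Set G) → cv g b = b → cv g q = q → ∀ z ∈ Z,
      cv g a = a * z → z = 1 := by
    intro g hg hgb hgq z hz hga
    have hgc : cv g (cv ρ b) = cv ρ b ∨ cv g (cv ρ b) = cv ρ (cv ρ b) := by
      rcases h.Zm _ (h.nZ g hg _ h.cZ) with h1 | h1 | h1 | h1
      · exfalso
        apply h.c1
        apply cv_inj (g := g)
        rw [h1, cv_one]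
      · exfalso
        apply h.bρ
        apply cv_inj (g := g)
        rw [h1, hgb]
      · exact Or.inl h1
      · exact Or.inr h1
    rcases hgc with hgc | hgc
    · -- trivial on `Z`
      refine h.eta_u hg ?_ (Or.inl rfl) hgq hz hga
      intro w hw
      rcases h.Zm w hw with rfl | rfl | rfl | rfl
      · exact cv_one _
      · exact hgb
      · exact hgc
      · rw [← h.bc, cv_mul, hgb, hgc]
    · have hgd : cv g (cv ρ (cv ρ b)) = cv ρ b := by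
        conv_lhs => rw [← h.bc]
        rw [cv_mul, hgb, hgc, h.bd]
      have hρi : ρ⁻¹ ∈ normalizer (J : Set G) := inv_mem h.ρJ
      have hρiQ : ∀ v ∈ Q, cv ρ⁻¹ v = v := fun v hv => cv_inv_eq (h.ρQ v hv)
      have hρib : cv ρ⁻¹ b = cv ρ (cv ρ b) := cv_inv_eq h.r3
      have hρic : cv ρ⁻¹ (cv ρ b) = b := cv_inv_cv _ _
      have hρid : cv ρ⁻¹ (cv ρ (cv ρ b)) = cv ρ b := cv_inv_cv _ _
      -- `k = g ρ g ρ⁻²`
      obtain ⟨k, hk⟩ : ∃ k, k = g * (ρ * (g * (ρ⁻¹ * ρ⁻¹))) := ⟨_, rfl⟩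
      have hkv : ∀ v, cv k v = cv g (cv ρ (cv g (cv ρ⁻¹ (cv ρ⁻¹ v)))) := fun v => by
        rw [hk, cv_cv, cv_cv, cv_cv, cv_cv]
      have hkJ : k ∈ normalizer (J : Set G) := by
        rw [hk]
        exact mul_mem hg (mul_mem h.ρJ (mul_mem hg (mul_mem hρi hρi)))
      have hkZ : ∀ w ∈ Z, cv k w = w := by
        intro w hw
        rcases h.Zm w hw with rfl | rfl | rfl | rfl
        · exact cv_one _
        · rw [hkv, hρib, hρid, hgc, h.r3, hgb]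
        · rw [hkv, hρic, hρib, hgd, hgd]
        · rw [hkv, hρid, hρic, hgb, hgc]
      have hkq : cv k q = q := by
        rw [hkv, hρiQ q h.qQ, hρiQ q h.qQ, hgq, h.ρQ q h.qQ, hgq]
      have hρz : cv ρ z ∈ Z := h.nZ ρ h.ρJ z hz
      have hka : cv k a = a * (z * cv g (cv ρ z)) := by
        rw [hkv, hρiQ a h.aQ, hρiQ a h.aQ, hga, cv_mul, h.ρQ a h.aQ, cv_mul, hga, mul_assoc]
      have e1 := h.eta_u hkJ hkZ (Or.inl rfl) hkq (Z.mul_mem hz (h.nZ g hg _ hρz)) hka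
      -- `k' = g ρ⁻¹ g ρ²`
      obtain ⟨k', hk'⟩ : ∃ k, k = g * (ρ⁻¹ * (g * (ρ * ρ))) := ⟨_, rfl⟩
      have hkv' : ∀ v, cv k' v = cv g (cv ρ⁻¹ (cv g (cv ρ (cv ρ v)))) := fun v => by
        rw [hk', cv_cv, cv_cv, cv_cv, cv_cv]
      have hkJ' : k' ∈ normalizer (J : Set G) := by
        rw [hk']
        exact mul_mem hg (mul_mem hρi (mul_mem hg (mul_mem h.ρJ h.ρJ)))
      have hkZ' : ∀ w ∈ Z, cv k' w = w := by
        intro w hw
        rcases h.Zm w hw with rfl | rfl | rfl | rfl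
        · exact cv_one _
        · rw [hkv', hgd, hρic, hgb]
        · rw [hkv', h.r3, hgb, hρib, hgd]
        · rw [hkv', h.r3, hgc, hρid, hgc]
      have hkq' : cv k' q = q := by
        rw [hkv', h.ρQ q h.qQ, h.ρQ q h.qQ, hgq, hρiQ q h.qQ, hgq]
      have hρz' : cv ρ⁻¹ z ∈ Z := h.nZ ρ⁻¹ hρi z hz
      have hka' : cv k' a = a * (z * cv g (cv ρ⁻¹ z)) := by
        rw [hkv', h.ρQ a h.aQ, h.ρQ a h.aQ, hga, cv_mul, hρiQ a h.aQ, cv_mul, hga, mul_assoc]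
      have e2 := h.eta_u hkJ' hkZ' (Or.inl rfl) hkq' (Z.mul_mem hz (h.nZ g hg _ hρz')) hka'
      have e3 : cv ρ z = cv ρ⁻¹ z := by
        apply cv_inj (g := g)
        exact mul_left_cancel (e1.trans e2.symm)
      by_contra hz1
      rcases h.Zm z hz with rfl | rfl | rfl | rfl
      · exact hz1 rfl
      · rw [hρib] at e3; exact h.dc e3.symm
      · rw [hρic] at e3; exact h.db e3
      · rw [h.r3, hρid] at e3; exact h.bρ e3.symm
  have hgb1 : cv g b ≠ 1 := by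
    intro h1
    apply h.b1
    apply cv_inj (g := g)
    rw [h1, cv_one]
  obtain ⟨r, hr, hrQ, hrb⟩ := h.trans (h.nZ g hg b h.bZ) h.bZ hgb1 h.b1
  have h1 := key (r * g) (mul_mem hr hg) (by rw [cv_cv, hrb]) (by rw [cv_cv, hgq, hrQ q h.qQ]) (cv r z)
    (h.nZ r hr z hz) (by rw [cv_cv, hga, cv_mul, hrQ a h.aQ])
  apply cv_inj (g := r)
  rw [h1, cv_one]

/-- **(ii)** -/
theorem all_HS (h : HS J Q Z a b q ρ x) {s z2 : G} (hs : s ∈ normalizer (J : Set G))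
    (hsa : cv s a = a * b) (hz2 : z2 ∈ Z) (hsq : cv s q = q * z2) (hz2b : z2 ≠ b) {z : G} (hz : z ∈ Z) :
    ∃ m : G, m ∈ normalizer (J : Set G) ∧ m⁻¹ * (a * q) * m = a * q * z := by
  by_cases hz1 : z = 1
  · exact ⟨1, one_mem _, by rw [hz1]; group⟩
  have hbb := h.Zz _ h.bZ
  have hbz : b * z2 ≠ 1 := by
    intro e
    apply hz2b
    calc z2 = (b * b) * z2 := by rw [hbb, one_mul]
      _ = b * (b * z2) := by group
      _ = b := by rw [e, mul_one]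
  obtain ⟨r, hr, hrQ, hrb⟩ := h.trans (Z.mul_mem h.bZ hz2) hz hbz hz1
  refine ⟨(r * s)⁻¹, inv_mem (mul_mem hr hs), ?_⟩
  rw [inv_inv]
  have h1 : cv s (a * q) = a * q * (b * z2) := by
    rw [cv_mul, hsa, hsq]
    calc a * b * (q * z2) = a * (b * q) * z2 := by group
      _ = a * (q * b) * z2 := by rw [h.QZ q h.qQ b h.bZ]
      _ = _ := by group
  have h2 : cv (r * s) (a * q) = a * q * z := by
    rw [cv_cv, h1, cv_mul, hrb, hrQ _ (Q.mul_mem h.aQ h.qQ)]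
  exact h2

/-- **(iii)** -/
theorem lf_HS (h : HS J Q Z a b q ρ x) {s z2 : G} (hs : s ∈ normalizer (J : Set G))
    (hsZ : ∀ z ∈ Z, cv s z = z) (hsa : cv s a = a * b) (hz2 : z2 ∈ Z) (hsq : cv s q = q * z2)
    {y : G} (hy : y ∈ normalizer (J : Set G)) (hya : cv y a = a) (hyb : cv y b = b) (hyq : cv y q = q) :
    cv y z2 = z2 := by
  have hbb := h.Zz _ h.bZ
  have hsia : cv s⁻¹ a = a * b := by
    apply cv_inj (g := s)
    rw [cv_cv_inv, cv_mul, hsa, hsZ b h.bZ, mul_assoc, hbb, mul_one]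
  have hsiq : cv s⁻¹ q = q * z2 := by
    apply cv_inj (g := s)
    rw [cv_cv_inv, cv_mul, hsq, hsZ z2 hz2, mul_assoc, h.Zz _ hz2, mul_one]
  obtain ⟨k, hk⟩ : ∃ k, k = s * (y * (s⁻¹ * y⁻¹)) := ⟨_, rfl⟩
  have hkv : ∀ v, cv k v = cv s (cv y (cv s⁻¹ (cv y⁻¹ v))) := fun v => by
    rw [hk, cv_cv, cv_cv, cv_cv]
  have hkJ : k ∈ normalizer (J : Set G) := by
    rw [hk]
    exact mul_mem hs (mul_mem hy (mul_mem (inv_mem hs) (inv_mem hy)))
  have hyz : cv y z2 ∈ Z := h.nZ y hy z2 hz2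
  have hka : cv k a = a := by
    rw [hkv, cv_inv_eq hya, hsia, cv_mul, hya, hyb, cv_mul, hsa, hsZ b h.bZ, mul_assoc, hbb, mul_one]
  have hkq : cv k q = q * (z2 * cv y z2) := by
    rw [hkv, cv_inv_eq hyq, hsiq, cv_mul, hyq, cv_mul, hsq, hsZ _ hyz, mul_assoc]
  have h1 := h.eta_a hkJ hka h.qQ (Z.mul_mem hz2 hyz) hkq
  calc cv y z2 = (z2 * z2) * cv y z2 := by rw [h.Zz _ hz2, one_mul]
    _ = z2 * (z2 * cv y z2) := by group
    _ = z2 := by rw [h1, mul_one]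

/-- **`CxV` from `Cx` and `HS`.** -/
theorem cxV_of [Finite G] {T P Q Z : Subgroup G} {A : Bool → Subgroup G} {b a x t q ρ : G}
    (C : Small.Cx T P Q Z A b a x t) (hs : Small.Sm P Q Z t)
    (ht : t ∈ normalizer ((P ⊔ Q : Subgroup G) : Set G))
    (h : HS (P ⊔ Q) Q Z a b q ρ x) : CxV T P Q Z A b a x t q := by
  obtain ⟨s, hst, hsZ, hsa, ⟨z2, hz2, hsq, hz21, hz2b⟩, -, -⟩ := h.exists_t ht (C.tb hs ht) (C.ta_eq hs ht)
  have hTJ : ∀ y ∈ T, y ∈ normalizer ((P ⊔ Q : Subgroup G) : Set G) := fun y hy =>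
    Cfsg.Agent.UGT.Res.ThH.mem_normalizer_of_le fun g hg => C.fr.nJ hy hg
  have hsJ : s ∈ normalizer ((P ⊔ Q : Subgroup G) : Set G) := by
    rcases hst with rfl | rfl
    · exact ht
    · exact mul_mem (hTJ x C.xT) ht
  refine ⟨C, hs, h.qQ, h.q1, h.qa, ?_, ?_, ?_, ?_, ?_⟩
  · have := h.xq
    rw [cv_def] at this
    rw [this, h.aq]
  · intro w hw
    rw [h.aq]
    exact h.Qm w hw
  · rintro n hn hnq ⟨z, hz, hna⟩
    have h1 := eta_HS h (inv_mem hn) (z := z) (by rw [cv, inv_inv]; exact hnq) hz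
      (by rw [cv, inv_inv]; exact hna)
    rw [hna, h1, mul_one]
  · intro z hz
    exact all_HS h hsJ hsa hz2 hsq hz2b hz
  · intro y hy hyq
    have h1 := lf_HS h hsJ hsZ hsa hz2 hsq (hTJ y hy) (cv_eq_self.mpr (C.aT y hy))
      (cv_eq_self.mpr (C.fr.bT y hy)) (cv_eq_self.mpr hyq)
    by_contra hn
    rcases C.fr.not_nc hy hn hz2 (cv_eq_self.mp h1) with h2 | h2
    · exact hz21 h2
    · exact hz2b h2

end Cfsg.Agent.UGT.L34T2.V4
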