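import Cfsg.Agent.UGT.L34T2.WorldGood
import Cfsg.Agent.UGT.L34T2.SmallJ
import Cfsg.Agent.UGT.L34T2.MHat
import Cfsg.Agent.UGT.L34T2.DHatOf
import Cfsg.Agent.UGT.L34T2.V4HS

/-!
# Node `L₃(4)`, T2, SMALL, `Q = V₄`: the end

* `vd`: `V4.VD` in `G` from the frame.
* `vd_map`: the image of `V4.VD` in `M / W`.
* `not_v4`: the case `Q = V₄` does not occur.
* `two_of_small`: in the small case `|Q| = 2`.
-/

set_option autoImplicit false
set_option linter.unusedSectionVars false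

open Cfsg Subgroup
open Cfsg.Agent.SignalizersComponents Cfsg.Agent.Lib
open Cfsg.Agent.SignalizersComponents.IntrinsicBasic
open Cfsg.Agent.SignalizersComponents.IntrinsicIntr
open Cfsg.Agent.Intrinsic Cfsg.Agent.Intrinsic.Basic Cfsg.Agent.Intrinsic.Cen Cfsg.Agent.Intrinsic.Diag
open Cfsg.Agent.McLLyComp.Act
open Cfsg.Agent.UGT.Triple Cfsg.Agent.UGT.TriBase
open Cfsg.Agent.UGT.Iface (Bar IsL2 IsL34 IsAltOdd MinCex)
open Cfsg.Agent.UGT.L34T2.Good (Cf Elem Fun)
open Cfsg.Agent.UGT.L34T2.Small (Cx Sm)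
open Cfsg.Agent.UGT.L34T2.World (W1 Frm norm_L)
open Cfsg.Agent.UGT.L34T2.NormW (ext ext_apply ext_coe im img_im isoOn_ext)
open Cfsg.Agent.UGT.Res.ThH (mem_normalizer_of_le)
open scoped commutatorElement

namespace Cfsg.Agent.UGT.L34T2.V4Glue

universe u

section

variable {G : Type u} [Group G] [Finite G] {x a : G} {L T Z : Subgroup G} {A : Bool → Subgroup G} {b : G}

/-- `V4.VD` in `G` -/
theorem vd (w : W1 x a L) (h : Frm x a L T Z A b) {t : G} (C : Cx T (T ⊓ L) (fix T L) Z A b a x t)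
    (hs : Sm (T ⊓ L) (fix T L) Z t)
    (ht : t ∈ normalizer ((T ⊓ L ⊔ fix T L : Subgroup G) : Set G)) {q : G} (hq : q ∈ fix T L)
    (hq1 : q ≠ 1) (hqa : q ≠ a) (hxq : x * q * x⁻¹ = a * q)
    (hall : ∀ v ∈ fix T L, v = 1 ∨ v = a ∨ v = q ∨ v = a * q) :
    ∃ ρ ∈ L, V4.VD T (T ⊓ L) (fix T L) Z A b a q ρ x t := by
  obtain ⟨K, hKL, -, -, hKQ, -, -, ρ, hρK, -, hρP, hρf, -⟩ := h.exists_K w
  have haq : a * q = q * a := C.commQ hs C.aQ hq
  refine ⟨ρ, hKL hρK,
    { h.fr with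
      Qm := ?_
      aQ := C.aQ
      qQ := hq
      a1 := C.a1
      q1 := hq1
      qa := hqa
      aa := C.aa
      qq := C.sq hs hq
      aq := haq
      ρP := hρP
      ρQ := fun u hu => hKQ ρ hρK u hu
      ρ1 := fun z hz e => hρf z (h.fr.toHeis.ZP hz) e
      xT := C.xT
      xx := C.xx
      xa := C.aT x C.xT
      xq := ?_
      xZ := C.xZ
      xA := C.xA
      nQa := ?_
      tJ := ht
      tT := C.tn
      ta := C.ta_eq hs ht
      tb := ?_ }⟩
  · intro v hv
    rw [← haq]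
    exact hall v hv
  · rw [← haq, ← hxq]
    group
  · intro g hga hgJ u hu
    have h1 : g * u * g⁻¹ ∈ (T ⊓ L ⊔ fix T L : Subgroup G) :=
      (mem_normalizer_iff.mp hgJ u).mp (mem_sup_right hu)
    refine ⟨h.fr.JT h1, ?_⟩
    exact fixes_conj hu.2 (norm_L w h.tri h.l34 (mem_c hga))
  · have h1 := C.tb hs ht
    calc t * b = (t * b * t⁻¹) * t := by group
      _ = b * t := by rw [h1]

end

section

variable {G : Type u} {H : Type u} [Group G] [Finite G] [Group H] {M W : Subgroup G} {f : ↥M →* H}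
variable {L T P Q Z : Subgroup G} {A : Bool → Subgroup G} {b a q ρ x t : G}

/-- the image of `V4.VD` -/
theorem vd_map (hs : Function.Surjective f) (hodd : Odd (Nat.card f.ker))
    (V : V4.VD T P Q Z A b a q ρ x t) (hTM : T ≤ M) (hT2 : IsPGroup 2 ↥T) (hρM : ρ ∈ M) (htM : t ∈ M)
    (Pr : Pair (ext f a) (ext f b) (im f L) (im f T) (im f P) (im f Q) (im f Z) (fun i => im f (A i))) :
    V4.VD (im f T) (im f P) (im f Q) (im f Z) (fun i => im f (A i)) (ext f b) (ext f a) (ext f q)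
      (ext f ρ) (ext f x) (ext f t) := by
  have hfinH : Finite H := Finite.of_surjective f hs
  have hPM : P ≤ M := fun p hp => hTM (V.PT hp)
  have hQM : Q ≤ M := fun p hp => hTM (V.QT hp)
  have hZP : Z ≤ P := V.toHeis.ZP
  have hZM : Z ≤ M := hZP.trans hPM
  have haM := hQM V.aQ
  have hqM := hQM V.qQ
  have hbM := hZM V.bZ
  have hxM := hTM V.xT
  have hI := isoOn_ext (f := f) hodd hTM hT2
  have e1 : ext f (1 : G) = 1 := MHat.ext_one
  -- equations
  have hc : ∀ {g h : G}, g ∈ M → h ∈ M → g * h = h * g → ext f g * ext f h = ext f h * ext f g := by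
    intro g h hg hh e
    rw [← MHat.ext_mul hg hh, e, MHat.ext_mul hh hg]
  have hcj : ∀ {g h : G}, g ∈ M → h ∈ M → ext f g * ext f h * (ext f g)⁻¹ = ext f (g * h * g⁻¹) := by
    intro g h hg hh
    rw [← MHat.ext_mul hg hh, ← MHat.ext_inv hg, ← MHat.ext_mul (M.mul_mem hg hh) (M.inv_mem hg)]
  have hne : ∀ {v : G}, v ∈ T → v ≠ 1 → ext f v ≠ 1 := by
    intro v hv h1 h2
    exact h1 (hI.inj v hv 1 T.one_mem (by rw [h2, e1]))
  have hQc : ∀ u ∈ im f Q, u * ext f a = ext f a * u := by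
    intro u hu
    obtain ⟨u, hu', rfl⟩ := (img_im f hQM u).1 hu
    exact hc (hQM hu') haM (V.Qc hu' V.aQ)
  exact
    { Pr.fr with
      Qm := by
        intro u hu
        obtain ⟨u, hu', rfl⟩ := (img_im f hQM u).1 hu
        rcases V.Qm u hu' with rfl | rfl | rfl | rfl
        · left; exact e1
        · right; left; rfl
        · right; right; left; rfl
        · right; right; right; exact MHat.ext_mul hqM haM
      aQ := Pr.aQ
      qQ := MHat.mem_im_of hQM V.qQ
      a1 := Pr.a1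
      q1 := hne (V.QT V.qQ) V.q1
      qa := fun h1 => V.qa (hI.inj q (V.QT V.qQ) a (V.QT V.aQ) h1)
      aa := Pr.aa
      qq := by rw [← MHat.ext_mul hqM hqM, V.qq, e1]
      aq := hc haM hqM V.aq
      ρP := by
        intro p hp
        obtain ⟨p, hp', rfl⟩ := (img_im f hPM p).1 hp
        rw [hcj hρM (hPM hp')]
        exact MHat.mem_im_of hPM (V.ρP p hp')
      ρQ := by
        intro u hu
        obtain ⟨u, hu', rfl⟩ := (img_im f hQM u).1 hu
        exact hc hρM (hQM hu') (V.ρQ u hu')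
      ρ1 := by
        intro z hz e
        obtain ⟨z, hz', rfl⟩ := (img_im f hZM z).1 hz
        have h1 : ext f (ρ * z * ρ⁻¹) = ext f z := by
          rw [← hcj hρM (hZM hz'), e, mul_inv_cancel_right]
        have h2 := hI.inj _ (V.PT (V.ρP z (hZP hz'))) z (V.PT (hZP hz')) h1
        rw [V.ρ1 z hz' (mul_inv_eq_iff_eq_mul.mp h2), e1]
      xT := MHat.mem_im_of hTM V.xT
      xx := by rw [← MHat.ext_mul hxM hxM, V.xx, e1]
      xa := hc hxM haM V.xa
      xq := by
        rw [← MHat.ext_mul hxM hqM, V.xq, MHat.ext_mul (M.mul_mem hqM haM) hxM, MHat.ext_mul hqM haM]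
      xZ := by
        intro h1
        apply V.xZ
        intro z hz
        have hzM := hZM hz
        have h2 := h1 _ (MHat.mem_im_of hZM hz)
        rw [← MHat.ext_mul hxM hzM, ← MHat.ext_mul hzM hxM] at h2
        exact hI.inj _ (T.mul_mem V.xT (V.PT (hZP hz))) _ (T.mul_mem (V.PT (hZP hz)) V.xT) h2
      xA := by
        intro i u hu
        have hAM : ∀ i, A i ≤ M := fun i u hu => hPM (V.toHeis.AP i hu)
        obtain ⟨u, hu', rfl⟩ := (img_im f (hAM i) u).1 hu
        rw [hcj hxM (hAM i hu')]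
        exact MHat.mem_im_of (hAM (!i)) (V.xA i u hu')
      nQa := by
        intro g hga _ u hu
        apply Pr.fixQ
        · calc g * u * g⁻¹ * ext f a = g * u * (g⁻¹ * ext f a) := by group
            _ = g * u * (ext f a * g⁻¹) := by
                rw [(Commute.inv_left (show Commute g (ext f a) from hga)).eq]
            _ = g * (u * ext f a) * g⁻¹ := by group
            _ = g * (ext f a * u) * g⁻¹ := by rw [hQc u hu]
            _ = (g * ext f a) * u * g⁻¹ := by group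
            _ = ext f a * (g * u * g⁻¹) := by rw [hga]; group
        · intro l hl
          have hgn := inv_mem (Pr.Ln (mem_c hga))
          have h1 := (mem_normalizer_iff.mp hgn l).mp hl
          rw [inv_inv] at h1
          have h2 := Pr.Qfix u hu _ h1
          calc g * u * g⁻¹ * l = g * (u * (g⁻¹ * l * g)) * g⁻¹ := by group
            _ = g * ((g⁻¹ * l * g) * u) * g⁻¹ := by rw [h2]
            _ = l * (g * u * g⁻¹) := by group
      tJ := by
        apply mem_normalizer_of_le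
        intro y hy
        obtain ⟨p, hp, u, hu, rfl⟩ := Pr.fr.mem_J.mp hy
        obtain ⟨p, hp', rfl⟩ := (img_im f hPM p).1 hp
        obtain ⟨u, hu', rfl⟩ := (img_im f hQM u).1 hu
        rw [← MHat.ext_mul (hPM hp') (hQM hu'), hcj htM (M.mul_mem (hPM hp') (hQM hu'))]
        have h1 : t * (p * u) * t⁻¹ ∈ P ⊔ Q :=
          (mem_normalizer_iff.mp V.tJ _).mp (V.toFr.mem_J.mpr ⟨p, hp', u, hu', rfl⟩)
        obtain ⟨p1, hp1, u1, hu1, e⟩ := V.toFr.mem_J.mp h1
        rw [e, MHat.ext_mul (hPM hp1) (hQM hu1)]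
        exact Pr.fr.mem_J.mpr ⟨_, MHat.mem_im_of hPM hp1, _, MHat.mem_im_of hQM hu1, rfl⟩
      tT := by
        intro y hy
        obtain ⟨y, hy', rfl⟩ := (img_im f hTM y).1 hy
        rw [hcj htM (hTM hy')]
        exact MHat.mem_im_of hTM (V.tT y hy')
      ta := by rw [hcj htM haM, V.ta, MHat.ext_mul haM hbM]
      tb := hc htM hbM V.tb }

end

section

variable {G : Type u} [Group G] [Finite G] {x a : G} {L T Z : Subgroup G} {A : Bool → Subgroup G} {b : G}

/-- **The case `Q = V₄`.** -/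
theorem not_v4 (w : W1 x a L) (h : Frm x a L T Z A b) {t : G} (C : Cx T (T ⊓ L) (fix T L) Z A b a x t)
    (hT : IsPGroup 2 ↥(T ⊔ zpowers t : Subgroup G)) (hs : Sm (T ⊓ L) (fix T L) Z t) {q : G}
    (hq : q ∈ fix T L) (hq1 : q ≠ 1) (hqa : q ≠ a) (hxq : x * q * x⁻¹ = a * q)
    (hall : ∀ v ∈ fix T L, v = 1 ∨ v = a ∨ v = q ∨ v = a * q) : False := by
  obtain ⟨ψ, Mo, -, -, eP, eQ⟩ := h.exists_psi w
  have ht := C.t_norm hs Mo eP eQ
  obtain ⟨ρ, hρL, V⟩ := vd w h C hs ht hq hq1 hqa hxq hall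
  have hCV := V4.cxV_of C hs ht V.hs
  have hLn := norm_L w h.tri h.l34
  -- the functor
  have hb := h.good_b w hT V.tb V.ta
  have hF := h.fn w hb
  obtain ⟨W, hW⟩ : ∃ W, W = Functor.W Z := ⟨_, rfl⟩
  rw [← hW] at hF
  have hCM := NormW.cent_le h.tri.inva h.tri.comp hLn h.l34 h.syl rfl h.fr.toHeis hF
  have hCW := NormW.cent_inf h.tri.inva h.tri.comp hLn h.l34 h.syl rfl h.fr.toHeis hF
  have hZN := NormW.normalizer_Z_le h.fr.toHeis hF
  have hJN : normalizer ((T ⊓ L ⊔ fix T L : Subgroup G) : Set G) ≤ normalizer (W : Set G) := by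
    intro n hn
    exact hZN (mem_normalizer_of_le fun z hz => C.conj_Z hs hn hz)
  have hTM : T ≤ normalizer (W : Set G) := h.syl.le.trans hCM
  have hLM : L ≤ normalizer (W : Set G) := h.tri.comp.le.trans hCM
  have htM : t ∈ normalizer (W : Set G) := hJN ht
  have haM : a ∈ normalizer (W : Set G) := hTM h.aT
  have hqM : q ∈ normalizer (W : Set G) := hTM hq.1
  have hbL : b ∈ L := (h.fr.toHeis.ZP h.fr.bZ).2
  have hbM : b ∈ normalizer (W : Set G) := hLM hbL
  have hxM : x ∈ normalizer (W : Set G) := hTM h.xT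
  -- the quotient
  obtain ⟨H, hH, f, hf, hker⟩ := MHat.exists_hom W
  have hodd := MHat.odd_ker hF.odd hker
  have hfinH : Finite H := Finite.of_surjective f hf
  have hQ4 : Nat.card (fix T L) ≤ 4 := C.card_le hs
  have Pr := MHat.pair_of hf hker hF.odd hCM hCW h.tri.inva h.tri.comp hLn h.l34 h.syl h.aT h.fr
    (fun v hv => C.sq hs hv) hQ4
  have VH := vd_map hf hodd V hTM h.syl.two (hLM hρL) htM Pr
  have hQ2' : IsPGroup 2 ↥(im f (fix T L)) := Pr.syl.two.to_le fun v hv => Pr.fr.QT hv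
  have hk1 : ∀ m : ↥(normalizer (W : Set G)), f m = 1 ↔ (m : G) ∈ W := fun m => hker m
  have hord : ∀ v : G, v * v = 1 → v ≠ 1 → orderOf v = 2 := fun v h1 h2 =>
    orderOf_eq_prime (by rw [pow_two, h1]) h2
  have h2A : 4 ≤ Nat.card ↥(A false) := by rw [h.fr.toHeis.cardA]; norm_num
  have hAcore : ∀ e : G, e * e = 1 → e ≠ 1 → (∀ v ∈ A false, e * v = v * e) →
      core (centralizer ({e} : Set G)) ≤ W := fun e h1 h2 h3 =>
    hF.core (A false) e (Or.inl le_rfl) h2A (hord e h1 h2) h3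
  have hcb : core (centralizer ({b} : Set G)) ≤ W := by
    refine hAcore b (h.fr.toHeis.Zsq h.fr.bZ) h.fr.b1 fun v hv => ?_
    exact (h.fr.bT v (h.fr.PT (h.fr.toHeis.AP false hv))).symm
  have hcq : core (centralizer ({q} : Set G)) ≤ W := by
    refine hAcore q V.qq V.q1 fun v hv => ?_
    exact (h.fr.comm v (h.fr.toHeis.AP false hv) q hq).symm
  have ea := ext_apply f haM
  have eb := ext_apply f hbM
  have ex := ext_apply f hxM
  have eq := ext_apply f hqM
  have hD := DHatOf.dh_of (L' := im f L) (Q' := im f (fix T L)) f hf hk1 hF.odd hCM hCW hb hcb h.tri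
    hbL (h.fr.toHeis.Zsq h.fr.bZ) h.fr.b1 (h.fr.bT x h.xT) haM hbM hxM
    (fun l hl hlL => by rw [← ext_apply f hl]; exact MHat.mem_im_of hLM hlL) Pr.l34
    (fun l hl => by rw [← ea]; exact comm_c (Pr.La hl))
    (fun g hg => by rw [← ea] at hg; exact Pr.Ln (mem_c hg))
    (fun g hg hgl => by rw [← ea] at hg; exact Pr.fixQ g hg hgl) hQ2'
  rw [← ea, ← eb, ← ex] at hD
  have F4 : DHat.Fin4 (im f L) (DHatOf.Dh W f x) (im f T) (im f (T ⊓ L)) (im f (fix T L)) (im f Z)
      (fun i => im f (A i)) (ext f b) (ext f a) (ext f q) (ext f ρ) (ext f x) (ext f t) := by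
    refine ⟨VH, hD, fun y hy => comm_c (Pr.syl.le hy), fun y hy hyL => ?_, Pr.Qfix⟩
    rw [Pr.PL]
    exact ⟨hy, hyL⟩
  -- the centralizer of `q`
  obtain ⟨K, -, -, -, hKQ, -, hcls, -⟩ := h.exists_K w
  obtain ⟨haT, hqT, HQ⟩ := hCV.hypQ Mo eP eQ h.syl (K := K) (by
    intro c hc v hv hvT
    refine ⟨hvT, ?_⟩
    have h1 : c⁻¹ ∈ normalizer (L : Set G) := inv_mem (hLn (mem_c hc))
    have h2 := fixes_conj hv.2 h1
    rwa [inv_inv] at h2) hKQ hcls
  have hJJ : JJ ψ = T ⊓ L ⊔ fix T L := V4.JJ_eq' Mo eP eQ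
  have hdich := HQ.hat f hf hk1 le_normalizer hF.odd (by rw [hJJ]; exact hJN) hcq haM hqM
  rw [← ea, ← eq] at hdich
  have hHat : Hat (im f L) (ext f a) (ext f q) := by
    refine ⟨VH.aa, VH.qq, VH.aq, VH.a1, VH.qa, fun l hl => comm_c (Pr.La hl), fun l hl =>
      (Pr.Qfix _ VH.qQ l hl).symm, ?_, ?_, ?_, ?_⟩
    · have h1 : im f ⁅L, L⁆ = ⁅im f L, im f L⁆ := by
        unfold im
        rw [← map_commutator]
        congr 1
        apply map_injective (normalizer (W : Set G)).subtype_injective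
        rw [map_commutator, subgroupOf_map_subtype, subgroupOf_map_subtype, inf_eq_left.mpr hLM,
          inf_eq_left.mpr ((h.tri.comp.perfect).le.trans hLM)]
      rw [← h1, h.tri.comp.perfect]
    · intro K' h1 h2
      exact Pr.perf K' (fun k hk => mem_c (h1 k hk)) h2
    · intro g hg l hl
      exact (mem_normalizer_iff.mp (Pr.Ln (mem_c hg)) l).mp hl
    · intro g hg hgl
      exact VH.Qm g (Pr.fixQ g hg hgl)
  obtain ⟨nq, cq, nQ⟩ := hHat.out (hdich.imp (fun ⟨m, hm⟩ => ⟨m, hm⟩) id)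
  exact F4.false nq cq nQ

/-- **SMALL: `|Q| = 2`.** -/
theorem two_of_small (w : W1 x a L) (h : Frm x a L T Z A b) {t : G}
    (C : Cx T (T ⊓ L) (fix T L) Z A b a x t) (hT : IsPGroup 2 ↥(T ⊔ zpowers t : Subgroup G))
    (hs : Sm (T ⊓ L) (fix T L) Z t) : ∀ q ∈ fix T L, q = 1 ∨ q = a := by
  rcases C.cases hs with h1 | ⟨q, hq, hq1, hqa, hxq, hall⟩
  · exact h1
  · exact (not_v4 w h C hT hs hq hq1 hqa hxq hall).elim

end

end Cfsg.Agent.UGT.L34T2.V4Glue
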