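import Cfsg.Agent.UGT.NodesL34w
import Cfsg.Agent.UGT.L34.TOne
import Cfsg.Agent.UGT.L34T2.QTwo
import Cfsg.Agent.UGT.L34T2.BigWorld
import Cfsg.Agent.UGT.L34T2.V4Glue

/-!
# UGT N2, `m(R) = 1`

* `Two x a L`: `C_K(x)`, `K = C(a) ∩ C(L / O(L))`, has an involution different from `a`.
* `mOne`: a triple of type `L₃(4)` with `¬ Two x a L`: `a, x ∉ X = F*(G)`, `a x ∈ X` and there is a triple
  `(x, a x, J)` of type `L₃(4)` with `Two x (a x) J`.
* `two_of_mem`: `Two` for all triples of type `L₃(4)` with `x ∈ F*(G)`; `mem_of_out`: the case `x ∉ F*(G)`.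
-/

set_option autoImplicit false

open Cfsg Subgroup
open Cfsg.Agent.SignalizersComponents Cfsg.Agent.Lib
open Cfsg.Agent.SignalizersComponents.IntrinsicBasic
open Cfsg.Agent.SignalizersComponents.IntrinsicIntr
open Cfsg.Agent.SignalizersComponents.PLayerAut
open Cfsg.Agent.FixBN.BTheorem Cfsg.Agent.FixBN.BRelative
open Cfsg.Agent.Intrinsic.Basic Cfsg.Agent.Intrinsic.Cen Cfsg.Agent.Intrinsic.Diag
open Cfsg.Agent.McLLyComp.Act
open Cfsg.Agent.UGT.Triple Cfsg.Agent.UGT.TriBase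
open Cfsg.Agent.UGT.Iface (Bar IsL34 MinCex)
open Cfsg.Agent.UGT.L34T2.World

namespace Cfsg.Agent.UGT.L34T2.MOne

universe u

local notation "Fs" => generalizedFittingSubgroup

variable {G : Type u} [Group G] [Finite G] {x a : G} {L : Subgroup G}

/-- `C_K(x)`, `K = C(a) ∩ C(L / O(L))`, has an involution different from `a` -/
def Two (x a : G) (L : Subgroup G) : Prop :=
  ∃ t : G, orderOf t = 2 ∧ t ≠ a ∧ t * a = a * t ∧ t * x = x * t ∧ Fixes t L

omit [Finite G] in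
theorem uniq_of_not (h : ¬ Two x a L) : ∀ k : G, k * a = a * k → Fixes k L → k * k = 1 → k ≠ 1 →
    k * x = x * k → k = a := by
  intro k hka hf hkk hk1 hkx
  by_contra hne
  exact h ⟨k, Good.order_of hkk hk1, hne, hka, hkx, hf⟩

theorem w1_of_not (hG : MinCex G) (hT : Nodes.WorldL34 G) (h : ¬ Two x a L) : W1 x a L :=
  ⟨hG, hT.types, uniq_of_not h⟩

/-- **`m(R) = 1`: the switch** -/
theorem switch_of_not (hG : MinCex G) (hT : Nodes.WorldL34 G) (T : IsTriple x a L)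
    (h34 : IsL34 (Bar L)) (h : ¬ Two x a L) :
    a ∉ Fs G ∧ x ∉ Fs G ∧ a * x ∈ Fs G ∧ ∃ J, IsTriple x (a * x) J ∧ IsL34 (Bar J) := by
  have w := w1_of_not hG hT h
  obtain ⟨S, hS, hxS, hSx⟩ := LSup.exists_S T
  have hLn := norm_L w T h34
  have hcl : centralizer ({a} : Set G) ⊓ normalizer (L : Set G) = centralizer ({a} : Set G) :=
    inf_eq_left.mpr hLn
  by_cases h2 : 2 ∣ S.index
  · rw [hcl] at hS
    have hstr : Str x a L S := ⟨T, h34, hS, hxS⟩
    obtain ⟨U, hU, hSU, hne⟩ : ∃ U : Subgroup G, IsPGroup 2 ↥U ∧ S ≤ U ∧ ¬ U ≤ S := by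
      have hp : Fact (Nat.Prime 2) := ⟨Nat.prime_two⟩
      obtain ⟨P, hP⟩ := hS.two.exists_le_sylow
      refine ⟨P, P.isPGroup', hP, fun hle => ?_⟩
      have h3 : S = (P : Subgroup G) := le_antisymm hP hle
      exact P.not_dvd_index (h3 ▸ h2)
    obtain ⟨Z, A, b, hf⟩ := hstr.exists_frm w
    obtain ⟨t, -, htS, hT2, C⟩ := hf.exists_cx w hU hSU hne
    exact switch w hstr (V4Glue.two_of_small w hf C hT2 (hf.false_of_big w C htS)) hU hSU hne
  · exfalso
    refine LSup.T1.false (S := S) hG hT.types ⟨T, h34, hS.two, h2, hS.le.trans inf_le_left,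
      hS.le.trans inf_le_right, hxS, hSx, ?_⟩
    intro q hq hqf hqx hqq hq1
    exact w.uniq q (comm_c (hS.le hq).1) hqf hqq hq1 hqx

/-- **`m(R) = 1`** -/
theorem mOne (hG : MinCex G) (hT : Nodes.WorldL34 G) (T : IsTriple x a L) (h34 : IsL34 (Bar L)) :
    Two x a L ∨ (a ∉ Fs G ∧ x ∉ Fs G ∧ a * x ∈ Fs G ∧
      ∃ J, IsTriple x (a * x) J ∧ IsL34 (Bar J) ∧ Two x (a * x) J) := by
  by_cases h : Two x a L
  · exact Or.inl h
  · obtain ⟨h1, h2, h3, J, h4, h5⟩ := switch_of_not hG hT T h34 h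
    refine Or.inr ⟨h1, h2, h3, J, h4, h5, ?_⟩
    by_contra h6
    exact (switch_of_not hG hT h4 h5 h6).1 h3

/-- `Two` for all triples of type `L₃(4)`, if `x ∈ F*(G)` -/
theorem two_of_mem (hG : MinCex G) (hT : Nodes.WorldL34 G) (T : IsTriple x a L)
    (h34 : IsL34 (Bar L)) (hx : x ∈ Fs G) : Two x a L := by
  rcases mOne hG hT T h34 with h | ⟨-, h, -⟩
  · exact h
  · exact absurd hx h

/-- the case `x ∉ F*(G)` -/
theorem mem_of_out (hG : MinCex G) (hT : Nodes.WorldL34 G)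
    (out : ∀ (x a : G) (L : Subgroup G), IsTriple x a L → IsL34 (Bar L) → Two x a L →
      x ∉ Fs G → False) (T : IsTriple x a L) (h34 : IsL34 (Bar L)) : x ∈ Fs G := by
  by_contra hx
  rcases mOne hG hT T h34 with h | ⟨-, -, -, J, h4, h5, h6⟩
  · exact out x a L T h34 h hx
  · exact out x (a * x) J h4 h5 h6 hx

end Cfsg.Agent.UGT.L34T2.MOne
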