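import Mathlib

set_option autoImplicit false

/-!
# Lifting `2`-subgroups through a homomorphism with odd kernel

helper231's T2 SMALL, bb #14883 (8), piece [F5]: general tools.
-/

namespace Cfsg.Agent.UGT.L34T2.OddLift

variable {M Γ : Type*} [Group M] [Group Γ]

theorem eq_one_of_two [Finite M] (π : M →* Γ) (hodd : Odd (Nat.card π.ker)) {B : Subgroup M}
    (hB : IsPGroup 2 B) {x : M} (hx : x ∈ B) (h1 : π x = 1) : x = 1 := by
  obtain ⟨k, hk⟩ := hB ⟨x, hx⟩
  have hk' : x ^ 2 ^ k = 1 := congrArg Subtype.val hk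
  have h2 : orderOf x ∣ 2 ^ k := orderOf_dvd_of_pow_eq_one hk'
  have h3 : orderOf x ∣ Nat.card π.ker := by
    have h0 := orderOf_dvd_natCard (⟨x, MonoidHom.mem_ker.mpr h1⟩ : π.ker)
    have e : orderOf (⟨x, MonoidHom.mem_ker.mpr h1⟩ : π.ker) = orderOf x :=
      Subgroup.orderOf_mk x _
    rwa [e] at h0
  have h4 : Nat.Coprime (2 ^ k) (Nat.card π.ker) :=
    Nat.Coprime.pow_left k (Nat.coprime_two_left.mpr hodd)
  have h5 := Nat.dvd_gcd h2 h3
  rw [h4.gcd_eq_one] at h5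
  exact orderOf_eq_one_iff.mp (Nat.dvd_one.mp h5)

theorem inj_on [Finite M] (π : M →* Γ) (hodd : Odd (Nat.card π.ker)) {B : Subgroup M}
    (hB : IsPGroup 2 B) {x y : M} (hx : x ∈ B) (hy : y ∈ B) (h : π x = π y) : x = y := by
  have h1 := eq_one_of_two π hodd hB (B.mul_mem (B.inv_mem hx) hy) (by
    rw [map_mul, map_inv, h, inv_mul_cancel])
  exact (inv_mul_eq_one.mp h1)

theorem card_map [Finite M] (π : M →* Γ) (hodd : Odd (Nat.card π.ker)) {B : Subgroup M}
    (hB : IsPGroup 2 B) : Nat.card (B.map π) = Nat.card B := by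
  symm
  apply Nat.card_congr
  refine Equiv.ofBijective (fun b : B => (⟨π b, ⟨b, b.2, rfl⟩⟩ : B.map π)) ⟨?_, ?_⟩
  · intro x y h
    exact Subtype.ext (inj_on π hodd hB x.2 y.2 (congrArg Subtype.val h))
  · rintro ⟨_, x, hx, rfl⟩
    exact ⟨⟨x, hx⟩, rfl⟩

/-- a `2`-subgroup of `Γ` lifts to a `2`-subgroup containing a given one -/
theorem exists_lift [Finite M] (π : M →* Γ) (hπ : Function.Surjective π)
    {B' : Subgroup Γ} (hB' : IsPGroup 2 B') {P0 : Subgroup M} (hP0 : IsPGroup 2 P0)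
    (hle : P0.map π ≤ B') : ∃ B : Subgroup M, IsPGroup 2 B ∧ P0 ≤ B ∧ B.map π = B' := by
  have : Fact (Nat.Prime 2) := ⟨Nat.prime_two⟩
  set H : Subgroup M := B'.comap π with hH
  have hPH : P0 ≤ H := fun x hx => hle ⟨x, hx, rfl⟩
  have h1 : IsPGroup 2 (P0.subgroupOf H) :=
    hP0.of_equiv (Subgroup.subgroupOfEquivOfLe hPH).symm
  obtain ⟨P, hP⟩ := h1.exists_le_sylow
  let f : H →* B' := (π.comp H.subtype).codRestrict B' (fun x => x.2)
  have hf : Function.Surjective f := by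
    rintro ⟨y, hy⟩
    obtain ⟨x, rfl⟩ := hπ y
    exact ⟨⟨x, hy⟩, rfl⟩
  have htop : (P : Subgroup H).map f = ⊤ := by
    have h2 := (P.mapSurjective hf).is_maximal' (Q := ⊤) (hB'.of_equiv Subgroup.topEquiv.symm)
      le_top
    exact h2.symm
  refine ⟨(P : Subgroup H).map H.subtype, P.isPGroup'.map _, ?_, ?_⟩
  · intro x hx
    exact ⟨⟨x, hPH hx⟩, hP (Subgroup.mem_subgroupOf.mpr hx), rfl⟩
  · ext y
    constructor
    · rintro ⟨_, ⟨x, hx, rfl⟩, rfl⟩
      exact x.2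
    · intro hy
      have h3 : (⟨y, hy⟩ : B') ∈ (P : Subgroup H).map f := by rw [htop]; exact Subgroup.mem_top _
      obtain ⟨x, hx, e⟩ := h3
      exact ⟨x, ⟨x, hx, rfl⟩, congrArg Subtype.val e⟩

/-- two lifts of a `2`-subgroup are conjugate under the kernel -/
theorem exists_conj [Finite M] (π : M →* Γ) (hodd : Odd (Nat.card π.ker)) {B1 B2 : Subgroup M}
    (h1 : IsPGroup 2 B1) (h2 : IsPGroup 2 B2) (h : B1.map π = B2.map π) :
    ∃ k : M, π k = 1 ∧ ∀ x ∈ B1, k * x * k⁻¹ ∈ B2 := by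
  have : Fact (Nat.Prime 2) := ⟨Nat.prime_two⟩
  set H : Subgroup M := (B2.map π).comap π with hH
  have hmax : ∀ B : Subgroup M, IsPGroup 2 B → B.map π = B2.map π →
      ∃ (hle : B ≤ H) (P : Sylow 2 H), (P : Subgroup H) = B.subgroupOf H := by
    intro B hB he
    have hle : B ≤ H := by
      intro x hx
      show π x ∈ B2.map π
      rw [← he]
      exact ⟨x, hx, rfl⟩
    refine ⟨hle, ⟨B.subgroupOf H, hB.of_equiv (Subgroup.subgroupOfEquivOfLe hle).symm, ?_⟩, rfl⟩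
    intro Q hQ hBQ
    have hQ' : IsPGroup 2 (Q.map H.subtype) := hQ.map _
    have hc : Nat.card Q ≤ Nat.card B := by
      rw [← Subgroup.card_map_of_injective H.subtype_injective, ← card_map π hodd hQ',
        ← card_map π hodd hB, he]
      have : Finite (B2.map π) := by
        apply Set.Finite.subset (Set.finite_range π)
        rintro _ ⟨x, _, rfl⟩
        exact ⟨x, rfl⟩
      apply Subgroup.card_le_of_le
      rintro _ ⟨_, ⟨x, hx, rfl⟩, rfl⟩
      exact x.2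
    symm
    apply Subgroup.eq_of_le_of_card_ge hBQ
    rw [Nat.card_congr (Subgroup.subgroupOfEquivOfLe hle).toEquiv]
    exact hc
  obtain ⟨l1, P1, e1⟩ := hmax B1 h1 h
  obtain ⟨l2, P2, e2⟩ := hmax B2 h2 rfl
  obtain ⟨m, hm⟩ := MulAction.exists_smul_eq H P1 P2
  have hmem : ∀ x ∈ B1, (m : M) * x * (m : M)⁻¹ ∈ B2 := by
    intro x hx
    have h3 : (⟨x, l1 hx⟩ : H) ∈ (P1 : Subgroup H) := by
      rw [e1]; exact Subgroup.mem_subgroupOf.mpr hx
    have h4 : m * ⟨x, l1 hx⟩ * m⁻¹ ∈ (P2 : Subgroup H) := by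
      rw [← hm, Sylow.coe_subgroup_smul]
      exact Subgroup.smul_mem_pointwise_smul _ (MulAut.conj m) _ h3
    rw [e2] at h4
    exact Subgroup.mem_subgroupOf.mp h4
  obtain ⟨b, hb, hbm⟩ : π m ∈ B2.map π := m.2
  refine ⟨b⁻¹ * m, by rw [map_mul, map_inv, hbm, inv_mul_cancel], fun x hx => ?_⟩
  have e : b⁻¹ * (m : M) * x * (b⁻¹ * m)⁻¹ = b⁻¹ * (m * x * (m : M)⁻¹) * b := by group
  rw [e]
  exact B2.mul_mem (B2.mul_mem (B2.inv_mem hb) (hmem x hx)) hb

/-- involutions with conjugate images are conjugate -/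
theorem isConj_of_map [Finite M] (π : M →* Γ) (hπ : Function.Surjective π)
    (hodd : Odd (Nat.card π.ker)) {s t : M} (hs : s * s = 1) (ht : t * t = 1)
    (h : IsConj (π s) (π t)) : IsConj s t := by
  obtain ⟨c, hc⟩ := isConj_iff.mp h
  obtain ⟨g, rfl⟩ := hπ c
  set s' := g * s * g⁻¹ with hs'
  have hss : s' * s' = 1 := by
    calc s' * s' = g * (s * s) * g⁻¹ := by rw [hs']; group
      _ = 1 := by rw [hs]; group
  have hp : ∀ u : M, u * u = 1 → IsPGroup 2 (Subgroup.zpowers u) := by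
    intro u hu
    rintro ⟨_, n, rfl⟩
    refine ⟨1, Subtype.ext ?_⟩
    show (u ^ n) ^ 2 ^ 1 = 1
    rw [pow_one, pow_two, ← zpow_add, ← two_mul, zpow_mul]
    rw [show u ^ (2 : ℤ) = 1 from by rw [zpow_ofNat, pow_two, hu], one_zpow]
  have he : π s' = π t := by rw [hs', map_mul, map_mul, map_inv, hc]
  obtain ⟨k, hk1, hk⟩ := exists_conj π hodd (hp s' hss) (hp t ht) (by
    rw [MonoidHom.map_zpowers, MonoidHom.map_zpowers, he])
  have h1 := hk s' (Subgroup.mem_zpowers s')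
  have h2 : k * s' * k⁻¹ = t := by
    apply inj_on π hodd (hp t ht) h1 (Subgroup.mem_zpowers t)
    rw [map_mul, map_mul, map_inv, hk1, one_mul, inv_one, mul_one, he]
  rw [isConj_iff]
  refine ⟨k * g, ?_⟩
  rw [← h2, hs']; group

end Cfsg.Agent.UGT.L34T2.OddLift
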