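import Cfsg.Agent.StdL3.OneNoTwo
import Cfsg.Agent.StdL3.ExtGen

set_option autoImplicit false
set_option linter.constructorNameAsVariable false
set_option linter.unusedVariables false

/-!
# Standard `L₃(4)`, `|R| = 2`, in any finite group: the local structure

The first part of `StdL3/OneGen.lean`, with `Loc` and `Pack` as output.
-/

namespace Cfsg.Agent.UGT.L34T2.OddLoc

open Cfsg.Agent.StdL3

open Cfsg.Agent.LThreeFour
open Cfsg.Agent.SporadicA.FieldFour
open Cfsg.Agent.StdL3.OneRoot (hh)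
open Cfsg.Agent.StdL3.OneGrow (r r_mem r_row r_col)
open Cfsg.Agent.StdL3.OneLift
open Cfsg.Agent.StdL3.OneLoc
open Cfsg.Agent.StdL3.OneNoTwo
open Cfsg.Agent.StdLThreeFour.Base (L0 S0 Z0 e)
open Cfsg.Agent.StdLThreeFour.Emb
open Cfsg.Agent.StdLThreeFour.Red2e (Out)

variable {G : Type*} [Group G]

/-- **Standard `L₃(4)` with `|R| = 2` in a finite group `G` (no simplicity): the local structure
at an involution `t` of `C(K)`.** -/
theorem exists_loc [Finite G] (S : SEmb G) (R : Subgroup G) (h : G)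
    (ho : Out S R h) (h2 : Nat.card R = 2) :
    ∃ (t : G) (That O : Subgroup G) (Q : Bool → Subgroup G) (U : Subgroup G) (τ : MulAut U),
      t ∈ S.K ∧ t * t = 1 ∧ t ≠ 1 ∧
      ExtLoc.Loc t (S0.map S.ι) (Z0.map S.ι) That O
        (fun i => (Cfsg.Agent.StdLThreeFour.Base.A i).map S.ι) Q ∧
      U = Q false ⊔ Q true ∧ (∀ x : U, ((τ x : U) : G) = t * x * t⁻¹) ∧ Pack.Pack U τ := by
  obtain ⟨t, That, O, n, hL, htK, hOK, hOodd, hOt, hcK, hcS, hcA, htD, hnL, hn1, hn2, hnO1, hnO2,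
    hCO, z, hz, hz1, hnt⟩ := Cfsg.Agent.StdLThreeFour.RTwo.exists_two ho h2
  have hK : ∀ k ∈ S.K, ∀ l ∈ S.ι.range, k * l = l * k := by
    rintro k hk _ ⟨y, rfl⟩
    exact (SEmb.mem_K.mp hk y).eq
  have hI : GInp (dat S) t n O := {
    tt := hL.tt
    tn := by
      rintro ⟨y, hy⟩
      exact hnL y (hy ▸ IsConj.refl _)
    tL := hK t htK
    Oodd := hOodd
    Ot := hOt
    OL := fun o ho => hK o (hOK ho)
    cent := by
      intro x hx hxE
      obtain ⟨o, ho, _, ⟨a, ha, rfl⟩, he⟩ := hcS x hx (by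
        rintro _ ⟨s, ⟨a, b, c, rfl⟩, rfl⟩
        have := hxE ⟨a, b, c⟩
        rw [E_dat] at this
        exact this)
      obtain ⟨c, rfl⟩ := ha
      exact ⟨o, ho, c, by rw [z_dat]; exact he⟩
    centR := by
      intro x hx hx1 hx2
      obtain ⟨o, ho, _, ⟨a, ha, rfl⟩, he⟩ := hcA false x hx (by
        rintro _ ⟨s, ⟨u, c, rfl⟩, rfl⟩
        have h1 := hx1 c
        have h2 := hx2 u
        rw [r_dat] at h1 h2
        show x * S.ι (e u 0 c) = S.ι (e u 0 c) * x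
        rw [← t_mul_02_01, map_mul, ← mul_assoc, h1, mul_assoc, h2, mul_assoc])
      obtain ⟨u, c, rfl⟩ := ha
      refine ⟨o, ho, c, u, ?_⟩
      rw [r_dat, r_dat, ← map_mul, t_mul_02_01]; exact he
    centC := by
      intro x hx hx1 hx2
      obtain ⟨o, ho, _, ⟨a, ha, rfl⟩, he⟩ := hcA true x hx (by
        rintro _ ⟨s, ⟨u, c, rfl⟩, rfl⟩
        have h1 := hx1 c
        have h2 := hx2 u
        rw [r_dat] at h1 h2
        show x * S.ι (e 0 u c) = S.ι (e 0 u c) * x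
        rw [← t_mul_02_12, map_mul, ← mul_assoc, h1, mul_assoc, h2, mul_assoc])
      obtain ⟨u, c, rfl⟩ := ha
      refine ⟨o, ho, c, u, ?_⟩
      rw [r_dat, r_dat, ← map_mul, t_mul_02_12]; exact he
    nT := by
      intro p
      obtain ⟨s, ⟨a, b, c, rfl⟩, hs⟩ := hn1 (OneRoot.E (dat S) p) (by
        rw [E_dat]; exact ⟨_, ⟨_, _, _, rfl⟩, rfl⟩)
      refine ⟨⟨a, b, c⟩, ?_⟩
      rw [← hs, E_dat]
    nO := hnO1
    mv := by
      obtain ⟨c, rfl⟩ := hz
      refine ⟨c, ?_, ?_⟩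
      · rintro rfl
        exact hz1 Cfsg.Agent.StdLThreeFour.Base.e_zero
      · rw [z_dat]; exact hnt }
  obtain ⟨Y1, Y2, Y3, U, hg⟩ := hI.exists_out
  obtain ⟨τ, hτ⟩ := exists_tau hg
  have hLoc : ExtLoc.Loc t (S0.map S.ι) (Z0.map S.ι) That O
      (fun i => (Cfsg.Agent.StdLThreeFour.Base.A i).map S.ι) (QQ hg) := {
    toLocT := hL
    centTA := hcA
    O_odd := hOodd
    OQ := fun o ho i q hq => hg.cO o ho q (QQ_le hg i hq)
    Ot := hOt
    tD := by
      rintro _ ⟨s, hs, rfl⟩ h1 h2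
      apply htD s
      · rintro rfl; exact h2 (map_one _)
      · apply S.inj; rw [map_mul, h1, map_one]
    cardQ := card_QQ hg
    Q_sq := sq_QQ hg
    A_le_Q := by
      intro i
      cases i
      · rintro _ ⟨_, ⟨u, c, rfl⟩, rfl⟩
        show S.ι (e u 0 c) ∈ _
        rw [← t_mul_02_01, map_mul]
        exact Subgroup.mul_mem _ (Y3_le hg false (hg.grown.m3 c)) (Y1_le hg (hg.grown.m1 u))
      · rintro _ ⟨_, ⟨u, c, rfl⟩, rfl⟩
        show S.ι (e 0 u c) ∈ _
        rw [← t_mul_02_12, map_mul]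
        exact Subgroup.mul_mem _ (Y3_le hg true (hg.grown.m3 c)) (Y2_le hg (hg.grown.m2 u))
    Q_norm := norm_QQ hg
    Q_fix := by
      intro i
      cases i
      · intro q hq h
        obtain ⟨u, v, rfl⟩ := fix_false hg q hq h
        refine ⟨e u 0 v, ⟨u, v, rfl⟩, ?_⟩
        rw [← t_mul_02_01, map_mul, r_row (dat S) (by decide) (by decide)]; rfl
      · intro q hq h
        obtain ⟨u, v, rfl⟩ := fix_true hg q hq h
        refine ⟨e 0 u v, ⟨u, v, rfl⟩, ?_⟩
        rw [← t_mul_02_12, map_mul, r_col (dat S) (by decide) (by decide)]; rfl }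
  have hPack : Pack.Pack U τ := hg.grown.pack τ hτ
  exact ⟨t, That, O, QQ hg, U, τ, htK, hL.tt, hLoc.t1, hLoc, U_eq hg, hτ, hPack⟩

end Cfsg.Agent.UGT.L34T2.OddLoc
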