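import Cfsg.Agent.StdL3.ExtGen
import Cfsg.Agent.StdL3.HeisPack
import Cfsg.Agent.UGT.L34T2.OddLift

set_option autoImplicit false

/-!
# `|Q| = 2` with an odd core `W ≠ 1`: the transfer in `G`

helper231's T2 SMALL, bb #14883 (8), piece [F5].  The local structure `Loc` and the package `Pack`
live in `Γ = M / W` (`W` odd), `M ≥ C_G(s)`; the output is `s ∉ G'`.
-/

namespace Cfsg.Agent.UGT.L34T2.OddMain

open Cfsg.Agent.StdL3
open Cfsg.Agent.StdL3.Pack
open Cfsg.Agent.StdL3.ExtLoc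
open Cfsg.Agent.StdL3.ExtMain
open Cfsg.Agent.StdL3.ExtEnd
open Cfsg.Agent.UGT.L34T2.OddLift

section Gamma

variable {Γ : Type*} [Group Γ]
variable {t : Γ} {T Z That O : Subgroup Γ} {A Q : Bool → Subgroup Γ}

/-- `HF.ZF_eq` for any subgroup of order `4` of `That` normalised by `That` -/
theorem eq_Z [Finite Γ] (h : Loc t T Z That O A Q) {F : Subgroup Γ} (hF : F ≤ That)
    (h4 : Nat.card F = 4) (hn : ∀ c ∈ That, ∀ z ∈ F, c * z * c⁻¹ ∈ F)
    (noD : ∀ z ∈ F, ¬ IsConj t z) : F = Z := by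
  have hinner : ∀ z ∈ F, z ∈ T ∨ t * z ∈ T := by
    intro z hz
    by_contra hcon
    rw [not_or] at hcon
    have hO1 := h.O1 z (hF hz) hcon.1 hcon.2
    have hz1 : z ≠ 1 := fun e => hcon.1 (e ▸ T.one_mem)
    have h1 : Nat.card T ≤ 16 * 3 := by
      apply HF.card_le_mul T z {x | x ∈ F ∧ x ≠ 1}
      · intro x hx
        refine ⟨hn x (h.T_le hx) z hz, fun e => hz1 ?_⟩
        have : z = x⁻¹ * (x * z * x⁻¹) * x := by group
        rw [this, e]; group
      · have h2 : {x | x ∈ F ∧ x ≠ 1} = (F : Set Γ) \ {1} := by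
          ext x; simp
        rw [h2, Set.ncard_sdiff_singleton_of_mem F.one_mem]
        have h3 : (F : Set Γ).ncard = 4 := h4
        rw [h3]
      · refine le_trans ?_ hO1
        apply Nat.card_le_card_of_injective
          (fun x : {x : Γ // x ∈ T ∧ z * x = x * z} =>
            (⟨x.1, x.2.1, by
              have : z * x.1 * z⁻¹ * x.1⁻¹ = 1 := by rw [x.2.2]; group
              rw [this]; exact Z.one_mem⟩ : {y : Γ // y ∈ T ∧ z * y * z⁻¹ * y⁻¹ ∈ Z}))
        intro x y hxy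
        exact Subtype.ext (congrArg (fun w => w.1) hxy)
    rw [h.cardT] at h1
    omega
  apply Subgroup.eq_of_le_of_card_ge _ (by rw [h4, h.cardZ])
  intro z hz
  have hstep : z ∈ Z ∨ t * z ∈ Z := by
    have hzt : z * t = t * z := h.that_comm z (hF hz)
    have haux : ∀ p ∈ T, p ∉ Z → (∀ x ∈ T, p * x * p⁻¹ * x⁻¹ = z * x * z⁻¹ * x⁻¹) →
        Z = F := by
      intro p hp hpZ hpx
      apply Subgroup.eq_of_le_of_card_ge _ (by rw [h4, h.cardZ])
      intro ζ hζ
      obtain ⟨x, hx, e⟩ := h.surj p hp hpZ ζ hζ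
      rw [hpx x hx] at e
      rw [← e]
      have h1 := hn x (h.T_le hx) _ (F.inv_mem hz)
      have h2 := F.mul_mem hz h1
      have e2 : z * (x * z⁻¹ * x⁻¹) = z * x * z⁻¹ * x⁻¹ := by group
      rwa [e2] at h2
    rcases hinner z hz with h1 | h1
    · left
      by_contra hZ
      have h2 := haux z h1 hZ (fun _ _ => rfl)
      rw [← h2] at hz
      exact hZ hz
    · right
      by_contra hZ
      have h2 := haux (t * z) h1 hZ (fun x hx => HF.comm_t hzt (h.T_comm hx))
      rw [← h2] at hz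
      have h3 := T.mul_mem h1 (T.inv_mem (h.Z_le_T hz))
      rw [mul_assoc, mul_inv_cancel, mul_one] at h3
      exact h.tT h3
  rcases hstep with h1 | h1
  · exact h1
  · exfalso
    have hz2 : z = t * (t * z) := by rw [← mul_assoc, h.tt, one_mul]
    apply noD z hz
    by_cases h2 : t * z = 1
    · rw [h2, mul_one] at hz2
      rw [hz2]
    · rw [hz2]
      exact h.tD _ (h.Z_le_T h1) (h.A_sq false _ (h.Z_le false h1)) h2

/-- no conjugate of `t` in an embedded `U₀` -/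
theorem noD [Finite Γ] (h : Loc t T Z That O A Q) {H : Type*} [Group H] {τ : MulAut H}
    (hP : Pack H τ) (ψ : H →* Γ) (hψ : Function.Injective ψ) (u : H) : ¬ IsConj t (ψ u) := by
  intro hconj
  have huu : u * u = 1 := by
    obtain ⟨y, hy⟩ := isConj_iff.mp hconj
    apply hψ
    rw [map_mul, map_one, ← hy]
    calc y * t * y⁻¹ * (y * t * y⁻¹) = y * (t * t) * y⁻¹ := by group
      _ = 1 := by rw [h.tt]; group
  obtain ⟨E, huE, hEcard, hEsq⟩ := hP.inv u huu
  have h1 : Nat.card (E.map ψ) ≤ 32 := by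
    apply card_elem h.toLocT hconj
    · rintro _ ⟨x, hx, rfl⟩
      rw [← map_mul, hEsq x hx, map_one]
    · rintro _ ⟨x, hx, rfl⟩
      rw [← map_mul, ← map_mul, comm_of_sq hEsq hx huE]
  rw [Subgroup.card_map_of_injective hψ, hEcard] at h1
  norm_num at h1

/-- `C_{Z(U)}(t) = Z` for an embedded `U₀` normalised by `That` -/
theorem fix_center_eq [Finite Γ] (h : Loc t T Z That O A Q) {H : Type*} [Group H] {τ : MulAut H}
    (hP : Pack H τ) (ψ : H →* Γ) (hψ : Function.Injective ψ) (δ : MulAut H)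
    (ht : ∀ u, t * ψ u * t⁻¹ = ψ (δ u))
    (h4 : Nat.card {z : Subgroup.center H // δ z = z} = 4)
    (hn : ∀ c ∈ That, ∀ u, ∃ v, c * ψ u * c⁻¹ = ψ v) :
    ∀ x : Γ, x ∈ Z ↔ ∃ u ∈ Subgroup.center H, δ u = u ∧ ψ u = x := by
  -- the fixed points
  let F : Subgroup Γ := ((Subgroup.center H).map ψ) ⊓ Subgroup.centralizer {t}
  have hmemF : ∀ x, x ∈ F ↔ ∃ u ∈ Subgroup.center H, δ u = u ∧ ψ u = x := by
    intro x
    show x ∈ ((Subgroup.center H).map ψ) ⊓ Subgroup.centralizer {t} ↔ _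
    rw [Subgroup.mem_inf, Subgroup.mem_centralizer_singleton_iff]
    constructor
    · rintro ⟨⟨u, hu, rfl⟩, h2⟩
      refine ⟨u, hu, hψ ?_, rfl⟩
      rw [← ht u, ← h2]; group
    · rintro ⟨u, hu, h1, rfl⟩
      refine ⟨⟨u, hu, rfl⟩, ?_⟩
      have h2 := ht u
      rw [h1] at h2
      calc ψ u * t = t * ψ u * t⁻¹ * t := by rw [h2]
        _ = t * ψ u := by group
  have hcard : Nat.card F = 4 := by
    rw [← h4]
    symm
    apply Nat.card_congr
    refine Equiv.ofBijective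
      (fun z : {z : Subgroup.center H // δ z = z} =>
        (⟨ψ z.1, (hmemF _).mpr ⟨z.1, z.1.2, z.2, rfl⟩⟩ : F)) ⟨?_, ?_⟩
    · intro x y hxy
      exact Subtype.ext (Subtype.ext (hψ (congrArg Subtype.val hxy)))
    · rintro ⟨x, hx⟩
      obtain ⟨u, hu, h1, rfl⟩ := (hmemF x).mp hx
      exact ⟨⟨⟨u, hu⟩, h1⟩, rfl⟩
  have hnF : ∀ c ∈ That, ∀ z ∈ F, c * z * c⁻¹ ∈ F := by
    intro c hc z hz
    obtain ⟨u, hu, h1, rfl⟩ := (hmemF z).mp hz
    obtain ⟨v, hv⟩ := hn c hc u
    rw [hv, hmemF]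
    have hct := h.that_comm c hc
    refine ⟨v, ?_, ?_, rfl⟩
    · rw [Subgroup.mem_center_iff] at hu ⊢
      intro w
      obtain ⟨w', hw'⟩ := hn c⁻¹ (That.inv_mem hc) w
      apply hψ
      rw [map_mul, map_mul, ← hv]
      have h2 : ψ w' * ψ u = ψ u * ψ w' := by rw [← map_mul, ← map_mul, hu w']
      have h3 : ψ w = c * ψ w' * c⁻¹ := by rw [← hw']; group
      rw [h3]
      calc c * ψ w' * c⁻¹ * (c * ψ u * c⁻¹) = c * (ψ w' * ψ u) * c⁻¹ := by group
        _ = c * (ψ u * ψ w') * c⁻¹ := by rw [h2]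
        _ = c * ψ u * c⁻¹ * (c * ψ w' * c⁻¹) := by group
    · apply hψ
      rw [← ht v, ← hv]
      have h2 := ht u
      rw [h1] at h2
      calc t * (c * ψ u * c⁻¹) * t⁻¹ = (t * c) * ψ u * (t * c)⁻¹ := by group
        _ = (c * t) * ψ u * (c * t)⁻¹ := by rw [hct]
        _ = c * (t * ψ u * t⁻¹) * c⁻¹ := by group
        _ = c * ψ u * c⁻¹ := by rw [h2]
  have hF2 : IsPGroup 2 F := by
    apply IsPGroup.of_card (n := 2)
    rw [hcard]; norm_num
  have hFt : ∀ x ∈ F, x * t = t * x := by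
    intro x hx
    obtain ⟨u, _, h1, rfl⟩ := (hmemF x).mp hx
    have h2 := ht u
    rw [h1] at h2
    calc ψ u * t = t * ψ u * t⁻¹ * t := by rw [h2]
      _ = t * ψ u := by group
  have hFle : F ≤ That := h.le_that hF2 hFt hnF
  have hF := eq_Z h hFle hcard hnF (by
    intro z hz
    obtain ⟨u, _, _, rfl⟩ := (hmemF z).mp hz
    exact noD h hP ψ hψ u)
  intro x
  rw [← hF]
  exact hmemF x

end Gamma

section Main

variable {G : Type*} [Group G] {Γ : Type*} [Group Γ]
variable {t : Γ} {T Z That O : Subgroup Γ} {A Q : Bool → Subgroup Γ}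

/-- **`|Q| = 2`, `W ≠ 1`**: growth in `Γ = M / W`, transfer in `G`. -/
theorem notMem_commutator_of_loc [Finite G] [Finite Γ] (M : Subgroup G) (π : M →* Γ)
    (hπ : Function.Surjective π) (hodd : Odd (Nat.card π.ker))
    (h : Loc t T Z That O A Q) {U1 : Subgroup Γ} (hU1 : U1 = Q false ⊔ Q true) (τ : MulAut U1)
    (hτ : ∀ x : U1, ((τ x : U1) : Γ) = t * x * t⁻¹) (hP : Pack U1 τ)
    (s : G) (hsM : s ∈ M) (hss : s * s = 1) (hsπ : π ⟨s, hsM⟩ = t)
    (hC : ∀ x : G, x * s = s * x → x ∈ M)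
    (hcom : ∀ Z1 : Subgroup M, IsPGroup 2 Z1 → Z1.map π = Z → ∀ g : G,
      (∀ x ∈ Z1, ∀ y ∈ Z1, (x : G) * (g * (y : G) * g⁻¹) = g * (y : G) * g⁻¹ * (x : G)) → g ∈ M) :
    s ∉ commutator G := by
  classical
  have : Fact (Nat.Prime 2) := ⟨Nat.prime_two⟩
  -- `B' = That U1`
  have hU1two : IsPGroup 2 U1 := IsPGroup.of_card hP.card
  have hThU : ∀ c ∈ That, ∀ x ∈ U1, c * x * c⁻¹ ∈ U1 := by
    intro c hc x hx
    rw [hU1] at hx ⊢
    exact h.conj_sup hc hx
  have hThatN : That ≤ Subgroup.normalizer (U1 : Set Γ) := by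
    intro c hc
    rw [Subgroup.mem_normalizer_iff]
    intro x
    constructor
    · exact hThU c hc x
    · intro hx
      have := hThU _ (That.inv_mem hc) _ hx
      have e : c⁻¹ * (c * x * c⁻¹) * c⁻¹⁻¹ = x := by group
      rwa [e] at this
  have hB' : IsPGroup 2 (That ⊔ U1 : Subgroup Γ) := h.that_two.to_sup_of_normal_right' hU1two hThatN
  -- the lift
  have hP0 : IsPGroup 2 (Subgroup.zpowers (⟨s, hsM⟩ : M)) := by
    rintro ⟨_, n, rfl⟩
    refine ⟨1, Subtype.ext (Subtype.ext ?_)⟩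
    show (s ^ n) ^ 2 ^ 1 = 1
    rw [pow_one, pow_two, ← zpow_add, ← two_mul, zpow_mul]
    rw [show s ^ (2 : ℤ) = 1 from by rw [zpow_ofNat, pow_two, hss], one_zpow]
  obtain ⟨B, hB, hsB, hBmap⟩ := exists_lift π hπ hB' hP0 (by
    rw [MonoidHom.map_zpowers, hsπ, Subgroup.zpowers_le]
    exact (le_sup_left : That ≤ That ⊔ U1) h.t_mem)
  have hsB' : (⟨s, hsM⟩ : M) ∈ B := hsB (Subgroup.mem_zpowers _)
  have hlift : ∀ y ∈ That ⊔ U1, ∃ b ∈ B, π b = y := by
    intro y hy
    rw [← hBmap] at hy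
    exact hy
  set U : Subgroup M := B ⊓ U1.comap π with hU
  set Th : Subgroup M := B ⊓ That.comap π with hTh
  have hUB : U ≤ B := inf_le_left
  have hThB : Th ≤ B := inf_le_left
  have hU2 : IsPGroup 2 U := hB.to_le hUB
  have hTh2 : IsPGroup 2 Th := hB.to_le hThB
  have hUmap : U.map π = U1 := by
    ext y
    constructor
    · rintro ⟨x, hx, rfl⟩; exact hx.2
    · intro hy
      obtain ⟨b, hb, rfl⟩ := hlift y ((le_sup_right : U1 ≤ That ⊔ U1) hy)
      exact ⟨b, ⟨hb, hy⟩, rfl⟩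
  have hThmap : Th.map π = That := by
    ext y
    constructor
    · rintro ⟨x, hx, rfl⟩; exact hx.2
    · intro hy
      obtain ⟨b, hb, rfl⟩ := hlift y ((le_sup_left : That ≤ That ⊔ U1) hy)
      exact ⟨b, ⟨hb, hy⟩, rfl⟩
  have hsTh : (⟨s, hsM⟩ : M) ∈ Th := ⟨hsB', by
    show π ⟨s, hsM⟩ ∈ That
    rw [hsπ]; exact h.t_mem⟩
  have hThconj : ∀ c ∈ Th, ∀ u ∈ U, c * u * c⁻¹ ∈ U := by
    intro c hc u hu
    refine ⟨B.mul_mem (B.mul_mem hc.1 hu.1) (B.inv_mem hc.1), ?_⟩
    show π (c * u * c⁻¹) ∈ U1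
    rw [map_mul, map_mul, map_inv]
    exact hThU _ hc.2 _ hu.2
  have hThs : ∀ c ∈ Th, (c : G) * s = s * c := by
    intro c hc
    have h1 : c * ⟨s, hsM⟩ = ⟨s, hsM⟩ * c := by
      apply inj_on π hodd hTh2 (Th.mul_mem hc hsTh) (Th.mul_mem hsTh hc)
      rw [map_mul, map_mul, hsπ]
      exact h.that_comm _ hc.2
    exact congrArg Subtype.val h1
  -- subgroups of `G`
  set U0 : Subgroup G := U.map M.subtype with hU0
  set T0 : Subgroup G := Th.map M.subtype with hT0
  have hU0M : U0 ≤ M := by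
    rintro _ ⟨x, _, rfl⟩; exact x.2
  have hT0two : IsPGroup 2 T0 := hTh2.map _
  have hmemU0 : ∀ (x : G) (hx : x ∈ M), x ∈ U0 ↔ (⟨x, hx⟩ : M) ∈ U := by
    intro x hx
    constructor
    · rintro ⟨y, hy, rfl⟩; exact hy
    · intro hy; exact ⟨_, hy, rfl⟩
  set Y : Subgroup G := Subgroup.normalizer (U0 : Set G) with hY
  have hT0Y : T0 ≤ Y := by
    rintro _ ⟨c, hc, rfl⟩
    rw [hY, Subgroup.mem_normalizer_iff]
    intro x
    constructor
    · rintro ⟨u, hu, rfl⟩
      exact ⟨_, hThconj c hc u hu, rfl⟩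
    · intro hx
      obtain ⟨u, hu, e⟩ := hx
      refine ⟨_, hThconj _ (Th.inv_mem hc) u hu, ?_⟩
      have e' : (u : G) = c * x * (c : G)⁻¹ := e
      show (c : G)⁻¹ * u * (c : G)⁻¹⁻¹ = x
      rw [e']; group
  have hsT0 : s ∈ T0 := ⟨_, hsTh, rfl⟩
  have hsY : s ∈ Y := hT0Y hsT0
  have hT0s : ∀ c ∈ T0, c * s = s * c := by
    rintro _ ⟨c, hc, rfl⟩
    exact hThs c hc
  -- `T0` is a Sylow `2`-subgroup of `C_G(s)`
  have hsyl : ∀ S : Subgroup G, IsPGroup 2 S → (∀ x ∈ S, x * s = s * x) → T0 ≤ S → S = T0 := by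
    intro S hS hSs hle
    have hSM : S ≤ M := fun x hx => hC x (hSs x hx)
    have hS' : IsPGroup 2 (S.subgroupOf M) :=
      hS.of_equiv (Subgroup.subgroupOfEquivOfLe hSM).symm
    have h1 : (S.subgroupOf M).map π = That := by
      apply h.mem_that (hS'.map π)
      · rintro _ ⟨x, hx, rfl⟩
        have h2 := hSs _ (Subgroup.mem_subgroupOf.mp hx)
        have h3 : x * ⟨s, hsM⟩ = ⟨s, hsM⟩ * x := Subtype.ext h2
        rw [← hsπ, ← map_mul, ← map_mul, h3]
      · rw [← hThmap]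
        apply Subgroup.map_mono
        intro x hx
        rw [Subgroup.mem_subgroupOf]
        exact hle ⟨x, hx, rfl⟩
    symm
    apply Subgroup.eq_of_le_of_card_ge hle
    have h2 := card_map π hodd hS'
    have h3 := card_map π hodd hTh2
    rw [h1] at h2
    rw [hThmap] at h3
    have h4 : Nat.card (S.subgroupOf M) = Nat.card S :=
      Nat.card_congr (Subgroup.subgroupOfEquivOfLe hSM).toEquiv
    rw [hT0, Subgroup.card_map_of_injective M.subtype_injective, ← h3, h2, h4]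
  -- the isomorphism `U0 ≅ U1`
  let f : U0 →* Γ := π.comp (Subgroup.inclusion hU0M)
  have hfv : ∀ u : U0, f u = π ⟨u, hU0M u.2⟩ := fun u => rfl
  have hf : Function.Injective f := by
    intro x y hxy
    rw [hfv, hfv] at hxy
    have := inj_on π hodd hU2 ((hmemU0 _ (hU0M x.2)).mp x.2) ((hmemU0 _ (hU0M y.2)).mp y.2) hxy
    have h1 : (x : G) = y := congrArg (Subtype.val : M → G) this
    exact Subtype.ext h1
  have hfr : f.range = U1 := by
    ext y
    constructor
    · rintro ⟨x, rfl⟩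
      exact ((hmemU0 _ (hU0M x.2)).mp x.2).2
    · intro hy
      rw [← hUmap] at hy
      obtain ⟨u, hu, rfl⟩ := hy
      exact ⟨⟨u, u, hu, rfl⟩, rfl⟩
  let e : U0 ≃* U1 := (MonoidHom.ofInjective hf).trans (MulEquiv.subgroupCongr hfr)
  have hev : ∀ u, ((e u : U1) : Γ) = f u := fun u => rfl
  have hnorm : ∀ (y : Y) (x : U0), ((U0.normalizerMonoidHom y x : U0) : G) = y * x * (y : G)⁻¹ :=
    fun y x => rfl
  have hfconj : ∀ (y : Y) (hy : (y : G) ∈ M) (x : U0),
      f (U0.normalizerMonoidHom y x) = π ⟨y, hy⟩ * f x * (π ⟨y, hy⟩)⁻¹ := by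
    intro y hy x
    rw [hfv, hfv, ← map_mul, ← map_inv, ← map_mul]
    rfl
  have hP' : Pack U0 (U0.normalizerMonoidHom ⟨s, hsY⟩) := by
    apply HeisPack.transport hP e
    intro u
    apply Subtype.ext
    rw [hτ, hev, hev, hfconj ⟨s, hsY⟩ hsM u, hsπ]
  obtain ⟨B1, hB1, χ, hχt, hχ⟩ := hP'.chi
  let φ : Y →* B1 := χ.comp U0.normalizerMonoidHom
  have hφt : φ ⟨s, hsY⟩ ≠ 1 := hχt
  set C := Subgroup.centralizer ({s} : Set G) with hC'
  have hmemC : ∀ c : G, c ∈ C ↔ c * s = s * c := fun c => by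
    rw [hC', Subgroup.mem_centralizer_singleton_iff]
  have hT0C : T0 ≤ C := fun c hc => (hmemC c).mpr (hT0s c hc)
  -- `C_{Z(U1)}(t) = Z` in `Γ`
  have hZ1 : ∀ x : Γ, x ∈ Z ↔ ∃ u ∈ Subgroup.center U0,
      (U0.normalizerMonoidHom ⟨s, hsY⟩) u = u ∧ f u = x := by
    apply fix_center_eq h hP' f hf
    · intro u
      rw [hfconj ⟨s, hsY⟩ hsM u, hsπ]
    · refine (hχ _ ?_ hχt).1
      rw [← map_mul]
      have : (⟨s, hsY⟩ : Y) * ⟨s, hsY⟩ = 1 := Subtype.ext hss
      rw [this, map_one]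
    · intro c hc u
      rw [← hThmap] at hc
      obtain ⟨c', hc', rfl⟩ := hc
      have hcY : (c' : G) ∈ Y := hT0Y ⟨c', hc', rfl⟩
      exact ⟨U0.normalizerMonoidHom ⟨c', hcY⟩ u, (hfconj ⟨c', hcY⟩ c'.2 u).symm⟩
  -- no conjugate of `s` in `U0`
  have hnoD : ∀ u : U0, ¬ IsConj s (u : G) := by
    intro u hconj
    obtain ⟨y, hy⟩ := isConj_iff.mp hconj
    have huu : u * u = 1 := by
      apply Subtype.ext
      show (u : G) * u = 1
      rw [← hy]
      calc y * s * y⁻¹ * (y * s * y⁻¹) = y * (s * s) * y⁻¹ := by group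
        _ = 1 := by rw [hss]; group
    obtain ⟨E, huE, hEcard, hEsq⟩ := hP'.inv u huu
    have hEM : ∀ x ∈ E, y⁻¹ * (x : G) * y * s = s * (y⁻¹ * (x : G) * y) := by
      intro x hx
      have h1 : (x : G) * u = u * x := congrArg Subtype.val (comm_of_sq hEsq hx huE)
      have h2 : s = y⁻¹ * (u : G) * y := by rw [← hy]; group
      rw [h2]
      calc y⁻¹ * (x : G) * y * (y⁻¹ * (u : G) * y) = y⁻¹ * ((x : G) * u) * y := by group
        _ = y⁻¹ * ((u : G) * x) * y := by rw [h1]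
        _ = _ := by group
    let ψ : E →* Γ :=
      { toFun := fun x => π ⟨y⁻¹ * ((x : U0) : G) * y, hC _ (hEM x x.2)⟩
        map_one' := by
          rw [← map_one π]
          congr 1
          apply Subtype.ext
          show y⁻¹ * 1 * y = 1
          group
        map_mul' := by
          intro a b
          rw [← map_mul]
          congr 1
          apply Subtype.ext
          show y⁻¹ * ((a : U0) * (b : U0) : G) * y = y⁻¹ * (a : U0) * y * (y⁻¹ * (b : U0) * y)
          group }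
    have hψv : ∀ x : E, ψ x = π ⟨y⁻¹ * ((x : U0) : G) * y, hC _ (hEM x x.2)⟩ := fun x => rfl
    have hψ : Function.Injective ψ := by
      rw [injective_iff_map_eq_one]
      intro a ha
      rw [hψv] at ha
      have hz : IsPGroup 2 (Subgroup.zpowers
          (⟨y⁻¹ * ((a : U0) : G) * y, hC _ (hEM a a.2)⟩ : M)) := by
        rintro ⟨_, m, rfl⟩
        refine ⟨1, Subtype.ext (Subtype.ext ?_)⟩
        have h1 : (a : U0) * (a : U0) = 1 := hEsq a a.2
        have h1' : ((a : U0) : G) * ((a : U0) : G) = 1 := congrArg Subtype.val h1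
        show ((y⁻¹ * ((a : U0) : G) * y) ^ m) ^ 2 ^ 1 = 1
        rw [pow_one, pow_two, ← zpow_add, ← two_mul, zpow_mul]
        have h2 : (y⁻¹ * ((a : U0) : G) * y) ^ (2 : ℤ) = 1 := by
          rw [zpow_ofNat, pow_two]
          calc y⁻¹ * ((a : U0) : G) * y * (y⁻¹ * ((a : U0) : G) * y)
              = y⁻¹ * (((a : U0) : G) * ((a : U0) : G)) * y := by group
            _ = 1 := by rw [h1']; group
        rw [h2, one_zpow]
      have h1 := eq_one_of_two π hodd hz (Subgroup.mem_zpowers _) ha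
      have h2 : y⁻¹ * ((a : U0) : G) * y = 1 := congrArg Subtype.val h1
      apply Subtype.ext
      apply Subtype.ext
      show ((a : U0) : G) = 1
      calc ((a : U0) : G) = y * (y⁻¹ * ((a : U0) : G) * y) * y⁻¹ := by group
        _ = 1 := by rw [h2]; group
    have h1 : Nat.card ψ.range ≤ 32 := by
      apply card_elem h.toLocT (IsConj.refl t)
      · rintro _ ⟨x, rfl⟩
        have h2 : x * x = 1 := Subtype.ext (hEsq x x.2)
        rw [← map_mul, h2, map_one]
      · rintro _ ⟨x, rfl⟩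
        rw [hψv, ← hsπ, ← map_mul, ← map_mul]
        congr 1
        exact Subtype.ext (hEM x x.2)
    have h2 : Nat.card ψ.range = 2 ^ 8 := by
      rw [← hEcard]
      exact (Nat.card_congr (MonoidHom.ofInjective hψ).toEquiv).symm
    rw [h2] at h1
    norm_num at h1
  -- the transfer
  suffices hV : MonoidHom.transfer φ s ≠ 1 from
    fun hs => hV (Abelianization.commutator_subset_ker (MonoidHom.transfer φ) hs)
  rw [OddParity.transfer_eq Y φ s hss hsY]
  · exact hφt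
  · intro g hg hne hgodd
    set d := g⁻¹ * s * g with hd
    set δ : MulAut U0 := U0.normalizerMonoidHom ⟨d, hg⟩ with hδ
    have hδ2 : δ * δ = 1 := by
      rw [hδ, ← map_mul]
      have : (⟨d, hg⟩ : Y) * ⟨d, hg⟩ = 1 := by
        apply Subtype.ext
        show d * d = 1
        rw [hd]
        calc g⁻¹ * s * g * (g⁻¹ * s * g) = g⁻¹ * (s * s) * g := by group
          _ = 1 := by rw [hss]; group
      rw [this, map_one]
    obtain ⟨h4, h64, hab⟩ := hχ δ hδ2 hne
    -- `c⁻¹ T0 c ≤ g Y g⁻¹` for some `c ∈ C`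
    obtain ⟨c, hcC, hc⟩ : ∃ c ∈ C, ∀ x ∈ T0, g⁻¹ * (c⁻¹ * x * c) * g ∈ Y := by
      set Y1 := (Y.map (MulAut.conj g).toMonoidHom).subgroupOf C with hY1
      have hp : IsPGroup 2 (T0.subgroupOf C) :=
        hT0two.of_equiv (Subgroup.subgroupOfEquivOfLe hT0C).symm
      have hnd : ¬ 2 ∣ Nat.card (C ⧸ Y1) := by
        rw [← Subgroup.index_eq_card]
        rw [← even_iff_two_dvd, Nat.not_even_iff_odd]
        exact hgodd
      obtain ⟨q, hq⟩ := hp.nonempty_fixed_point_of_prime_not_dvd_card (C ⧸ Y1) hnd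
      obtain ⟨⟨c, hcC⟩, rfl⟩ := QuotientGroup.mk_surjective q
      refine ⟨c, hcC, fun x hx => ?_⟩
      have h1 := hq ⟨⟨x, hT0C hx⟩, Subgroup.mem_subgroupOf.mpr hx⟩
      have h2 : ((⟨x, hT0C hx⟩ * ⟨c, hcC⟩ : C) : C ⧸ Y1) = ((⟨c, hcC⟩ : C) : C ⧸ Y1) := h1
      have h3 := QuotientGroup.eq.mp h2.symm
      rw [hY1, Subgroup.mem_subgroupOf] at h3
      obtain ⟨y, hy, e1⟩ := h3
      have e' : g * y * g⁻¹ = c⁻¹ * (x * c) := e1
      have : g⁻¹ * (c⁻¹ * x * c) * g = y := by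
        calc g⁻¹ * (c⁻¹ * x * c) * g = g⁻¹ * (c⁻¹ * (x * c)) * g := by group
          _ = y := by rw [← e']; group
      rw [this]; exact hy
    set n := c * g with hn
    have hnd : n⁻¹ * s * n = d := by
      have h1 := (hmemC c).mp hcC
      rw [hn, hd]
      calc (c * g)⁻¹ * s * (c * g) = g⁻¹ * c⁻¹ * (s * c) * g := by group
        _ = g⁻¹ * c⁻¹ * (c * s) * g := by rw [h1]
        _ = _ := by group
    have hnT : ∀ x ∈ T0, n⁻¹ * x * n ∈ Y := by
      intro x hx
      have h1 := hc x hx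
      have e1 : n⁻¹ * x * n = g⁻¹ * (c⁻¹ * x * c) * g := by rw [hn]; group
      rw [e1]; exact h1
    -- step A: `C_{nZ(U0)n⁻¹}(s)` maps onto `Z`
    have hδv : ∀ u : U0, ((δ u : U0) : G) = d * u * d⁻¹ := fun u => rfl
    have hsn : ∀ u : U0, s * (n * (u : G) * n⁻¹) * s⁻¹ = n * ((δ u : U0) : G) * n⁻¹ := by
      intro u
      rw [hδv, ← hnd]; group
    let F : Subgroup G :=
      { carrier := {x | ∃ u ∈ Subgroup.center U0, δ u = u ∧ n * (u : G) * n⁻¹ = x}
        one_mem' := ⟨1, Subgroup.one_mem _, map_one _, by simp⟩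
        mul_mem' := by
          rintro _ _ ⟨u, hu, hu', rfl⟩ ⟨v, hv, hv', rfl⟩
          refine ⟨u * v, Subgroup.mul_mem _ hu hv, by rw [map_mul, hu', hv'], ?_⟩
          rw [Subgroup.coe_mul]; group
        inv_mem' := by
          rintro _ ⟨u, hu, hu', rfl⟩
          refine ⟨u⁻¹, Subgroup.inv_mem _ hu, by rw [map_inv, hu'], ?_⟩
          rw [Subgroup.coe_inv]; group }
    have hmemF : ∀ x, x ∈ F ↔ ∃ u ∈ Subgroup.center U0, δ u = u ∧ n * (u : G) * n⁻¹ = x :=
      fun x => Iff.rfl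
    have hFcard : Nat.card F = 4 := by
      rw [← h4]
      symm
      apply Nat.card_congr
      refine Equiv.ofBijective
        (fun z : {z : Subgroup.center U0 // δ z = z} =>
          (⟨n * ((z.1 : U0) : G) * n⁻¹, (hmemF _).mpr ⟨z.1, z.1.2, z.2, rfl⟩⟩ : F)) ⟨?_, ?_⟩
      · intro x y hxy
        have h1 : n * ((x.1 : U0) : G) * n⁻¹ = n * ((y.1 : U0) : G) * n⁻¹ :=
          congrArg Subtype.val hxy
        exact Subtype.ext (Subtype.ext (Subtype.ext (mul_left_cancel (mul_right_cancel h1))))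
      · rintro ⟨x, hx⟩
        obtain ⟨u, hu, h1, rfl⟩ := (hmemF x).mp hx
        exact ⟨⟨⟨u, hu⟩, h1⟩, rfl⟩
    have hF2 : IsPGroup 2 F := by
      apply IsPGroup.of_card (n := 2)
      rw [hFcard]; norm_num
    have hFs : ∀ x ∈ F, x * s = s * x := by
      rintro _ ⟨u, hu, h1, rfl⟩
      have h2 := hsn u
      rw [h1] at h2
      calc n * (u : G) * n⁻¹ * s = s * (n * (u : G) * n⁻¹) * s⁻¹ * s := by rw [h2]
        _ = s * (n * (u : G) * n⁻¹) := by group
    have hcenY : ∀ (y : Y) (u : U0), u ∈ Subgroup.center U0 →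
        U0.normalizerMonoidHom y u ∈ Subgroup.center U0 := by
      intro y u hu
      rw [Subgroup.mem_center_iff] at hu ⊢
      intro w
      obtain ⟨w', rfl⟩ : ∃ w', U0.normalizerMonoidHom y w' = w :=
        ⟨(U0.normalizerMonoidHom y).symm w, by simp⟩
      rw [← map_mul, ← map_mul, hu w']
    have hT0F : ∀ x ∈ T0, ∀ z ∈ F, x * z * x⁻¹ ∈ F := by
      rintro x hx _ ⟨u, hu, h1, rfl⟩
      set y : Y := ⟨n⁻¹ * x * n, hnT x hx⟩ with hy
      refine ⟨U0.normalizerMonoidHom y u, hcenY y u hu, ?_, ?_⟩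
      · have h2 : (⟨d, hg⟩ : Y) * y = y * ⟨d, hg⟩ := by
          apply Subtype.ext
          show d * (n⁻¹ * x * n) = n⁻¹ * x * n * d
          rw [← hnd]
          have h3 := hT0s x hx
          calc n⁻¹ * s * n * (n⁻¹ * x * n) = n⁻¹ * (s * x) * n := by group
            _ = n⁻¹ * (x * s) * n := by rw [h3]
            _ = _ := by group
        have h3 : δ * U0.normalizerMonoidHom y = U0.normalizerMonoidHom y * δ := by
          rw [hδ, ← map_mul, ← map_mul, h2]
        have h4 := congrArg (fun a : MulAut U0 => a u) h3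
        simp only [MulAut.mul_apply, h1] at h4
        exact h4
      · rw [hnorm]
        show n * (n⁻¹ * x * n * u * (n⁻¹ * x * n)⁻¹) * n⁻¹ = x * (n * u * n⁻¹) * x⁻¹
        group
    have hFT0 : F ≤ T0 := by
      have h1 : T0 ≤ Subgroup.normalizer (F : Set G) := by
        intro x hx
        rw [Subgroup.mem_normalizer_iff]
        intro z
        constructor
        · exact hT0F x hx z
        · intro hz
          have := hT0F _ (T0.inv_mem hx) _ hz
          have e : x⁻¹ * (x * z * x⁻¹) * x⁻¹⁻¹ = z := by group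
          rwa [e] at this
      have h2 : IsPGroup 2 (T0 ⊔ F : Subgroup G) := hT0two.to_sup_of_normal_right' hF2 h1
      have h3 : T0 ⊔ F = T0 := by
        apply hsyl _ h2 _ le_sup_left
        intro x hx
        have h4 : T0 ⊔ F ≤ C := sup_le hT0C (fun y hy => (hmemC y).mpr (hFs y hy))
        exact (hmemC x).mp (h4 hx)
      rw [← h3]; exact le_sup_right
    have hFM : F ≤ M := by
      intro x hx
      exact hC x (hFs x hx)
    have hFmap : (F.subgroupOf M).map π = Z := by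
      have hF2' : IsPGroup 2 (F.subgroupOf M) :=
        hF2.of_equiv (Subgroup.subgroupOfEquivOfLe hFM).symm
      have hFTh : F.subgroupOf M ≤ Th := by
        intro x hx
        obtain ⟨y, hy, e⟩ := hFT0 (Subgroup.mem_subgroupOf.mp hx)
        have : y = x := Subtype.ext e
        rwa [← this]
      apply eq_Z h
      · rintro _ ⟨x, hx, rfl⟩
        exact (hFTh hx).2
      · rw [card_map π hodd hF2', Nat.card_congr (Subgroup.subgroupOfEquivOfLe hFM).toEquiv, hFcard]
      · intro c hc z hz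
        obtain ⟨x, hx, rfl⟩ := hz
        rw [← hThmap] at hc
        obtain ⟨c', hc', rfl⟩ := hc
        refine ⟨c' * x * c'⁻¹, ?_, by rw [map_mul, map_mul, map_inv]⟩
        exact Subgroup.mem_subgroupOf.mpr
          (hT0F _ ⟨c', hc', rfl⟩ _ (Subgroup.mem_subgroupOf.mp hx))
      · rintro _ ⟨x, hx, rfl⟩ hconj
        obtain ⟨u, hu, hu1, hux⟩ := Subgroup.mem_subgroupOf.mp hx
        have hxx : x * x = 1 := by
          apply inj_on π hodd hF2' (Subgroup.mul_mem _ hx hx) (Subgroup.one_mem _)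
          obtain ⟨y, hy⟩ := isConj_iff.mp hconj
          rw [map_mul, map_one, ← hy]
          calc y * t * y⁻¹ * (y * t * y⁻¹) = y * (t * t) * y⁻¹ := by group
            _ = 1 := by rw [h.tt]; group
        rw [← hsπ] at hconj
        have h5 := isConj_of_map π hπ hodd (Subtype.ext hss) hxx hconj
        obtain ⟨m, hm⟩ := isConj_iff.mp h5
        apply hnoD u
        rw [isConj_iff]
        refine ⟨n⁻¹ * m, ?_⟩
        have hm' : (m : G) * s * (m : G)⁻¹ = x := congrArg Subtype.val hm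
        have hux' : n * (u : G) * n⁻¹ = x := hux
        calc n⁻¹ * (m : G) * s * (n⁻¹ * m)⁻¹ = n⁻¹ * (m * s * (m : G)⁻¹) * n := by group
          _ = n⁻¹ * (n * (u : G) * n⁻¹) * n := by rw [hm', hux']
          _ = u := by group
    -- step B: `n ∈ M`
    have hnM : n ∈ M := by
      set Z1 : Subgroup M := Th ⊓ Z.comap π with hZ1'
      have hZ1two : IsPGroup 2 Z1 := hTh2.to_le inf_le_left
      have hZle : Z ≤ That := (h.Z_le_T).trans h.T_le
      have hZ1map : Z1.map π = Z := by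
        ext y
        constructor
        · rintro ⟨x, hx, rfl⟩; exact hx.2
        · intro hy
          obtain ⟨b, hb, rfl⟩ : y ∈ Th.map π := by rw [hThmap]; exact hZle hy
          exact ⟨b, ⟨hb, hy⟩, rfl⟩
      apply hcom Z1 hZ1two hZ1map
      intro x hx y hy
      obtain ⟨x', hx', hxe⟩ : π x ∈ (F.subgroupOf M).map π := by rw [hFmap]; exact hx.2
      have hx'' : x' ∈ F.subgroupOf M := hx'
      obtain ⟨z, hz, ez⟩ := hFT0 (Subgroup.mem_subgroupOf.mp hx'')
      have ez' : z = x' := Subtype.ext ez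
      rw [ez'] at hz
      have hxx : x' = x := inj_on π hodd hTh2 hz hx.1 hxe
      obtain ⟨u, hu, -, hux⟩ := (Subgroup.mem_subgroupOf.mp hx'')
      rw [hxx] at hux
      obtain ⟨v, hv, -, hvy⟩ := (hZ1 (π y)).mp hy.2
      have hyv : (v : G) = y := by
        have h1 : (⟨v, hU0M v.2⟩ : M) = y :=
          inj_on π hodd hB (hUB ((hmemU0 _ (hU0M v.2)).mp v.2)) (hThB hy.1) hvy
        exact congrArg (Subtype.val : M → G) h1
      rw [← hyv, ← hux]
      have h2 : (u : G) * v = v * u := by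
        have := (Subgroup.mem_center_iff.mp hv) u
        exact congrArg Subtype.val this
      calc n * (u : G) * n⁻¹ * (n * (v : G) * n⁻¹) = n * ((u : G) * v) * n⁻¹ := by group
        _ = n * ((v : G) * u) * n⁻¹ := by rw [h2]
        _ = _ := by group
    -- step C: `π n` normalises `U1`
    set n' : M := ⟨n, hnM⟩ with hn'
    have hdM : d ∈ M := by
      rw [← hnd]
      exact M.mul_mem (M.mul_mem (M.inv_mem hnM) hsM) hnM
    have hπd : π ⟨d, hdM⟩ = (π n')⁻¹ * t * π n' := by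
      rw [← hsπ, ← map_inv, ← map_mul, ← map_mul]
      congr 1
      apply Subtype.ext
      show d = n⁻¹ * s * n
      rw [hnd]
    let ψ : U0 →* Γ := (MulAut.conj (π n')).toMonoidHom.comp f
    have hψv : ∀ u : U0, ψ u = π n' * f u * (π n')⁻¹ := fun u => rfl
    have hψ : Function.Injective ψ := (MulAut.conj (π n')).injective.comp hf
    have hψt : ∀ u, t * ψ u * t⁻¹ = ψ (δ u) := by
      intro u
      rw [hψv, hψv, hδ, hfconj ⟨d, hg⟩ hdM u, hπd]
      group
    have hHF : HF ψ.range ((Subgroup.center U0).map ψ) t :=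
      hf_of_hom ψ hψ δ hψt hP'.card hP'.comm h4 h64 hab
    have hHyp : HF.Hyp t T Z That O A Q ψ.range ((Subgroup.center U0).map ψ) := by
      refine ⟨h, hHF, ?_, ?_⟩
      · rintro x hx _ ⟨u, rfl⟩
        rw [← hThmap] at hx
        obtain ⟨c', hc', rfl⟩ := hx
        have h1 := hnT _ (⟨c', hc', rfl⟩ : (c' : G) ∈ T0)
        have h1M : n⁻¹ * (c' : G) * n ∈ M := M.mul_mem (M.mul_mem (M.inv_mem hnM) c'.2) hnM
        refine ⟨U0.normalizerMonoidHom ⟨_, h1⟩ u, ?_⟩
        rw [hψv, hψv, hfconj ⟨_, h1⟩ h1M u]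
        have h2 : π ⟨n⁻¹ * (c' : G) * n, h1M⟩ = (π n')⁻¹ * π c' * π n' := by
          rw [← map_inv, ← map_mul, ← map_mul]
          rfl
        show π n' * (π ⟨n⁻¹ * (c' : G) * n, h1M⟩ * f u * (π ⟨n⁻¹ * (c' : G) * n, h1M⟩)⁻¹) *
          (π n')⁻¹ = _
        rw [h2]; group
      · rintro _ ⟨u, rfl⟩
        exact noD h hP' ψ hψ u
    have hQ : ∀ i, Q i ≤ ψ.range := fun i => HF.Q_le hHyp i
    have hle : U1 ≤ ψ.range := le_trans (le_of_eq hU1) (sup_le (hQ false) (hQ true))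
    have hcardr : Nat.card ψ.range = Nat.card U1 := by
      rw [← Nat.card_congr (MonoidHom.ofInjective hψ).toEquiv]
      exact Nat.card_congr e.toEquiv
    have heq : U1 = ψ.range := Subgroup.eq_of_le_of_card_ge hle hcardr.le
    -- step D: correction by an element of the kernel
    set Un : Subgroup M := U.map (MulAut.conj n').toMonoidHom with hUn
    have hUn2 : IsPGroup 2 Un := hU2.map _
    have hUnmap : Un.map π = U1 := by
      rw [heq]
      ext y
      constructor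
      · rintro ⟨_, ⟨u, hu, rfl⟩, rfl⟩
        refine ⟨⟨u, u, hu, rfl⟩, ?_⟩
        rw [hψv, hfv]
        show π n' * π u * (π n')⁻¹ = π (n' * u * n'⁻¹)
        rw [map_mul, map_mul, map_inv]
      · rintro ⟨u, rfl⟩
        refine ⟨n' * ⟨u, hU0M u.2⟩ * n'⁻¹, ⟨⟨u, hU0M u.2⟩, (hmemU0 _ (hU0M u.2)).mp u.2, rfl⟩, ?_⟩
        rw [hψv, hfv, map_mul, map_mul, map_inv]
    have hThUn : ∀ c ∈ Th, ∀ u ∈ Un, c * u * c⁻¹ ∈ Un := by
      rintro c hc _ ⟨u, hu, rfl⟩
      have h1 := hnT _ (⟨c, hc, rfl⟩ : (c : G) ∈ T0)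
      rw [hY, Subgroup.mem_normalizer_iff] at h1
      have h2 : (u : G) ∈ U0 := ⟨u, hu, rfl⟩
      have h3 := (h1 _).mp h2
      obtain ⟨v, hv, e1⟩ := h3
      refine ⟨v, hv, ?_⟩
      apply Subtype.ext
      have e2 : (v : G) = n⁻¹ * (c : G) * n * (u : G) * (n⁻¹ * (c : G) * n)⁻¹ := e1
      show n * (v : G) * n⁻¹ = (c : G) * (n * (u : G) * n⁻¹) * (c : G)⁻¹
      rw [e2]; group
    have hThNn : Th ≤ Subgroup.normalizer (Un : Set M) := by
      intro c hc
      rw [Subgroup.mem_normalizer_iff]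
      intro x
      constructor
      · exact hThUn c hc x
      · intro hx
        have := hThUn _ (Th.inv_mem hc) _ hx
        have e : c⁻¹ * (c * x * c⁻¹) * c⁻¹⁻¹ = x := by group
        rwa [e] at this
    have hBn : IsPGroup 2 (Th ⊔ Un : Subgroup M) := hTh2.to_sup_of_normal_right' hUn2 hThNn
    obtain ⟨k, hk1, hk⟩ := exists_conj π hodd hBn hB (by
      rw [Subgroup.map_sup, hThmap, hUnmap, hBmap])
    have hkπ : ∀ x : M, π (k * x * k⁻¹) = π x := by
      intro x
      rw [map_mul, map_mul, map_inv, hk1]; simp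
    have hks : k * ⟨s, hsM⟩ * k⁻¹ = ⟨s, hsM⟩ := by
      apply inj_on π hodd hB (hk _ ((le_sup_left : Th ≤ Th ⊔ Un) hsTh)) hsB'
      exact hkπ _
    have hkU : ∀ u ∈ U, (k * n') * u * (k * n')⁻¹ ∈ U := by
      intro u hu
      have h1 : n' * u * n'⁻¹ ∈ Un := ⟨u, hu, rfl⟩
      have h2 := hk _ ((le_sup_right : Un ≤ Th ⊔ Un) h1)
      have e1 : (k * n') * u * (k * n')⁻¹ = k * (n' * u * n'⁻¹) * k⁻¹ := by group
      rw [e1]
      refine ⟨h2, ?_⟩
      show π (k * (n' * u * n'⁻¹) * k⁻¹) ∈ U1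
      rw [hkπ, ← hUnmap]
      exact ⟨_, h1, rfl⟩
    refine ⟨k * n, ?_, ?_⟩
    · have h1 : U0.map (MulAut.conj ((k : G) * n)).toMonoidHom = U0 := by
        apply Subgroup.eq_of_le_of_card_ge
        · rintro _ ⟨_, ⟨u, hu, rfl⟩, rfl⟩
          exact ⟨_, hkU u hu, rfl⟩
        · exact (Subgroup.card_map_of_injective (K := U0)
            (MulAut.conj ((k : G) * n)).injective).ge
      rw [hY, Subgroup.mem_normalizer_iff]
      intro x
      constructor
      · intro hx
        rw [← h1]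
        exact ⟨x, hx, rfl⟩
      · intro hx
        have hx' : (k : G) * n * x * ((k : G) * n)⁻¹ ∈
            U0.map (MulAut.conj ((k : G) * n)).toMonoidHom := by rw [h1]; exact hx
        obtain ⟨u, hu, e1⟩ := hx'
        have e2 : (k : G) * n * u * ((k : G) * n)⁻¹ = (k : G) * n * x * ((k : G) * n)⁻¹ := e1
        have : u = x := mul_left_cancel (mul_right_cancel e2)
        rwa [← this]
    · have h1 : (k : G) * s * (k : G)⁻¹ = s := congrArg Subtype.val hks
      have h2 : (k : G)⁻¹ * s * k = s := by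
        calc (k : G)⁻¹ * s * k = (k : G)⁻¹ * ((k : G) * s * (k : G)⁻¹) * k := by rw [h1]
          _ = s := by group
      calc d = n⁻¹ * s * n := hnd.symm
        _ = n⁻¹ * ((k : G)⁻¹ * s * k) * n := by rw [h2]
        _ = ((k : G) * n)⁻¹ * s * ((k : G) * n) := by group
  · -- `|C : C ∩ Y|` is odd
    rw [← Nat.not_even_iff_odd, even_iff_two_dvd]
    intro hdvd
    have hp : IsPGroup 2 (T0.subgroupOf C) :=
      hT0two.of_equiv (Subgroup.subgroupOfEquivOfLe hT0C).symm
    obtain ⟨P, hP1⟩ := hp.exists_le_sylow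
    have hPeq : (P : Subgroup C).map C.subtype = T0 := by
      apply hsyl _ (P.isPGroup'.map _)
      · rintro _ ⟨x, -, rfl⟩
        exact (hmemC _).mp x.2
      · intro x hx
        exact ⟨⟨x, hT0C hx⟩, hP1 (Subgroup.mem_subgroupOf.mpr hx), rfl⟩
    have hle : (P : Subgroup C) ≤ Y.subgroupOf C := by
      intro x hx
      rw [Subgroup.mem_subgroupOf]
      apply hT0Y
      rw [← hPeq]
      exact ⟨x, hx, rfl⟩
    have h1 := hdvd.trans (Subgroup.index_dvd_of_le hle)
    exact P.not_dvd_index' (Subgroup.index_ne_zero_of_finite) h1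

end Main

end Cfsg.Agent.UGT.L34T2.OddMain
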