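import Cfsg.Agent.UGT.L34T2.OddMain
import Cfsg.Agent.UGT.L34T2.OddLoc

set_option autoImplicit false

/-!
# `|Q| = 2`: from an embedded `L₃(4)` normal in `C(a)` to `a ∉ G'`, with an odd core

helper231's T2 SMALL, bb #14883 (8), piece [F5].

* `In ι a`: `ι : L₃(4) → Γ`, `a` an involution centralising the image, `C(a)` normalises the image, the only
  nontrivial `2`-element of `C(a)` centralising the image is `a`.
* `In.semb`, `In.out`: the input of the development `StdL3`.
* `main`: the transfer.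
-/

namespace Cfsg.Agent.UGT.L34T2.OddSEmb

open Cfsg.Agent.StdLThreeFour.Base (L0 S0 Z0)
open Cfsg.Agent.StdLThreeFour
open Cfsg.Agent.StdLThreeFour.Emb
open Cfsg.Agent.StdLThreeFour.Syl
open Cfsg.Agent.StdLThreeFour.Red2c
open Cfsg.Agent.StdLThreeFour.Red2d
open Cfsg.Agent.StdLThreeFour.Red2e
open Cfsg.Agent.UGT.L34T2.OddLift

section Gamma

variable {Γ : Type*} [Group Γ]

/-- The input. -/
structure In (ι : L0 →* Γ) (a : Γ) : Prop where
  inj : Function.Injective ι
  aa : a * a = 1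
  a1 : a ≠ 1
  com : ∀ y, Commute a (ι y)
  nor : ∀ c, c * a = a * c → ∀ y, ∃ y', c * ι y * c⁻¹ = ι y'
  two : ∀ c, c * a = a * c → (∃ k : ℕ, c ^ 2 ^ k = 1) → (∀ y, Commute c (ι y)) → c = 1 ∨ c = a

theorem mem_zp {a x : Γ} (haa : a * a = 1) : x ∈ Subgroup.zpowers a ↔ x = 1 ∨ x = a := by
  have h2 : a ^ (2 : ℤ) = 1 := by rw [zpow_ofNat, pow_two, haa]
  constructor
  · intro hx
    obtain ⟨n, rfl⟩ := Subgroup.mem_zpowers_iff.mp hx
    rcases Int.even_or_odd' n with ⟨m, rfl | rfl⟩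
    · left
      rw [zpow_mul, h2, one_zpow]
    · right
      rw [zpow_add, zpow_mul, h2, one_zpow, one_mul, zpow_one]
  · rintro (rfl | rfl)
    · exact Subgroup.one_mem _
    · exact Subgroup.mem_zpowers _

/-- the automorphism induced by an element normalising the image -/
theorem exists_aut {ι : L0 →* Γ} (hι : Function.Injective ι) {g : Γ}
    (h : ∀ y, ∃ y', g * ι y * g⁻¹ = ι y') : ∃ α : MulAut L0, ∀ y, g * ι y * g⁻¹ = ι (α y) := by
  choose f hf using h
  let F : L0 →* L0 :=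
    { toFun := f
      map_one' := by
        apply hι
        rw [← hf, map_one]; simp
      map_mul' := by
        intro x y
        apply hι
        rw [map_mul, ← hf, ← hf, ← hf, map_mul]; group }
  have hFv : ∀ y, F y = f y := fun _ => rfl
  have hF : Function.Injective F := by
    intro x y hxy
    rw [hFv, hFv] at hxy
    apply hι
    have h1 := hf x
    rw [hxy, ← hf y] at h1
    exact mul_left_cancel (mul_right_cancel h1)
  have hfin : Finite L0 := inferInstance
  have hFb : Function.Bijective F := Finite.injective_iff_bijective.mp hF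
  exact ⟨MulEquiv.ofBijective F hFb, fun y => hf y⟩

variable [Finite Γ] {ι : L0 →* Γ} {a : Γ}

theorem In.syl (h : In ι a) : IsSyl (Subgroup.zpowers a) (Subgroup.centralizer (Set.range ι)) := by
  have hle : Subgroup.zpowers a ≤ Subgroup.centralizer (Set.range ι) := by
    rw [Subgroup.zpowers_le, Subgroup.mem_centralizer_iff]
    rintro _ ⟨y, rfl⟩
    exact (h.com y).symm
  apply isSyl_of_norm hle
  · apply isPGroup_zpowers (n := 1)
    rw [pow_one, pow_two, h.aa]
  · intro x hx hx2 hn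
    rw [mem_zp h.aa]
    have h1 := (hn a).mp (Subgroup.mem_zpowers a)
    rw [mem_zp h.aa] at h1
    have h2 : x * a = a * x := by
      rcases h1 with h1 | h1
      · exfalso
        apply h.a1
        have : a = x⁻¹ * (x * a * x⁻¹) * x := by group
        rw [this, h1]; group
      · calc x * a = x * a * x⁻¹ * x := by group
          _ = a * x := by rw [h1]
    apply h.two x h2 hx2
    intro y
    rw [Subgroup.mem_centralizer_iff] at hx
    exact (hx _ ⟨y, rfl⟩).symm

theorem In.exists_conj (h : In ι a) {k : Γ} (hk : ∀ y, Commute k (ι y)) (hk1 : k ≠ 1)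
    (hkk : k * k = 1) : ∃ c, (∀ y, Commute c (ι y)) ∧ c * k * c⁻¹ = a := by
  have hkK : Subgroup.zpowers k ≤ Subgroup.centralizer (Set.range ι) := by
    rw [Subgroup.zpowers_le, Subgroup.mem_centralizer_iff]
    rintro _ ⟨y, rfl⟩
    exact (hk y).symm
  obtain ⟨c, hc, hc'⟩ := h.syl.exists_conj_mem hkK (by
    apply isPGroup_zpowers (n := 1)
    rw [pow_one, pow_two, hkk])
  refine ⟨c, ?_, ?_⟩
  · intro y
    rw [Subgroup.mem_centralizer_iff] at hc
    exact (hc _ ⟨y, rfl⟩).symm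
  · have h1 := hc' k (Subgroup.mem_zpowers k)
    rw [mem_zp h.aa] at h1
    rcases h1 with h1 | h1
    · exfalso
      apply hk1
      have : k = c⁻¹ * (c * k * c⁻¹) * c := by group
      rw [this, h1]; group
    · exact h1

/-- the embedding as a standard component -/
noncomputable def In.semb (h : In ι a) : SEmb Γ where
  ι := ι
  inj := h.inj
  disj := by
    intro g k hk1 hkk hk hgk
    have hg1 : g * k * g⁻¹ ≠ 1 := by
      intro e
      apply hk1
      have : k = g⁻¹ * (g * k * g⁻¹) * g := by group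
      rw [this, e]; group
    have hg2 : g * k * g⁻¹ * (g * k * g⁻¹) = 1 := by
      calc g * k * g⁻¹ * (g * k * g⁻¹) = g * (k * k) * g⁻¹ := by group
        _ = 1 := by rw [hkk]; group
    obtain ⟨c, hc, hce⟩ := h.exists_conj hk hk1 hkk
    obtain ⟨d, hd, hde⟩ := h.exists_conj hgk hg1 hg2
    have h1 : (d * g * c⁻¹) * a = a * (d * g * c⁻¹) := by
      have h2 : (d * g * c⁻¹) * a * (d * g * c⁻¹)⁻¹ = a := by
        calc (d * g * c⁻¹) * a * (d * g * c⁻¹)⁻¹
            = d * g * (c⁻¹ * a * c) * g⁻¹ * d⁻¹ := by group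
          _ = d * g * (c⁻¹ * (c * k * c⁻¹) * c) * g⁻¹ * d⁻¹ := by rw [hce]
          _ = d * (g * k * g⁻¹) * d⁻¹ := by group
          _ = a := hde
      calc (d * g * c⁻¹) * a = (d * g * c⁻¹) * a * (d * g * c⁻¹)⁻¹ * (d * g * c⁻¹) := by group
        _ = a * (d * g * c⁻¹) := by rw [h2]
    apply exists_aut h.inj
    intro y
    obtain ⟨y', hy'⟩ := h.nor _ h1 y
    refine ⟨y', ?_⟩
    have h3 : c * ι y * c⁻¹ = ι y := by rw [(hc y).eq]; group
    have h4 : d⁻¹ * ι y' * d = ι y' := by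
      have := (hd y').eq
      calc d⁻¹ * ι y' * d = d⁻¹ * (ι y' * d) := by group
        _ = d⁻¹ * (d * ι y') := by rw [this]
        _ = ι y' := by group
    calc g * ι y * g⁻¹ = d⁻¹ * ((d * g * c⁻¹) * (c * ι y * c⁻¹) * (d * g * c⁻¹)⁻¹) * d := by group
      _ = d⁻¹ * ι y' * d := by rw [h3, hy']
      _ = ι y' := h4
  nocomm := by
    intro g hg
    -- `g ι(L0) g⁻¹` would be a subgroup of the centraliser, with Sylow `2`-subgroups of order `2`
    have h1 : (S0.map ι).map (MulAut.conj g).toMonoidHom ≤ Subgroup.centralizer (Set.range ι) := by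
      rintro _ ⟨_, ⟨s, hs, rfl⟩, rfl⟩
      rw [Subgroup.mem_centralizer_iff]
      rintro _ ⟨y, rfl⟩
      exact (hg y s).eq
    have h2 : IsPGroup 2 ((S0.map ι).map (MulAut.conj g).toMonoidHom) :=
      (Facts1.isPGroup_S0.map _).map _
    obtain ⟨P, hP, hle⟩ := exists_isSyl h1 h2
    have h3 := hP.card_eq
    rw [← h.syl.card_eq] at h3
    have h4 := Subgroup.card_le_of_le hle
    rw [h3, Syl.card_conj, Subgroup.card_map_of_injective h.inj, Facts1.card_S0] at h4
    have h5 : Nat.card (Subgroup.zpowers a) ≤ 2 := by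
      rw [Nat.card_zpowers]
      apply orderOf_le_of_pow_eq_one (by norm_num)
      rw [pow_two, h.aa]
    omega

theorem In.semb_ι (h : In ι a) : h.semb.ι = ι := rfl

theorem In.mem_K (h : In ι a) {k : Γ} : k ∈ h.semb.K ↔ ∀ y, Commute k (ι y) := SEmb.mem_K

theorem In.out (h : In ι a) {t : Γ} (hta : t * a ≠ a * t)
    (ht : ∀ x ∈ Subgroup.zpowers a ⊔ S0.map ι, t * x * t⁻¹ ∈ Subgroup.zpowers a ⊔ S0.map ι) :
    Out h.semb (Subgroup.zpowers a) t where
  syl := h.syl
  el := by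
    intro x hx
    rw [mem_zp h.aa] at hx
    rcases hx with rfl | rfl
    · exact one_mul 1
    · exact h.aa
  card := by
    left
    rw [Nat.card_zpowers]
    exact orderOf_eq_prime (by rw [pow_two, h.aa]) h.a1
  nm := by
    intro htM
    have haK : a ∈ h.semb.K := h.mem_K.mpr h.com
    have h1 : t * a * t⁻¹ ∈ h.semb.K := SEmb.conj_mem_K htM haK
    have h2 : t * a * t⁻¹ ∈ T0 h.semb (Subgroup.zpowers a) :=
      ht a ((le_sup_left : Subgroup.zpowers a ≤ _) (Subgroup.mem_zpowers a))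
    have hR : Subgroup.zpowers a ≤ h.semb.K := by
      rw [Subgroup.zpowers_le]; exact haK
    rw [mem_T0 hR] at h2
    obtain ⟨r, hr, s, hs, e⟩ := h2
    have h3 : h.semb.ι s ∈ h.semb.K := by
      have : h.semb.ι s = r⁻¹ * (t * a * t⁻¹) := by rw [← e]; group
      rw [this]
      exact h.semb.K.mul_mem (h.semb.K.inv_mem (hR hr)) h1
    have h4 : h.semb.ι s = 1 := K_L_eq_one h3 (SEmb.ι_mem_L s)
    rw [h4, mul_one] at e
    rw [mem_zp h.aa] at hr
    rcases hr with rfl | rfl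
    · apply h.a1
      have : a = t⁻¹ * (t * a * t⁻¹) * t := by group
      rw [this, ← e]; group
    · apply hta
      calc t * r = t * r * t⁻¹ * t := by group
        _ = r * t := by rw [← e]
  norm := by
    have h1 : (T0 h.semb (Subgroup.zpowers a)).map (MulAut.conj t).toMonoidHom =
        T0 h.semb (Subgroup.zpowers a) := by
      apply Subgroup.eq_of_le_of_card_ge
      · rintro _ ⟨x, hx, rfl⟩
        exact ht x hx
      · exact (Syl.card_conj _ _).ge
    intro x
    constructor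
    · exact ht x
    · intro hx
      rw [← h1] at hx
      obtain ⟨u, hu, e⟩ := hx
      have e2 : t * u * t⁻¹ = t * x * t⁻¹ := e
      have : u = x := mul_left_cancel (mul_right_cancel e2)
      rwa [← this]

end Gamma

section Main

variable {G : Type*} [Group G] [Finite G] {Γ : Type*} [Group Γ] [Finite Γ]

/-- two involutions with the same image are conjugate under the kernel -/
theorem exists_ker_conj (M : Subgroup G) (π : M →* Γ) (hodd : Odd (Nat.card π.ker)) {s t : M}
    (hs : s * s = 1) (ht : t * t = 1) (he : π s = π t) : ∃ k, π k = 1 ∧ k * s * k⁻¹ = t := by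
  have hp : ∀ u : M, u * u = 1 → IsPGroup 2 (Subgroup.zpowers u) := by
    intro u hu
    apply isPGroup_zpowers (n := 1)
    rw [pow_one, pow_two, hu]
  obtain ⟨k, hk1, hk⟩ := exists_conj π hodd (hp s hs) (hp t ht) (by
    rw [MonoidHom.map_zpowers, MonoidHom.map_zpowers, he])
  refine ⟨k, hk1, ?_⟩
  apply inj_on π hodd (hp t ht) (hk s (Subgroup.mem_zpowers s)) (Subgroup.mem_zpowers t)
  rw [map_mul, map_mul, map_inv, hk1, one_mul, inv_one, mul_one, he]

/-- `C_Γ(π a)` is the image of `C_G(a)` -/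
theorem exists_cent (M : Subgroup G) (π : M →* Γ) (hπ : Function.Surjective π)
    (hodd : Odd (Nat.card π.ker)) {a : M} (haa : a * a = 1) {y : Γ} (hy : y * π a = π a * y) :
    ∃ c : M, c * a = a * c ∧ π c = y := by
  obtain ⟨m, rfl⟩ := hπ y
  have h1 : m * a * m⁻¹ * (m * a * m⁻¹) = 1 := by
    calc m * a * m⁻¹ * (m * a * m⁻¹) = m * (a * a) * m⁻¹ := by group
      _ = 1 := by rw [haa]; group
  obtain ⟨k, hk1, hk⟩ := exists_ker_conj M π hodd h1 haa (by
    rw [map_mul, map_mul, map_inv, hy]; group)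
  refine ⟨k * m, ?_, by rw [map_mul, hk1, one_mul]⟩
  calc k * m * a = k * (m * a * m⁻¹) * k⁻¹ * (k * m) := by group
    _ = a * (k * m) := by rw [hk]

/-- **The transfer, `|Q| = 2`, with an odd core.** -/
theorem main (M : Subgroup G) (π : M →* Γ) (hπ : Function.Surjective π)
    (hodd : Odd (Nat.card π.ker)) {ι : L0 →* Γ} {a : G} (haM : a ∈ M) (haa : a * a = 1)
    (hC : ∀ x, x * a = a * x → x ∈ M) (hin : In ι (π ⟨a, haM⟩))
    {t : Γ} (hta : t * π ⟨a, haM⟩ ≠ π ⟨a, haM⟩ * t)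
    (ht : ∀ x ∈ Subgroup.zpowers (π ⟨a, haM⟩) ⊔ S0.map ι,
      t * x * t⁻¹ ∈ Subgroup.zpowers (π ⟨a, haM⟩) ⊔ S0.map ι)
    (Z : Subgroup M) (hZ : IsPGroup 2 Z) (hZm : Z.map π = Z0.map ι)
    (hcom : ∀ g : G, (∀ x ∈ Z, ∀ y ∈ Z,
      (x : G) * (g * (y : G) * g⁻¹) = g * (y : G) * g⁻¹ * (x : G)) → g ∈ M) :
    a ∉ commutator G := by
  have hcard : Nat.card (Subgroup.zpowers (π ⟨a, haM⟩)) = 2 := by
    rw [Nat.card_zpowers]
    exact orderOf_eq_prime (by rw [pow_two, hin.aa]) hin.a1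
  obtain ⟨t1, That, O, Q, U, τ, ht1K, ht1, ht11, hLoc, hU, hτ, hP⟩ :=
    OddLoc.exists_loc hin.semb _ t (hin.out hta ht) hcard
  obtain ⟨c, hc, hce⟩ := hin.exists_conj (hin.mem_K.mp ht1K) ht11 ht1
  obtain ⟨m, hm⟩ := hπ c⁻¹
  set s : G := (m : G) * a * (m : G)⁻¹ with hs
  have hsM : s ∈ M := M.mul_mem (M.mul_mem m.2 haM) (M.inv_mem m.2)
  have hsπ : π ⟨s, hsM⟩ = t1 := by
    have h1 : (⟨s, hsM⟩ : M) = m * ⟨a, haM⟩ * m⁻¹ := rfl
    rw [h1, map_mul, map_mul, map_inv, hm, ← hce]; group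
  have hss : s * s = 1 := by
    calc s * s = m * (a * a) * (m : G)⁻¹ := by rw [hs]; group
      _ = 1 := by rw [haa]; group
  have hCs : ∀ x : G, x * s = s * x → x ∈ M := by
    intro x hx
    have h1 : ((m : G)⁻¹ * x * m) * a = a * ((m : G)⁻¹ * x * m) := by
      have h2 : a = (m : G)⁻¹ * s * m := by rw [hs]; group
      rw [h2]
      calc (m : G)⁻¹ * x * m * ((m : G)⁻¹ * s * m) = (m : G)⁻¹ * (x * s) * m := by group
        _ = (m : G)⁻¹ * (s * x) * m := by rw [hx]
        _ = _ := by group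
    have h3 := hC _ h1
    have h4 : x = (m : G) * ((m : G)⁻¹ * x * m) * (m : G)⁻¹ := by group
    rw [h4]
    exact M.mul_mem (M.mul_mem m.2 h3) (M.inv_mem m.2)
  have key : s ∉ commutator G := by
    refine OddMain.notMem_commutator_of_loc M π hπ hodd hLoc hU τ hτ hP s hsM hss hsπ hCs ?_
    intro Z1 hZ1 hZ1m g hg
    obtain ⟨k, hk1, hk⟩ := exists_conj π hodd hZ hZ1 (by rw [hZ1m, hZm]; rfl)
    have h1 : (k : G)⁻¹ * g * k ∈ M := by
      apply hcom
      intro x hx y hy
      have h2 := hg _ (hk x hx) _ (hk y hy)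
      have h3 : ((k * x * k⁻¹ : M) : G) = k * x * (k : G)⁻¹ := rfl
      have h4 : ((k * y * k⁻¹ : M) : G) = k * y * (k : G)⁻¹ := rfl
      rw [h3, h4] at h2
      have h5 : (k : G) * (x * ((k : G)⁻¹ * g * k * y * ((k : G)⁻¹ * g * k)⁻¹)) * (k : G)⁻¹ =
          k * (((k : G)⁻¹ * g * k * y * ((k : G)⁻¹ * g * k)⁻¹) * x) * (k : G)⁻¹ := by
        calc (k : G) * (x * ((k : G)⁻¹ * g * k * y * ((k : G)⁻¹ * g * k)⁻¹)) * (k : G)⁻¹
            = (k : G) * x * (k : G)⁻¹ * (g * (k * y * (k : G)⁻¹) * g⁻¹) := by group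
          _ = g * (k * y * (k : G)⁻¹) * g⁻¹ * (k * x * (k : G)⁻¹) := h2
          _ = _ := by group
      exact mul_left_cancel (mul_right_cancel h5)
    have h6 : g = (k : G) * ((k : G)⁻¹ * g * k) * (k : G)⁻¹ := by group
    rw [h6]
    exact M.mul_mem (M.mul_mem k.2 h1) (M.inv_mem k.2)
  intro ha
  apply key
  rw [hs]
  exact (inferInstance : (commutator G).Normal).conj_mem a ha m

end Main

end Cfsg.Agent.UGT.L34T2.OddSEmb
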