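import Cfsg.Agent.UGT.L34T2.DblFus

/-!
# Type `L₃(4)`: the double frame without the Sylow property of `S`

`Pre` = `Dbl` without `syl`, `sylT`, `K`; used to prove that `S = T⟨t⟩` is a Sylow 2-subgroup.
-/

set_option autoImplicit false
set_option linter.unusedSectionVars false

open Subgroup

namespace Cfsg.Agent.UGT.L34T2

variable {G : Type*} [Group G]

/-- The double frame without the Sylow property. -/
structure Pre (S T P Q Z : Subgroup G) (A : Bool → Subgroup G) (a b t x : G) : Prop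
    extends Fr T P Q Z A b where
  S2 : IsPGroup 2 S
  TS : T ≤ S
  tS : t ∈ S
  tn : t ∉ T
  ST : ∀ s ∈ S, s ∈ T ∨ t⁻¹ * s ∈ T
  tT : ∀ y ∈ T, t * y * t⁻¹ ∈ T
  tP : ∀ p ∈ P, t * p * t⁻¹ ∈ Q
  tQ : ∀ q ∈ Q, t * q * t⁻¹ ∈ P
  ta : t * b * t⁻¹ = a
  tb : t * a * t⁻¹ = b
  xT : x ∈ T
  xx : x * x = 1
  xZ : ¬ ∀ z ∈ Z, x * z = z * x
  xA : ∀ i, ∀ u ∈ A i, x * u * x⁻¹ ∈ A (!i)
  Ta : ∀ y ∈ T, y * a = a * y

namespace Pre

open Dbl (cs cs_conj)

variable [Finite G] {S T P Q Z : Subgroup G} {A : Bool → Subgroup G} {a b t x : G}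

theorem t2 (h : Pre S T P Q Z A a b t x) : t * t ∈ T := by
  rcases h.ST (t * t) (S.mul_mem h.tS h.tS) with h1 | h1
  · exact h1
  · exfalso
    have e : t⁻¹ * (t * t) = t := by group
    rw [e] at h1
    exact h.tn h1

theorem cT (h : Pre S T P Q Z A a b t x) : cjg t T = T := cjg_eq_of_le h.tT le_rfl

theorem card_Q (h : Pre S T P Q Z A a b t x) : Nat.card Q = 64 := by
  have h1 : Nat.card Q ≤ Nat.card P := by
    rw [← card_cjg t Q]
    refine Subgroup.card_le_of_le ?_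
    intro w hw
    obtain ⟨z, hz, rfl⟩ := exists_of_cjg hw
    exact h.tQ z hz
  have h2 : Nat.card P ≤ Nat.card Q := by
    rw [← card_cjg t P]
    refine Subgroup.card_le_of_le ?_
    intro w hw
    obtain ⟨z, hz, rfl⟩ := exists_of_cjg hw
    exact h.tP z hz
  rw [← h.cardP]
  exact le_antisymm h1 h2

theorem cP (h : Pre S T P Q Z A a b t x) : cjg t P = Q :=
  cjg_eq_of_le h.tP (by rw [h.card_Q, h.cardP])

theorem cQ (h : Pre S T P Q Z A a b t x) : cjg t Q = P :=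
  cjg_eq_of_le h.tQ (by rw [h.card_Q, h.cardP])

theorem mem_T_conj (h : Pre S T P Q Z A a b t x) {y : G} : t * y * t⁻¹ ∈ T ↔ y ∈ T := by
  conv_lhs => rw [← h.cT]
  exact conj_mem_cjg

/-- the frame of `Q` -/
theorem fr' (h : Pre S T P Q Z A a b t x) : Fr T Q P (cjg t Z) (fun i => cjg t (A i)) a := by
  have h1 := h.toFr.cj t
  rw [h.cT, h.cP, h.cQ, h.ta] at h1
  exact h1

theorem tJ (h : Pre S T P Q Z A a b t x) {j : G} (hj : j ∈ P ⊔ Q) : t * j * t⁻¹ ∈ P ⊔ Q := by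
  obtain ⟨p, hp, q, hq, rfl⟩ := h.mem_J.mp hj
  rw [conj_mul]
  exact mul_mem (mem_sup_right (h.tP p hp)) (mem_sup_left (h.tQ q hq))

/-- an element of `S - T` is `t y`, `y ∈ T` -/
theorem exists_sw (h : Pre S T P Q Z A a b t x) {e : G} (he : e ∈ S) (hn : e ∉ T) : ∃ y ∈ T, e = t * y :=
  ⟨t⁻¹ * e, (h.ST e he).resolve_left hn, by group⟩

theorem nSJ (h : Pre S T P Q Z A a b t x) {s j : G} (hs : s ∈ S) (hj : j ∈ P ⊔ Q) : s * j * s⁻¹ ∈ P ⊔ Q := by
  by_cases hT : s ∈ T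
  · exact h.nJ hT hj
  · obtain ⟨y, hy, rfl⟩ := h.exists_sw hs hT
    have e : t * y * j * (t * y)⁻¹ = t * (y * j * y⁻¹) * t⁻¹ := by group
    rw [e]
    exact h.tJ (h.nJ hy hj)

theorem swP (h : Pre S T P Q Z A a b t x) {e p : G} (he : e ∈ S) (hn : e ∉ T) (hp : p ∈ P) :
    e * p * e⁻¹ ∈ Q := by
  obtain ⟨y, hy, rfl⟩ := h.exists_sw he hn
  have e : t * y * p * (t * y)⁻¹ = t * (y * p * y⁻¹) * t⁻¹ := by group
  rw [e]
  exact h.tP _ (h.nP y hy p hp)

theorem swQ (h : Pre S T P Q Z A a b t x) {e q : G} (he : e ∈ S) (hn : e ∉ T) (hq : q ∈ Q) :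
    e * q * e⁻¹ ∈ P := by
  obtain ⟨y, hy, rfl⟩ := h.exists_sw he hn
  have e : t * y * q * (t * y)⁻¹ = t * (y * q * y⁻¹) * t⁻¹ := by group
  rw [e]
  exact h.tQ _ (h.nQ y hy q hq)

/-- the centraliser in `P Q` of an element of `S - T` is diagonal -/
theorem cen_swap (h : Pre S T P Q Z A a b t x) {e p q : G} (he : e ∈ S) (hn : e ∉ T) (hp : p ∈ P) (hq : q ∈ Q)
    (hc : e * (p * q) = p * q * e) : q = e * p * e⁻¹ ∧ p = e * q * e⁻¹ := by
  have e1 : (e * q * e⁻¹) * (e * p * e⁻¹) = p * q := by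
    rw [h.comm _ (h.swQ he hn hq) _ (h.swP he hn hp), ← conj_mul, hc]
    group
  obtain ⟨e2, e3⟩ := h.uniq (h.swQ he hn hq) hp (h.swP he hn hp) hq e1
  exact ⟨e3.symm, e2.symm⟩

theorem card_PQ (h : Pre S T P Q Z A a b t x) : Nat.card (P ⊔ Q : Subgroup G) = 4096 := by
  rw [h.card_J, h.card_Q]

theorem JleS (h : Pre S T P Q Z A a b t x) : P ⊔ Q ≤ S := h.JT.trans h.TS

theorem relIndex_TS (h : Pre S T P Q Z A a b t x) : T.relIndex S ≤ 2 := by
  classical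
  let φ : (↥S ⧸ T.subgroupOf S) → Bool := fun q => decide ((q.out : G) ∈ T)
  have hφ : Function.Injective φ := by
    intro q q' e
    simp only [φ, decide_eq_decide] at e
    rw [← Quotient.out_eq q, ← Quotient.out_eq q']
    refine QuotientGroup.eq.mpr ?_
    rw [mem_subgroupOf]
    change (q.out : G)⁻¹ * (q'.out : G) ∈ T
    by_cases h1 : (q.out : G) ∈ T
    · exact T.mul_mem (T.inv_mem h1) (e.mp h1)
    · obtain ⟨y, hy, e1⟩ := h.exists_sw q.out.2 h1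
      obtain ⟨y', hy', e2⟩ := h.exists_sw q'.out.2 (fun h2 => h1 (e.mpr h2))
      rw [e1, e2]
      have e3 : (t * y)⁻¹ * (t * y') = y⁻¹ * y' := by group
      rw [e3]
      exact T.mul_mem (T.inv_mem hy) hy'
  have := Nat.card_le_card_of_injective φ hφ
  have e2 : Nat.card Bool = 2 := by simp
  rw [e2] at this
  exact this

theorem relIndex_S (h : Pre S T P Q Z A a b t x) : (P ⊔ Q).relIndex S ≤ 8 := by
  have h1 := Subgroup.relIndex_mul_relIndex (P ⊔ Q) T S h.JT h.TS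
  have h2 := h.relIndex_le
  have h3 := h.relIndex_TS
  rw [← h1]
  calc (P ⊔ Q).relIndex T * T.relIndex S ≤ 4 * 2 := Nat.mul_le_mul h2 h3
    _ = 8 := rfl

/-- an elementary abelian subgroup of `S` of order at least 256 lies in `J` -/
theorem elem_le (h : Pre S T P Q Z A a b t x) {E : Subgroup G} (hE : E ≤ S) (hsq : ∀ u ∈ E, u * u = 1)
    (h256 : 256 ≤ Nat.card E) : E ≤ P ⊔ Q := by
  have hcomm : ∀ u ∈ E, ∀ v ∈ E, u * v = v * u := by
    intro u hu v hv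
    have h1 := hsq _ (E.mul_mem hu hv)
    have h2 := hsq u hu
    have h3 := hsq v hv
    calc u * v = u * (u * v * (u * v)) * v := by rw [h1, mul_one]
      _ = (u * u) * (v * u) * (v * v) := by group
      _ = v * u := by rw [h2, h3, one_mul, mul_one]
  intro e he
  by_contra hne
  have hprP : ∀ u ∈ prj P Q (E ⊓ (P ⊔ Q)) h.comm, u * u = 1 := by
    rintro u ⟨hu, q, hq, h1⟩
    exact (h.sq_of_sq hu hq (hsq _ (mem_inf.mp h1).1)).1
  have hprQ : ∀ u ∈ prj Q P (E ⊓ (P ⊔ Q)) (fun q hq p hp => (h.comm p hp q hq).symm), u * u = 1 := by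
    intro u hu
    obtain ⟨hu, p, hp, h1⟩ := h.mem_prj'.mp hu
    exact (h.sq_of_sq hp hu (hsq _ (mem_inf.mp h1).1)).2
  by_cases hET : E ≤ T
  · -- `|E ∩ J| ≥ 64`, and `≤ 16`
    have h1 := card_le_inf_mul hET h.relIndex_le
    have heT := hET he
    have hee := hsq e he
    have hJe : ∀ p ∈ P, ∀ q ∈ Q, p * q ∈ E → e * p = p * e ∧ e * q = q * e := by
      intro p hp q hq hpq
      exact (h.cen_J heT hp hq).mp (hcomm e he _ hpq)
    have h2 : Nat.card (prj P Q (E ⊓ (P ⊔ Q)) h.comm) ≤ 4 := by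
      refine h.card_elem_cen_le heT (by rw [hee]; exact Q.one_mem) ?_ (fun u hu => hu.1) ?_ hprP
      · rintro ⟨p, hp, q, hq, e1⟩
        exact hne (h.mem_J.mpr ⟨p, hp, q, hq, e1⟩)
      · rintro u ⟨hu, q, hq, h1⟩
        exact (hJe u hu q hq (mem_inf.mp h1).1).1
    have h3 : Nat.card (prj Q P (E ⊓ (P ⊔ Q)) (fun q hq p hp => (h.comm p hp q hq).symm)) ≤ 4 := by
      refine h.fr'.card_elem_cen_le heT (by rw [hee]; exact P.one_mem) ?_ (fun u hu => hu.1) ?_ hprQ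
      · rintro ⟨q, hq, p, hp, e1⟩
        exact hne (h.mem_J.mpr ⟨p, hp, q, hq, by rw [e1, h.comm p hp q hq]⟩)
      · intro u hu
        obtain ⟨hu, p, hp, h1⟩ := h.mem_prj'.mp hu
        exact (hJe p hp u hu (mem_inf.mp h1).1).2
    have h4 := h.card_le_prj (E := E ⊓ (P ⊔ Q)) inf_le_right
    have h5 := Nat.mul_le_mul h2 h3
    omega
  · -- a swap
    obtain ⟨s, hs, hsT⟩ := SetLike.not_le_iff_exists.mp hET
    have h1 := card_le_inf_mul hE h.relIndex_S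
    have h2 : Nat.card (prj P Q (E ⊓ (P ⊔ Q)) h.comm) ≤ 16 :=
      h.toHeis.card_elem_le (fun u hu => hu.1) hprP
    have h3 : Nat.card (E ⊓ (P ⊔ Q) : Subgroup G) ≤ Nat.card (prj P Q (E ⊓ (P ⊔ Q)) h.comm) := by
      have hex : ∀ j : (E ⊓ (P ⊔ Q) : Subgroup G), ∃ u : prj P Q (E ⊓ (P ⊔ Q)) h.comm,
          (j : G) = u * (s * u * s⁻¹) := by
        rintro ⟨j, hj⟩
        obtain ⟨p, hp, q, hq, rfl⟩ := h.mem_J.mp (mem_inf.mp hj).2
        have e1 := h.cen_swap (hE hs) hsT hp hq (hcomm s hs _ (mem_inf.mp hj).1)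
        refine ⟨⟨p, hp, q, hq, hj⟩, ?_⟩
        change p * q = p * (s * p * s⁻¹)
        rw [← e1.1]
      choose φ hφ using hex
      refine Nat.card_le_card_of_injective φ ?_
      intro j j' e
      exact Subtype.ext (by rw [hφ j, hφ j', e])
    omega

theorem cA (h : Pre S T P Q Z A a b t x) (i : Bool) : cjg t (A i) ≤ Q := h.fr'.AP i

/-- the elementary abelian groups `A i × (A j)^t` of order 256 -/
theorem card_AA (h : Pre S T P Q Z A a b t x) (i j : Bool) :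
    Nat.card (A i ⊔ cjg t (A j) : Subgroup G) = 256 := by
  have hmem : ∀ y, y ∈ A i ⊔ cjg t (A j) ↔ ∃ u ∈ A i, ∃ v ∈ cjg t (A j), y = u * v := by
    intro y
    constructor
    · intro hy
      rw [sup_eq_closure] at hy
      induction hy using closure_induction with
      | mem u hu =>
        rcases hu with hu | hu
        · exact ⟨u, hu, 1, one_mem _, by group⟩
        · exact ⟨1, one_mem _, u, hu, by group⟩
      | one => exact ⟨1, one_mem _, 1, one_mem _, by group⟩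
      | mul u v _ _ iu iv =>
        obtain ⟨p, hp, q, hq, rfl⟩ := iu
        obtain ⟨p', hp', q', hq', rfl⟩ := iv
        refine ⟨p * p', mul_mem hp hp', q * q', mul_mem hq hq', ?_⟩
        have e := h.comm p' (h.AP _ hp') q (h.cA _ hq)
        calc p * q * (p' * q') = p * (q * p') * q' := by group
          _ = p * (p' * q) * q' := by rw [e]
          _ = _ := by group
      | inv u _ iu =>
        obtain ⟨p, hp, q, hq, rfl⟩ := iu
        refine ⟨p⁻¹, inv_mem hp, q⁻¹, inv_mem hq, ?_⟩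
        rw [← mul_inv_rev, ← h.comm p (h.AP _ hp) q (h.cA _ hq)]
    · rintro ⟨u, hu, v, hv, rfl⟩
      exact mul_mem (mem_sup_left hu) (mem_sup_right hv)
  have h1 : Nat.card (A i) * Nat.card (cjg t (A j)) = 256 := by
    rw [card_cjg, h.cardA, h.cardA]
  rw [← h1, ← Nat.card_prod]
  refine (Nat.card_congr (Equiv.ofBijective (fun u : A i × cjg t (A j) => (⟨u.1 * u.2, (hmem _).mpr
    ⟨_, u.1.2, _, u.2.2, rfl⟩⟩ : (A i ⊔ cjg t (A j) : Subgroup G))) ⟨?_, ?_⟩)).symm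
  · rintro ⟨p, q⟩ ⟨p', q'⟩ e
    have e' := Subtype.ext_iff.mp e
    obtain ⟨e1, e2⟩ := h.uniq (h.AP _ p.2) (h.AP _ p'.2) (h.cA _ q.2) (h.cA _ q'.2) e'
    exact Prod.ext (Subtype.ext e1) (Subtype.ext e2)
  · rintro ⟨j, hj⟩
    obtain ⟨p, hp, q, hq, rfl⟩ := (hmem j).mp hj
    exact ⟨(⟨p, hp⟩, ⟨q, hq⟩), rfl⟩

theorem AA_sq (h : Pre S T P Q Z A a b t x) (i j : Bool) : ∀ y ∈ (A i ⊔ cjg t (A j) : Subgroup G), y * y = 1 := by
  intro y hy
  rw [sup_eq_closure] at hy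
  have : y * y = 1 ∧ ∃ u ∈ A i, ∃ v ∈ cjg t (A j), y = u * v := by
    induction hy using closure_induction with
    | mem u hu =>
      rcases hu with hu | hu
      · exact ⟨h.Asq i u hu, u, hu, 1, one_mem _, by group⟩
      · exact ⟨h.fr'.Asq j u hu, 1, one_mem _, u, hu, by group⟩
    | one => exact ⟨by group, 1, one_mem _, 1, one_mem _, by group⟩
    | mul u v _ _ iu iv =>
      obtain ⟨-, p, hp, q, hq, rfl⟩ := iu
      obtain ⟨-, p', hp', q', hq', rfl⟩ := iv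
      have e := h.comm p' (h.AP _ hp') q (h.cA _ hq)
      have e0 : p * q * (p' * q') = p * p' * (q * q') := by
        calc p * q * (p' * q') = p * (q * p') * q' := by group
          _ = p * (p' * q) * q' := by rw [e]
          _ = _ := by group
      refine ⟨?_, p * p', mul_mem hp hp', q * q', mul_mem hq hq', e0⟩
      have e1 := h.comm (p * p') (h.AP _ (mul_mem hp hp')) (q * q') (h.cA _ (mul_mem hq hq'))
      rw [e0]
      calc p * p' * (q * q') * (p * p' * (q * q')) = p * p' * (q * q' * (p * p')) * (q * q') := by group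
        _ = p * p' * (p * p' * (q * q')) * (q * q') := by rw [e1]
        _ = (p * p' * (p * p')) * (q * q' * (q * q')) := by group
        _ = 1 := by rw [h.Asq i _ (mul_mem hp hp'), h.fr'.Asq j _ (mul_mem hq hq'), mul_one]
    | inv u _ iu =>
      obtain ⟨e, p, hp, q, hq, rfl⟩ := iu
      refine ⟨?_, p⁻¹, inv_mem hp, q⁻¹, inv_mem hq, ?_⟩
      · rw [← mul_inv_rev, e, inv_one]
      · rw [← mul_inv_rev, ← h.comm p (h.AP _ hp) q (h.cA _ hq)]
  exact this.1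

theorem P_le_of (h : Pre S T P Q Z A a b t x) {R : Subgroup G} (hR : ∀ i j, A i ⊔ cjg t (A j) ≤ R) :
    P ⊔ Q ≤ R := by
  refine sup_le ?_ ?_
  · intro p hp
    obtain ⟨u, hu, v, hv, rfl⟩ := h.sup p hp
    exact R.mul_mem (hR false false (mem_sup_left hu)) (hR true false (mem_sup_left hv))
  · intro p hp
    obtain ⟨u, hu, v, hv, rfl⟩ := h.fr'.sup p hp
    exact R.mul_mem (hR false false (mem_sup_right hu)) (hR false true (mem_sup_right hv))

theorem cjg_eq_of_le_S (h : Pre S T P Q Z A a b t x) {g : G} (hg : cjg g (P ⊔ Q) ≤ S) :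
    cjg g (P ⊔ Q) = P ⊔ Q := by
  have h1 : ∀ i j, A i ⊔ cjg t (A j) ≤ cjg g⁻¹ (P ⊔ Q) := by
    intro i j
    have h2 : cjg g (A i ⊔ cjg t (A j)) ≤ P ⊔ Q := by
      refine h.elem_le ?_ ?_ ?_
      · exact (cjg_mono (sup_le_sup (h.AP i) (h.cA j))).trans hg
      · intro u hu
        obtain ⟨v, hv, rfl⟩ := exists_of_cjg hu
        rw [← conj_mul, h.AA_sq i j v hv]
        group
      · rw [card_cjg, h.card_AA]
    intro u hu
    rw [mem_cjg, inv_inv]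
    exact h2 (conj_mem_cjg.mpr hu)
  have h3 := h.P_le_of h1
  have h4 : cjg g (P ⊔ Q) ≤ P ⊔ Q := by
    intro u hu
    obtain ⟨v, hv, rfl⟩ := exists_of_cjg hu
    have := h3 hv
    rwa [mem_cjg, inv_inv] at this
  exact Subgroup.eq_of_le_of_card_ge h4 (by rw [card_cjg])

theorem comm_mul (h : Pre S T P Q Z A a b t x) {p p' q q' : G} (hp : p ∈ P) (hp' : p' ∈ P) (hq : q ∈ Q)
    (hq' : q' ∈ Q) : (p * q) * (p' * q') * (p * q)⁻¹ * (p' * q')⁻¹ =
      (p * p' * p⁻¹ * p'⁻¹) * (q * q' * q⁻¹ * q'⁻¹) := by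
  have e1 := h.comm p' hp' q hq
  have e2 := h.comm p⁻¹ (P.inv_mem hp) (q * q' * q⁻¹) (Q.mul_mem (Q.mul_mem hq hq') (Q.inv_mem hq))
  have e3 := h.comm p'⁻¹ (P.inv_mem hp') (q * q' * q⁻¹ * q'⁻¹)
    (Q.mul_mem (Q.mul_mem (Q.mul_mem hq hq') (Q.inv_mem hq)) (Q.inv_mem hq'))
  calc (p * q) * (p' * q') * (p * q)⁻¹ * (p' * q')⁻¹
      = p * (q * p') * q' * q⁻¹ * p⁻¹ * q'⁻¹ * p'⁻¹ := by group
    _ = p * (p' * q) * q' * q⁻¹ * p⁻¹ * q'⁻¹ * p'⁻¹ := by rw [e1]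
    _ = p * p' * ((q * q' * q⁻¹) * p⁻¹) * q'⁻¹ * p'⁻¹ := by group
    _ = p * p' * (p⁻¹ * (q * q' * q⁻¹)) * q'⁻¹ * p'⁻¹ := by rw [e2]
    _ = p * p' * p⁻¹ * ((q * q' * q⁻¹ * q'⁻¹) * p'⁻¹) := by group
    _ = p * p' * p⁻¹ * (p'⁻¹ * (q * q' * q⁻¹ * q'⁻¹)) := by rw [e3]
    _ = _ := by group

/-- an element of `J` with at most four commutators with `J` has a trivial part modulo the centre -/
theorem ncard_cs (h : Pre S T P Q Z A a b t x) {p q : G} (hp : p ∈ P) (hq : q ∈ Q)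
    (hc : (cs P Q (p * q)).ncard ≤ 4) : p ∈ Z ∨ q ∈ cjg t Z := by
  by_contra hcon
  push Not at hcon
  have h1 : ∀ u : Z × cjg t Z, (u.1 : G) * u.2 ∈ cs P Q (p * q) := by
    rintro ⟨⟨z, hz⟩, ⟨z', hz'⟩⟩
    obtain ⟨r, hr, e⟩ := h.surj p hp hcon.1 z hz
    obtain ⟨r', hr', e'⟩ := h.fr'.surj q hq hcon.2 z' hz'
    refine ⟨r * r', mul_mem (mem_sup_left hr) (mem_sup_right hr'), ?_⟩
    rw [h.comm_mul hp hr hq hr', e, e']
  have h2 : Nat.card (Z × cjg t Z) ≤ Nat.card (cs P Q (p * q)) := by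
    refine Nat.card_le_card_of_injective
      (fun u : Z × cjg t Z => (⟨(u.1 : G) * u.2, h1 u⟩ : cs P Q (p * q))) ?_
    rintro ⟨u, v⟩ ⟨u', v'⟩ e
    have e' := Subtype.ext_iff.mp e
    obtain ⟨e1, e2⟩ := h.uniq (h.ZP u.2) (h.ZP u'.2) (h.fr'.ZP v.2) (h.fr'.ZP v'.2) e'
    exact Prod.ext (Subtype.ext e1) (Subtype.ext e2)
  rw [Nat.card_prod, card_cjg, h.cardZ] at h2
  have h3 : Nat.card (cs P Q (p * q)) = (cs P Q (p * q)).ncard := rfl
  omega

theorem cs_of_P (h : Pre S T P Q Z A a b t x) {p : G} (hp : p ∈ P) : cs P Q p ⊆ Z := by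
  rintro w ⟨j, hj, rfl⟩
  obtain ⟨p', hp', q', hq', rfl⟩ := h.mem_J.mp hj
  have := h.comm_mul hp hp' Q.one_mem hq'
  have e : p * 1 = p := mul_one p
  rw [e] at this
  rw [this]
  have e2 : (1 : G) * q' * 1⁻¹ * q'⁻¹ = 1 := by group
  rw [e2, mul_one]
  exact h.com p hp p' hp'

/-- `N(J)` normalises the set `Z ∪ Z'`: elements of `Z` go to `Z` or `Z'` -/
theorem perm (h : Pre S T P Q Z A a b t x) {n z : G} (hn : cjg n (P ⊔ Q) = P ⊔ Q) (hz : z ∈ Z) :
    n * z * n⁻¹ ∈ Z ∨ n * z * n⁻¹ ∈ cjg t Z := by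
  obtain ⟨p, hp, hpZ⟩ := h.exists_not_mem false
  have hpP := h.AP _ hp
  obtain ⟨r, hr, e⟩ := h.surj p hpP hpZ z hz
  have h1 : n * p * n⁻¹ ∈ P ⊔ Q := by
    rw [← hn]; exact conj_mem_cjg.mpr (mem_sup_left hpP)
  obtain ⟨p', hp', q', hq', e1⟩ := h.mem_J.mp h1
  have h2 : (cs P Q (n * p * n⁻¹)).ncard ≤ 4 := by
    rw [cs_conj hn]
    refine (Set.ncard_image_le (Set.toFinite _)).trans ?_
    refine (Set.ncard_le_ncard (h.cs_of_P hpP) (Set.toFinite _)).trans ?_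
    exact h.cardZ.le
  have h3 : n * z * n⁻¹ ∈ cs P Q (n * p * n⁻¹) := by
    rw [cs_conj hn]
    exact ⟨z, ⟨r, mem_sup_left hr, e.symm⟩, rfl⟩
  rw [e1] at h2 h3
  obtain ⟨j, hj, e2⟩ := h3
  obtain ⟨p'', hp'', q'', hq'', rfl⟩ := h.mem_J.mp hj
  rw [h.comm_mul hp' hp'' hq' hq''] at e2
  rcases h.ncard_cs hp' hq' h2 with h4 | h4
  · right
    have e3 : p' * p'' * p'⁻¹ * p''⁻¹ = 1 := by
      rw [← h.Zcen p' h4 p'' hp'']; group
    rw [e2, e3, one_mul]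
    exact h.fr'.com q' hq' q'' hq''
  · left
    have e3 : q' * q'' * q'⁻¹ * q''⁻¹ = 1 := by
      rw [← h.fr'.Zcen q' h4 q'' hq'']; group
    rw [e2, e3, mul_one]
    exact h.com p' hp' p'' hp''

end Pre

end Cfsg.Agent.UGT.L34T2
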