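import Cfsg.Agent.UGT.LTF.KF2
import Cfsg.Agent.UGT.LTF.KFA
import Cfsg.Agent.UAlt.Bij

/-!
# Facts on `L₂(q)`, `Aₙ` for the switch

* `alt_small`: `D = Aₙ`, `OddC ξ E`: `|E| ≤ 3`.
* `l2_out`, `l2_cyc`: `D = L₂(q)`: elements of odd order inverted by an automorphism are inner, odd subgroups of
  `C_D(ξ)` normalized by `C_D(ξ)` are cyclic, `ξ` any involution.
-/

set_option autoImplicit false

open Cfsg Subgroup Equiv Equiv.Perm
open Cfsg.Agent.UAlt
open Cfsg.Agent.SignalizersComponents Cfsg.Agent.Lib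
open Cfsg.Agent.SignalizersComponents.IntrinsicBasic
open Cfsg.Agent.Intrinsic.Basic
open Cfsg.Agent.GH.L2Aut Cfsg.Agent.Lib.SL2Mat
open Cfsg.Agent.UGT.Iface (IsAltOdd IsL2)
open Cfsg.Agent.UGT.LTF Cfsg.Agent.UGT.LTF.Defs

namespace Cfsg.Agent.UGT.L34T2.SwitchK

universe u

/-- `|E| ≤ 3` -/
theorem alt_small {D : Type*} [Group D] (hD : IsAltOdd D) {ξ : MulAut D} (hξ : ξ * ξ = 1)
    {E : Subgroup (MulAut D)} (hE : OddC ξ E) : Nat.card E ≤ 3 := by
  obtain ⟨n, hn, h7, ⟨e0⟩⟩ := hD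
  obtain ⟨ε, χ, hε, hr, hχ, hconj, hχi⟩ := KFA.exists_hom h7 e0
  obtain ⟨σ, hσ⟩ : ∃ σ, σ = χ ξ := ⟨_, rfl⟩
  have hσσ : σ * σ = 1 := by rw [hσ, ← map_mul, hξ, map_one]
  have hσS : σ ∈ sym (Finset.univ : Finset (Fin n)) := by rw [sym_univ]; trivial
  have hodd : Odd (Nat.card (E.map χ)) := by
    rw [Subgroup.card_map_of_injective hχi]; exact hE.odd
  have hcomm : ∀ d, ε d * σ = σ * ε d → ξ d = d := by
    intro d h
    apply hε
    rw [hχ, ← hσ, ← h, mul_inv_cancel_right]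
  have hle : E.map χ ≤ core (alt (Finset.univ : Finset (Fin n)) ⊓
      centralizer ({σ} : Set (Perm (Fin n)))) := by
    have key : ∀ g ∈ alt (Finset.univ : Finset (Fin n)) ⊓ centralizer ({σ} : Set (Perm (Fin n))),
        ∀ f ∈ E.map χ, g * f * g⁻¹ ∈ E.map χ := by
      rintro g ⟨hg, hgσ⟩ _ ⟨f, hf, rfl⟩
      rw [alt_univ] at hg
      obtain ⟨d, rfl⟩ := (hr g).mp hg
      refine ⟨_, hE.nor d (hcomm d (mem_centralizer_singleton_iff.mp hgσ)) f hf, ?_⟩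
      rw [map_mul, map_mul, map_inv, hconj]
    refine le_core ?_ ?_ hodd
    · intro g hg
      refine ⟨?_, ?_⟩
      · rw [alt_univ]; exact Mod.even_of_odd hodd hg
      · obtain ⟨f, hf, rfl⟩ := hg
        refine mem_centralizer_singleton_iff.mpr ?_
        rw [hσ, ← map_mul, hE.com f hf, map_mul]
    · intro g hg
      rw [mem_normalizer_iff]
      intro f
      refine ⟨key g hg f, fun h => ?_⟩
      have h1 := key g⁻¹ (inv_mem hg) _ h
      convert h1 using 1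
      group
  rw [← Subgroup.card_map_of_injective hχi]
  by_cases h3 : (fixIn (Finset.univ : Finset (Fin n)) σ).card = 3
  · have h4 : E.map χ ≤ alt (fixIn (Finset.univ : Finset (Fin n)) σ) :=
      hle.trans (core_cent_le hσS hσσ)
    have h5 := Nat.le_of_dvd Nat.card_pos (card_dvd_of_le h4)
    have h6 := card_alt (S := fixIn (Finset.univ : Finset (Fin n)) σ) (by omega)
    rw [h3] at h6
    have h7 : (3).factorial = 6 := rfl
    omega
  · rw [core_cent hσS hσσ h3, le_bot_iff] at hle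
    rw [hle, card_bot]
    omega

section rep

variable {F : Type*} [Field F] [Finite F] {L : Type*} [Group L] (R : Cfsg.Agent.GH.L2Aut.Rep F L)

include R in
theorem out_rep {α β : MulAut L} (hβ : Odd (orderOf β)) (hab : α * β * α⁻¹ = β⁻¹) :
    ∃ l, β = MulAut.conj l := by
  have h1 : R.fld β = 1 := by
    have h2 : R.fld β * R.fld β = 1 := by
      have h3 := congrArg R.fld hab
      rw [map_mul, map_mul, map_inv, map_inv] at h3
      have h4 : R.fld α * R.fld β = R.fld β * R.fld α := Cfsg.Agent.Lib.AutSL2Out.ringEquiv_comm _ _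
      rw [h4, mul_inv_cancel_right] at h3
      exact mul_eq_one_iff_eq_inv.2 h3
    have h5 : R.fld β ∈ (⊥ : Subgroup (F ≃+* F)) :=
      KF2.mem_of_sq (Odd.of_dvd_nat hβ (orderOf_map_dvd _ _)) (by rw [h2]; exact one_mem _)
    exact mem_bot.1 h5
  have h2 : R.o1 β = 1 := by
    have h5 : R.o1 β ∈ (⊥ : Subgroup ℤˣ) :=
      KF2.mem_of_sq (Odd.of_dvd_nat hβ (orderOf_map_dvd _ _)) (by
        rw [Int.units_mul_self]; exact one_mem _)
    exact mem_bot.1 h5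
  obtain ⟨l, hl⟩ := R.mem_inn_iff.2 ⟨h1, h2⟩
  exact ⟨l, hl.symm⟩

include R in
theorem cyc_rep {ξ : MulAut L} (hξ : ξ * ξ = 1) (h1 : ξ ≠ 1) {E : Subgroup L}
    (hE : Odd (Nat.card E)) (hc : ∀ e ∈ E, ξ e = e)
    (hn : ∀ l, ξ l = l → ∀ e ∈ E, l * e * l⁻¹ ∈ E) : IsCyclic E := by
  by_cases hf : R.fld ξ = 1
  · obtain ⟨g, rfl⟩ := R.mem_PGL.1 (R.mem_PGL_iff_fld.2 hf)
    have hT := KF2.cyclic_tor R (R.tr_of_inv h1 hξ) (R.not_scalar_of_ne h1)
    exact Subgroup.isCyclic_of_le (KF2.le_tor R hE hc)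
  · rw [KF2.field_bot R hξ hf hE hc hn]
    infer_instance

end rep

theorem l2_out {D : Type*} [Group D] (hD : IsL2 D) {α β : MulAut D} (hβ : Odd (orderOf β))
    (hab : α * β * α⁻¹ = β⁻¹) : ∃ l, β = MulAut.conj l := by
  obtain ⟨F, _, _, hodd, -, ⟨e⟩⟩ := hD
  exact out_rep (Rep.ofEquiv (two_ne_zero_of_odd hodd) e) hβ hab

theorem l2_cyc {D : Type*} [Group D] (hD : IsL2 D) {ξ : MulAut D} (hξ : ξ * ξ = 1) (h1 : ξ ≠ 1)
    {E : Subgroup D} (hE : Odd (Nat.card E)) (hc : ∀ e ∈ E, ξ e = e)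
    (hn : ∀ l, ξ l = l → ∀ e ∈ E, l * e * l⁻¹ ∈ E) : IsCyclic E := by
  obtain ⟨F, _, _, hodd, -, ⟨e⟩⟩ := hD
  exact cyc_rep (Rep.ofEquiv (two_ne_zero_of_odd hodd) e) hξ h1 hE hc hn

end Cfsg.Agent.UGT.L34T2.SwitchK
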