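import Cfsg.Agent.UGT.LTF.EightF
import Cfsg.Agent.UGT.L34T2.SwitchK

/-!
# `L₃(4)`-triples `(x, a, L)`: `O(C(x)) ∩ C(a) = O(C_L(x))`

The lemmas of `LTF.Basics`, `LTF.Comp` under the hypotheses `Pre`: `C(a)` core-free, the components of `C(a)` moved by
`O(C(x))` are simple, `a` is the only involution of `C_K(x)`, `K = C(a) ∩ C(L)`.
-/

set_option autoImplicit false

open Cfsg Subgroup
open Cfsg.Agent.SignalizersComponents Cfsg.Agent.Lib
open Cfsg.Agent.SignalizersComponents.IntrinsicBasic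
open Cfsg.Agent.SignalizersComponents.IntrinsicIntr
open Cfsg.Agent.SignalizersComponents.PLayerAut
open Cfsg.Agent.Intrinsic.Basic Cfsg.Agent.Intrinsic.Cen Cfsg.Agent.Intrinsic.Diag
open Cfsg.Agent.McLLyComp.Act
open Cfsg.Agent.UGT.Triple Cfsg.Agent.UGT.TriBase Cfsg.Agent.UGT.Res.Base
open Cfsg.Agent.UGT.Iface (Bar IsL2 IsL34 IsAltOdd)
open Cfsg.Agent.UGT.LTF.Defs
open Cfsg.Agent.UGT.LTF.Basics (comm_of_fixes fixes_of_comm center_of_bar mk_inj act_fix act_fix'
  core_of_comp comm_of_ne comp_cj img mem_img img_ne oddC exists_inv isPGroup_zpowers)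
open Cfsg.Agent.UGT.LTF.Comp (act_sq ft_of_triple center_of_ft center_typ pow_three pow_three'
  sq_bar ne_bar)
open scoped commutatorElement

namespace Cfsg.Agent.UGT.L34T2.Pre34

universe u

/-- the hypotheses -/
structure Pre {G : Type u} [Group G] (x a b : G) (L : Subgroup G) : Prop where
  T : IsTriple x a L
  l34 : IsL34 (Bar L)
  ca : core (centralizer ({a} : Set G)) = ⊥
  typ : ∀ J, IsTriple x a J → IsL2 (Bar J) ∨ IsAltOdd (Bar J) ∨ IsL34 (Bar J)
  /-- `a` is the only involution of `C_K(x)`, `K = C(a) ∩ C(L)` -/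
  uniq : ∀ k, k * a = a * k → Fixes k L → k * k = 1 → k ≠ 1 → k * x = x * k → k = a
  bL : b ∈ L
  b2 : orderOf b = 2
  bx : b * x = x * b

variable {G : Type u} [Group G] [Finite G] {x a b : G} {L : Subgroup G}

theorem Pre.cL (h : Pre x a b L) : core L = ⊥ := core_of_comp h.T.comp h.ca

/-- **(6)** a component of `C(a)` with trivial centre is `L` -/
theorem lone (h : Pre x a b L) {N : Subgroup G} (hN : IsComp (centralizer ({a} : Set G)) N)
    (hs : ∀ z ∈ N, (∀ n ∈ N, z * n = n * z) → z = 1) : N = L := by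
  by_contra hne
  have hc := h.ca
  have hxa : x ∈ centralizer ({a} : Set G) := mem_c h.T.comm.symm
  have hxx := sq_of_order h.T.invx
  have hxi : x⁻¹ = x := inv_eq_of_mul_eq_one_left hxx
  have hNx := comp_cj hN hxa
  have hxL : cj x L = L := mem_normalizer_iff_cj.mp h.T.x_mem
  have hneX : cj x N ≠ L := by
    intro h1
    apply hne
    apply cj_injective x
    rw [h1, hxL]
  have hfix : ∀ k, k ∈ N ∨ k ∈ cj x N → Fixes k L := by
    rintro k (hk | hk)
    · exact h.T.comp.fixes_of_mem hN (Ne.symm hne) hk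
    · exact h.T.comp.fixes_of_mem hNx (Ne.symm hneX) hk
  rcases eq_or_ne (cj x N) N with heq | hneq
  · obtain ⟨e, he, ho, hce⟩ := exists_inv (isPGroup_zpowers h.T.invx)
      (zpowers_le.mpr (mem_normalizer_iff_cj.mpr heq)) hN.even
    have h1 : e = a := by
      refine h.uniq e (comm_c (hN.le he)) (hfix e (Or.inl he)) (sq_of_order ho)
        (ne_one_of_order ho) (hce x (mem_zpowers x)).symm
    have h2 : e = 1 := hs e he fun n hn => by
      rw [h1]
      exact (comm_c (hN.le hn)).symm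
    exact ne_one_of_order ho h2
  · obtain ⟨i, hi, ho, -⟩ := exists_inv (T := ⊥) (N := N)
      (IsPGroup.of_bot) bot_le hN.even
    have hi2 := sq_of_order ho
    have hcomm : ∀ n ∈ N, ∀ m ∈ cj x N, n * m = m * n := fun n hn m hm =>
      comm_of_ne hN hNx hc (Ne.symm hneq) hn hm
    have hix : x * i * x⁻¹ ∈ cj x N := conj_mem_cj hi
    have hci := hcomm i hi _ hix
    have h1 : i * (x * i * x⁻¹) = a := by
      refine h.uniq _ ?_ ?_ ?_ ?_ ?_
      · exact comm_c (mul_mem (hN.le hi) (hNx.le hix))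
      · exact fixes_mul (hfix _ (Or.inl hi)) (hfix _ (Or.inr hix))
      · calc i * (x * i * x⁻¹) * (i * (x * i * x⁻¹)) = i * (x * i * x⁻¹ * i) * (x * i * x⁻¹) := by
              group
          _ = i * (i * (x * i * x⁻¹)) * (x * i * x⁻¹) := by rw [hci]
          _ = (i * i) * (x * (i * i) * x⁻¹) := by group
          _ = 1 := by rw [hi2]; group
      · intro h1
        have h3 : i = x * i * x⁻¹ := by
          calc i = (x * i * x⁻¹)⁻¹ := eq_inv_of_mul_eq_one_left h1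
            _ = x * i⁻¹ * x⁻¹ := by group
            _ = _ := by rw [inv_eq_of_mul_eq_one_left hi2]
        apply ne_one_of_order ho
        apply hs i hi
        intro n hn
        have h4 : i ∈ cj x N := h3 ▸ hix
        exact (hcomm n hn i h4).symm
      · rw [hxi]
        calc i * (x * i * x) * x = i * (x * i) * (x * x) := by group
          _ = i * (x * i) := by rw [hxx, mul_one]
          _ = (x * x) * (i * (x * i)) := by rw [hxx, one_mul]
          _ = x * ((x * i * x) * i) := by group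
          _ = x * ((x * i * x⁻¹) * i) := by rw [hxi]
          _ = x * (i * (x * i * x⁻¹)) := by rw [hci]
          _ = _ := by rw [hxi]
    apply ne_one_of_order ho
    apply hs i hi
    intro n hn
    have h2 : a * n = n * a := (comm_c (hN.le hn)).symm
    have h3 := hcomm n hn _ hix
    rw [← h1] at h2
    have h4 : i * n * (x * i * x⁻¹) = n * i * (x * i * x⁻¹) := by
      calc i * n * (x * i * x⁻¹) = i * (n * (x * i * x⁻¹)) := by group
        _ = i * ((x * i * x⁻¹) * n) := by rw [h3]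
        _ = i * (x * i * x⁻¹) * n := by group
        _ = n * (i * (x * i * x⁻¹)) := h2
        _ = _ := by group
    exact mul_right_cancel h4

theorem ft (kf : KF34.{u}) (h : Pre x a b L) : FT (act L ⟨x, h.T.x_mem⟩) :=
  ft_of_triple kf h.T (h.cL) h.l34

theorem center_L (kf : KF34.{u}) (h : Pre x a b L) :
    ∀ z ∈ L, (∀ l ∈ L, z * l = l * z) → z = 1 :=
  center_of_bar (h.cL) (center_of_ft (ft kf h))

/-- `C(a) ≤ N(L)` -/
theorem norm_L (kf : KF34.{u}) (h : Pre x a b L) {g : G} (hg : g * a = a * g) :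
    g ∈ normalizer (L : Set G) := by
  rw [mem_normalizer_iff_cj]
  apply lone h (comp_cj h.T.comp (mem_c hg))
  rintro _ ⟨z, hz, rfl⟩ hc
  have h1 : z = 1 := by
    apply center_L kf h z hz
    intro l hl
    have h2 := hc _ (conj_mem_cj (g := g) hl)
    change g * z * g⁻¹ * (g * l * g⁻¹) = g * l * g⁻¹ * (g * z * g⁻¹) at h2
    have h3 : g * (z * l) * g⁻¹ = g * (l * z) * g⁻¹ := by
      calc g * (z * l) * g⁻¹ = g * z * g⁻¹ * (g * l * g⁻¹) := by group
        _ = g * l * g⁻¹ * (g * z * g⁻¹) := h2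
        _ = _ := by group
    exact mul_left_cancel (mul_right_cancel h3)
  rw [h1, map_one]

theorem Y_comm {y : G} (h : Pre x a b L) (hy : y ∈ L) : y * a = a * y := comm_c (h.T.comp.le hy)

/-- `b` inverts the elements of order 3 of `C_L(x)` -/
theorem inv_Y (kf : KF34.{u}) (h : Pre x a b L) (hbx : b * x = x * b) {y : G} (hy : y ∈ L)
    (h3 : y ^ 3 = 1) (hyx : x * y = y * x) : b * y * b⁻¹ = y⁻¹ := by
  have hc := h.cL
  have h1 := (ft kf h).inv _ _ (sq_bar h.bL (sq_of_order h.b2))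
    (ne_bar hc h.bL (ne_one_of_order h.b2)) (act_fix' h.T.x_mem h.bL hbx.symm)
    (pow_three' hy h3) (act_fix' h.T.x_mem hy hyx)
  exact mk_inj hc (mul_mem (mul_mem h.bL hy) (inv_mem h.bL)) (inv_mem hy) h1

/-- `d ∈ O(C(x)) ∩ C(a)` lies in `L` and has order 1 or 3 -/
theorem mem_Y (kf : KF34.{u}) (kf2 : KF2.{u}) (kfa : KFA.{u}) (h : Pre x a b L)
    {d : G} (hd : d ∈ core (centralizer ({x} : Set G))) (hda : d * a = a * d) :
    d ∈ L ∧ d ^ 3 = 1 := by
  have hc := h.cL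
  have hbx : b * x = x * b := h.bx
  have hdL := h.T.mem_normalizer_of_core hd (mem_c hda)
  obtain ⟨y', hy', h3', hx'⟩ := (ft kf h).core _ (oddC h.T hc) _
    (mem_img.mpr ⟨d, hdL, hd, hda, rfl⟩)
  obtain ⟨⟨y, hy⟩, rfl⟩ := QuotientGroup.mk_surjective y'
  have h3 : y ^ 3 = 1 := pow_three hc hy h3'
  have hxy : x * y = y * x := act_fix hc h.T.x_mem hy hx'
  have hfix : Fixes (d * y⁻¹) L := by
    rw [← act_eq_iff hdL (le_normalizer hy), hy', act_of_mem hy]
  have hxd : d ∈ centralizer ({x} : Set G) := core_le _ hd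
  -- `y ∈ O(C(x))`
  have hyc : y ∈ core (centralizer ({x} : Set G)) := by
    have h4 : d * b * d⁻¹ = y * b * y⁻¹ := by
      have h5 := comm_of_fixes hc hfix (mul_mem (mul_mem hy h.bL) (inv_mem hy))
      calc d * b * d⁻¹ = (d * y⁻¹) * (y * b * y⁻¹) * (d * y⁻¹)⁻¹ := by group
        _ = (y * b * y⁻¹) * (d * y⁻¹) * (d * y⁻¹)⁻¹ := by rw [h5]
        _ = _ := by group
    have h6 : y * b * y⁻¹ * b⁻¹ = y * y := by
      have h7 := inv_Y kf h hbx hy h3 hxy
      calc y * b * y⁻¹ * b⁻¹ = y * (b * y * b⁻¹)⁻¹ := by group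
        _ = _ := by rw [h7, inv_inv]
    have h8 : d * (b * d⁻¹ * b⁻¹) ∈ core (centralizer ({x} : Set G)) :=
      mul_mem hd (conj_core (mem_c hbx) (inv_mem hd))
    have h9 : d * (b * d⁻¹ * b⁻¹) = y * y := by
      calc d * (b * d⁻¹ * b⁻¹) = d * b * d⁻¹ * b⁻¹ := by group
        _ = _ := by rw [h4, h6]
    rw [h9] at h8
    have h10 := mul_mem h8 h8
    have h11 : y * y * (y * y) = y := by
      calc y * y * (y * y) = y ^ 3 * y := by simp only [pow_succ, pow_zero, one_mul, mul_assoc]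
        _ = y := by rw [h3, one_mul]
    rwa [h11] at h10
  have hkc : d * y⁻¹ ∈ core (centralizer ({x} : Set G)) := mul_mem hd (inv_mem hyc)
  have hya : y * a = a * y := Y_comm h hy
  have hka : d * y⁻¹ ∈ centralizer ({a} : Set G) := mul_mem (mem_c hda) (inv_mem (mem_c hya))
  have hk : d * y⁻¹ = 1 := by
    by_contra hne
    obtain ⟨J, T, hf⟩ := exists_triple h.T.invx h.T.inva h.T.comm hkc hka (by
      rw [h.ca, mem_bot]; exact hne)
    have hJ : J = L := lone h T.comp (center_typ kf kf2 kfa T (core_of_comp T.comp (h.ca))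
      (h.typ _ T))
    exact hf (hJ ▸ hfix)
  rw [mul_inv_eq_one] at hk
  rw [hk]
  exact ⟨hy, h3⟩

/-- the elements of order 3 of `C_L(x)` are in `O(C(x))` -/
theorem mem_core (kf : KF34.{u}) (kf2 : KF2.{u}) (kfa : KFA.{u}) (h : Pre x a b L)
    {z : G} (hz : z ∈ L) (hz3 : z ^ 3 = 1) (hxz : x * z = z * x) :
    z ∈ core (centralizer ({x} : Set G)) := by
  have hc := h.cL
  obtain ⟨y, hy, hya, hf⟩ := h.T.bad
  obtain ⟨hyL, hy3⟩ := mem_Y kf kf2 kfa h hy (comm_c hya)
  have hxy : x * y = y * x := (comm_c (core_le _ hy)).symm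
  have hy1 : y ≠ 1 := by
    rintro rfl
    exact hf (fixes_one L)
  have h1 := (ft kf h).irr _ _ (pow_three' hyL hy3) (ne_bar hc hyL hy1)
    (act_fix' h.T.x_mem hyL hxy) (pow_three' hz hz3) (act_fix' h.T.x_mem hz hxz)
  obtain ⟨M, hM⟩ : ∃ M : Subgroup (Bar L), M =
      (((core (centralizer ({x} : Set G))).subgroupOf L).map (QuotientGroup.mk' _)) := ⟨_, rfl⟩
  have h2 : closure {w : Bar L | ∃ r, act L ⟨x, h.T.x_mem⟩ r = r ∧
      w = r * (QuotientGroup.mk ⟨y, hyL⟩) * r⁻¹} ≤ M := by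
    rw [closure_le]
    rintro _ ⟨r, hr, rfl⟩
    obtain ⟨⟨m, hm⟩, rfl⟩ := QuotientGroup.mk_surjective r
    have hxm : x * m = m * x := act_fix hc h.T.x_mem hm hr
    rw [hM]
    refine ⟨⟨m * y * m⁻¹, mul_mem (mul_mem hm hyL) (inv_mem hm)⟩, ?_, rfl⟩
    exact conj_core (mem_c hxm.symm) hy
  have h3 := h2 h1
  rw [hM] at h3
  obtain ⟨⟨w, hw⟩, hwc, hwz⟩ := h3
  have h4 : w = z := mk_inj hc hw hz hwz
  rw [← h4]
  exact hwc

/-- `Q₈` in `C_L(x)` -/
theorem exists_q8 (kf : KF34.{u}) (h : Pre x a b L) : ∃ w₁ w₂ : G, w₁ ∈ L ∧ w₂ ∈ L ∧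
    w₁ * x = x * w₁ ∧ w₂ * x = x * w₂ ∧ w₁ * w₁ = b ∧ w₂ * w₂ = b ∧ w₂ * w₁ * w₂⁻¹ = w₁⁻¹ := by
  have hc := h.cL
  have hbx : b * x = x * b := h.bx
  obtain ⟨w₁', w₂', h1, h2, h3, h4, h5⟩ := (ft kf h).q8 _ (sq_bar h.bL (sq_of_order h.b2))
    (ne_bar hc h.bL (ne_one_of_order h.b2)) (act_fix' h.T.x_mem h.bL hbx.symm)
  obtain ⟨⟨w₁, hw₁⟩, rfl⟩ := QuotientGroup.mk_surjective w₁'
  obtain ⟨⟨w₂, hw₂⟩, rfl⟩ := QuotientGroup.mk_surjective w₂'
  refine ⟨w₁, w₂, hw₁, hw₂, (act_fix hc h.T.x_mem hw₁ h1).symm,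
    (act_fix hc h.T.x_mem hw₂ h2).symm, mk_inj hc (mul_mem hw₁ hw₁) h.bL h3,
    mk_inj hc (mul_mem hw₂ hw₂) h.bL h4,
    mk_inj hc (mul_mem (mul_mem hw₂ hw₁) (inv_mem hw₂)) (inv_mem hw₁) h5⟩


end Cfsg.Agent.UGT.L34T2.Pre34
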