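import Cfsg.Agent.UGT.L34T2.FrJ
import Cfsg.Agent.UGT.TriBase
import Cfsg.Agent.UGT.Res.ThH

/-!
# T2 (#14882 (1), (2)): `Q ∩ Q^t = 1`, the small case

`T ∈ Syl₂(C(a))`, `t ∈ N(T) - T`, `t² ∈ T`.
-/

set_option autoImplicit false

open Subgroup

namespace Cfsg.Agent.UGT.L34T2.Small

open Cfsg.Agent.UGT.TriBase
open Cfsg.Agent.UGT.Res.ThH (mem_normalizer_of_le)

variable {G : Type*} [Group G]

/-- The situation. -/
structure Cx (T P Q Z : Subgroup G) (A : Bool → Subgroup G) (b a x t : G) : Prop where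
  fr : Fr T P Q Z A b
  aQ : a ∈ Q
  aa : a * a = 1
  a1 : a ≠ 1
  aT : ∀ y ∈ T, y * a = a * y
  xT : x ∈ T
  xx : x * x = 1
  xZ : ¬ ∀ z ∈ Z, x * z = z * x
  xA : ∀ i, ∀ u ∈ A i, x * u * x⁻¹ ∈ A (!i)
  uniq : ∀ q ∈ Q, x * q = q * x → q * q = 1 → q = 1 ∨ q = a
  tn : ∀ y ∈ T, t * y * t⁻¹ ∈ T
  tn' : ∀ y ∈ T, t⁻¹ * y * t ∈ T
  tt : t * t ∈ T
  ta : t * a ≠ a * t

/-- the small case -/
def Sm (P Q Z : Subgroup G) (t : G) : Prop :=
  ∀ q ∈ Q, ∀ p ∈ P, ∀ q' ∈ Q, t * q * t⁻¹ = p * q' → p ∈ Z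

section

variable {T P Q Z : Subgroup G} {A : Bool → Subgroup G} {b a x t : G}

theorem Cx.xcx (C : Cx T P Q Z A b a x t) {z : G} (hz : z ∈ Z) (h : x * z = z * x) : z = 1 ∨ z = b :=
  C.fr.not_nc C.xT C.xZ hz h

/-- `Ω₁(Z(T)) = ⟨a, b⟩` -/
theorem Cx.central (C : Cx T P Q Z A b a x t) {y : G} (hy : y ∈ T) (hyy : y * y = 1)
    (hc : ∀ u ∈ T, u * y = y * u) : y = 1 ∨ y = a ∨ y = b ∨ y = a * b := by
  obtain ⟨z, hz, q, hq, rfl⟩ := C.fr.cenP y hy (fun p hp => (hc p (C.fr.PT hp)).symm)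
  have hzP : z ∈ P := C.fr.ZP hz
  have hzq := C.fr.comm z hzP q hq
  have h1 := (C.fr.cen_J C.xT hzP hq).mp (hc x C.xT)
  have hzz : z * z = 1 := C.fr.Zsq hz
  have hqq : q * q = 1 := by
    calc q * q = (z * z) * (q * q) := by rw [hzz, one_mul]
      _ = z * (z * q) * q := by group
      _ = z * (q * z) * q := by rw [hzq]
      _ = (z * q) * (z * q) := by group
      _ = 1 := hyy
  rcases C.uniq q hq h1.2 hqq with rfl | rfl
  · rcases C.xcx hz h1.1 with rfl | rfl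
    · left; group
    · right; right; left; group
  · rcases C.xcx hz h1.1 with rfl | rfl
    · right; left; group
    · right; right; right; exact hzq

theorem Cx.b_notin (C : Cx T P Q Z A b a x t) : b ∉ Q := fun h =>
  C.fr.b1 (C.fr.disj b C.fr.bP h)

theorem Cx.ab_notin (C : Cx T P Q Z A b a x t) : a * b ∉ Q := by
  intro h
  apply C.b_notin
  have h1 := Q.mul_mem (Q.inv_mem C.aQ) h
  have h2 : a⁻¹ * (a * b) = b := by group
  rwa [h2] at h1

/-- `a^t = b` or `ab` -/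
theorem Cx.ta_cases (C : Cx T P Q Z A b a x t) : t * a * t⁻¹ = b ∨ t * a * t⁻¹ = a * b := by
  have haT : a ∈ T := C.fr.QT C.aQ
  rcases C.central (C.tn a haT) (by
      calc t * a * t⁻¹ * (t * a * t⁻¹) = t * (a * a) * t⁻¹ := by group
        _ = 1 := by rw [C.aa]; group) (by
      intro u hu
      have h1 := C.aT _ (C.tn' u hu)
      calc u * (t * a * t⁻¹) = t * ((t⁻¹ * u * t) * a) * t⁻¹ := by group
        _ = t * (a * (t⁻¹ * u * t)) * t⁻¹ := by rw [h1]
        _ = t * a * t⁻¹ * u := by group) with h | h | h | h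
  · exfalso
    apply C.a1
    calc a = t⁻¹ * (t * a * t⁻¹) * t := by group
      _ = 1 := by rw [h]; group
  · exfalso
    apply C.ta
    calc t * a = (t * a * t⁻¹) * t := by group
      _ = a * t := by rw [h]
  · exact Or.inl h
  · exact Or.inr h

/-- **(1)** `Q ∩ Q^t = 1` -/
theorem Cx.disj [Finite G] (C : Cx T P Q Z A b a x t) {q : G} (hq : q ∈ Q) (htq : t * q * t⁻¹ ∈ Q) : q = 1 := by
  set D : Subgroup G := Q ⊓ cjg t⁻¹ Q with hD
  have hmem : ∀ g, g ∈ D ↔ g ∈ Q ∧ t * g * t⁻¹ ∈ Q := by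
    intro g
    rw [hD, mem_inf, mem_cjg, inv_inv]
  by_contra hq1
  have hDne : D ≠ ⊥ := by
    intro h
    apply hq1
    have h1 : q ∈ D := (hmem q).mpr ⟨hq, htq⟩
    rwa [h, mem_bot] at h1
  have hDT : D ≤ T := fun g hg => C.fr.QT ((hmem g).mp hg).1
  have hTD : T ≤ normalizer (D : Set G) := by
    intro y hy
    apply mem_normalizer_of_le
    intro g hg
    rw [hmem] at hg ⊢
    refine ⟨C.fr.nQ y hy g hg.1, ?_⟩
    have h1 := C.fr.nQ (t * y * t⁻¹) (C.tn y hy) _ hg.2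
    have h2 : t * y * t⁻¹ * (t * g * t⁻¹) * (t * y * t⁻¹)⁻¹ = t * (y * g * y⁻¹) * t⁻¹ := by group
    rwa [h2] at h1
  obtain ⟨z, hz, hz2, hzT⟩ := exists_central C.fr.two hDT hTD hDne
  have hzz : z * z = 1 := by rw [← pow_two, ← hz2, pow_orderOf_eq_one]
  have hz1 : z ≠ 1 := by
    rintro rfl
    rw [orderOf_one] at hz2
    exact absurd hz2 (by norm_num)
  obtain ⟨hzQ, htz⟩ := (hmem z).mp hz
  have hza : z = a := by
    rcases C.uniq z hzQ (hzT x C.xT) hzz with h | h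
    · exact absurd h hz1
    · exact h
  rw [hza] at htz
  rcases C.ta_cases with h | h
  · exact C.b_notin (h ▸ htz)
  · exact C.ab_notin (h ▸ htz)

/-- **(2)** `Q^t ≤ Z Q` -/
theorem Cx.small (C : Cx T P Q Z A b a x t) (hs : Sm P Q Z t) {q : G} (hq : q ∈ Q) :
    ∃ z ∈ Z, ∃ q' ∈ Q, t * q * t⁻¹ = z * q' := by
  obtain ⟨p, hp, q', hq', h⟩ := C.fr.outer (t * q * t⁻¹) (C.tn q (C.fr.QT hq)) (by
    intro p hp
    set c := t⁻¹ * p * t with hc
    have hcT : c ∈ T := C.tn' p (C.fr.PT hp)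
    have h1 : q * (c * q⁻¹ * c⁻¹) ∈ Q := Q.mul_mem hq (C.fr.nQ c hcT q⁻¹ (Q.inv_mem hq))
    have h2 : t * q * t⁻¹ * p * (t * q * t⁻¹)⁻¹ * p⁻¹ ∈ P :=
      P.mul_mem (C.fr.nP _ (C.tn q (C.fr.QT hq)) p hp) (P.inv_mem hp)
    exact hs _ h1 _ h2 1 Q.one_mem (by rw [hc]; group))
  exact ⟨p, hs q hq p hp q' hq' h, q', hq', h⟩

/-- `Q` is elementary abelian -/
theorem Cx.sq [Finite G] (C : Cx T P Q Z A b a x t) (hs : Sm P Q Z t) {q : G} (hq : q ∈ Q) : q * q = 1 := by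
  obtain ⟨z, hz, q', hq', h⟩ := C.small hs hq
  apply C.disj (Q.mul_mem hq hq)
  have h1 : t * (q * q) * t⁻¹ = q' * q' := by
    calc t * (q * q) * t⁻¹ = (t * q * t⁻¹) * (t * q * t⁻¹) := by group
      _ = z * q' * (z * q') := by rw [h]
      _ = z * (q' * z) * q' := by group
      _ = z * (z * q') * q' := by rw [C.fr.comm z (C.fr.ZP hz) q' hq']
      _ = (z * z) * (q' * q') := by group
      _ = q' * q' := by rw [C.fr.Zsq hz, one_mul]
  rw [h1]
  exact Q.mul_mem hq' hq'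

theorem Cx.commQ [Finite G] (C : Cx T P Q Z A b a x t) (hs : Sm P Q Z t) {q r : G} (hq : q ∈ Q)
    (hr : r ∈ Q) : q * r = r * q := by
  have h1 := C.sq hs (Q.mul_mem hq hr)
  have h2 := C.sq hs hq
  have h3 := C.sq hs hr
  calc q * r = q * (q * r * (q * r)) * r := by rw [h1, mul_one]
    _ = (q * q) * (r * q) * (r * r) := by group
    _ = r * q := by rw [h2, h3, one_mul, mul_one]

theorem Cx.card_le [Finite G] (C : Cx T P Q Z A b a x t) (hs : Sm P Q Z t) : Nat.card Q ≤ 4 := by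
  classical
  rw [← C.fr.cardZ]
  refine Nat.card_le_card_of_injective
    (fun q : Q => (⟨(C.small hs q.2).choose, (C.small hs q.2).choose_spec.1⟩ : Z)) ?_
  intro q r h
  have h1 : (C.small hs q.2).choose = (C.small hs r.2).choose := congrArg Subtype.val h
  obtain ⟨-, q', hq', e1⟩ := (C.small hs q.2).choose_spec
  obtain ⟨-, r', hr', e2⟩ := (C.small hs r.2).choose_spec
  have h2 : (q : G) * (r : G)⁻¹ = 1 := by
    apply C.disj (Q.mul_mem q.2 (Q.inv_mem r.2))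
    set z := (C.small hs r.2).choose with hz
    have hzZ : z ∈ Z := (C.small hs r.2).choose_spec.1
    have h3 : t * ((q : G) * (r : G)⁻¹) * t⁻¹ = z * (q' * r'⁻¹) * z⁻¹ := by
      calc t * ((q : G) * (r : G)⁻¹) * t⁻¹ = (t * q * t⁻¹) * (t * r * t⁻¹)⁻¹ := by group
        _ = (z * q') * (z * r')⁻¹ := by rw [e1, e2, h1]
        _ = _ := by group
    rw [h3]
    exact C.fr.nQ z (C.fr.PT (C.fr.ZP hzZ)) _ (Q.mul_mem hq' (Q.inv_mem hr'))
  exact Subtype.ext (mul_inv_eq_one.mp h2)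

/-- **`|Q| = 2` or `Q = V₄`** -/
theorem Cx.cases [Finite G] (C : Cx T P Q Z A b a x t) (hs : Sm P Q Z t) :
    (∀ q ∈ Q, q = 1 ∨ q = a) ∨ ∃ q ∈ Q, q ≠ 1 ∧ q ≠ a ∧ x * q * x⁻¹ = a * q ∧
      ∀ w ∈ Q, w = 1 ∨ w = a ∨ w = q ∨ w = a * q := by
  classical
  by_cases h : ∀ q ∈ Q, q = 1 ∨ q = a
  · exact Or.inl h
  right
  push Not at h
  obtain ⟨q, hq, hq1, hqa⟩ := h
  have hall : ∀ w ∈ Q, w = 1 ∨ w = a ∨ w = q ∨ w = a * q := by
    intro w hw
    by_contra hcon
    push Not at hcon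
    obtain ⟨h1, h2, h3, h4⟩ := hcon
    have haq1 : a * q ≠ 1 := by
      intro e
      apply hqa
      calc q = (a * a) * q := by rw [C.aa, one_mul]
        _ = a * (a * q) := by group
        _ = a := by rw [e, mul_one]
    have hsub : ({1, a, q, a * q, w} : Finset G) ⊆ (Set.toFinite (Q : Set G)).toFinset := by
      intro v hv
      rw [Set.Finite.mem_toFinset]
      simp only [Finset.mem_insert, Finset.mem_singleton] at hv
      rcases hv with rfl | rfl | rfl | rfl | rfl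
      · exact Q.one_mem
      · exact C.aQ
      · exact hq
      · exact Q.mul_mem C.aQ hq
      · exact hw
    have hc := Finset.card_le_card hsub
    have hc2 : ((Set.toFinite (Q : Set G)).toFinset).card ≤ 4 := by
      rw [← Set.ncard_eq_toFinset_card (Q : Set G)]
      exact C.card_le hs
    have hc3 : ({1, a, q, a * q, w} : Finset G).card = 5 := by
      rw [Finset.card_insert_of_notMem, Finset.card_insert_of_notMem, Finset.card_insert_of_notMem,
        Finset.card_insert_of_notMem, Finset.card_singleton]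
      · simp only [Finset.mem_singleton]; exact Ne.symm h4
      · simp only [Finset.mem_insert, Finset.mem_singleton]; push Not
        exact ⟨fun e => C.a1 (right_eq_mul.mp e), Ne.symm h3⟩
      · simp only [Finset.mem_insert, Finset.mem_singleton]; push Not
        exact ⟨Ne.symm hqa, fun e => hq1 (left_eq_mul.mp e), Ne.symm h2⟩
      · simp only [Finset.mem_insert, Finset.mem_singleton]; push Not
        exact ⟨Ne.symm C.a1, Ne.symm hq1, Ne.symm haq1, Ne.symm h1⟩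
    omega
  refine ⟨q, hq, hq1, hqa, ?_, hall⟩
  have hqq := C.sq hs hq
  rcases hall _ (C.fr.nQ x C.xT q hq) with h1 | h1 | h1 | h1
  · exact absurd (conj_eq_one_iff.mp h1) hq1
  · exfalso
    apply hqa
    have h2 : x * q * x⁻¹ = x * a * x⁻¹ := by
      rw [C.aT x C.xT, mul_inv_cancel_right]; exact h1
    exact mul_left_cancel (mul_right_cancel h2)
  · exfalso
    have h2 : x * q = q * x := mul_inv_eq_iff_eq_mul.mp h1
    rcases C.uniq q hq h2 hqq with h3 | h3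
    · exact hq1 h3
    · exact hqa h3
  · exact h1

end

end Cfsg.Agent.UGT.L34T2.Small
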