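import Cfsg.Agent.UGT.L34T2.SmallJ
import Cfsg.Agent.UGT.L34T2.CQHat
import Cfsg.Agent.UGT.L34T2.FrMod

/-!
# T2 small, `Q = V₄`: `HypQ` from the frame

* `ZZ_eq`: `ZZ ψ P = Z`.
* `exists_hypQ`
-/

set_option autoImplicit false

open Cfsg Subgroup
open Cfsg.Agent.SignalizersComponents.IntrinsicBasic
open Cfsg.Agent.Intrinsic.Basic
open Cfsg.Agent.UGT.TriBase
open Cfsg.Agent.UGT.L34 (E U ZU A1 A2 px pb Mod Elem el)

namespace Cfsg.Agent.UGT.L34T2.V4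

open Small

variable {G : Type*} [Group G] {T P Q Z : Subgroup G} {A : Bool → Subgroup G} {b a x t q : G}

section

variable {ψ : ↥T →* E} {P₀ : Subgroup ↥T}

/-- `Z` is determined by `P` -/
theorem ZZ_eq (h : Fr T P Q Z A b) (M : Mod ψ P₀) (hP : P₀.map T.subtype = P) : ZZ ψ P₀ = Z := by
  apply le_antisymm
  · intro g hg
    obtain ⟨s, hs, hsZ, rfl⟩ := mem_ZZ.mp hg
    apply h.mem_Z (by rw [← hP]; exact ⟨s, hs, rfl⟩)
    intro p hp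
    rw [← hP] at hp
    obtain ⟨p, hp, rfl⟩ := hp
    have h1 := (FrMod.comm_iff M (y := p) hs).mpr (L34.cent_g (ψ p) (ψ s) (M.mem p hp).1 hsZ)
    exact (congrArg Subtype.val h1).symm
  · intro z hz
    have hzP : z ∈ P := h.ZP hz
    have hzP' := hzP
    rw [← hP] at hzP'
    obtain ⟨s, hs, rfl⟩ := hzP'
    refine mem_ZZ.mpr ⟨s, hs, ?_, rfl⟩
    apply mem_ZU_of_comm (M.mem s hs)
    intro v hv
    obtain ⟨p, hp, rfl⟩ := M.surj v hv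
    have h1 : s * p = p * s := by
      apply Subtype.ext
      exact (h.Zcen s hz p (by rw [← hP]; exact ⟨p, hp, rfl⟩)).symm
    rw [← map_mul, h1, map_mul]

theorem JJ_eq' (M : Mod ψ P₀) (hP : P₀.map T.subtype = P) (hQ : ψ.ker.map T.subtype = Q) :
    JJ ψ = P ⊔ Q := by rw [JJ_eq M, hP, hQ]

theorem f_false (h : Fr T P Q Z A b) (M : Mod ψ P₀) (hP : P₀.map T.subtype = P) {y : ↥T}
    (hy : ∀ z ∈ Z, (y : G) * z = z * y) : (ψ y).f = false := by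
  apply (FrMod.cenZ_iff M (y := y)).mp
  intro z hz
  apply hy
  rw [← ZZ_eq h M hP]
  obtain ⟨p, h1, h2, rfl⟩ := FrMod.mem_up.mp hz
  exact mem_ZZ.mpr ⟨p, h2, h1, rfl⟩

end

/-- `Cx` with `Q = V₄` and the outputs of `H*` -/
structure CxV (T P Q Z : Subgroup G) (A : Bool → Subgroup G) (b a x t q : G) : Prop
    extends Cx T P Q Z A b a x t where
  sm : Sm P Q Z t
  qQ : q ∈ Q
  q1 : q ≠ 1
  qa : q ≠ a
  xq : x * q * x⁻¹ = a * q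
  ker : ∀ w ∈ Q, w = 1 ∨ w = a ∨ w = q ∨ w = a * q
  eta : ∀ n : G, n ∈ normalizer ((P ⊔ Q : Subgroup G) : Set G) → n⁻¹ * q * n = q →
    (∃ z ∈ Z, n⁻¹ * a * n = a * z) → n⁻¹ * a * n = a
  all : ∀ z ∈ Z, ∃ m : G, m ∈ normalizer ((P ⊔ Q : Subgroup G) : Set G) ∧ m⁻¹ * (a * q) * m = a * q * z
  lf : ∀ y ∈ T, y * q = q * y → ∀ z ∈ Z, y * z = z * y

/-- `HypQ` -/
theorem CxV.hypQ [Finite G] (C : CxV T P Q Z A b a x t q) {ψ : ↥T →* E} {P₀ : Subgroup ↥T}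
    (M : Mod ψ P₀) (hP : P₀.map T.subtype = P) (hQ : ψ.ker.map T.subtype = Q)
    (hT : IsSyl (centralizer ({a} : Set G)) T) {K : Subgroup G}
    (hbar : ∀ c : G, c * a = a * c → ∀ w ∈ Q, c⁻¹ * w * c ∈ T → c⁻¹ * w * c ∈ Q)
    (hKQ : ∀ k ∈ K, ∀ w ∈ Q, k * w = w * k)
    (hfus : ∀ p ∈ P, p * p = 1 → p ≠ 1 → ∃ k ∈ K, k * p * k⁻¹ = b) :
    ∃ (ha : a ∈ T) (hq : q ∈ T), HypQ T ψ P₀ ⟨a, ha⟩ ⟨q, hq⟩ ⟨x, C.xT⟩ := by
  have hJ : JJ ψ = P ⊔ Q := JJ_eq' M hP hQ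
  have hZ : ZZ ψ P₀ = Z := ZZ_eq C.fr M hP
  have hmemQ : ∀ w : ↥T, (w : G) ∈ Q ↔ ψ w = 1 := by
    intro w
    rw [← hQ]
    constructor
    · rintro ⟨v, hv, h⟩
      rw [← Subtype.ext h]; exact hv
    · intro h; exact ⟨w, h, rfl⟩
  have haT : a ∈ T := C.fr.QT C.aQ
  have hqT : q ∈ T := C.fr.QT C.qQ
  have hxi : x⁻¹ = x := inv_eq_of_mul_eq_one_left C.xx
  refine ⟨haT, hqT, ?_⟩
  refine ⟨M, hT, Subtype.ext C.aa, Subtype.ext (C.sq C.sm C.qQ), ?_, ?_, ?_, ?_, ?_, ?_, ?_, ?_, ?_, ?_,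
    ?_, ?_, ?_⟩
  · intro h; exact C.a1 (congrArg Subtype.val h)
  · intro h; exact C.q1 (congrArg Subtype.val h)
  · intro h; exact C.qa (congrArg Subtype.val h)
  · exact Subtype.ext (C.commQ C.sm C.aQ C.qQ)
  · exact (hmemQ ⟨a, haT⟩).mp C.aQ
  · exact (hmemQ ⟨q, hqT⟩).mp C.qQ
  · intro w hw
    rcases C.ker w ((hmemQ w).mpr hw) with h | h | h | h
    · exact Or.inl (Subtype.ext h)
    · exact Or.inr (Or.inl (Subtype.ext h))
    · exact Or.inr (Or.inr (Or.inl (Subtype.ext h)))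
    · exact Or.inr (Or.inr (Or.inr (Subtype.ext h)))
  · apply Subtype.ext
    have h1 := C.xq
    rw [hxi] at h1
    change x⁻¹ * q * x = a * q
    rw [hxi]; exact h1
  · rw [hJ, hZ]
    exact C.eta
  · rw [hJ, hZ]
    exact C.all
  · intro y hy
    exact f_false C.fr M hP (C.lf y y.2 (congrArg Subtype.val hy))
  · intro c hc w hw h
    rw [← hmemQ]
    exact hbar c hc w ((hmemQ w).mpr hw) h
  · intro p hp hpp
    have hpP : (p : G) ∈ P := by rw [← hP]; exact ⟨p, hp, rfl⟩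
    by_cases hp1 : p = 1
    · refine ⟨1, by group, by group, 1, one_mem _, ?_⟩
      rw [hp1]; simp
    · obtain ⟨k, hk, hkp⟩ := hfus p hpP (congrArg Subtype.val hpp) (fun h => hp1 (Subtype.ext h))
      refine ⟨k⁻¹, hKQ _ (inv_mem hk) a C.aQ, hKQ _ (inv_mem hk) q C.qQ, b, ?_, ?_⟩
      · rw [hZ]; exact C.fr.bZ
      · rw [inv_inv]; exact hkp

end Cfsg.Agent.UGT.L34T2.V4
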