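import Cfsg.Agent.UGT.L34T2.FrOf
import Cfsg.Agent.UGT.L34T2.Good
import Cfsg.Agent.UGT.L34.Dich
import Cfsg.Agent.UGT.L34T2.FrJ
import Cfsg.Agent.UGT.FL34.KF34
import Cfsg.Agent.UGT.LTF.KF2
import Cfsg.Agent.UGT.LTF.KFA

/-!
# Node `L₃(4)`, `m(C_Q(x)) = 1`: the common start of the cases BIG, `Q = V₄`, `|Q| = 2` (UGT #14882, #14883)

* `W1 x a L`: a minimal counterexample, all triples have type `L₂`, `Aₙ`, `L₃(4)`, and `a` is the only involution of
  `C_K(x)`, `K = C(a) ∩ C(L / O(L))`, for all triples `(x, a, L)` of type `L₃(4)`.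
* `lone`: a 2-component `N` of `C(a)` such that `N / O(N)` has trivial centre is `L`.
* `norm_L`: `C(a) ≤ N(L)`.
* `Str T x a L`: `T ∈ Syl₂(C(a))`, `x ∈ T`; `exists_str`.
* `Str.frame`: the frame `Fr T (T ⊓ L) (fix T L) Z A b` and what goes with it.
-/

set_option autoImplicit false

open Cfsg Subgroup
open Cfsg.Agent.SignalizersComponents Cfsg.Agent.Lib
open Cfsg.Agent.SignalizersComponents.IntrinsicBasic
open Cfsg.Agent.SignalizersComponents.IntrinsicIntr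
open Cfsg.Agent.SignalizersComponents.PLayerAut
open Cfsg.Agent.Intrinsic Cfsg.Agent.Intrinsic.Basic Cfsg.Agent.Intrinsic.Cen Cfsg.Agent.Intrinsic.Diag
open Cfsg.Agent.McLLyComp.Act
open Cfsg.Agent.UGT.Triple Cfsg.Agent.UGT.TriBase
open Cfsg.Agent.UGT.Iface (Bar IsL2 IsL34 IsAltOdd MinCex)
open Cfsg.Agent.UGT.LTF.Defs (KF34 KF2 KFA FT)
open Cfsg.Agent.UGT.LTF.Basics (exists_inv isPGroup_zpowers)
open Cfsg.Agent.UGT.L34T2.Good (Cf Elem Fun)
open scoped commutatorElement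

namespace Cfsg.Agent.UGT.L34T2.World

universe u

/-- The world of the case `m(C_Q(x)) = 1`. -/
structure W1 {G : Type u} [Group G] [Finite G] (x a : G) (L : Subgroup G) : Prop where
  min : MinCex G
  typ : ∀ (x a : G) (L : Subgroup G), IsTriple x a L →
    IsL2 (Bar L) ∨ IsAltOdd (Bar L) ∨ IsL34 (Bar L)
  /-- `a` is the only involution of `C_K(x)`, `K = C(a) ∩ C(L / O(L))` -/
  uniq : ∀ k : G, k * a = a * k → Fixes k L → k * k = 1 → k ≠ 1 → k * x = x * k → k = a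

variable {G : Type u} [Group G] [Finite G] {x a : G} {L T : Subgroup G}

/-! ### trivial centres -/

omit [Finite G] in
theorem cf_of_bar {J : Subgroup G} (h : ∀ z : Bar J, (∀ d, z * d = d * z) → z = 1) : Cf J := by
  intro u hu hf
  refine (mk_eq_one_iff hu).mp (h _ ?_)
  intro d
  obtain ⟨⟨j, hj⟩, rfl⟩ := QuotientGroup.mk_surjective d
  have h1 := (act_eq_one_iff hf.1).mpr hf
  have h2 : act J ⟨u, hf.1⟩ (QuotientGroup.mk ⟨j, hj⟩) = QuotientGroup.mk ⟨j, hj⟩ := by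
    rw [h1]; rfl
  rw [act_mk hf.1 hj] at h2
  have h3 : (QuotientGroup.mk ⟨u * j * u⁻¹, conj_mem hf.1 hj⟩ : Bar J) =
      QuotientGroup.mk ⟨u, hu⟩ * QuotientGroup.mk ⟨j, hj⟩ * (QuotientGroup.mk ⟨u, hu⟩)⁻¹ := rfl
  rw [h3] at h2
  calc (QuotientGroup.mk ⟨u, hu⟩ : Bar J) * QuotientGroup.mk ⟨j, hj⟩
      = QuotientGroup.mk ⟨u, hu⟩ * QuotientGroup.mk ⟨j, hj⟩ * (QuotientGroup.mk ⟨u, hu⟩)⁻¹ *
        QuotientGroup.mk ⟨u, hu⟩ := by group
    _ = _ := by rw [h2]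

omit [Finite G] in
theorem bar_of_cf {J : Subgroup G} (h : Cf J) : ∀ z : Bar J, (∀ d, z * d = d * z) → z = 1 := by
  intro z hz
  obtain ⟨⟨u, hu⟩, rfl⟩ := QuotientGroup.mk_surjective z
  rw [mk_eq_one_iff hu]
  refine h u hu ⟨le_normalizer hu, fun y hy => ?_⟩
  rw [commutatorElement_def]
  have h1 := hz (QuotientGroup.mk ⟨y, hy⟩)
  rw [← mk_eq_one_iff (K := J) (mul_mem (mul_mem (mul_mem hu hy) (inv_mem hu)) (inv_mem hy))]
  have h2 : (QuotientGroup.mk ⟨u * y * u⁻¹ * y⁻¹,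
      mul_mem (mul_mem (mul_mem hu hy) (inv_mem hu)) (inv_mem hy)⟩ : Bar J) =
      QuotientGroup.mk ⟨u, hu⟩ * QuotientGroup.mk ⟨y, hy⟩ * (QuotientGroup.mk ⟨u, hu⟩)⁻¹ *
        (QuotientGroup.mk ⟨y, hy⟩)⁻¹ := rfl
  rw [h2, h1, mul_inv_cancel_right, mul_inv_cancel]

/-- the 2-components of the triples have trivial centre modulo the core -/
theorem cf_of_typ {e : G} {J : Subgroup G} (T : IsTriple e a J)
    (h : IsL2 (Bar J) ∨ IsAltOdd (Bar J) ∨ IsL34 (Bar J)) : Cf J := by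
  apply cf_of_bar
  rcases h with h | h | h
  · exact (LTF.KF2.kf2 _ h).1
  · exact (LTF.KFA.kfa _ h).1
  · intro z hz
    apply (LSup.ft_of_triple FL34.KF.kf34 T h).cl
    apply MulEquiv.ext
    intro d
    rw [MulAut.conj_apply, hz d, mul_inv_cancel_right]
    rfl

/-- **`L` is the only 2-component of `C(a)` with trivial centre.** -/
theorem lone (w : W1 x a L) (T : IsTriple x a L) (h34 : IsL34 (Bar L)) {N : Subgroup G}
    (hN : IsComp (centralizer ({a} : Set G)) N) (hc : Cf N) : N = L := by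
  by_contra hne
  have hxa : x ∈ centralizer ({a} : Set G) := mem_c T.comm.symm
  have hxx := sq_of_order T.invx
  have haa := sq_of_order T.inva
  have hxL : cj x L = L := mem_normalizer_iff_cj.mp T.x_mem
  have hNx := isComp_cj_of_mem hN hxa
  have hneX : cj x N ≠ L := by
    intro h1
    apply hne
    apply cj_injective x
    rw [h1, hxL]
  have hfix : ∀ k, k ∈ N ∨ k ∈ cj x N → Fixes k L := by
    rintro k (hk | hk)
    · exact T.comp.fixes_of_mem hN (Ne.symm hne) hk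
    · exact T.comp.fixes_of_mem hNx (Ne.symm hneX) hk
  have ha1 := ne_one_of_order T.inva
  have hau := w.uniq
  rcases eq_or_ne (cj x N) N with heq | hneq
  · obtain ⟨e, he, ho, hce⟩ := exists_inv (isPGroup_zpowers T.invx)
      (zpowers_le.mpr (mem_normalizer_iff_cj.mpr heq)) hN.even
    have h1 : e = a := hau e (comm_c (hN.le he)) (hfix e (Or.inl he)) (sq_of_order ho)
      (ne_one_of_order ho) (hce x (mem_zpowers x)).symm
    have h2 : a ∈ core N := hc a (h1 ▸ he) (fixes_self' hN.le)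
    exact ha1 (eq_one_of_mem_core_sq h2 haa)
  · obtain ⟨h1, h2, -, -, f, hf, hker, -, -⟩ := exists_diag hN hxa hxx hneq
    obtain ⟨e, he, ho, -⟩ := exists_inv (T := ⊥) (N := diag (centralizer ({a} : Set G)) N x)
      (IsPGroup.of_bot) bot_le h1.even
    have hex : e * x = x * e := comm_c (h1.le he).2
    have hea : e * a = a * e := comm_c (h1.le he).1
    have hfe : Fixes e L := by
      obtain ⟨k, hk, hk2⟩ := h2 e he
      have h3 : Fixes (k * (x * k * x⁻¹)) L := fixes_mul (hfix _ (Or.inl hk))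
        (hfix _ (Or.inr (conj_mem_cj hk)))
      have h4 := T.comp.fixes_of_core hk2
      have h5 := fixes_mul h3 (fixes_inv h4)
      convert h5 using 1
      group
    have h3 : e = a := hau e hea hfe (sq_of_order ho) (ne_one_of_order ho) hex
    have hcf : Cf (diag (centralizer ({a} : Set G)) N x) := by
      apply cf_of_bar
      have hcN := bar_of_cf hc
      have hinj : ∀ y, f y = 1 → y = 1 := fun y hy =>
        hcN y fun d => (mem_center_iff.mp (hker hy) d).symm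
      intro z hz
      obtain ⟨y, rfl⟩ := hf z
      rw [hcN y, map_one]
      intro d
      have h6 := hz (f d)
      have h7 := hinj (y * d * (d * y)⁻¹) (by
        rw [map_mul, map_inv, map_mul, map_mul, h6, mul_inv_cancel])
      exact mul_inv_eq_one.mp h7
    have h4 : a ∈ core (diag (centralizer ({a} : Set G)) N x) := hcf a (h3 ▸ he) (by
      apply fixes_self'
      exact h1.le.trans inf_le_left)
    exact ha1 (eq_one_of_mem_core_sq h4 haa)

/-- **`C(a) ≤ N(L)`** -/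
theorem norm_L (w : W1 x a L) (T : IsTriple x a L) (h34 : IsL34 (Bar L)) :
    centralizer ({a} : Set G) ≤ normalizer (L : Set G) := by
  intro g hg
  rw [mem_normalizer_iff_cj]
  exact lone w T h34 (isComp_cj_of_mem T.comp hg) ((cf_of_typ T (Or.inr (Or.inr h34))).cj g)

/-! ### the Sylow 2-subgroup `T` of `C(a)` -/

/-- `T ∈ Syl₂(C(a))`, `x ∈ T`. -/
structure Str (x a : G) (L T : Subgroup G) : Prop where
  tri : IsTriple x a L
  l34 : IsL34 (Bar L)
  syl : IsSyl (centralizer ({a} : Set G)) T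
  xT : x ∈ T

omit [Finite G] in
/-- every 2-subgroup of `C(a)` containing `x` lies in some `T` -/
theorem exists_str (T : IsTriple x a L) (h34 : IsL34 (Bar L)) {R : Subgroup G} (hR : IsPGroup 2 ↥R)
    (hRa : R ≤ centralizer ({a} : Set G)) (hx : x ∈ R) : ∃ T, Str x a L T ∧ R ≤ T := by
  obtain ⟨S, hS, hRS⟩ := exists_isSyl hR hRa
  exact ⟨S, ⟨T, h34, hS, hRS hx⟩, hRS⟩

omit [Finite G] in
theorem exists_str' (T : IsTriple x a L) (h34 : IsL34 (Bar L)) : ∃ T, Str x a L T := by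
  obtain ⟨S, hS, -⟩ := exists_str T h34 (isPGroup_zpowers T.invx)
    (zpowers_le.mpr (mem_c T.comm.symm)) (mem_zpowers x)
  exact ⟨S, hS⟩

omit [Finite G] in
theorem Str.aT (h : Str x a L T) : a ∈ T := by
  have h1 : IsPGroup 2 ↥(T ⊔ zpowers a : Subgroup G) := by
    refine h.syl.two.to_sup_of_normal_left' (isPGroup_zpowers h.tri.inva) ?_
    rw [zpowers_le]
    have h2 : a ∈ centralizer (T : Set G) := by
      rw [mem_centralizer_iff]
      intro s hs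
      exact comm_c (h.syl.le hs)
    exact centralizer_le_normalizer _ h2
  have h2 := h.syl.max _ h1 (sup_le h.syl.le (zpowers_le.mpr (mem_c rfl))) le_sup_left
  rw [← h2]
  exact (le_sup_right : zpowers a ≤ _) (mem_zpowers a)

theorem Str.TN (w : W1 x a L) (h : Str x a L T) : T ≤ normalizer (L : Set G) :=
  h.syl.le.trans (norm_L w h.tri h.l34)

theorem Str.sylL (w : W1 x a L) (h : Str x a L T) : IsSyl L (T ⊓ L) :=
  h.syl.inf h.tri.comp.le (norm_L w h.tri h.l34)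

theorem Str.ft (h : Str x a L T) : FT (act L ⟨x, h.tri.x_mem⟩) :=
  LSup.ft_of_triple FL34.KF.kf34 h.tri h.l34

omit [Finite G] in
theorem Str.a_fix (h : Str x a L T) : a ∈ fix T L := ⟨h.aT, fixes_self' h.tri.comp.le⟩

theorem Str.uniq (w : W1 x a L) (h : Str x a L T) {q : G} (hq : q ∈ fix T L) (hqx : x * q = q * x)
    (hqq : q * q = 1) : q = 1 ∨ q = a := by
  rcases eq_or_ne q 1 with h1 | h1
  · exact Or.inl h1
  · exact Or.inr (w.uniq q (comm_c (h.syl.le hq.1)) hq.2 hqq h1 hqx.symm)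

/-- the model of `T / Q` -/
theorem Str.exists_psi (w : W1 x a L) (h : Str x a L T) : ∃ ψ : ↥T →* L34.E,
    L34.Mod ψ (L.subgroupOf T) ∧ ψ ⟨x, h.xT⟩ = L34.px ∧ (∀ s : ↥T, ψ s = 1 ↔ Fixes (s : G) L) ∧
      (L.subgroupOf T).map T.subtype = T ⊓ L ∧ ψ.ker.map T.subtype = fix T L := by
  obtain ⟨ψ, h1, h2, h3, -⟩ := FrOf.exists_mod h.l34 h.syl.two (h.TN w) (h.sylL w) h.xT h.ft
  refine ⟨ψ, h1, h2, h3, by rw [subgroupOf_map_subtype, inf_comm], ?_⟩
  ext q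
  rw [mem_fix]
  constructor
  · rintro ⟨q, hq, rfl⟩
    exact ⟨q.2, (h3 q).mp hq⟩
  · rintro ⟨hq, hf⟩
    exact ⟨⟨q, hq⟩, (h3 ⟨q, hq⟩).mpr hf, rfl⟩

/-- the frame -/
structure Frm (x a : G) (L T Z : Subgroup G) (A : Bool → Subgroup G) (b : G) : Prop extends
    Str x a L T where
  fr : Fr T (T ⊓ L) (fix T L) Z A b
  xZ : ¬ ∀ z ∈ Z, x * z = z * x
  xA : ∀ i, ∀ u ∈ A i, x * u * x⁻¹ ∈ A (!i)

theorem Str.exists_frm (w : W1 x a L) (h : Str x a L T) : ∃ Z A b, Frm x a L T Z A b := by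
  obtain ⟨Z, A, b, h1, h2, h3, -⟩ := FrOf.exists_frame h.l34 h.syl.two (h.TN w) (h.sylL w) h.xT h.ft
  exact ⟨Z, A, b, h, h1, h2, h3⟩

variable {Z : Subgroup G} {A : Bool → Subgroup G} {b : G}

/-- the group `K` -/
theorem Frm.exists_K (w : W1 x a L) (h : Frm x a L T Z A b) :
    ∃ K : Subgroup G, K ≤ L ∧ K ⊔ core L = L ∧ IsComp K K ∧ (∀ k ∈ K, ∀ q ∈ fix T L, k * q = q * k) ∧
      T ⊓ L ≤ K ∧ (∀ p ∈ T ⊓ L, p * p = 1 → p ≠ 1 → ∃ k ∈ K, k * p * k⁻¹ = b) ∧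
      ∃ ρ ∈ K, Odd (orderOf ρ) ∧ (∀ p ∈ T ⊓ L, ρ * p * ρ⁻¹ ∈ T ⊓ L) ∧
        (∀ p ∈ T ⊓ L, ρ * p = p * ρ → p = 1) ∧ (∀ p ∈ T ⊓ L, ρ * p * ρ⁻¹ * p⁻¹ ∈ Z → p ∈ Z) :=
  FrOf.K_spec h.l34 h.tri.comp h.syl.le h.ft.cls (h.sylL w) h.fr

/-! ### an element `t ∈ N(T) - T` -/

omit [Finite G] in
theorem exists_sq {U : Subgroup G} (hU : IsPGroup 2 ↥U) {y : G} (hy : y ∈ U) (hyT : y ∉ T) :
    ∃ n : ℕ, y ^ 2 ^ n ∉ T ∧ y ^ 2 ^ n * y ^ 2 ^ n ∈ T := by
  classical
  obtain ⟨m, hm⟩ := hU ⟨y, hy⟩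
  have h1 : ∃ m : ℕ, y ^ 2 ^ m ∈ T := ⟨m, by
    have h2 : y ^ 2 ^ m = 1 := congrArg Subtype.val hm
    rw [h2]; exact one_mem _⟩
  obtain ⟨k, hk⟩ : ∃ k, Nat.find h1 = k := ⟨_, rfl⟩
  rcases k with _ | k
  · exfalso
    have h2 := Nat.find_spec h1
    rw [hk, pow_zero, pow_one] at h2
    exact hyT h2
  · refine ⟨k, Nat.find_min h1 (by omega), ?_⟩
    have h2 := Nat.find_spec h1
    rw [hk, pow_succ, pow_mul, pow_two] at h2
    exact h2

/-- `t ∈ N(T) - T` with `t² ∈ T` -/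
theorem exists_t {U : Subgroup G} (hU : IsPGroup 2 ↥U) (hTU : T ≤ U) (hne : ¬ U ≤ T) :
    ∃ t ∈ U, t ∉ T ∧ (∀ g ∈ T, t * g * t⁻¹ ∈ T) ∧ (∀ g ∈ T, t⁻¹ * g * t ∈ T) ∧ t * t ∈ T := by
  obtain ⟨y, hy, hyT, h1, h2⟩ := L34.exists_norm hU hTU hne
  obtain ⟨n, h3, h4⟩ := exists_sq hU hy hyT
  have hyN : y ∈ normalizer (T : Set G) := by
    rw [mem_normalizer_iff]
    intro g
    refine ⟨h1 g, fun hg => ?_⟩
    have := h2 _ hg
    convert this using 1
    group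
  have hN := pow_mem hyN (2 ^ n)
  refine ⟨y ^ 2 ^ n, pow_mem hy _, h3, fun g hg => (mem_normalizer_iff.mp hN g).mp hg, fun g hg => ?_,
    h4⟩
  have h5 := (mem_normalizer_iff.mp (inv_mem hN) g).mp hg
  rwa [inv_inv] at h5

omit [Finite G] in
/-- `t a ≠ a t` -/
theorem Str.ta (h : Str x a L T) {t : G} (hT : IsPGroup 2 ↥(T ⊔ zpowers t : Subgroup G)) (ht : t ∉ T) :
    t * a ≠ a * t := by
  intro h1
  apply ht
  have h2 := h.syl.max _ hT (sup_le h.syl.le (zpowers_le.mpr (mem_c h1))) le_sup_left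
  rw [← h2]
  exact (le_sup_right : zpowers t ≤ _) (mem_zpowers t)

end Cfsg.Agent.UGT.L34T2.World
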