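import Cfsg.Agent.UGT.L34T2.World
import Cfsg.Agent.S0205

/-!
# Node `L₃(4)`, SMALL: good involutions and the functor, from the frame

* `Frm.central`: `Ω₁ Z(T) = {1, a, b, ab}`.
* `Frm.good_b`, `Frm.good`: `b` and all involutions of `T ⊓ L` are good if `t b = b t`, `t a t⁻¹ = a b`.
* `Frm.fn`: the functor `Fun Z (A false) (A true) (W Z)`.
-/

set_option autoImplicit false

open Cfsg Subgroup
open Cfsg.Agent.SignalizersComponents Cfsg.Agent.Lib
open Cfsg.Agent.SignalizersComponents.IntrinsicBasic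
open Cfsg.Agent.SignalizersComponents.IntrinsicIntr
open Cfsg.Agent.SignalizersComponents.PLayerAut
open Cfsg.Agent.Intrinsic Cfsg.Agent.Intrinsic.Basic Cfsg.Agent.Intrinsic.Cen Cfsg.Agent.Intrinsic.Diag
open Cfsg.Agent.McLLyComp.Act
open Cfsg.Agent.UGT.Triple Cfsg.Agent.UGT.TriBase
open Cfsg.Agent.UGT.Iface (Bar IsL2 IsL34 IsAltOdd MinCex)
open Cfsg.Agent.UGT.L34T2.Good (Cf Elem Fun)
open scoped commutatorElement

namespace Cfsg.Agent.UGT.L34T2.World

universe u

variable {G : Type u} [Group G] [Finite G] {x a : G} {L T Z : Subgroup G} {A : Bool → Subgroup G} {b : G}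

theorem oddSol (G : Type u) [Group G] [Finite G] : Functor.OddSol G :=
  fun _ hY => S0205.result hY

/-- `Ω₁ Z(T) = {1, a, b, ab}` -/
theorem Frm.central (w : W1 x a L) (h : Frm x a L T Z A b) {z : G} (hz : z ∈ T) (hzz : z * z = 1)
    (hc : ∀ s ∈ T, s * z = z * s) : z = 1 ∨ z = a ∨ z = b ∨ z = a * b := by
  obtain ⟨p, hp, q, hq, rfl⟩ := h.fr.cenP z hz (fun p hp => (hc p (h.fr.PT hp)).symm)
  have hpP := h.fr.toHeis.ZP hp
  have hpp := h.fr.toHeis.Zsq hp
  have hpq := h.fr.comm p hpP q hq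
  have hqq : q * q = 1 := by
    calc q * q = (p * p) * (q * q) := by rw [hpp, one_mul]
      _ = p * (p * q) * q := by group
      _ = p * (q * p) * q := by rw [hpq]
      _ = p * q * (p * q) := by group
      _ = 1 := hzz
  have hx := hc x h.xT
  have h1 : p⁻¹ * (x * p * x⁻¹) = q * (x * q * x⁻¹)⁻¹ := by
    have h2 : (x * p * x⁻¹) * (x * q * x⁻¹) = p * q := by
      calc (x * p * x⁻¹) * (x * q * x⁻¹) = (x * (p * q)) * x⁻¹ := by group
        _ = _ := by rw [hx, mul_inv_cancel_right]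
    calc p⁻¹ * (x * p * x⁻¹) = p⁻¹ * ((x * p * x⁻¹) * (x * q * x⁻¹)) * (x * q * x⁻¹)⁻¹ := by group
      _ = _ := by rw [h2]; group
  have h3 : p⁻¹ * (x * p * x⁻¹) = 1 := by
    apply h.fr.disj
    · exact mul_mem (inv_mem hpP) (h.fr.nP x h.xT p hpP)
    · rw [h1]
      exact mul_mem hq (inv_mem (h.fr.nQ x h.xT q hq))
  have hxp : x * p = p * x := by
    have h4 : x * p * x⁻¹ = p := (inv_mul_eq_one.mp h3).symm
    calc x * p = (x * p * x⁻¹) * x := by group
      _ = p * x := by rw [h4]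
  have hxq : x * q = q * x := by
    have h4 : q * (x * q * x⁻¹)⁻¹ = 1 := by rw [← h1, h3]
    have h5 : x * q * x⁻¹ = q := (mul_inv_eq_one.mp h4).symm
    calc x * q = (x * q * x⁻¹) * x := by group
      _ = q * x := by rw [h5]
  have hp2 : p = 1 ∨ p = b := by
    rcases h.fr.actZ x h.xT with h4 | h4
    · exact absurd h4 h.xZ
    · exact h4 p hp hxp
  rcases hp2 with rfl | rfl <;> rcases h.toStr.uniq w hq hxq hqq with rfl | rfl
  · left; group
  · right; left; rw [one_mul]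
  · right; right; left; rw [mul_one]
  · right; right; right; exact hpq

omit [Finite G] in
theorem Frm.bP (h : Frm x a L T Z A b) : b ∈ T ⊓ L := h.fr.toHeis.ZP h.fr.bZ

/-- `b` is good -/
theorem Frm.good_b (w : W1 x a L) (h : Frm x a L T Z A b) {t : G}
    (hT : IsPGroup 2 ↥(T ⊔ zpowers t : Subgroup G)) (htb : t * b = b * t)
    (hta : t * a * t⁻¹ = a * b) : Good.Good b := by
  have hbb := h.fr.toHeis.Zsq h.fr.bZ
  have hb1 := h.fr.b1
  refine Good.good_of (Good.order_of hbb hb1) (fun e J T => cf_of_typ T (w.typ e b J T)) ?_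
  refine Good.no_comp h.syl h.aT hbb hb1 hT le_sup_left ?_
    ((le_sup_right : zpowers t ≤ _) (mem_zpowers t)) hta
    (fun z hz hzz hc => h.central w hz hzz hc)
  rw [sup_le_iff]
  refine ⟨fun y hy => mem_c (h.fr.bT y hy), zpowers_le.mpr (mem_c htb)⟩

/-- the involutions of `T ⊓ L` are good -/
theorem Frm.good (w : W1 x a L) (h : Frm x a L T Z A b) (hb : Good.Good b) {p : G} (hp : p ∈ T ⊓ L)
    (hpp : p * p = 1) (hp1 : p ≠ 1) : Good.Good p := by
  obtain ⟨K, -, -, -, -, -, hK, -⟩ := h.exists_K w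
  obtain ⟨k, -, hk⟩ := hK p hp hpp hp1
  have h1 := hb.cj k⁻¹
  rw [← hk] at h1
  convert h1 using 1
  group

theorem Frm.elem (w : W1 x a L) (h : Frm x a L T Z A b) (hb : Good.Good b) (i : Bool) : Elem (A i) :=
  ⟨fun _ hu _ hv => h.fr.toHeis.Acomm hu hv, fun u hu => h.fr.toHeis.Asq i u hu,
    fun u hu hu1 => h.good w hb (h.fr.toHeis.AP i hu) (h.fr.toHeis.Asq i u hu) hu1⟩

/-- **the functor** -/
theorem Frm.fn (w : W1 x a L) (h : Frm x a L T Z A b) (hb : Good.Good b) :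
    Fun Z (A false) (A true) (Functor.W Z) :=
  Good.main (oddSol G) (h.elem w hb false) (h.elem w hb true) (h.fr.toHeis.ZA false)
    (h.fr.toHeis.ZA true) h.fr.toHeis.cardZ.ge (by rw [h.fr.toHeis.cardA]; norm_num)
    (by rw [h.fr.toHeis.cardA]; norm_num)

theorem Frm.elemZ (w : W1 x a L) (h : Frm x a L T Z A b) (hb : Good.Good b) : Elem Z :=
  (h.elem w hb false).mono (h.fr.toHeis.ZA false)

omit [Finite G] in
/-- `Z = Z(P)` -/
theorem Frm.Z_iff (h : Frm x a L T Z A b) (z : G) :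
    z ∈ Z ↔ z ∈ T ⊓ L ∧ ∀ p ∈ T ⊓ L, z * p = p * z :=
  ⟨fun hz => ⟨h.fr.toHeis.ZP hz, fun p hp => (h.fr.toHeis.Zcen z hz p hp).symm⟩,
    fun hz => h.fr.toHeis.mem_Z hz.1 hz.2⟩

end Cfsg.Agent.UGT.L34T2.World
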